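import Groth.Agent.Lib.Helper49.StalkNbhd
import Groth.Agent.Lib.Helper49.StalkExact

/-!
# Morphisms of quasi-coherent modules on affine opens

* `app_surjective_of_epi`: an epimorphism of quasi-coherent modules is surjective on sections over
  every affine open.
* `stalkMap_bijective_of_app_bijective`, `isIso_of_app_bijective_of_cover`: a morphism of
  quasi-coherent modules which is bijective on sections over the members of an affine open cover
  is an isomorphism.
-/

set_option autoImplicit false
universe u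

open CategoryTheory CategoryTheory.Limits AlgebraicGeometry TopologicalSpace

namespace Groth.Agent.Lib.Helper42

open Groth.Agent.Lib.Helper49

variable {X : Scheme.{u}}

attribute [local instance] Groth.Agent.Lib.Helper45.stalkModuleSections

theorem exists_point_of_prime {U : X.Opens} (hU : IsAffineOpen U) (P : PrimeSpectrum Γ(X, U)) :
    ∃ x : U, hU.primeIdealOf x = P := by
  have hx : hU.fromSpec P ∈ U := by
    have : hU.fromSpec P ∈ Set.range hU.fromSpec := ⟨P, rfl⟩
    rw [hU.range_fromSpec] at this
    exact this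
  refine ⟨⟨hU.fromSpec P, hx⟩, ?_⟩
  apply hU.fromSpec.isOpenEmbedding.injective
  exact hU.fromSpec_primeIdealOf ⟨hU.fromSpec P, hx⟩

theorem stalkMap_bijective_of_app_bijective {M N : X.Modules} [M.IsQuasicoherent]
    [N.IsQuasicoherent] (φ : M ⟶ N) {U : X.Opens} (hU : IsAffineOpen U) (x : U)
    (h : Function.Bijective (φ.app U)) : Function.Bijective (stalkMap φ x).hom := by
  haveI := Groth.Agent.Lib.Helper45.isLocalizedModule_germₗ hU M x
  haveI := Groth.Agent.Lib.Helper45.isLocalizedModule_germₗ hU N x
  have h1 := stalkMapₗ_eq_map φ hU x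
  have h2 : Function.Bijective (stalkMapₗ φ x) := by
    rw [h1]
    exact ⟨IsLocalizedModule.map_injective _ _ _ (appₗ φ U) h.1,
      IsLocalizedModule.map_surjective _ _ _ (appₗ φ U) h.2⟩
  exact h2

/-- A morphism of quasi-coherent modules which is bijective on sections over an affine open cover
is an isomorphism. -/
theorem isIso_of_app_bijective_of_cover {M N : X.Modules} [M.IsQuasicoherent]
    [N.IsQuasicoherent] (φ : M ⟶ N)
    (h : ∀ x : X, ∃ U : X.Opens, IsAffineOpen U ∧ x ∈ U ∧ Function.Bijective (φ.app U)) :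
    IsIso φ := by
  apply isIso_of_stalkMap_bijective
  intro x
  obtain ⟨U, hU, hxU, hbij⟩ := h x
  exact stalkMap_bijective_of_app_bijective φ hU ⟨x, hxU⟩ hbij

/-- An epimorphism of quasi-coherent modules is surjective on sections over affine opens. -/
theorem app_surjective_of_epi {M N : X.Modules} [M.IsQuasicoherent] [N.IsQuasicoherent]
    (φ : M ⟶ N) [Epi φ] {U : X.Opens} (hU : IsAffineOpen U) : Function.Surjective (φ.app U) := by
  intro n
  let Rg : Submodule Γ(X, U) Γ(N, U) := LinearMap.range (appₗ φ U)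
  let I : Ideal Γ(X, U) :=
    { carrier := {r | r • n ∈ Rg}
      add_mem' := fun {a b} ha hb => by
        show (a + b) • n ∈ Rg
        rw [add_smul]; exact add_mem ha hb
      zero_mem' := by
        show (0 : Γ(X, U)) • n ∈ Rg
        rw [zero_smul]; exact zero_mem _
      smul_mem' := fun c r hr => by
        show (c • r) • n ∈ Rg
        rw [smul_eq_mul, mul_smul]; exact Submodule.smul_mem _ c hr }
  have hI : I = ⊤ := by
    by_contra hne
    obtain ⟨P, hPmax, hIP⟩ := Ideal.exists_le_maximal I hne
    obtain ⟨x, hx⟩ := exists_point_of_prime hU ⟨P, hPmax.isPrime⟩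
    haveI := Groth.Agent.Lib.Helper45.isLocalizedModule_germₗ hU M x
    haveI := Groth.Agent.Lib.Helper45.isLocalizedModule_germₗ hU N x
    have hPx : (hU.primeIdealOf x).asIdeal = P := by rw [hx]
    -- the germ of `n` at `x` is in the image of the stalk map
    obtain ⟨μ, hμ⟩ := stalkMap_surjective_of_epi φ (x : X) (N.presheaf.germ U x x.2 n)
    obtain ⟨⟨m, s⟩, hms⟩ := IsLocalizedModule.surj (hU.primeIdealOf x).asIdeal.primeCompl
      (Groth.Agent.Lib.Helper45.germₗ M x) μ
    -- `hms : s • μ = germ m`
    have h1 : Groth.Agent.Lib.Helper45.germₗ N x ((s : Γ(X, U)) • n) =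
        Groth.Agent.Lib.Helper45.germₗ N x (appₗ φ U m) := by
      rw [map_smul]
      change (s : Γ(X, U)) • N.presheaf.germ U x x.2 n = N.presheaf.germ U x x.2 (φ.app U m)
      rw [← hμ, ← stalkMap_germ φ U x x.2 m]
      have h2 : (s : Γ(X, U)) • (stalkMap φ x).hom μ = stalkMapₗ φ x ((s : Γ(X, U)) • μ) := by
        rw [map_smul]; rfl
      rw [h2]
      change _ = (stalkMap φ x).hom (Groth.Agent.Lib.Helper45.germₗ M x m)
      rw [← hms]
      rfl
    obtain ⟨s', hs'⟩ := (IsLocalizedModule.eq_iff_exists (hU.primeIdealOf x).asIdeal.primeCompl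
      (Groth.Agent.Lib.Helper45.germₗ N x)).mp h1
    have h3 : ((s' : Γ(X, U)) * (s : Γ(X, U))) ∈ I := by
      show ((s' : Γ(X, U)) * (s : Γ(X, U))) • n ∈ Rg
      rw [mul_smul]
      have : (s' : Γ(X, U)) • (s : Γ(X, U)) • n = appₗ φ U ((s' : Γ(X, U)) • m) := by
        rw [map_smul]; exact hs'
      rw [this]
      exact LinearMap.mem_range_self _ _
    have h4 : ((s' : Γ(X, U)) * (s : Γ(X, U))) ∈ P := hIP h3
    rw [← hPx] at h4
    have h5 := (hU.primeIdealOf x).isPrime.mem_or_mem h4
    rcases h5 with h5 | h5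
    · exact s'.2 h5
    · exact s.2 h5
  have h1 : (1 : Γ(X, U)) ∈ I := by rw [hI]; trivial
  obtain ⟨m, hm⟩ := h1
  exact ⟨m, by rw [one_smul] at hm; exact hm⟩

end Groth.Agent.Lib.Helper42
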