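import Groth.Agent.Lib.Helper42.FTExact

/-!
# Finitely presented sheaves of modules on a topological space: local presentations by sections

On a small site with a terminal object `T`: `coord` (coordinates of sections of a finite free
module), `RelBy` (the coefficient vectors `r l` generate, locally, all relations between the
`x i`), `exists_relBy_of_presentation`, `exists_presentation_of_relBy`.
On a topological space: `IsLocRel`, `isFinitePresentation_iff`.
-/

set_option autoImplicit false
universe u
open CategoryTheory Limits Opposite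

namespace Groth.Agent.Lib.Helper42
namespace FPLocal

open Groth.Agent.Lib.Helper30 Groth.Agent.Lib.Helper30.FreeTerminal SheafOfModules
  Groth.Agent.Lib.Helper42.FTLocal

noncomputable section

section Terminal

variable {D : Type u} [SmallCategory D] {K : GrothendieckTopology D} {R : Sheaf K RingCat.{u}}
  {T : D} (hT : IsTerminal T)

lemma rr_comp' {V W W' : D} (g : W ⟶ V) (h : W' ⟶ W) (c : R.obj.obj (op V)) :
    rr R h (rr R g c) = rr R (h ≫ g) c :=
  (ConcreteCategory.congr_hom (R.obj.map_comp g.op h.op) c).symm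

lemma rr_id (V : D) (c : R.obj.obj (op V)) : rr R (𝟙 V) c = c :=
  ConcreteCategory.congr_hom (R.obj.map_id (op V)) c

lemma rs_id (N : SheafOfModules.{u} R) (V : D) (m : N.val.obj (op V)) : rs N (𝟙 V) m = m :=
  ConcreteCategory.congr_hom (N.val.presheaf.map_id (op V)) m

section Coord

variable {I : Type u} [Fintype I] [DecidableEq I]

/-- the coordinates of a section of a finite free module -/
def coord (V : D) (τ : (free (R := R) I).val.obj (op V)) (j : I) : R.obj.obj (op V) :=
  (pr j).val.app (op V) τ

lemma eq_sum_coord (V : D) (τ : (free (R := R) I).val.obj (op V)) :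
    τ = ∑ j, coord V τ j • eF j V := coords V τ

lemma coord_add (V : D) (τ τ' : (free (R := R) I).val.obj (op V)) (j : I) :
    coord V (τ + τ') j = coord V τ j + coord V τ' j :=
  map_add ((pr j).val.app (op V)).hom τ τ'

lemma coord_smul (V : D) (c : R.obj.obj (op V)) (τ : (free (R := R) I).val.obj (op V)) (j : I) :
    coord V (c • τ) j = c * coord V τ j :=
  ((pr j).val.app (op V)).hom.map_smul c τ

lemma coord_sum {L : Type u} (S : Finset L) (V : D) (τ : L → (free (R := R) I).val.obj (op V))
    (j : I) : coord V (∑ l ∈ S, τ l) j = ∑ l ∈ S, coord V (τ l) j :=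
  map_sum ((pr j).val.app (op V)).hom τ S

lemma coord_eF (V : D) (i j : I) : coord (R := R) V (eF i V) j = if i = j then 1 else 0 := by
  have h := congrArg (fun v : unit R ⟶ unit R => v.val.app (op V) (1 : R.obj.obj (op V)))
    (ιFree_pr (R := R) i j)
  refine Eq.trans ?_ (h.trans ?_)
  · rfl
  · split_ifs <;> rfl

lemma coord_comb (V : D) (a : I → R.obj.obj (op V)) (j : I) :
    coord V (∑ i, a i • eF i V) j = a j := by
  rw [coord_sum, Finset.sum_eq_single j]
  · rw [coord_smul, coord_eF, if_pos rfl, mul_one]
  · intro i _ hij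
    rw [coord_smul, coord_eF, if_neg hij, mul_zero]
  · intro h
    exact (h (Finset.mem_univ j)).elim

lemma coord_rs {V W : D} (g : W ⟶ V) (τ : (free (R := R) I).val.obj (op V)) (j : I) :
    coord W (rs (free I) g τ) j = rr R g (coord V τ j) :=
  (rs_app (pr j) g τ).symm

end Coord

section Rel

variable {I : Type u} [Fintype I] [DecidableEq I] {L : Type u} [Fintype L]

/-- the sieve of arrows over which the coefficient vector `a` is a combination of the `r l` -/
def relSieve (r : L → I → R.obj.obj (op T)) {V : D} (a : I → R.obj.obj (op V)) : Sieve V where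
  arrows W g := ∃ b : L → R.obj.obj (op W),
    ∀ i, rr R g (a i) = ∑ l, b l * rr R (hT.from W) (r l i)
  downward_closed := by
    rintro W W' g ⟨b, hb⟩ h
    refine ⟨fun l => rr R h (b l), fun i => ?_⟩
    rw [← rr_comp', hb, map_sum]
    refine Finset.sum_congr rfl (fun l _ => ?_)
    rw [map_mul, rr_comp', hT.hom_ext (h ≫ hT.from W) (hT.from W')]

/-- the coefficient vectors `r l` are relations between the `x i` and generate, locally, all
relations -/
def RelBy (N : SheafOfModules.{u} R) (x : I → N.val.obj (op T))
    (r : L → I → R.obj.obj (op T)) : Prop :=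
  (∀ l, ∑ i, r l i • x i = 0) ∧
    ∀ (V : D) (a : I → R.obj.obj (op V)),
      ∑ i, a i • rs N (hT.from V) (x i) = 0 → relSieve hT r a ∈ K V

lemma rs_comb {V W : D} (g : W ⟶ V) (a : I → R.obj.obj (op V)) :
    rs (free (R := R) I) g (∑ i, a i • eF i V) = ∑ i, rr R g (a i) • eF i W := by
  rw [map_sum]
  refine Finset.sum_congr rfl (fun i _ => ?_)
  rw [rs_smul]
  congr 1
  exact eF_map i g

/-- the kernel sequence of an epimorphism -/
lemma kernel_shortExact {M N : SheafOfModules.{u} R} (π : M ⟶ N) [Epi π] :
    (ShortComplex.mk (kernel.ι π) π (kernel.condition π)).ShortExact :=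
  ShortComplex.ShortExact.mk'
    (ShortComplex.exact_of_f_is_kernel _ (kernelIsKernel π)) inferInstance inferInstance

/-- a monomorphism of sheaves of modules is injective on sections -/
lemma injective_of_mono {M N : SheafOfModules.{u} R} (f : M ⟶ N) [Mono f] (W : D) :
    Function.Injective (f.val.app (op W)) := by
  have h : Mono ((SheafOfModules.evaluation R (op W)).map f) := inferInstance
  exact (ModuleCat.mono_iff_injective _).mp h

/-- the relations of a finite presentation, as coefficient vectors -/
lemma exists_relBy_of_presentation (N : SheafOfModules.{u} R) (σ : N.Presentation)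
    [Fintype σ.generators.I] [DecidableEq σ.generators.I] [Fintype σ.relations.I] :
    ∃ r : σ.relations.I → σ.generators.I → R.obj.obj (op T),
      RelBy hT N (fun i => (σ.generators.s i).val (op T)) r := by
  have hπ := π_eq_freeDesc hT N σ.generators
  have hepi : Epi σ.generators.π := σ.generators.epi
  set x : σ.generators.I → N.val.obj (op T) := fun i => (σ.generators.s i).val (op T) with hx
  let y : σ.relations.I → (kernel σ.generators.π).val.obj (op T) :=
    fun l => (σ.relations.s l).val (op T)
  have hy : GenBy hT (kernel σ.generators.π) y :=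
    genBy_of_generatingSections hT (kernel σ.generators.π) σ.relations
  refine ⟨fun l i => coord T ((kernel.ι σ.generators.π).val.app (op T) (y l)) i, ?_, ?_⟩
  · intro l
    have h1 := freeDesc_comb hT N x T
      (fun i => coord T ((kernel.ι σ.generators.π).val.app (op T) (y l)) i)
    rw [← eq_sum_coord, ← hπ] at h1
    have h2 : σ.generators.π.val.app (op T) ((kernel.ι σ.generators.π).val.app (op T) (y l)) = 0 :=
      congrArg (fun φ => φ.val.app (op T) (y l)) (kernel.condition σ.generators.π)
    rw [h2] at h1
    refine Eq.trans ?_ h1.symm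
    refine Finset.sum_congr rfl (fun i _ => ?_)
    rw [hT.hom_ext (hT.from T) (𝟙 T), rs_id]
  · intro V a ha
    have h1 := freeDesc_comb hT N x V a
    rw [ha, ← hπ] at h1
    obtain ⟨κ, hκ⟩ := exists_preimage_of_shortExact _ (kernel_shortExact σ.generators.π) V _ h1
    change (kernel.ι σ.generators.π).val.app (op V) κ = _ at hκ
    refine K.superset_covering ?_ (hy V κ)
    intro W g hg
    obtain ⟨b, hb⟩ := hg
    refine ⟨b, fun i => ?_⟩
    have e := congrArg (fun m => coord W ((kernel.ι σ.generators.π).val.app (op W) m) i) hb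
    simp only at e
    rw [← rs_app, hκ, rs_comb, coord_comb, map_sum, coord_sum] at e
    refine e.trans (Finset.sum_congr rfl (fun l _ => ?_))
    rw [map_smul, coord_smul, ← rs_app, coord_rs]

/-- a finite presentation from generators and relations given by elements over the terminal
object -/
lemma exists_presentation_of_relBy (N : SheafOfModules.{u} R) (x : I → N.val.obj (op T))
    (r : L → I → R.obj.obj (op T)) (hx : GenBy hT N x) (hr : RelBy hT N x r) :
    ∃ σ : N.Presentation, σ.IsFinite := by
  have hepi : Epi (freeDesc hT N x) := epi_freeDesc_of_genBy hT N x hx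
  have hτ : ∀ l, ∃ y : (kernel (freeDesc hT N x)).val.obj (op T),
      (kernel.ι (freeDesc hT N x)).val.app (op T) y = ∑ i, r l i • eF i T := by
    intro l
    refine exists_preimage_of_shortExact _ (kernel_shortExact (freeDesc hT N x)) T _ ?_
    change (freeDesc hT N x).val.app (op T) _ = 0
    rw [freeDesc_comb, ← hr.1 l]
    refine Finset.sum_congr rfl (fun i _ => ?_)
    rw [hT.hom_ext (hT.from T) (𝟙 T), rs_id]
  choose y hy using hτ
  have hgen : GenBy hT (kernel (freeDesc hT N x)) y := by
    intro V κ
    have h0 : (freeDesc hT N x).val.app (op V)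
        ((kernel.ι (freeDesc hT N x)).val.app (op V) κ) = 0 :=
      congrArg (fun φ => φ.val.app (op V) κ) (kernel.condition (freeDesc hT N x))
    have h1 := freeDesc_comb hT N x V (coord V ((kernel.ι (freeDesc hT N x)).val.app (op V) κ))
    rw [← eq_sum_coord, h0] at h1
    refine K.superset_covering ?_ (hr.2 V _ h1.symm)
    intro W g hg
    obtain ⟨b, hb⟩ := hg
    refine ⟨b, ?_⟩
    apply injective_of_mono (kernel.ι (freeDesc hT N x)) W
    rw [← rs_app, map_sum]
    have e1 : rs (free I) g ((kernel.ι (freeDesc hT N x)).val.app (op V) κ) =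
        ∑ i, rr R g (coord V ((kernel.ι (freeDesc hT N x)).val.app (op V) κ) i) • eF i W := by
      conv_lhs => rw [eq_sum_coord V ((kernel.ι (freeDesc hT N x)).val.app (op V) κ)]
      exact rs_comb g _
    rw [e1]
    have e2 : ∀ l, (kernel.ι (freeDesc hT N x)).val.app (op W)
        (b l • rs (kernel (freeDesc hT N x)) (hT.from W) (y l)) =
        ∑ i, (b l * rr R (hT.from W) (r l i)) • eF i W := by
      intro l
      rw [map_smul, ← rs_app, hy, rs_comb, Finset.smul_sum]
      refine Finset.sum_congr rfl (fun i _ => ?_)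
      rw [smul_smul]
    rw [Finset.sum_congr rfl (fun l _ => e2 l), Finset.sum_comm]
    refine Finset.sum_congr rfl (fun i _ => ?_)
    rw [hb i, Finset.sum_smul]
  let gens : N.GeneratingSections := generatingSectionsOfGenBy hT N x hx
  let rels : (kernel gens.π).GeneratingSections :=
    generatingSectionsOfGenBy hT (kernel (freeDesc hT N x)) y hgen
  refine ⟨⟨gens, rels⟩, ?_⟩
  exact { isFiniteType_generators := ⟨(inferInstance : Finite I)⟩
          isFiniteType_relations := ⟨(inferInstance : Finite L)⟩ }

end Rel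

end Terminal

section Top

open TopologicalSpace

variable {X : TopCat.{u}} {R : Sheaf (Opens.grothendieckTopology X) RingCat.{u}}

/-- the coefficient vectors `r l` over `U` are relations between the sections `s i` and generate,
locally, all relations between their restrictions -/
def IsLocRel (M : SheafOfModules.{u} R) (U : Opens X) {I L : Type u} [Fintype I] [Fintype L]
    (s : I → M.val.obj (op U)) (r : L → I → R.obj.obj (op U)) : Prop :=
  (∀ l, ∑ i, r l i • s i = 0) ∧
    ∀ (V : Opens X) (hV : V ≤ U) (a : I → R.obj.obj (op V)),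
      ∑ i, a i • rs M (homOfLE hV) (s i) = 0 → ∀ y ∈ V,
        ∃ (W : Opens X) (hW : W ≤ V), y ∈ W ∧ ∃ b : L → R.obj.obj (op W),
          ∀ i, rr R (homOfLE hW) (a i) = ∑ l, b l * rr R (homOfLE (hW.trans hV)) (r l i)

lemma relBy_of_isLocRel (M : SheafOfModules.{u} R) (U : Opens X) {I L : Type u} [Fintype I]
    [DecidableEq I] [Fintype L] (s : I → M.val.obj (op U)) (r : L → I → R.obj.obj (op U))
    (h : IsLocRel M U s r) :
    RelBy (R := R.over U) (Over.mkIdTerminal (X := U)) (M.over U) s r := by
  refine ⟨h.1, fun V a ha => ?_⟩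
  rw [GrothendieckTopology.mem_over_iff]
  intro y hy
  obtain ⟨W, hW, hyW, b, hb⟩ := h.2 V.left (leOfHom V.hom) a ha y hy
  refine ⟨W, homOfLE hW, ?_, hyW⟩
  rw [Sieve.overEquiv_iff]
  exact ⟨b, hb⟩

lemma isLocRel_of_relBy (M : SheafOfModules.{u} R) (U : Opens X) {I L : Type u} [Fintype I]
    [DecidableEq I] [Fintype L] (s : I → M.val.obj (op U)) (r : L → I → R.obj.obj (op U))
    (h : RelBy (R := R.over U) (Over.mkIdTerminal (X := U)) (M.over U) s r) :
    IsLocRel M U s r := by
  refine ⟨h.1, fun V hV a ha y hy => ?_⟩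
  have h1 := h.2 (Over.mk (homOfLE hV)) a ha
  rw [GrothendieckTopology.mem_over_iff] at h1
  obtain ⟨W, g, hg, hyW⟩ := h1 y hy
  rw [Sieve.overEquiv_iff] at hg
  obtain ⟨b, hb⟩ := hg
  exact ⟨W, leOfHom g, hyW, b, hb⟩

/-- A sheaf of modules on a topological space is of finite presentation iff locally it has
finitely many generating sections with finitely many relations generating all relations. -/
theorem isFinitePresentation_iff (M : SheafOfModules.{u} R) :
    SheafOfModules.IsFinitePresentation.{u} M ↔
      ∀ y : X, ∃ (U : Opens X) (_ : y ∈ U) (I : Type u) (_ : Fintype I)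
        (s : I → M.val.obj (op U)) (L : Type u) (_ : Fintype L) (r : L → I → R.obj.obj (op U)),
        IsLocGen M U s ∧ IsLocRel M U s r := by
  classical
  constructor
  · intro hM y
    obtain ⟨σ, hσ⟩ := hM.exists_quasicoherentData
    have hcov := (Opens.coversTop_iff _ _).mp σ.coversTop
    obtain ⟨j, hj⟩ : ∃ j, y ∈ σ.X j := by
      have : y ∈ (⨆ j, σ.X j : Opens X) := by rw [hcov.iSup_eq_top]; trivial
      simpa using this
    have hfin := hσ.isFinite_presentation j
    have hfin1 : Finite (σ.presentation j).generators.I := hfin.isFiniteType_generators.finite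
    have hfin2 : Finite (σ.presentation j).relations.I := hfin.isFiniteType_relations.finite
    let _ : Fintype (σ.presentation j).generators.I := Fintype.ofFinite _
    let _ : Fintype (σ.presentation j).relations.I := Fintype.ofFinite _
    obtain ⟨r, hr⟩ := exists_relBy_of_presentation (Over.mkIdTerminal (X := σ.X j))
      (M.over (σ.X j)) (σ.presentation j)
    exact ⟨σ.X j, hj, (σ.presentation j).generators.I, inferInstance, _,
      (σ.presentation j).relations.I, inferInstance, r,
      isLocGen_of_genBy M (σ.X j) _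
        (genBy_of_generatingSections (Over.mkIdTerminal (X := σ.X j)) (M.over (σ.X j))
          (σ.presentation j).generators),
      isLocRel_of_relBy M (σ.X j) _ r hr⟩
  · intro h
    choose U hU I hI s L hL r hs hr using h
    have hp : ∀ y, ∃ σ : (M.over (U y)).Presentation, σ.IsFinite := fun y =>
      exists_presentation_of_relBy (Over.mkIdTerminal (X := U y)) (M.over (U y)) (s y) (r y)
        (genBy_of_isLocGen M (U y) (s y) (hs y)) (relBy_of_isLocRel M (U y) (s y) (r y) (hr y))
    choose p hp' using hp
    have hcov : (Opens.grothendieckTopology X).CoversTop U :=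
      (Opens.coversTop_iff _ _).mpr (by
        rw [IsOpenCover, eq_top_iff]
        intro y _
        exact Opens.mem_iSup.mpr ⟨y, hU y⟩)
    let σ : QuasicoherentData.{u, u, u, u} M :=
      { I := X
        X := U
        coversTop := hcov
        presentation := p }
    have hσ : σ.IsFinitePresentation := { isFinite_presentation := hp' }
    exact SheafOfModules.IsFinitePresentation.mk (M := M) ⟨σ, hσ⟩

lemma rs_le_le (N : SheafOfModules.{u} R) {V W W' : Opens X} (h₁ : W ≤ V) (h₂ : W' ≤ W)
    (m : N.val.obj (op V)) :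
    rs N (homOfLE h₂) (rs N (homOfLE h₁) m) = rs N (homOfLE (h₂.trans h₁)) m :=
  rs_comp N _ _ m

lemma rr_le_le {V W W' : Opens X} (h₁ : W ≤ V) (h₂ : W' ≤ W) (c : R.obj.obj (op V)) :
    rr R (homOfLE h₂) (rr R (homOfLE h₁) c) = rr R (homOfLE (h₂.trans h₁)) c :=
  rr_comp' _ _ c

lemma rs_le_self (N : SheafOfModules.{u} R) {V : Opens X} (h : V ≤ V) (m : N.val.obj (op V)) :
    rs N (homOfLE h) m = m := rs_id N V m

lemma rr_le_self {V : Opens X} (h : V ≤ V) (c : R.obj.obj (op V)) : rr R (homOfLE h) c = c :=
  rr_id V c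

lemma rs_sum_smul (N : SheafOfModules.{u} R) {V W : Opens X} (h : W ≤ V) {I : Type u}
    [Fintype I] (a : I → R.obj.obj (op V)) (m : I → N.val.obj (op V)) :
    rs N (homOfLE h) (∑ i, a i • m i) = ∑ i, rr R (homOfLE h) (a i) • rs N (homOfLE h) (m i) := by
  rw [map_sum]
  exact Finset.sum_congr rfl (fun i _ => rs_smul N _ _ _)

lemma IsLocGen.mono {M : SheafOfModules.{u} R} {U U' : Opens X} (h : U' ≤ U) {I : Type u}
    [Fintype I] {s : I → M.val.obj (op U)} (hs : IsLocGen M U s) :
    IsLocGen M U' (fun i => rs M (homOfLE h) (s i)) := by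
  intro V hV m y hy
  obtain ⟨W, hW, hyW, c, hc⟩ := hs V (hV.trans h) m y hy
  refine ⟨W, hW, hyW, c, hc.trans (Finset.sum_congr rfl (fun i _ => ?_))⟩
  rw [rs_le_le]

lemma IsLocRel.mono {M : SheafOfModules.{u} R} {U U' : Opens X} (h : U' ≤ U) {I L : Type u}
    [Fintype I] [Fintype L] {s : I → M.val.obj (op U)} {r : L → I → R.obj.obj (op U)}
    (hr : IsLocRel M U s r) :
    IsLocRel M U' (fun i => rs M (homOfLE h) (s i)) (fun l i => rr R (homOfLE h) (r l i)) := by
  refine ⟨fun l => ?_, fun V hV a ha y hy => ?_⟩
  · have := congrArg (rs M (homOfLE h)) (hr.1 l)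
    rw [rs_sum_smul, map_zero] at this
    exact this
  · have ha' : ∑ i, a i • rs M (homOfLE (hV.trans h)) (s i) = 0 := by
      refine Eq.trans (Finset.sum_congr rfl (fun i _ => ?_)) ha
      rw [rs_le_le]
    obtain ⟨W, hW, hyW, b, hb⟩ := hr.2 V (hV.trans h) a ha' y hy
    refine ⟨W, hW, hyW, b, fun i => (hb i).trans (Finset.sum_congr rfl (fun l _ => ?_))⟩
    rw [rr_le_le]

/-- finitely many sections are simultaneously combinations of the generators, locally -/
lemma IsLocGen.exists_coeffs {M : SheafOfModules.{u} R} {U : Opens X} {I : Type u} [Fintype I]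
    {s : I → M.val.obj (op U)} (hs : IsLocGen M U s) {J : Type u} [Finite J] {V : Opens X}
    (hV : V ≤ U) (m : J → M.val.obj (op V)) (y : X) (hy : y ∈ V) :
    ∃ (W : Opens X) (hW : W ≤ V), y ∈ W ∧ ∃ c : J → I → R.obj.obj (op W),
      ∀ j, rs M (homOfLE hW) (m j) = ∑ i, c j i • rs M (homOfLE (hW.trans hV)) (s i) := by
  have h : ∀ j, ∃ (W : Opens X) (hW : W ≤ V), y ∈ W ∧ ∃ c : I → R.obj.obj (op W),
      rs M (homOfLE hW) (m j) = ∑ i, c i • rs M (homOfLE (hW.trans hV)) (s i) :=
    fun j => hs V hV (m j) y hy
  choose W hW hyW c hc using h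
  have hmem : y ∈ V ⊓ ⨅ j, W j := by
    refine ⟨hy, ?_⟩
    rw [SetLike.mem_coe, ← SetLike.mem_coe, Opens.coe_iInf]
    exact Set.mem_iInter.mpr hyW
  have hle : ∀ j, V ⊓ ⨅ j, W j ≤ W j := fun j => inf_le_right.trans (iInf_le W j)
  refine ⟨V ⊓ ⨅ j, W j, inf_le_left, hmem, fun j i => rr R (homOfLE (hle j)) (c j i), fun j => ?_⟩
  have e := congrArg (rs M (homOfLE (hle j))) (hc j)
  rw [rs_le_le, rs_sum_smul] at e
  refine e.trans (Finset.sum_congr rfl (fun i _ => ?_))
  rw [rs_le_le]

end Top

end

end FPLocal
end Groth.Agent.Lib.Helper42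

namespace Groth.Agent.Lib.Helper42
namespace FPLocal

open Groth.Agent.Lib.Helper30 Groth.Agent.Lib.Helper30.FreeTerminal SheafOfModules
  Groth.Agent.Lib.Helper42.FTLocal TopologicalSpace

section TopCokernel

variable {X : TopCat.{u}} {R : Sheaf (Opens.grothendieckTopology X) RingCat.{u}}

/-- a section killed by the cokernel projection comes locally from the source -/
lemma exists_local_preimage_of_cokernel {G F : SheafOfModules.{u} R} (φ : G ⟶ F) {V : Opens X}
    (m : F.val.obj (op V)) (hm : (cokernel.π φ).val.app (op V) m = 0) (z : X) (hz : z ∈ V) :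
    ∃ (W : Opens X) (hW : W ≤ V), z ∈ W ∧ ∃ n : G.val.obj (op W),
      φ.val.app (op W) n = rs F (homOfLE hW) m := by
  have hS : (ShortComplex.mk φ (cokernel.π φ) (cokernel.condition φ)).Exact :=
    ShortComplex.exact_of_g_is_cokernel _ (cokernelIsCokernel φ)
  have hepi : Epi (kernel.lift (cokernel.π φ) φ (cokernel.condition φ)) :=
    (ShortComplex.exact_iff_epi_kernel_lift _).1 hS
  obtain ⟨κ, hκ⟩ := exists_preimage_of_shortExact _ (kernel_shortExact (cokernel.π φ)) V m hm
  change (kernel.ι (cokernel.π φ)).val.app (op V) κ = m at hκ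
  obtain ⟨W, hW, hzW, t, ht⟩ := exists_local_lift
    (kernel.lift (cokernel.π φ) φ (cokernel.condition φ)) V (fun _ : PUnit.{u + 1} => κ) z hz
  refine ⟨W, hW, hzW, t PUnit.unit, ?_⟩
  have e1 : φ.val.app (op W) (t PUnit.unit) = (kernel.ι (cokernel.π φ)).val.app (op W)
      ((kernel.lift (cokernel.π φ) φ (cokernel.condition φ)).val.app (op W) (t PUnit.unit)) :=
    (congrArg (fun ψ => ψ.val.app (op W) (t PUnit.unit))
      (kernel.lift_ι (cokernel.π φ) φ (cokernel.condition φ))).symm
  rw [e1, ht PUnit.unit, ← rs_app, hκ]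

end TopCokernel

end FPLocal
end Groth.Agent.Lib.Helper42
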