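import Groth.Agent.Lib.Helper42.ProjMapLocal
import Mathlib.AlgebraicGeometry.ProjectiveSpectrum.Proper

/-!
# Vanishing of the kernel of a morphism, and the case of `D₊(g) ⟶ Proj` for a nonzerodivisor `g`
-/

set_option autoImplicit false
universe u

open CategoryTheory CategoryTheory.Limits AlgebraicGeometry TopologicalSpace Opposite
open HomogeneousLocalization
open scoped HomogeneousIdeal

namespace Groth.Agent.Lib.Helper42

/-- A quasi-compact morphism inducing injections on the sections over a cover of the target by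
affine opens has zero kernel. -/
theorem ker_eq_bot_of_app_injective {X Z : Scheme.{u}} (f : X ⟶ Z) [QuasiCompact f] {κ : Type*}
    (V : κ → Z.affineOpens) (hV : ⨆ i, (V i).1 = ⊤)
    (H : ∀ i, Function.Injective (f.app (V i).1).hom) : f.ker = ⊥ := by
  refine Scheme.IdealSheafData.ext_of_iSup_eq_top V hV fun i => ?_
  rw [Scheme.Hom.ker_apply, Scheme.IdealSheafData.ideal_bot]
  exact (RingHom.injective_iff_ker_eq_bot _).mp (H i)

section proj

variable {A σ : Type u} [CommRing A] [SetLike σ A] [AddSubgroupClass σ A] {𝒜 : ℕ → σ} [GradedRing 𝒜]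

/-- `A_(a) ⟶ A_(a g)` is injective when `g` is a nonzerodivisor. -/
theorem awayMap_injective_of_nonZeroDivisor {d e : ℕ} {a g x : A} (ha : a ∈ 𝒜 d) (hg : g ∈ 𝒜 e)
    (hx : x = a * g) (hnz : g ∈ nonZeroDivisors A) :
    Function.Injective (awayMap 𝒜 hg hx : Away 𝒜 a →+* Away 𝒜 x) := by
  rw [injective_iff_map_eq_zero]
  intro y hy
  obtain ⟨n, b, hb, rfl⟩ := Away.mk_surjective 𝒜 ha y
  rw [awayMap_mk, away_mk_eq_zero_iff] at hy
  obtain ⟨k, hk⟩ := hy
  rw [away_mk_eq_zero_iff]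
  refine ⟨k, ?_⟩
  subst hx
  have h1 : (a ^ k * b) * g ^ (k + n) = 0 := by
    rw [← hk]; ring
  exact ((nonZeroDivisors A).pow_mem hnz (k + n)).2 _ h1

/-- The restriction `Γ(Proj, D₊(a)) ⟶ Γ(Proj, D₊(a g))` is injective when `g` is a nonzerodivisor. -/
theorem presheaf_map_injective_of_nonZeroDivisor {d e : ℕ} (hd : 0 < d) {a g : A} (ha : a ∈ 𝒜 d)
    (hg : g ∈ 𝒜 e) (hnz : g ∈ nonZeroDivisors A)
    (O : (Proj 𝒜).Opens) (hO : O = Proj.basicOpen 𝒜 (a * g)) (hle : O ≤ Proj.basicOpen 𝒜 a) :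
    Function.Injective ((Proj 𝒜).presheaf.map (homOfLE hle).op).hom := by
  subst hO
  have h1 := Proj.awayMap_awayToSection 𝒜 (f := a) hg (x := a * g) rfl
  have hiso1 : IsIso (Proj.awayToSection 𝒜 a) := by
    rw [← Proj.basicOpenIsoAway_hom 𝒜 a ha hd]; infer_instance
  have hiso2 : IsIso (Proj.awayToSection 𝒜 (a * g)) := by
    rw [← Proj.basicOpenIsoAway_hom 𝒜 (a * g) (SetLike.mul_mem_graded ha hg) (Nat.add_pos_left hd e)]
    infer_instance
  have h2 : Function.Injective (CommRingCat.ofHom (awayMap 𝒜 hg (rfl : a * g = a * g)) ≫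
      Proj.awayToSection 𝒜 (a * g)).hom := by
    rw [CommRingCat.hom_comp, RingHom.coe_comp]
    exact (ConcreteCategory.bijective_of_isIso (Proj.awayToSection 𝒜 (a * g))).1.comp
      (awayMap_injective_of_nonZeroDivisor ha hg rfl hnz)
  rw [h1, CommRingCat.hom_comp, RingHom.coe_comp] at h2
  exact Function.Injective.of_comp_right h2 (ConcreteCategory.bijective_of_isIso (Proj.awayToSection 𝒜 a)).2

/-- `D₊(g) ⟶ Proj` is scheme-theoretically dominant when `g` is a nonzerodivisor. -/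
theorem ker_basicOpen_ι_eq_bot {e : ℕ} (he : 0 < e) {g : A} (hg : g ∈ 𝒜 e)
    (hnz : g ∈ nonZeroDivisors A) : (Proj.basicOpen 𝒜 g).ι.ker = ⊥ := by
  have hcpt : CompactSpace ((Proj.basicOpen 𝒜 g : (Proj 𝒜).Opens) : Scheme.{u}) :=
    isCompact_iff_compactSpace.mp (Proj.isAffineOpen_basicOpen 𝒜 g hg he).isCompact
  have hqc : QuasiCompact (Proj.basicOpen 𝒜 g).ι := quasiCompact_of_compactSpace _
  refine ker_eq_bot_of_app_injective (Proj.basicOpen 𝒜 g).ι
    (fun s : (Σ i : ℕ+, 𝒜 i) => ⟨Proj.basicOpen 𝒜 (s.2 : A),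
      Proj.isAffineOpen_basicOpen 𝒜 (s.2 : A) s.2.2 s.1.2⟩)
    (iSup_basicOpen_sigma_eq_top 𝒜) fun s => ?_
  rw [Scheme.Opens.ι_app]
  refine presheaf_map_injective_of_nonZeroDivisor s.1.2 s.2.2 hg hnz _ ?_ _
  rw [Scheme.Hom.image_preimage_eq_opensRange_inf, Scheme.Opens.opensRange_ι, Proj.basicOpen_mul,
    inf_comm]

end proj

end Groth.Agent.Lib.Helper42
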