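import Groth.Agent.Lib.Helper42.ConeQMapImm
import Groth.Agent.Lib.Helper42.KerBot

/-!
# Existence and properties of the canonical immersion of the affine cone into the projective cone
-/

set_option autoImplicit false
universe u

open CategoryTheory CategoryTheory.Limits AlgebraicGeometry TopologicalSpace Opposite
open HomogeneousLocalization Polynomial
open scoped HomogeneousIdeal

namespace Groth.Agent.Lib.Helper42

section awayι

variable {A σ : Type u} [CommRing A] [SetLike σ A] [AddSubgroupClass σ A] {𝒜 : ℕ → σ} [GradedRing 𝒜]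

/-- The standard open immersion `Spec A_(f) ⟶ Proj A` is affine. -/
theorem isAffineHom_awayι {m : ℕ} (f : A) (f_deg : f ∈ 𝒜 m) (hm : 0 < m) :
    IsAffineHom (Proj.awayι 𝒜 f f_deg hm) := by
  have h1 : IsAffineHom (Proj.awayι 𝒜 f f_deg hm ≫ Proj.toSpecZero 𝒜) := by
    rw [Proj.awayι_toSpecZero]; infer_instance
  have h2 : IsSeparated (Proj.toSpecZero 𝒜) := Proj.isSeparated 𝒜
  exact IsAffineHom.of_comp (Proj.awayι 𝒜 f f_deg hm) (Proj.toSpecZero 𝒜)

end awayι

section appinj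

theorem app_injective_of_comp_eq {C Z S : Scheme.{u}} (i : C ⟶ Z) (j : S ⟶ C) (k : S ⟶ Z)
    (hk : j ≫ i = k) (V : Z.Opens) (Hk : Function.Injective (k.app V).hom) :
    Function.Injective (i.app V).hom := by
  subst hk
  have h1 : Function.Injective ((j.app (i ⁻¹ᵁ V)).hom ∘ (i.app V).hom) := Hk
  exact Function.Injective.of_comp h1

/-- Injectivity on sections, checked on a chart. -/
theorem app_injective_of_chart {C Z S Q : Scheme.{u}} (i : C ⟶ Z) (j : S ⟶ C) (j' : Q ⟶ Z)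
    [IsOpenImmersion j'] (g : S ⟶ Q) (hg : j ≫ i = g ≫ j') (V : Z.Opens) (hV : V ≤ j'.opensRange)
    (H : ∀ W : Q.Opens, Function.Injective (g.app W).hom) :
    Function.Injective (i.app V).hom := by
  refine app_injective_of_comp_eq i j (g ≫ j') hg V ?_
  have : IsIso (j'.app V) := j'.isIso_app V hV
  have h1 : Function.Injective ((g.app (j' ⁻¹ᵁ V)).hom ∘ (j'.app V).hom) :=
    (H (j' ⁻¹ᵁ V)).comp (ConcreteCategory.bijective_of_isIso (j'.app V)).1
  exact h1

/-- Injectivity on sections is preserved by composing with an isomorphism on the left. -/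
theorem app_injective_iso_comp {S D Q : Scheme.{u}} (e : S ⟶ D) [IsIso e] (f : D ⟶ Q)
    (H : ∀ W : Q.Opens, Function.Injective (f.app W).hom) (W : Q.Opens) :
    Function.Injective ((e ≫ f).app W).hom := by
  have h1 : Function.Injective ((e.app (f ⁻¹ᵁ W)).hom ∘ (f.app W).hom) :=
    (ConcreteCategory.bijective_of_isIso (e.app (f ⁻¹ᵁ W))).1.comp (H W)
  exact h1

end appinj

variable {Y : Scheme.{u}} {𝒮 𝒮h : RelProj.QCGrAlg Y} {ι : 𝒮.toQCAlg ⟶ 𝒮h.toQCAlg}
  {z : 𝒮h.presheaf.obj (op ⊤)} (h : RelCone.IsPolyOver 𝒮 𝒮h ι z)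

theorem res_restrictTop {U V : Y.Opens} (i : V ≤ U) :
    (𝒮h.presheaf.map (homOfLE i).op).hom (RelCone.restrictTop 𝒮h z U) = RelCone.restrictTop 𝒮h z V := by
  unfold RelCone.restrictTop
  rw [← CommRingCat.comp_apply, ← Functor.map_comp]
  rfl

/-- "Setting `z = 1`" commutes with restriction. -/
theorem evalOne_res (U : Y.Opens) (hU : IsAffineOpen U) (V : Y.Opens) (hV : IsAffineOpen V) (i : V ≤ U)
    (a : 𝒮h.presheaf.obj (op U)) :
    h.evalOne V hV ((𝒮h.presheaf.map (homOfLE i).op).hom a) =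
      (𝒮.presheaf.map (homOfLE i).op).hom (h.evalOne U hU a) := by
  obtain ⟨p, rfl⟩ := (h.polyEquiv U hU).surjective a
  have key : ((h.evalOne V hV).comp (𝒮h.presheaf.map (homOfLE i).op).hom).comp
      (h.polyEquiv U hU).toRingHom =
      ((𝒮.presheaf.map (homOfLE i).op).hom.comp (h.evalOne U hU)).comp
        (h.polyEquiv U hU).toRingHom := by
    apply Polynomial.ringHom_ext
    · intro a
      change h.evalOne V hV ((𝒮h.presheaf.map (homOfLE i).op).hom (h.polyEquiv U hU (C a))) =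
        (𝒮.presheaf.map (homOfLE i).op).hom (h.evalOne U hU (h.polyEquiv U hU (C a)))
      rw [h.polyEquiv_apply, eval₂_C]
      have h1 := congrArg (fun m => m.hom a) (ι.hom.naturality (homOfLE i).op)
      have h1' : (𝒮h.presheaf.map (homOfLE i).op).hom ((ι.hom.app (op U)).hom a) =
          (ι.hom.app (op V)).hom ((𝒮.presheaf.map (homOfLE i).op).hom a) := h1.symm
      rw [h1', h.evalOne_ι, h.evalOne_ι]
    · change h.evalOne V hV ((𝒮h.presheaf.map (homOfLE i).op).hom (h.polyEquiv U hU X)) =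
        (𝒮.presheaf.map (homOfLE i).op).hom (h.evalOne U hU (h.polyEquiv U hU X))
      rw [h.polyEquiv_apply, eval₂_X, res_restrictTop, h.evalOne_z, h.evalOne_z, map_one]
  exact congrArg (fun φ => φ p) key

include h in
/-- `z` is not a zero divisor. -/
theorem restrictTop_mem_nonZeroDivisors (U : Y.Opens) (hU : IsAffineOpen U) :
    RelCone.restrictTop 𝒮h z U ∈ nonZeroDivisors (𝒮h.presheaf.obj (op U)) := by
  have e : h.polyEquiv U hU X = RelCone.restrictTop 𝒮h z U := by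
    rw [h.polyEquiv_apply, eval₂_X]
  have hX := mem_nonZeroDivisors_iff.mp
    (X_mem_nonzeroDivisors : (X : (𝒮.presheaf.obj (op U))[X]) ∈ nonZeroDivisors _)
  rw [← e, mem_nonZeroDivisors_iff]
  constructor
  · intro b hb
    obtain ⟨p', rfl⟩ := (h.polyEquiv U hU).surjective b
    rw [← map_mul, map_eq_zero_iff _ (h.polyEquiv U hU).injective] at hb
    rw [hX.1 p' hb, map_zero]
  · intro b hb
    obtain ⟨p', rfl⟩ := (h.polyEquiv U hU).surjective b
    rw [← map_mul, map_eq_zero_iff _ (h.polyEquiv U hU).injective] at hb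
    rw [hX.2 p' hb, map_zero]

variable {PC : Scheme.{u}} {pC : PC ⟶ Y}
  {chartC : ∀ (U : Y.Opens) (hU : IsAffineOpen U), (((pC ⁻¹ᵁ U : PC.Opens) : Scheme.{u}) ≅ Proj (𝒮h.deg U hU))}
  (hPC : RelProj.IsRelProj 𝒮h pC chartC)

/-- The chart-level morphism `Spec 𝒮(U) ⟶ Proj 𝒮h(U)`. -/
noncomputable def coneChart (U : Y.Opens) (hU : IsAffineOpen U) :
    Spec (𝒮.presheaf.obj (op U)) ⟶ Proj (𝒮h.deg U hU) :=
  Spec.map (CommRingCat.ofHom (h.awayZToBase U hU)) ≫
    Proj.awayι (𝒮h.deg U hU) (RelCone.restrictTop 𝒮h z U) (h.deg_z U hU) one_pos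

theorem coneChart_eq (U : Y.Opens) (hU : IsAffineOpen U) :
    coneChart h U hU = Spec.map (CommRingCat.ofHom (h.awayZToBase U hU)) ≫
      Proj.awayι (𝒮h.deg U hU) (RelCone.restrictTop 𝒮h z U) (h.deg_z U hU) one_pos := rfl

/-- Compatibility of the chart-level morphisms with basic opens. -/
theorem coneChart_res (U : Y.Opens) (hU : IsAffineOpen U) (r : Γ(Y, U)) :
    Spec.map (𝒮.presheaf.map (homOfLE (Y.basicOpen_le r)).op) ≫ coneChart h U hU =
      coneChart h (Y.basicOpen r) (hU.basicOpen r) ≫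
        Proj.map (𝒮h.res hU (hU.basicOpen r) (Y.basicOpen_le r)) (𝒮h.irrelevant_le_map U hU r) := by
  obtain ⟨e₁, he1, he2⟩ := exists_away_eq_transport (𝒟 := 𝒮h.deg (Y.basicOpen r) (hU.basicOpen r)) one_pos
    (𝒮h.res hU (hU.basicOpen r) (Y.basicOpen_le r) (RelCone.restrictTop 𝒮h z U))
    (RelCone.restrictTop 𝒮h z (Y.basicOpen r))
    (Graded.map_mem (𝒮h.res hU (hU.basicOpen r) (Y.basicOpen_le r)) (h.deg_z U hU))
    (h.deg_z _ (hU.basicOpen r)) (res_restrictTop (Y.basicOpen_le r))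
  have h1 := Proj.awayι_comp_map (𝒮h.res hU (hU.basicOpen r) (Y.basicOpen_le r))
    (𝒮h.irrelevant_le_map U hU r) one_pos (RelCone.restrictTop 𝒮h z U) (h.deg_z U hU)
  rw [coneChart_eq, coneChart_eq, Category.assoc, ← he1, Category.assoc, h1, ← Spec.map_comp_assoc, ← Spec.map_comp_assoc,
    ← Spec.map_comp_assoc]
  congr 1
  congr 1
  ext x
  obtain ⟨n, a, ha, rfl⟩ := Away.mk_surjective (𝒮h.deg U hU) (h.deg_z U hU) x
  change (𝒮.presheaf.map (homOfLE (Y.basicOpen_le r)).op).hom (h.awayZToBase U hU (Away.mk _ _ n a ha)) =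
    h.awayZToBase _ (hU.basicOpen r) (e₁ (Away.map (𝒮h.res hU (hU.basicOpen r) (Y.basicOpen_le r)) _
      (Away.mk _ _ n a ha)))
  rw [Away.map_mk (𝒮h.res hU (hU.basicOpen r) (Y.basicOpen_le r)) _ (h.deg_z U hU) n a ha, he2,
    awayZToBase_mk, awayZToBase_mk]
  exact (evalOne_res h U hU _ (hU.basicOpen r) (Y.basicOpen_le r) a).symm

include hPC in
/-- Existence and uniqueness of the canonical immersion of the affine cone into the projective cone. -/
theorem existsUnique_coneImm :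
    ∃! i : 𝒮.toQCAlg.spec ⟶ PC, RelCone.IsConeImm 𝒮 h pC chartC i := by
  obtain ⟨i, hi, huniq⟩ := existsUnique_glue_of_basic 𝒮.toQCAlg.π (Z := PC)
    (fun U hU => (specChartIso 𝒮.toQCAlg U hU).hom ≫ coneChart h U hU ≫ RelProj.emb pC chartC U hU) (by
      intro U hU r
      have h1 : 𝒮.toQCAlg.spec.homOfLE (𝒮.toQCAlg.π.preimage_mono (Y.basicOpen_le r)) ≫
          (specChartIso 𝒮.toQCAlg U hU).hom =
          (specChartIso 𝒮.toQCAlg (Y.basicOpen r) (hU.basicOpen r)).hom ≫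
            Spec.map (𝒮.presheaf.map (homOfLE (Y.basicOpen_le r)).op) := by
        rw [← cancel_mono (𝒮.toQCAlg.ι U hU), Category.assoc, Category.assoc, specChartIso_hom_ι,
          Scheme.homOfLE_ι]
        have := ι_res_basicOpen 𝒮.toQCAlg U hU r
        rw [this, specChartIso_hom_ι]
      rw [reassoc_of% h1, reassoc_of% (coneChart_res h U hU r), RelProj.map_res_emb hPC U hU r])
  refine ⟨i, fun U hU => ?_, fun i' hi' => huniq i' fun U hU => ?_⟩
  · have := hi U hU
    rw [← specChartIso_inv_ι, Category.assoc, this, Iso.inv_hom_id_assoc, coneChart_eq, Category.assoc]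
  · rw [← specChartIso_hom_ι 𝒮.toQCAlg U hU, Category.assoc, hi' U hU, coneChart_eq, Category.assoc]

variable {i : 𝒮.toQCAlg.spec ⟶ PC} (hi : RelCone.IsConeImm 𝒮 h pC chartC i)

include hPC hi in
theorem opensRange_ι_eq_preimage (U : Y.Opens) (hU : IsAffineOpen U) :
    (𝒮.toQCAlg.ι U hU).opensRange = i ⁻¹ᵁ (pC ⁻¹ᵁ U) := by
  rw [← 𝒮.toQCAlg.π_preimage U hU, ← coneImm_comp_p h hPC hi]
  rfl

theorem isIso_specMap_awayZToBase (U : Y.Opens) (hU : IsAffineOpen U) :
    IsIso (Spec.map (CommRingCat.ofHom (h.awayZToBase U hU))) := by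
  have hiso : IsIso (CommRingCat.ofHom (h.awayZToBase U hU)) := by
    rw [ConcreteCategory.isIso_iff_bijective]
    exact awayZToBase_bijective h U hU
  infer_instance

include hPC hi in
theorem coneImm_isOpenImmersion : IsOpenImmersion i := by
  rw [iff_of_charts @IsOpenImmersion i (fun U : Y.affineOpens => pC ⁻¹ᵁ U.1) ?_
    (fun U => 𝒮.toQCAlg.ι U.1 U.2) (fun U => RelProj.emb pC chartC U.1 U.2)
    (fun U => opensRange_ι_eq_preimage h hPC hi U.1 U.2)
    (fun U => opensRange_emb 𝒮h pC chartC U.1 U.2)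
    (fun U => coneChart h U.1 U.2) (fun U => by rw [hi U.1 U.2, coneChart_eq, Category.assoc])]
  · intro U
    have := isIso_specMap_awayZToBase h U.1 U.2
    rw [coneChart_eq]
    infer_instance
  · rw [eq_top_iff]
    intro x _
    obtain ⟨U, hU, hxU⟩ := exists_affineOpen_mem (pC.base x)
    exact Opens.mem_iSup.mpr ⟨⟨U, hU⟩, hxU⟩

include hPC hi in
theorem coneImm_isAffineHom : IsAffineHom i := by
  rw [iff_of_charts @IsAffineHom i (fun U : Y.affineOpens => pC ⁻¹ᵁ U.1) ?_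
    (fun U => 𝒮.toQCAlg.ι U.1 U.2) (fun U => RelProj.emb pC chartC U.1 U.2)
    (fun U => opensRange_ι_eq_preimage h hPC hi U.1 U.2)
    (fun U => opensRange_emb 𝒮h pC chartC U.1 U.2)
    (fun U => coneChart h U.1 U.2) (fun U => by rw [hi U.1 U.2, coneChart_eq, Category.assoc])]
  · intro U
    have := isAffineHom_awayι (𝒜 := 𝒮h.deg U.1 U.2) (RelCone.restrictTop 𝒮h z U.1) (h.deg_z U.1 U.2) one_pos
    rw [coneChart_eq]
    infer_instance
  · rw [eq_top_iff]
    intro x _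
    obtain ⟨U, hU, hxU⟩ := exists_affineOpen_mem (pC.base x)
    exact Opens.mem_iSup.mpr ⟨⟨U, hU⟩, hxU⟩

theorem coneChart_app_injective (U : Y.Opens) (hU : IsAffineOpen U) (W : (Proj (𝒮h.deg U hU)).Opens) :
    Function.Injective ((coneChart h U hU).app W).hom := by
  have hker := ker_basicOpen_ι_eq_bot (𝒜 := 𝒮h.deg U hU) one_pos (h.deg_z U hU)
    (restrictTop_mem_nonZeroDivisors h U hU)
  have hdom : IsSchemeTheoreticallyDominant
      (Proj.basicOpen (𝒮h.deg U hU) (RelCone.restrictTop 𝒮h z U)).ι := ⟨hker⟩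
  have hcpt : CompactSpace ((Proj.basicOpen (𝒮h.deg U hU) (RelCone.restrictTop 𝒮h z U) :
      (Proj (𝒮h.deg U hU)).Opens) : Scheme.{u}) :=
    isCompact_iff_compactSpace.mp
      (Proj.isAffineOpen_basicOpen (𝒮h.deg U hU) _ (h.deg_z U hU) one_pos).isCompact
  have hqc : QuasiCompact (Proj.basicOpen (𝒮h.deg U hU) (RelCone.restrictTop 𝒮h z U)).ι :=
    quasiCompact_of_compactSpace _
  have := isIso_specMap_awayZToBase h U hU
  have e : coneChart h U hU = (Spec.map (CommRingCat.ofHom (h.awayZToBase U hU)) ≫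
      (Proj.basicOpenIsoSpec (𝒮h.deg U hU) (RelCone.restrictTop 𝒮h z U) (h.deg_z U hU) one_pos).inv) ≫
      (Proj.basicOpen (𝒮h.deg U hU) (RelCone.restrictTop 𝒮h z U)).ι := by
    rw [coneChart_eq, Category.assoc, Proj.basicOpenIsoSpec_inv_ι]
  rw [e]
  exact app_injective_iso_comp _ _ (fun W => Scheme.Hom.app_injective _ W) W

include hPC hi in
theorem coneImm_ker : i.ker = ⊥ := by
  have := coneImm_isAffineHom h hPC hi
  refine ker_eq_bot_of_app_injective i
    (fun k : StdIdx 𝒮h => ⟨(tgtChart pC chartC k).opensRange, isAffineOpen_opensRange _⟩)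
    iSup_opensRange_tgtChart fun k => ?_
  refine app_injective_of_chart i (𝒮.toQCAlg.ι k.U k.hU) (RelProj.emb pC chartC k.U k.hU)
    (coneChart h k.U k.hU) (by rw [hi k.U k.hU, coneChart_eq, Category.assoc]) _ ?_
    (coneChart_app_injective h k.U k.hU)
  rw [opensRange_emb 𝒮h pC chartC k.U k.hU]
  rintro _ ⟨w, rfl⟩
  change (RelProj.emb pC chartC k.U k.hU).base _ ∈ pC ⁻¹ᵁ k.U
  rw [← opensRange_emb 𝒮h pC chartC k.U k.hU]
  exact ⟨_, rfl⟩

include hPC hi in
theorem range_coneImm_eq (Xz : PC.Opens)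
    (hXz : ∀ (U : Y.Opens) (hU : IsAffineOpen U), Xz ⊓ pC ⁻¹ᵁ U =
      (pC ⁻¹ᵁ U).ι ''ᵁ ((chartC U hU).hom ⁻¹ᵁ
        Proj.basicOpen (𝒮h.deg U hU) (RelCone.restrictTop 𝒮h z U))) :
    Set.range i.base = (Xz : Set PC) := by
  ext x
  obtain ⟨U, hU, hxU⟩ := exists_affineOpen_mem (pC.base x)
  have hx : x ∈ pC ⁻¹ᵁ U := hxU
  have hx' := hx
  rw [← opensRange_emb 𝒮h pC chartC U hU] at hx'
  obtain ⟨w, rfl⟩ := hx'
  rw [emb_mem_range_coneImm_iff h hPC hi U hU w]
  have h1 : (RelProj.emb pC chartC U hU).base w ∈ (Xz : Set PC) ↔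
      (RelProj.emb pC chartC U hU).base w ∈ Xz ⊓ pC ⁻¹ᵁ U :=
    ⟨fun h' => ⟨h', hx⟩, fun h' => h'.1⟩
  have hp : piece 𝒮h pC chartC z U hU = (pC ⁻¹ᵁ U).ι ''ᵁ ((chartC U hU).hom ⁻¹ᵁ
      Proj.basicOpen (𝒮h.deg U hU) (RelCone.restrictTop 𝒮h z U)) := piece_eq 𝒮h pC chartC z U hU
  rw [h1, hXz U hU, ← hp]
  constructor
  · intro hw
    exact ⟨w, hw, rfl⟩
  · rintro ⟨w', hw', hww'⟩
    rwa [← (RelProj.emb pC chartC U hU).isOpenEmbedding.injective hww']

/-- A homomorphism `𝒮h(U)_(z) ⟶ 𝒮(U)` with `ι x / z^k ↦ x` for `x` homogeneous of degree `k` is the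
canonical one. -/
theorem eq_awayZToBase (U : Y.Opens) (hU : IsAffineOpen U)
    (θ : CommRingCat.of (Away (𝒮h.deg U hU) (RelCone.restrictTop 𝒮h z U)) ⟶ 𝒮.presheaf.obj (op U))
    (hθ : ∀ (q : Away (𝒮h.deg U hU) (RelCone.restrictTop 𝒮h z U)) (k : ℕ) (x : 𝒮.presheaf.obj (op U)),
      x ∈ 𝒮.deg U hU k →
        q.val = Localization.mk ((ι.hom.app (op U)).hom x)
          ⟨RelCone.restrictTop 𝒮h z U ^ k, pow_mem (Submonoid.mem_powers (RelCone.restrictTop 𝒮h z U)) k⟩ →
        θ.hom q = x) :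
    θ = CommRingCat.ofHom (h.awayZToBase U hU) := by
  classical
  ext q
  change θ.hom q = h.awayZToBase U hU q
  set x := h.awayZToBase U hU q with hx
  have hmem : ∀ k : ℕ, (ι.hom.app (op U)).hom (DirectSum.decompose (𝒮.deg U hU) x k : 𝒮.presheaf.obj (op U)) ∈
      𝒮h.deg U hU (k • 1) := by
    intro k
    rw [smul_eq_mul, mul_one]
    exact h.graded U hU k _ (SetLike.coe_mem _)
  let y : Away (𝒮h.deg U hU) (RelCone.restrictTop 𝒮h z U) :=
    ∑ k ∈ (DirectSum.decompose (𝒮.deg U hU) x).support,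
      Away.mk (𝒮h.deg U hU) (h.deg_z U hU) k
        ((ι.hom.app (op U)).hom (DirectSum.decompose (𝒮.deg U hU) x k : 𝒮.presheaf.obj (op U))) (hmem k)
  have hy1 : h.awayZToBase U hU y = x := by
    rw [map_sum]
    conv_rhs => rw [← DirectSum.sum_support_decompose (𝒮.deg U hU) x]
    refine Finset.sum_congr rfl fun k _ => ?_
    rw [awayZToBase_mk, h.evalOne_ι]
  have hy2 : θ.hom y = x := by
    rw [map_sum]
    conv_rhs => rw [← DirectSum.sum_support_decompose (𝒮.deg U hU) x]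
    refine Finset.sum_congr rfl fun k _ => ?_
    exact hθ _ k _ (SetLike.coe_mem _) (Away.val_mk _ _ _ _ _)
  have hyq : y = q := awayZToBase_injective h U hU (hy1.trans hx)
  rw [← hyq, hy2]

end Groth.Agent.Lib.Helper42
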