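import Mathlib

/-!
# A graded ring `B = A[z]`, `z` of degree one: the shape of homogeneous elements
-/

set_option autoImplicit false
universe u

open DirectSum Polynomial

namespace Groth.Agent.Lib.Helper42

variable {A B σ τ : Type u} [CommRing A] [CommRing B]
  [SetLike σ A] [AddSubgroupClass σ A] [SetLike τ B] [AddSubgroupClass τ B]
  {𝒜 : ℕ → σ} {ℬ : ℕ → τ} [GradedRing 𝒜] [GradedRing ℬ] (ψ : 𝒜 →+*ᵍ ℬ) (z : B)

/-- The part of total degree `k` of a polynomial over a graded ring (`X` of degree one). -/
noncomputable def homPart (𝒜 : ℕ → σ) [GradedRing 𝒜] (k : ℕ) (p : A[X]) : A[X] :=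
  ∑ m ∈ Finset.range (k + 1), monomial m ((decompose 𝒜 (p.coeff m) (k - m) : A))

theorem homPart_add (k : ℕ) (p q : A[X]) : homPart 𝒜 k (p + q) = homPart 𝒜 k p + homPart 𝒜 k q := by
  unfold homPart
  rw [← Finset.sum_add_distrib]
  refine Finset.sum_congr rfl fun m _ => ?_
  rw [coeff_add, decompose_add, DirectSum.add_apply, AddMemClass.coe_add, map_add]

theorem homPart_monomial (k n : ℕ) (c : A) :
    homPart 𝒜 k (monomial n c) = if n ≤ k then monomial n ((decompose 𝒜 c (k - n) : A)) else 0 := by
  unfold homPart
  split_ifs with h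
  · rw [Finset.sum_eq_single n]
    · rw [coeff_monomial, if_pos rfl]
    · intro m _ hmn
      rw [coeff_monomial, if_neg (Ne.symm hmn), decompose_zero, DirectSum.zero_apply,
        ZeroMemClass.coe_zero, map_zero]
    · intro hn
      exact absurd (Finset.mem_range.mpr (by omega)) hn
  · refine Finset.sum_eq_zero fun m hm => ?_
    have hmn : n ≠ m := by
      have := Finset.mem_range.mp hm
      omega
    rw [coeff_monomial, if_neg hmn, decompose_zero, DirectSum.zero_apply,
      ZeroMemClass.coe_zero, map_zero]

theorem coeff_homPart (k m : ℕ) (p : A[X]) :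
    (homPart 𝒜 k p).coeff m = if m ≤ k then (decompose 𝒜 (p.coeff m) (k - m) : A) else 0 := by
  unfold homPart
  rw [finset_sum_coeff]
  split_ifs with h
  · rw [Finset.sum_eq_single m]
    · rw [coeff_monomial, if_pos rfl]
    · intro b _ hb
      rw [coeff_monomial, if_neg hb]
    · intro hm
      exact absurd (Finset.mem_range.mpr (by omega)) hm
  · refine Finset.sum_eq_zero fun b hb => ?_
    have : b ≠ m := by
      have := Finset.mem_range.mp hb
      omega
    rw [coeff_monomial, if_neg this]

variable (hz : z ∈ ℬ 1)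

include hz in
theorem decompose_eval₂ (k : ℕ) (p : A[X]) :
    (decompose ℬ (eval₂ (ψ : A →+* B) z p) k : B) = eval₂ (ψ : A →+* B) z (homPart 𝒜 k p) := by
  induction p using Polynomial.induction_on' with
  | add p q hp hq =>
    rw [eval₂_add, decompose_add, DirectSum.add_apply, AddMemClass.coe_add, hp, hq, homPart_add,
      eval₂_add]
  | monomial n c =>
    have hzn : z ^ n ∈ ℬ n := by
      have := SetLike.pow_mem_graded n hz
      rwa [smul_eq_mul, mul_one] at this
    rw [eval₂_monomial, homPart_monomial]
    split_ifs with h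
    · rw [coe_decompose_mul_of_right_mem_of_le ℬ hzn h, eval₂_monomial]
      congr 1
      exact (GradedRingHom.map_directSumDecompose 𝒜 ℬ ψ).symm
    · rw [coe_decompose_mul_of_right_mem_of_not_le ℬ hzn h, eval₂_zero]

variable (hinj : Function.Injective (eval₂RingHom (ψ : A →+* B) z))

include hz hinj in
/-- The polynomial presenting a homogeneous element of degree `k` is homogeneous of total degree `k`. -/
theorem homPart_eq_self_of_mem (k : ℕ) (p : A[X]) (hp : eval₂ (ψ : A →+* B) z p ∈ ℬ k) :
    homPart 𝒜 k p = p := by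
  apply hinj
  change eval₂ (ψ : A →+* B) z (homPart 𝒜 k p) = eval₂ (ψ : A →+* B) z p
  rw [← decompose_eval₂ ψ z hz k p, decompose_of_mem_same ℬ hp]

include hz hinj in
theorem coeff_mem_of_mem (k : ℕ) (p : A[X]) (hp : eval₂ (ψ : A →+* B) z p ∈ ℬ k) (m : ℕ) :
    p.coeff m ∈ 𝒜 (k - m) ∧ (k < m → p.coeff m = 0) := by
  have h := congrArg (fun q => q.coeff m) (homPart_eq_self_of_mem ψ z hz hinj k p hp)
  simp only [coeff_homPart] at h
  constructor
  · by_cases hmk : m ≤ k
    · rw [if_pos hmk] at h
      rw [← h]
      exact SetLike.coe_mem _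
    · rw [if_neg hmk] at h
      rw [← h]
      exact zero_mem _
  · intro hkm
    rw [if_neg (by omega)] at h
    exact h.symm

include hz hinj in
/-- A polynomial presenting a homogeneous element and vanishing at `1` is zero. -/
theorem eq_zero_of_eval_one_eq_zero (k : ℕ) (p : A[X]) (hp : eval₂ (ψ : A →+* B) z p ∈ ℬ k)
    (h1 : p.eval 1 = 0) : p = 0 := by
  classical
  have hc := coeff_mem_of_mem ψ z hz hinj k p hp
  have hdeg : p.natDegree < k + 1 := by
    have : p.natDegree ≤ k := natDegree_le_iff_coeff_eq_zero.mpr fun N hN => (hc N).2 hN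
    omega
  rw [eval_eq_sum_range' hdeg] at h1
  simp only [one_pow, mul_one] at h1
  ext m
  rw [coeff_zero]
  by_cases hmk : k < m
  · exact (hc m).2 hmk
  · have hmk' : m ≤ k := by omega
    have h2 := congrArg (fun a => (decompose 𝒜 a (k - m) : A)) h1
    simp only [decompose_sum, decompose_zero, DirectSum.zero_apply, ZeroMemClass.coe_zero] at h2
    rw [DFinsupp.finset_sum_apply, AddSubmonoidClass.coe_finset_sum] at h2
    rw [Finset.sum_eq_single m] at h2
    · rwa [decompose_of_mem_same 𝒜 (hc m).1] at h2
    · intro i hi him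
      have hik : i ≤ k := by
        have := Finset.mem_range.mp hi
        omega
      exact decompose_of_mem_ne 𝒜 (hc i).1 (by omega)
    · intro hm
      exact absurd (Finset.mem_range.mpr (by omega)) hm

end Groth.Agent.Lib.Helper42
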