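import Groth.Agent.Lib.Helper42.TrivialGrading
import Groth.Agent.Lib.Helper42.ConeImmExists
import Groth.Agent.Lib.Helper42.PolyGraded

/-!
# `Proj(𝒜[T]) = Spec(𝒜)` for a quasi-coherent algebra `𝒜` (in degree zero)
-/

set_option autoImplicit false
universe u

open CategoryTheory CategoryTheory.Limits AlgebraicGeometry TopologicalSpace Opposite
open HomogeneousLocalization
open scoped HomogeneousIdeal

namespace Groth.Agent.Lib.Helper42

namespace ProjPolyTriv

variable {Y : Scheme.{u}} (𝒜 : RelSpec.QCAlg Y)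

/-- `𝒜` with everything in degree zero. -/
noncomputable abbrev trivGr : RelProj.QCGrAlg Y where
  toQCAlg := 𝒜
  deg U _ := TrivGr.triv (𝒜.presheaf.obj (op U))
  graded U _ := inferInstance
  map_mem {U V} hU hV i {d} {x} hx := by
    rw [TrivGr.mem_triv_iff] at hx ⊢
    rcases hx with h | h
    · exact Or.inl h
    · exact Or.inr (by rw [h, map_zero])
  str_mem U hU r := TrivGr.mem_triv_zero _

variable {𝒜} {Sh : RelProj.QCGrAlg Y} (ι : 𝒜 ⟶ Sh.toQCAlg)
  (hι : ∀ (U : Y.Opens) (hU : IsAffineOpen U) (a : 𝒜.presheaf.obj (op U)),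
    (ι.hom.app (op U)).hom a ∈ Sh.deg U hU 0)
  (z : Sh.presheaf.obj (op ⊤))
  (hz : ∀ (U : Y.Opens) (hU : IsAffineOpen U), (Sh.presheaf.map (homOfLE le_top).op).hom z ∈ Sh.deg U hU 1)
  (hpoly : ∀ (U : Y.Opens) (hU : IsAffineOpen U),
    Function.Bijective (Polynomial.eval₂RingHom (ι.hom.app (op U)).hom ((Sh.presheaf.map (homOfLE le_top).op).hom z)))

include hι hz hpoly in
theorem isPolyOver : RelCone.IsPolyOver (trivGr 𝒜) Sh ι z where
  graded U hU d x hx := by
    rcases (TrivGr.mem_triv_iff.mp hx) with h | h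
    · subst h
      exact hι U hU x
    · rw [h, map_zero]
      exact zero_mem _
  deg_z := hz
  bij := hpoly

include hι hz hpoly in
/-- Every point of `Proj Ŝ(U)` lies in `D₊(z)`. -/
theorem basicOpen_z_eq_top (U : Y.Opens) (hU : IsAffineOpen U) :
    Proj.basicOpen (Sh.deg U hU) (RelCone.restrictTop Sh z U) = ⊤ := by
  classical
  have h := isPolyOver ι hι z hz hpoly
  rw [eq_top_iff]
  intro x _
  rw [Proj.mem_basicOpen]
  intro hzx
  apply x.not_irrelevant_le
  rw [HomogeneousIdeal.irrelevant_le]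
  intro n hn b hb
  obtain ⟨q, hq⟩ := (hpoly U hU).2 b
  let ψ : (trivGr 𝒜).deg U hU →+*ᵍ Sh.deg U hU :=
    RelProj.gradedHomAt (𝒜 := trivGr 𝒜) (ℬ := Sh) ι h.graded U hU
  have hq' : Polynomial.eval₂ (ψ : (trivGr 𝒜).presheaf.obj (op U) →+* Sh.presheaf.obj (op U))
      (RelCone.restrictTop Sh z U) q = b := hq
  have hb' : Polynomial.eval₂ (ψ : (trivGr 𝒜).presheaf.obj (op U) →+* Sh.presheaf.obj (op U))
      (RelCone.restrictTop Sh z U) q ∈ Sh.deg U hU n := by rw [hq']; exact hb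
  have hc := coeff_mem_of_mem ψ (RelCone.restrictTop Sh z U)
    (hz U hU) (hpoly U hU).1 n q hb'
  rw [← hq', Polynomial.eval₂_eq_sum_range]
  refine Ideal.sum_mem _ fun i _ => ?_
  rcases Nat.eq_zero_or_pos i with rfl | hi
  · have h0 : q.coeff 0 = 0 := TrivGr.eq_zero_of_mem_triv (by omega) (hc 0).1
    rw [h0, map_zero, zero_mul]
    exact zero_mem _
  · exact Ideal.mul_mem_left _ _ (Ideal.pow_mem_of_mem _ hzx i hi)

variable {P : Scheme.{u}} {p : P ⟶ Y}
  {chart : ∀ (U : Y.Opens) (hU : IsAffineOpen U), (((p ⁻¹ᵁ U : P.Opens) : Scheme.{u}) ≅ Proj (Sh.deg U hU))}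
  (hP : RelProj.IsRelProj Sh p chart)

include hι hz hpoly hP in
theorem isIso_of_isConeImm {i : 𝒜.spec ⟶ P}
    (hi : RelCone.IsConeImm (trivGr 𝒜) (isPolyOver ι hι z hz hpoly) p chart i) : IsIso i := by
  have h := isPolyOver ι hι z hz hpoly
  have : IsOpenImmersion i := coneImm_isOpenImmersion h hP hi
  have hr : Set.range i.base = ((⊤ : P.Opens) : Set P) := by
    refine range_coneImm_eq h hP hi ⊤ fun U hU => ?_
    rw [basicOpen_z_eq_top ι hι z hz hpoly U hU, top_inf_eq]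
    ext x
    simp
  refine isIso_of_isOpenImmersion_of_opensRange_eq_top i ?_
  ext x
  change x ∈ Set.range i.base ↔ _
  rw [hr]

end ProjPolyTriv

end Groth.Agent.Lib.Helper42
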