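import Mathlib.AlgebraicGeometry.Cover.Directed
import Mathlib.AlgebraicGeometry.AffineScheme
import Mathlib.AlgebraicGeometry.Restrict

/-!
# Gluing morphisms along the preimages of the affine opens, with compatibility only along basic opens

For `p : P ⟶ Y`, the opens `p ⁻¹ᵁ U` (`U` affine open of `Y`) cover `P`.  A family of morphisms
`g U : p ⁻¹ᵁ U ⟶ Z` that is compatible with the inclusions `p ⁻¹ᵁ D(r) ⊆ p ⁻¹ᵁ U` for basic opens `D(r) ⊆ U` glues
uniquely to a morphism `P ⟶ Z`.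
-/

set_option autoImplicit false
universe u

open CategoryTheory CategoryTheory.Limits AlgebraicGeometry TopologicalSpace Opposite

namespace Groth.Agent.Lib.Helper42

/-- Affine opens of `Y`, to be ordered by "is a basic open of". -/
structure BAff (Y : Scheme.{u}) where
  /-- the open -/
  U : Y.Opens
  /-- it is affine -/
  hU : IsAffineOpen U

namespace BAff

variable {Y : Scheme.{u}}

instance : Preorder (BAff Y) where
  le W U := ∃ r : Γ(Y, U.U), W.U = Y.basicOpen r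
  le_refl U := ⟨1, by simp⟩
  le_trans := by
    rintro ⟨W, hW⟩ ⟨V, hV⟩ ⟨U, hU⟩ ⟨s, hs⟩ ⟨r, hr⟩
    dsimp only at s hs r hr ⊢
    subst hr
    obtain ⟨f', hf'⟩ := hU.basicOpen_basicOpen_is_basicOpen r s
    exact ⟨f', hs.trans hf'.symm⟩

theorem le_opens {W U : BAff Y} (h : W ≤ U) : W.U ≤ U.U := by
  obtain ⟨r, hr⟩ := h
  rw [hr]
  exact Y.basicOpen_le r

end BAff

variable {Y P : Scheme.{u}} (p : P ⟶ Y)

/-- The cover of `P` by the preimages of the affine opens of `Y`. -/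
noncomputable def preimageCover : P.OpenCover where
  I₀ := BAff Y
  X U := (p ⁻¹ᵁ U.U : P.Opens)
  f U := (p ⁻¹ᵁ U.U).ι
  mem₀ := by
    rw [Scheme.presieve₀_mem_precoverage_iff]
    refine ⟨fun x ↦ ?_, inferInstance⟩
    have hx : p.base x ∈ (⨆ i : Y.affineOpens, (i : Y.Opens)) := by
      rw [iSup_affineOpens_eq_top]; trivial
    obtain ⟨U, hxU⟩ := TopologicalSpace.Opens.mem_iSup.mp hx
    exact ⟨⟨U.1, U.2⟩, ⟨x, hxU⟩, rfl⟩

instance : Preorder (preimageCover p).I₀ := inferInstanceAs <| Preorder (BAff Y)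

noncomputable instance : Scheme.Cover.LocallyDirected (preimageCover p) where
  trans {i j} hij := P.homOfLE (p.preimage_mono (BAff.le_opens (leOfHom hij)))
  trans_id i := P.homOfLE_rfl _
  trans_comp hij hjk := (P.homOfLE_homOfLE _ _).symm
  w hij := P.homOfLE_ι _
  property_trans hij := by
    change IsOpenImmersion (P.homOfLE _)
    infer_instance
  directed {i j} x := by
    let 𝒰 := preimageCover p
    let x₀ : P := (pullback.fst (𝒰.f i) (𝒰.f j) ≫ 𝒰.f i).base x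
    have hxi : p.base x₀ ∈ i.U := ((pullback.fst (𝒰.f i) (𝒰.f j)).base x).2
    have hxj : p.base x₀ ∈ j.U := by
      have : x₀ = (pullback.snd (𝒰.f i) (𝒰.f j) ≫ 𝒰.f j).base x := by
        simp only [x₀, pullback.condition]
      rw [this]
      exact ((pullback.snd (𝒰.f i) (𝒰.f j)).base x).2
    obtain ⟨f, g, hfg, hxf⟩ := exists_basicOpen_le_affine_inter i.hU j.hU (p.base x₀) ⟨hxi, hxj⟩
    let k : BAff Y := ⟨Y.basicOpen f, i.hU.basicOpen f⟩
    have hki : k ≤ i := ⟨f, rfl⟩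
    have hkj : k ≤ j := ⟨g, hfg⟩
    refine ⟨k, homOfLE hki, homOfLE hkj, ⟨x₀, hxf⟩, ?_⟩
    apply (pullback.fst (𝒰.f i) (𝒰.f j) ≫ 𝒰.f i).isOpenEmbedding.injective
    rw [← Scheme.Hom.comp_apply, pullback.lift_fst_assoc]
    change ((P.homOfLE _ ≫ (p ⁻¹ᵁ i.U).ι).base ⟨x₀, hxf⟩) = x₀
    rw [P.homOfLE_ι]
    rfl

/-- Gluing along preimages of affine opens with compatibility along basic opens. -/
theorem existsUnique_glue_of_basic {Z : Scheme.{u}}
    (g : ∀ (U : Y.Opens) (_ : IsAffineOpen U), ((p ⁻¹ᵁ U : P.Opens) : Scheme.{u}) ⟶ Z)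
    (hg : ∀ (U : Y.Opens) (hU : IsAffineOpen U) (r : Γ(Y, U)),
      P.homOfLE (p.preimage_mono (Y.basicOpen_le r)) ≫ g U hU = g (Y.basicOpen r) (hU.basicOpen r)) :
    ∃! h : P ⟶ Z, ∀ (U : Y.Opens) (hU : IsAffineOpen U), (p ⁻¹ᵁ U).ι ≫ h = g U hU := by
  let 𝒰 := preimageCover p
  have hcompat : ∀ {i j : 𝒰.I₀} (hij : i ⟶ j), 𝒰.trans hij ≫ g j.U j.hU = g i.U i.hU := by
    intro i j hij
    obtain ⟨r, hr⟩ := leOfHom hij
    obtain ⟨iU, ihU⟩ := i
    dsimp only at hr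
    subst hr
    exact hg j.U j.hU r
  refine ⟨𝒰.glueMorphismsOfLocallyDirected (fun i => g i.U i.hU) hcompat, ?_, ?_⟩
  · intro U hU
    exact 𝒰.map_glueMorphismsOfLocallyDirected (fun i => g i.U i.hU) hcompat ⟨U, hU⟩
  · intro h' hh'
    apply 𝒰.hom_ext
    intro i
    rw [𝒰.map_glueMorphismsOfLocallyDirected (fun i => g i.U i.hU) hcompat i]
    exact hh' i.U i.hU

/-- Two morphisms out of `P` agreeing on the preimages of the affine opens are equal. -/
theorem hom_ext_of_affine {Z : Scheme.{u}} (h h' : P ⟶ Z)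
    (H : ∀ (U : Y.Opens) (_ : IsAffineOpen U), (p ⁻¹ᵁ U).ι ≫ h = (p ⁻¹ᵁ U).ι ≫ h') : h = h' := by
  apply (preimageCover p).hom_ext
  intro i
  exact H i.U i.hU

end Groth.Agent.Lib.Helper42
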