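import Mathlib.AlgebraicGeometry.ProjectiveSpectrum.Functor
import Mathlib.AlgebraicGeometry.ProjectiveSpectrum.Basic

/-!
# `Proj.map` is compatible with the structure morphisms to `Spec` of the degree-zero parts
-/

set_option autoImplicit false
universe u

open CategoryTheory CategoryTheory.Limits AlgebraicGeometry HomogeneousLocalization
open scoped HomogeneousIdeal

namespace Groth.Agent.Lib.Helper42

variable {A B σ τ : Type u} [CommRing A] [CommRing B]
  [SetLike σ A] [AddSubgroupClass σ A] [SetLike τ B] [AddSubgroupClass τ B]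
  {𝒜 : ℕ → σ} {ℬ : ℕ → τ} [GradedRing 𝒜] [GradedRing ℬ]

/-- The degree-zero part of a graded ring homomorphism. -/
def zeroHom (f : 𝒜 →+*ᵍ ℬ) : 𝒜 0 →+* ℬ 0 where
  toFun x := ⟨f (x : A), f.map_mem x.2⟩
  map_one' := Subtype.ext (map_one f)
  map_mul' x y := Subtype.ext (map_mul f (x : A) (y : A))
  map_zero' := Subtype.ext (map_zero f)
  map_add' x y := Subtype.ext (map_add f (x : A) (y : A))

@[simp] theorem zeroHom_apply_coe (f : 𝒜 →+*ᵍ ℬ) (x : 𝒜 0) : (zeroHom f x : B) = f (x : A) := rfl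

theorem away_map_comp_fromZeroRingHom (f : 𝒜 →+*ᵍ ℬ) (s : A) :
    (Away.map f s).comp (fromZeroRingHom 𝒜 (Submonoid.powers s)) =
      (fromZeroRingHom ℬ (Submonoid.powers (f s))).comp (zeroHom f) := by
  ext a
  simp only [RingHom.comp_apply, fromZeroRingHom, RingHom.coe_mk, MonoidHom.coe_mk, OneHom.coe_mk,
    Away.map, HomogeneousLocalization.map_mk, val_mk, zeroHom_apply_coe]
  congr 1
  exact Subtype.ext (map_one f)

theorem map_toSpecZero (f : 𝒜 →+*ᵍ ℬ) (hf : ℬ₊ ≤ 𝒜₊.map f) :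
    Proj.map f hf ≫ Proj.toSpecZero 𝒜 =
      Proj.toSpecZero ℬ ≫ Spec.map (CommRingCat.ofHom (zeroHom f)) := by
  refine (Proj.mapAffineOpenCover f hf).openCover.hom_ext _ _ fun s ↦ ?_
  have hi : 0 < (s.1 : ℕ) := s.1.2
  have hx : (s.2 : A) ∈ 𝒜 (s.1 : ℕ) := s.2.2
  have h1 := Proj.awayι_comp_map_assoc f hf hi (s.2 : A) hx (Proj.toSpecZero 𝒜)
  have h2 := Proj.awayι_toSpecZero_assoc ℬ (f (s.2 : A)) (f.2 hx) hi
    (Spec.map (CommRingCat.ofHom (zeroHom f)))
  refine h1.trans (Eq.trans ?_ h2.symm)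
  rw [Proj.awayι_toSpecZero, ← Spec.map_comp, ← Spec.map_comp, ← CommRingCat.ofHom_comp,
    ← CommRingCat.ofHom_comp, away_map_comp_fromZeroRingHom]

end Groth.Agent.Lib.Helper42
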