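import Groth.Prelude.Def_RelProj
import Groth.Agent.Lib.Helper42.BasicGlue
import Groth.Agent.Lib.Helper42.ProjMap

/-!
# Morphisms of relative `Proj`s induced by graded homomorphisms: existence, uniqueness, compatibility with the base
-/

set_option autoImplicit false
universe u

open CategoryTheory CategoryTheory.Limits AlgebraicGeometry TopologicalSpace Opposite
open scoped HomogeneousIdeal

namespace Groth.Agent.Lib.Helper42

theorem proj_map_congr {A B σ τ : Type u} [CommRing A] [CommRing B]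
    [SetLike σ A] [AddSubgroupClass σ A] [SetLike τ B] [AddSubgroupClass τ B]
    {𝒜 : ℕ → σ} {ℬ : ℕ → τ} [GradedRing 𝒜] [GradedRing ℬ] {f f' : 𝒜 →+*ᵍ ℬ} (e : f = f')
    (hf : ℬ₊ ≤ 𝒜₊.map f) (hf' : ℬ₊ ≤ 𝒜₊.map f') : Proj.map f hf = Proj.map f' hf' := by
  subst e; rfl

variable {Y : Scheme.{u}}

/-- Naturality of a graded homomorphism with respect to restriction, as an equality of graded ring homomorphisms. -/
theorem res_comp_gradedHomAt {𝒜 ℬ : RelProj.QCGrAlg Y} (φ : 𝒜.toQCAlg ⟶ ℬ.toQCAlg) (hφ : RelProj.IsGradedHom φ)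
    {U V : Y.Opens} (hU : IsAffineOpen U) (hV : IsAffineOpen V) (i : V ≤ U) :
    (ℬ.res hU hV i).comp (RelProj.gradedHomAt φ hφ U hU) =
      (RelProj.gradedHomAt φ hφ V hV).comp (𝒜.res hU hV i) := by
  ext x
  have := congrArg (fun ψ => ψ.hom x) (φ.hom.naturality (homOfLE i).op)
  simp only [CommRingCat.hom_comp, RingHom.comp_apply] at this
  exact this.symm

theorem strZero_comp_zeroHom {𝒜 ℬ : RelProj.QCGrAlg Y} (φ : 𝒜.toQCAlg ⟶ ℬ.toQCAlg) (hφ : RelProj.IsGradedHom φ)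
    (U : Y.Opens) (hU : IsAffineOpen U) :
    𝒜.strZero U hU ≫ CommRingCat.ofHom (zeroHom (RelProj.gradedHomAt φ hφ U hU)) = ℬ.strZero U hU := by
  ext r
  have h0 := NatTrans.congr_app φ.comm (op U)
  rw [NatTrans.comp_app] at h0
  have := congrArg (fun ψ => ψ.hom r) h0
  simp only [CommRingCat.hom_comp, RingHom.comp_apply] at this
  exact this

section

variable {PA PB : Scheme.{u}} {𝒜 ℬ : RelProj.QCGrAlg Y}
    (φ : 𝒜.toQCAlg ⟶ ℬ.toQCAlg) (hφ : RelProj.IsGradedHom φ)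
    (hirr : ∀ (U : Y.Opens) (hU : IsAffineOpen U),
      (ℬ.deg U hU)₊ ≤ ((𝒜.deg U hU)₊).map (RelProj.gradedHomAt φ hφ U hU))
    {pA : PA ⟶ Y} {pB : PB ⟶ Y}
    {chartA : ∀ (U : Y.Opens) (hU : IsAffineOpen U), (((pA ⁻¹ᵁ U : PA.Opens) : Scheme.{u}) ≅ Proj (𝒜.deg U hU))}
    {chartB : ∀ (U : Y.Opens) (hU : IsAffineOpen U), (((pB ⁻¹ᵁ U : PB.Opens) : Scheme.{u}) ≅ Proj (ℬ.deg U hU))}
    (hA : RelProj.IsRelProj 𝒜 pA chartA) (hB : RelProj.IsRelProj ℬ pB chartB)

include hA hB in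
theorem existsUnique_isRelProjMap :
    ∃! h : PB ⟶ PA, RelProj.IsRelProjMap φ hφ hirr chartA chartB h := by
  apply existsUnique_glue_of_basic pB
    (fun U hU => (chartB U hU).hom ≫ Proj.map (RelProj.gradedHomAt φ hφ U hU) (hirr U hU) ≫
      (chartA U hU).inv ≫ (pA ⁻¹ᵁ U).ι)
  intro U hU r
  have h1 := hB.chart_res U hU r
  have h2 := hA.chart_res U hU r
  have h3 : Proj.map (𝒜.res hU (hU.basicOpen r) (Y.basicOpen_le r)) (𝒜.irrelevant_le_map U hU r) ≫
      (chartA U hU).inv = (chartA (Y.basicOpen r) (hU.basicOpen r)).inv ≫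
        PA.homOfLE (pA.preimage_mono (Y.basicOpen_le r)) := by
    rw [Iso.eq_inv_comp, ← Category.assoc, ← h2, Category.assoc, Iso.hom_inv_id, Category.comp_id]
  have h4 : Proj.map (ℬ.res hU (hU.basicOpen r) (Y.basicOpen_le r)) (ℬ.irrelevant_le_map U hU r) ≫
      Proj.map (RelProj.gradedHomAt φ hφ U hU) (hirr U hU) =
      Proj.map (RelProj.gradedHomAt φ hφ (Y.basicOpen r) (hU.basicOpen r)) (hirr _ _) ≫
        Proj.map (𝒜.res hU (hU.basicOpen r) (Y.basicOpen_le r)) (𝒜.irrelevant_le_map U hU r) := by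
    rw [← Proj.map_comp, ← Proj.map_comp]
    exact proj_map_congr (res_comp_gradedHomAt φ hφ hU (hU.basicOpen r) (Y.basicOpen_le r)) _ _
  rw [reassoc_of% h1, reassoc_of% h4, reassoc_of% h3, PA.homOfLE_ι]

include hA hB in
theorem isRelProjMap_comp_base (h : PB ⟶ PA) (hh : RelProj.IsRelProjMap φ hφ hirr chartA chartB h) :
    h ≫ pA = pB := by
  apply hom_ext_of_affine pB
  intro U hU
  rw [reassoc_of% (hh U hU), ← hA.chart_over U hU, ← hB.chart_over U hU]
  simp only [Iso.inv_hom_id_assoc]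
  rw [reassoc_of% (map_toSpecZero (RelProj.gradedHomAt φ hφ U hU) (hirr U hU)), ← Spec.map_comp_assoc,
    strZero_comp_zeroHom]

end

end Groth.Agent.Lib.Helper42
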