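import Groth.Agent.Lib.Helper42.ProjBaseLoc
import Groth.Agent.Lib.Helper42.RelProjMap
import Groth.Prelude.Def_RelProj
import Mathlib.AlgebraicGeometry.RelativeGluing

/-!
# Glueing the relative homogeneous spectrum
-/

set_option autoImplicit false
universe u

open CategoryTheory CategoryTheory.Limits AlgebraicGeometry HomogeneousLocalization TopologicalSpace Opposite
open scoped HomogeneousIdeal

namespace Groth.Agent.Lib.Helper42

namespace RelProjGlue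

variable {Y : Scheme.{u}} (𝒮 : RelProj.QCGrAlg Y)

/-- The structure morphism `Proj 𝒮(U) ⟶ U`. -/
noncomputable def toOpen (U : Y.Opens) (hU : IsAffineOpen U) : Proj (𝒮.deg U hU) ⟶ (U : Scheme.{u}) :=
  Proj.toSpecZero (𝒮.deg U hU) ≫ Spec.map (𝒮.strZero U hU) ≫ hU.isoSpec.inv

theorem toOpen_ι (U : Y.Opens) (hU : IsAffineOpen U) :
    toOpen 𝒮 U hU ≫ U.ι =
      Proj.toSpecZero (𝒮.deg U hU) ≫ Spec.map (𝒮.strZero U hU) ≫ hU.fromSpec := by
  simp only [toOpen, Category.assoc]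
  rfl

theorem res_refl (U : Y.Opens) (hU : IsAffineOpen U) :
    𝒮.res hU hU le_rfl = GradedRingHom.id (𝒮.deg U hU) := by
  ext x
  have : (homOfLE (le_refl U)).op = 𝟙 (op U) := rfl
  rw [RelProj.QCGrAlg.res_apply, this, 𝒮.presheaf.map_id]
  rfl

theorem res_trans {U V W : Y.Opens} (hU : IsAffineOpen U) (hV : IsAffineOpen V) (hW : IsAffineOpen W)
    (i : V ≤ U) (j : W ≤ V) :
    𝒮.res hU hW (j.trans i) = (𝒮.res hV hW j).comp (𝒮.res hU hV i) := by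
  ext x
  have : (homOfLE (j.trans i)).op = (homOfLE i).op ≫ (homOfLE j).op := rfl
  rw [RelProj.QCGrAlg.res_apply, this, 𝒮.presheaf.map_comp]
  rfl

theorem strZero_res {U V : Y.Opens} (hU : IsAffineOpen U) (hV : IsAffineOpen V) (i : V ≤ U) :
    𝒮.strZero U hU ≫ CommRingCat.ofHom (zeroHom (𝒮.res hU hV i)) =
      Y.presheaf.map (homOfLE i).op ≫ 𝒮.strZero V hV := by
  ext r
  exact congrArg (fun φ => φ.hom r) (𝒮.str.naturality (homOfLE i).op).symm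

theorem map_res_toOpen {U V : Y.Opens} (hU : IsAffineOpen U) (hV : IsAffineOpen V) (i : V ≤ U)
    (hirr : (𝒮.deg V hV)₊ ≤ ((𝒮.deg U hU)₊).map (𝒮.res hU hV i)) :
    Proj.map (𝒮.res hU hV i) hirr ≫ toOpen 𝒮 U hU = toOpen 𝒮 V hV ≫ Y.homOfLE i := by
  rw [← cancel_mono U.ι]
  simp only [Category.assoc, toOpen_ι, Scheme.homOfLE_ι]
  rw [reassoc_of% (map_toSpecZero (𝒮.res hU hV i) hirr), ← Spec.map_comp_assoc, strZero_res,
    Spec.map_comp_assoc, hU.map_fromSpec hV (homOfLE i).op]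

theorem isPullback_basicOpen (U : Y.Opens) (hU : IsAffineOpen U) (r : Γ(Y, U)) :
    IsPullback (Proj.map (𝒮.res hU (hU.basicOpen r) (Y.basicOpen_le r)) (𝒮.irrelevant_le_map U hU r))
      (toOpen 𝒮 (Y.basicOpen r) (hU.basicOpen r)) (toOpen 𝒮 U hU)
      (Y.homOfLE (Y.basicOpen_le r)) := by
  let _ : Algebra (𝒮.presheaf.obj (op U)) (𝒮.presheaf.obj (op (Y.basicOpen r))) :=
    (𝒮.presheaf.map (homOfLE (Y.basicOpen_le r)).op).hom.toAlgebra
  have hloc : IsLocalization.Away ((𝒮.str.app (op U)).hom r)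
      (𝒮.presheaf.obj (op (Y.basicOpen r))) := 𝒮.isQC U hU r
  have hψ : ∀ a, algebraMap (𝒮.presheaf.obj (op U)) (𝒮.presheaf.obj (op (Y.basicOpen r))) a =
      𝒮.res hU (hU.basicOpen r) (Y.basicOpen_le r) a := fun _ => rfl
  have := isOpenImmersion_projMap _ (𝒮.irrelevant_le_map U hU r) hψ (𝒮.str_mem U hU r)
  refine (IsOpenImmersion.isPullback _ _ _ _ ?_ ?_).flip
  · exact map_res_toOpen 𝒮 hU (hU.basicOpen r) (Y.basicOpen_le r) _
  · apply Opens.ext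
    rw [Scheme.Hom.coe_opensRange, range_projMap _ _ hψ (𝒮.str_mem U hU r)]
    rw [Scheme.opensRange_homOfLE, ← Scheme.Hom.comp_preimage, toOpen_ι, Scheme.Hom.comp_preimage,
      Scheme.Hom.comp_preimage, hU.fromSpec_preimage_basicOpen]
    rfl

/-- The index type: affine opens of `Y`. -/
structure GIdx (𝒮 : RelProj.QCGrAlg Y) : Type u where
  /-- the open -/
  U : Y.Opens
  /-- it is affine -/
  hU : IsAffineOpen U

variable {𝒮}

/-- `V ⊆ U` and `Proj 𝒮(V) = Proj 𝒮(U) ×_U V`. -/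
def Good (V U : GIdx 𝒮) : Prop :=
  ∃ (hle : V.U ≤ U.U) (hirr : (𝒮.deg V.U V.hU)₊ ≤ ((𝒮.deg U.U U.hU)₊).map (𝒮.res U.hU V.hU hle)),
    IsPullback (Proj.map (𝒮.res U.hU V.hU hle) hirr) (toOpen 𝒮 V.U V.hU) (toOpen 𝒮 U.U U.hU)
      (Y.homOfLE hle)

theorem Good.le {V U : GIdx 𝒮} (h : Good V U) : V.U ≤ U.U := h.fst

theorem Good.hirr {V U : GIdx 𝒮} (h : Good V U) :
    (𝒮.deg V.U V.hU)₊ ≤ ((𝒮.deg U.U U.hU)₊).map (𝒮.res U.hU V.hU h.le) := h.snd.fst

theorem Good.isPullback {V U : GIdx 𝒮} (h : Good V U) :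
    IsPullback (Proj.map (𝒮.res U.hU V.hU h.le) h.hirr) (toOpen 𝒮 V.U V.hU) (toOpen 𝒮 U.U U.hU)
      (Y.homOfLE h.le) := h.snd.snd

theorem good_refl (U : GIdx 𝒮) : Good U U := by
  have hirr : (𝒮.deg U.U U.hU)₊ ≤ ((𝒮.deg U.U U.hU)₊).map (𝒮.res U.hU U.hU le_rfl) := by
    rw [res_refl]; simp
  refine ⟨le_rfl, hirr, ?_⟩
  have h1 : Proj.map (𝒮.res U.hU U.hU le_rfl) hirr = 𝟙 _ :=
    (proj_map_congr (res_refl 𝒮 U.U U.hU) hirr (by simp)).trans (Proj.map_id)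
  have h2 : Y.homOfLE (le_refl U.U) = 𝟙 _ := Y.homOfLE_rfl _
  rw [h1, h2]
  exact IsPullback.of_horiz_isIso ⟨by simp⟩

theorem good_trans {W V U : GIdx 𝒮} (h₁ : Good W V) (h₂ : Good V U) : Good W U := by
  have hirr : (𝒮.deg W.U W.hU)₊ ≤ ((𝒮.deg U.U U.hU)₊).map (𝒮.res U.hU W.hU (h₁.le.trans h₂.le)) := by
    rw [res_trans 𝒮 U.hU V.hU W.hU h₂.le h₁.le]
    exact HomogeneousIdeal.irrelevant_le_map_comp h₂.hirr h₁.hirr
  refine ⟨h₁.le.trans h₂.le, hirr, ?_⟩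
  have h1 : Proj.map (𝒮.res U.hU W.hU (h₁.le.trans h₂.le)) hirr =
      Proj.map (𝒮.res V.hU W.hU h₁.le) h₁.hirr ≫ Proj.map (𝒮.res U.hU V.hU h₂.le) h₂.hirr :=
    (proj_map_congr (res_trans 𝒮 U.hU V.hU W.hU h₂.le h₁.le) hirr
      (HomogeneousIdeal.irrelevant_le_map_comp h₂.hirr h₁.hirr)).trans (Proj.map_comp _ _ _ _)
  have h2 : Y.homOfLE (h₁.le.trans h₂.le) = Y.homOfLE h₁.le ≫ Y.homOfLE h₂.le :=
    (Y.homOfLE_homOfLE _ _).symm
  rw [h1, h2]
  exact h₁.isPullback.paste_horiz h₂.isPullback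

theorem good_basicOpen (k : GIdx 𝒮) (r : Γ(Y, k.U)) :
    Good (⟨Y.basicOpen r, k.hU.basicOpen r⟩ : GIdx 𝒮) k :=
  ⟨Y.basicOpen_le r, 𝒮.irrelevant_le_map k.U k.hU r, isPullback_basicOpen 𝒮 k.U k.hU r⟩

instance : Preorder (GIdx 𝒮) where
  le V U := Good V U
  le_refl := good_refl
  le_trans _ _ _ := good_trans

variable (𝒮) in
/-- The cover of `Y` by its affine opens, indexed by `GIdx 𝒮`. -/
noncomputable abbrev gCover : Y.OpenCover where
  I₀ := GIdx 𝒮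
  X k := k.U
  f k := k.U.ι
  mem₀ := by
    rw [Scheme.presieve₀_mem_precoverage_iff]
    refine ⟨fun x ↦ ?_, inferInstance⟩
    obtain ⟨U, hxU⟩ := TopologicalSpace.Opens.mem_iSup.mp
      ((iSup_affineOpens_eq_top Y).ge (Set.mem_univ x))
    exact ⟨⟨U.1, U.2⟩, ⟨x, hxU⟩, rfl⟩

set_option backward.isDefEq.respectTransparency false in
noncomputable instance : (gCover 𝒮).LocallyDirected where
  trans {V U} f := Y.homOfLE (Good.le (V := V) (U := U) f.le)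
  trans_id _ := Y.homOfLE_rfl _
  trans_comp _ _ := (Y.homOfLE_homOfLE _ _).symm
  w _ := Y.homOfLE_ι _
  directed {U V} x := by
    let a := (pullback.fst _ _ ≫ U.U.ι) x
    have haU : a ∈ U.U := (pullback.fst U.U.ι V.U.ι x).2
    have haV : a ∈ V.U := by unfold a; rw [pullback.condition]; exact (pullback.snd U.U.ι V.U.ι x).2
    obtain ⟨f, g, e, hxf⟩ := exists_basicOpen_le_affine_inter U.hU V.hU _ ⟨haU, haV⟩
    have hV : Good (⟨Y.basicOpen f, U.hU.basicOpen f⟩ : GIdx 𝒮) V := by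
      have h := good_basicOpen V g
      have e' : (⟨Y.basicOpen g, V.hU.basicOpen g⟩ : GIdx 𝒮) = ⟨Y.basicOpen f, U.hU.basicOpen f⟩ := by
        congr 1; exact e.symm
      rwa [e'] at h
    refine ⟨⟨Y.basicOpen f, U.hU.basicOpen f⟩, homOfLE (good_basicOpen U f), homOfLE hV,
      ⟨a, hxf⟩, ?_⟩
    apply (pullback.fst _ _ ≫ U.U.ι).isOpenEmbedding.injective
    dsimp
    change (pullback.lift _ _ _ ≫ pullback.fst _ _ ≫ U.U.ι) _ = _
    simp only [pullback.lift_fst_assoc, Scheme.homOfLE_ι, Scheme.Opens.ι_apply]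
    rfl

variable (𝒮) in
/-- The diagram of the `Proj 𝒮(U)`. -/
noncomputable def projFunctor : GIdx 𝒮 ⥤ Scheme.{u} where
  obj k := Proj (𝒮.deg k.U k.hU)
  map {V U} f := Proj.map (𝒮.res U.hU V.hU (Good.le f.le)) (Good.hirr f.le)
  map_id U := (proj_map_congr (res_refl 𝒮 U.U U.hU) _ (by simp)).trans Proj.map_id
  map_comp {W V U} f g :=
    (proj_map_congr (res_trans 𝒮 U.hU V.hU W.hU (Good.le g.le) (Good.le f.le)) _
      (HomogeneousIdeal.irrelevant_le_map_comp (Good.hirr g.le) (Good.hirr f.le))).trans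
      (Proj.map_comp _ _ _ _)

variable (𝒮) in
/-- The relative glueing datum of the `Proj 𝒮(U) ⟶ U`. -/
noncomputable def gluingData : (gCover 𝒮).RelativeGluingData where
  functor := projFunctor 𝒮
  natTrans :=
    { app := fun k => toOpen 𝒮 k.U k.hU
      naturality := fun _ _ f => (Good.isPullback f.le).w }
  equifibered := fun _ _ f => Good.isPullback f.le

instance : ((gluingData 𝒮).functor ⋙ Scheme.forget).IsLocallyDirected :=
  Scheme.Cover.RelativeGluingData.instIsLocallyDirectedI₀CompFunctorForgetOfIsThin ..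

variable (𝒮) in
/-- The inclusion of `Proj 𝒮(U)` into the glued scheme. -/
noncomputable def ιU (U : Y.Opens) (hU : IsAffineOpen U) :
    Proj (𝒮.deg U hU) ⟶ (gluingData 𝒮).glued :=
  colimit.ι (gluingData 𝒮).functor ⟨U, hU⟩

instance (U : Y.Opens) (hU : IsAffineOpen U) : IsOpenImmersion (ιU 𝒮 U hU) :=
  inferInstanceAs (IsOpenImmersion (colimit.ι (gluingData 𝒮).functor ⟨U, hU⟩))

variable (𝒮) in
theorem ιU_toBase (U : Y.Opens) (hU : IsAffineOpen U) :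
    ιU 𝒮 U hU ≫ (gluingData 𝒮).toBase = toOpen 𝒮 U hU ≫ U.ι :=
  (gluingData 𝒮).ι_toBase ⟨U, hU⟩

variable (𝒮) in
theorem map_ιU (U : Y.Opens) (hU : IsAffineOpen U) (r : Γ(Y, U)) :
    Proj.map (𝒮.res hU (hU.basicOpen r) (Y.basicOpen_le r)) (𝒮.irrelevant_le_map U hU r) ≫
      ιU 𝒮 U hU = ιU 𝒮 (Y.basicOpen r) (hU.basicOpen r) :=
  colimit.w (gluingData 𝒮).functor (homOfLE (good_basicOpen (𝒮 := 𝒮) ⟨U, hU⟩ r))

variable (𝒮) in
theorem range_preimage_ι (U : Y.Opens) (hU : IsAffineOpen U) :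
    Set.range ((gluingData 𝒮).toBase ⁻¹ᵁ U).ι = Set.range (ιU 𝒮 U hU) := by
  have h := (gluingData 𝒮).toBase_preimage_eq_opensRange_ι ⟨U, hU⟩
  have h2 : ((gCover 𝒮).f ⟨U, hU⟩).opensRange = U := Scheme.Opens.opensRange_ι U
  rw [h2] at h
  rw [Scheme.Opens.range_ι, h]
  rfl

variable (𝒮) in
/-- The chart of the glued scheme over an affine open. -/
noncomputable def chart (U : Y.Opens) (hU : IsAffineOpen U) :
    (((gluingData 𝒮).toBase ⁻¹ᵁ U : (gluingData 𝒮).glued.Opens) : Scheme.{u}) ≅ Proj (𝒮.deg U hU) :=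
  IsOpenImmersion.isoOfRangeEq ((gluingData 𝒮).toBase ⁻¹ᵁ U).ι (ιU 𝒮 U hU) (range_preimage_ι 𝒮 U hU)

variable (𝒮) in
theorem chart_hom_ι (U : Y.Opens) (hU : IsAffineOpen U) :
    (chart 𝒮 U hU).hom ≫ ιU 𝒮 U hU = ((gluingData 𝒮).toBase ⁻¹ᵁ U).ι :=
  IsOpenImmersion.isoOfRangeEq_hom_fac _ _ _

variable (𝒮) in
/-- The glued scheme is the relative homogeneous spectrum. -/
theorem isRelProj : RelProj.IsRelProj 𝒮 (gluingData 𝒮).toBase (chart 𝒮) := by
  constructor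
  · intro U hU
    rw [← chart_hom_ι 𝒮 U hU, Category.assoc, ιU_toBase, toOpen_ι]
  · intro U hU r
    rw [← cancel_mono (ιU 𝒮 U hU), Category.assoc, chart_hom_ι, Scheme.homOfLE_ι, Category.assoc,
      map_ιU, chart_hom_ι]

end RelProjGlue

end Groth.Agent.Lib.Helper42
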