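import Groth.Agent.Lib.Helper30.FreeTerminal
import Groth.Agent.Lib.Helper30.ModEpi

/-!
# Finite type sheaves of modules on a topological space: local generation by sections

`isFiniteType_iff`: a sheaf of modules `M` over a sheaf of rings on a topological space is of finite
type (Mathlib's `SheafOfModules.IsFiniteType`) iff every point has an open neighbourhood `U` with
finitely many sections over `U` generating `M` locally (`IsLocGen`).
Also, on a small site with a terminal object: `GenBy`, `epi_freeDesc_of_genBy`,
`genBy_of_epi_freeDesc`, `generatingSectionsOfGenBy`, `genBy_of_generatingSections`.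
-/

set_option autoImplicit false
universe u
open CategoryTheory Limits Opposite

namespace Groth.Agent.Lib.Helper42
namespace FTLocal

open Groth.Agent.Lib.Helper30 Groth.Agent.Lib.Helper30.FreeTerminal SheafOfModules

noncomputable section

section Basic

variable {D : Type u} [SmallCategory D] {K : GrothendieckTopology D} {R : Sheaf K RingCat.{u}}

/-- restriction of sections, with the plain type -/
def rs (N : SheafOfModules.{u} R) {V W : D} (g : W ⟶ V) : N.val.obj (op V) →+ N.val.obj (op W) where
  toFun m := N.val.map g.op m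
  map_zero' := map_zero (N.val.map g.op).hom
  map_add' := map_add (N.val.map g.op).hom

/-- restriction of scalars -/
def rr (R : Sheaf K RingCat.{u}) {V W : D} (g : W ⟶ V) : R.obj.obj (op V) →+* R.obj.obj (op W) :=
  (R.obj.map g.op).hom

lemma rs_comp (N : SheafOfModules.{u} R) {V W W' : D} (g : W ⟶ V) (h : W' ⟶ W)
    (m : N.val.obj (op V)) : rs N h (rs N g m) = rs N (h ≫ g) m :=
  (PresheafOfModules.map_comp_apply N.val g.op h.op m).symm

lemma rs_smul (N : SheafOfModules.{u} R) {V W : D} (g : W ⟶ V) (r : R.obj.obj (op V))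
    (m : N.val.obj (op V)) : rs N g (r • m) = rr R g r • rs N g m :=
  PresheafOfModules.map_smul N.val g.op r m

lemma rs_app {N N' : SheafOfModules.{u} R} (φ : N ⟶ N') {V W : D} (g : W ⟶ V)
    (m : N.val.obj (op V)) : rs N' g (φ.val.app (op V) m) = φ.val.app (op W) (rs N g m) :=
  (PresheafOfModules.naturality_apply φ.val g.op m).symm

end Basic

section Terminal

variable {D : Type u} [SmallCategory D] {K : GrothendieckTopology D} {R : Sheaf K RingCat.{u}}
  {T : D} (hT : IsTerminal T)

/-- `n` is a combination of the restrictions of the `x i` -/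
def IsComb (N : SheafOfModules.{u} R) {I : Type u} [Fintype I] (x : I → N.val.obj (op T)) (W : D)
    (n : N.val.obj (op W)) : Prop :=
  ∃ c : I → R.obj.obj (op W), n = ∑ i, c i • rs N (hT.from W) (x i)

lemma IsComb.map {N : SheafOfModules.{u} R} {I : Type u} [Fintype I] {x : I → N.val.obj (op T)}
    {W W' : D} {n : N.val.obj (op W)} (h : IsComb hT N x W n) (g : W' ⟶ W) :
    IsComb hT N x W' (rs N g n) := by
  obtain ⟨c, rfl⟩ := h
  refine ⟨fun i => rr R g (c i), ?_⟩
  rw [map_sum]
  refine Finset.sum_congr rfl (fun i _ => ?_)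
  rw [rs_smul, rs_comp, hT.hom_ext (g ≫ hT.from W) (hT.from W')]

/-- the sieve of arrows over which `m` becomes a combination of the restrictions of the `x i` -/
def genSieve (N : SheafOfModules.{u} R) {I : Type u} [Fintype I] (x : I → N.val.obj (op T)) {V : D}
    (m : N.val.obj (op V)) : Sieve V where
  arrows W g := IsComb hT N x W (rs N g m)
  downward_closed := by
    intro W W' g hg h
    have := hg.map hT h
    rwa [rs_comp] at this

/-- the `x i` generate `N` -/
def GenBy (N : SheafOfModules.{u} R) {I : Type u} [Fintype I] (x : I → N.val.obj (op T)) : Prop :=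
  ∀ (V : D) (m : N.val.obj (op V)), genSieve hT N x m ∈ K V

lemma freeDesc_eF' (N : SheafOfModules.{u} R) {I : Type u} (x : I → N.val.obj (op T)) (i : I)
    (W : D) :
    (freeDesc hT N x).val.app (op W) (eF i W) = rs N (hT.from W) (x i) := by
  have h1 : eF (R := R) i W = rs (free I) (hT.from W) (eF i T) := (eF_map (R := R) i (hT.from W)).symm
  rw [h1, ← rs_app, freeDesc_eF]

lemma freeDesc_comb (N : SheafOfModules.{u} R) {I : Type u} [Fintype I]
    (x : I → N.val.obj (op T)) (W : D) (c : I → R.obj.obj (op W)) :
    (freeDesc hT N x).val.app (op W) (∑ i, c i • eF i W) =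
      ∑ i, c i • rs N (hT.from W) (x i) := by
  rw [map_sum]
  refine Finset.sum_congr rfl (fun i _ => ?_)
  rw [map_smul, freeDesc_eF']

lemma epi_freeDesc_of_genBy (N : SheafOfModules.{u} R) {I : Type u} [Fintype I]
    (x : I → N.val.obj (op T)) (h : GenBy hT N x) : Epi (freeDesc hT N x) := by
  apply ModEpi.epi_of_isLocallySurjective
  constructor
  intro V m
  refine K.superset_covering ?_ (h V m)
  intro W g hg
  obtain ⟨c, hc⟩ := hg
  exact ⟨∑ i, c i • eF i W, (freeDesc_comb hT N x W c).trans hc.symm⟩

lemma genBy_of_epi_freeDesc (N : SheafOfModules.{u} R) {I : Type u} [Fintype I] [DecidableEq I]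
    (x : I → N.val.obj (op T)) [Epi (freeDesc hT N x)] : GenBy hT N x := by
  intro V m
  have h := (ModEpi.isLocallySurjective_of_epi (freeDesc hT N x)).imageSieve_mem m
  refine K.superset_covering ?_ h
  intro W g hg
  obtain ⟨t, ht⟩ := hg
  refine ⟨fun j => (pr j).val.app (op W) t, ?_⟩
  have h1 := coords (R := R) W t
  have h2 := freeDesc_comb hT N x W (fun j => (pr j).val.app (op W) t)
  rw [← h1] at h2
  exact ht.symm.trans h2

lemma secOf_val_eq (N : SheafOfModules.{u} R) (s : N.sections) :
    secOf hT N (s.val (op T)) = s := by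
  apply PresheafOfModules.sections_ext
  intro V
  exact s.property (hT.from V.unop).op

lemma π_eq_freeDesc (N : SheafOfModules.{u} R) (σ : N.GeneratingSections) :
    σ.π = freeDesc hT N (fun i => (σ.s i).val (op T)) := by
  unfold freeDesc GeneratingSections.π
  congr 1
  funext i
  exact (secOf_val_eq hT N (σ.s i)).symm

/-- generating sections from generating elements over the terminal object -/
def generatingSectionsOfGenBy (N : SheafOfModules.{u} R) {I : Type u} [Fintype I]
    (x : I → N.val.obj (op T)) (h : GenBy hT N x) : N.GeneratingSections where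
  I := I
  s i := secOf hT N (x i)
  epi := epi_freeDesc_of_genBy hT N x h

lemma genBy_of_generatingSections (N : SheafOfModules.{u} R) (σ : N.GeneratingSections)
    [Fintype σ.I] : GenBy hT N (fun i => (σ.s i).val (op T)) := by
  classical
  have : Epi (freeDesc hT N (fun i => (σ.s i).val (op T))) := by
    rw [← π_eq_freeDesc]
    exact σ.epi
  exact genBy_of_epi_freeDesc hT N _

end Terminal

section Top

open TopologicalSpace

variable {X : TopCat.{u}} {R : Sheaf (Opens.grothendieckTopology X) RingCat.{u}}

/-- the sections `s i` over `U` generate `M` over `U`, locally -/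
def IsLocGen (M : SheafOfModules.{u} R) (U : Opens X) {I : Type u} [Fintype I]
    (s : I → M.val.obj (op U)) : Prop :=
  ∀ (V : Opens X) (hV : V ≤ U) (m : M.val.obj (op V)) (y : X), y ∈ V →
    ∃ (W : Opens X) (hW : W ≤ V), y ∈ W ∧
      ∃ c : I → R.obj.obj (op W),
        rs M (homOfLE hW) m = ∑ i, c i • rs M (homOfLE (hW.trans hV)) (s i)

lemma genBy_of_isLocGen (M : SheafOfModules.{u} R) (U : Opens X) {I : Type u} [Fintype I]
    (s : I → M.val.obj (op U)) (h : IsLocGen M U s) :
    GenBy (Over.mkIdTerminal (X := U)) (M.over U) s := by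
  intro V m
  rw [GrothendieckTopology.mem_over_iff]
  intro y hy
  obtain ⟨W, hW, hyW, c, hc⟩ := h V.left (leOfHom V.hom) m y hy
  refine ⟨W, homOfLE hW, ?_, hyW⟩
  rw [Sieve.overEquiv_iff]
  exact ⟨c, hc⟩

lemma isLocGen_of_genBy (M : SheafOfModules.{u} R) (U : Opens X) {I : Type u} [Fintype I]
    (s : I → M.val.obj (op U)) (h : GenBy (Over.mkIdTerminal (X := U)) (M.over U) s) :
    IsLocGen M U s := by
  intro V hV m y hy
  have h1 := h (Over.mk (homOfLE hV)) m
  rw [GrothendieckTopology.mem_over_iff] at h1
  obtain ⟨W, g, hg, hyW⟩ := h1 y hy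
  rw [Sieve.overEquiv_iff] at hg
  obtain ⟨c, hc⟩ := hg
  exact ⟨W, leOfHom g, hyW, c, hc⟩

/-- A sheaf of modules on a topological space is of finite type iff it is locally generated by
finitely many sections. -/
theorem isFiniteType_iff (M : SheafOfModules.{u} R) :
    SheafOfModules.IsFiniteType.{u} M ↔
      ∀ y : X, ∃ (U : Opens X) (_ : y ∈ U) (I : Type u) (_ : Fintype I) (s : I → M.val.obj (op U)),
        IsLocGen M U s := by
  constructor
  · intro hM y
    obtain ⟨σ, hσ⟩ := hM.exists_localGeneratorsData
    have hcov := (Opens.coversTop_iff _ _).mp σ.coversTop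
    obtain ⟨i, hi⟩ : ∃ i, y ∈ σ.X i := by
      have : y ∈ (⨆ i, σ.X i : Opens X) := by rw [hcov.iSup_eq_top]; trivial
      simpa using this
    have hfin : Finite (σ.generators i).I := (hσ.isFiniteType i).finite
    let _ : Fintype (σ.generators i).I := Fintype.ofFinite _
    exact ⟨σ.X i, hi, (σ.generators i).I, inferInstance, _,
      isLocGen_of_genBy M (σ.X i) _
        (genBy_of_generatingSections (Over.mkIdTerminal (X := σ.X i)) (M.over (σ.X i))
          (σ.generators i))⟩
  · intro h
    choose U hU I hI s hs using h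
    let σ : LocalGeneratorsData.{u} M :=
      { I := X
        X := U
        coversTop := (Opens.coversTop_iff _ _).mpr (by
          rw [IsOpenCover, eq_top_iff]
          intro y _
          exact Opens.mem_iSup.mpr ⟨y, hU y⟩)
        generators := fun y => generatingSectionsOfGenBy (Over.mkIdTerminal (X := U y))
          (M.over (U y)) (s y) (genBy_of_isLocGen M (U y) (s y) (hs y)) }
    have hσ : σ.IsFiniteType := { isFiniteType := fun y => ⟨(inferInstance : Finite (I y))⟩ }
    exact SheafOfModules.IsFiniteType.mk (M := M) ⟨σ, hσ⟩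

end Top

end

end FTLocal
end Groth.Agent.Lib.Helper42
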