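import Groth.Agent.S12450
import Groth.Prelude.Def_ModSite2
import Groth.Agent.Lib.Helper42.FTLocal

/-!
# Stalks of sheaves of modules commute with colimits

`stalkFunctor p O : Mod O ⥤ Ab` (underlying abelian sheaf, then Mathlib's fibre functor) preserves
colimits.  Consequences on a topological space: a section of a filtered colimit comes locally from
a stage (`exists_local_rep_of_filtered`), a section of a stage dying in the colimit dies locally at
a later stage (`exists_local_map_eq_zero_of_filtered`), and a section of a coproduct is locally a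
finite sum of sections of the summands (`exists_local_finset_sum`).
-/

set_option autoImplicit false
universe u
open CategoryTheory CategoryTheory.Limits TopologicalSpace Opposite

namespace Groth.Agent.Lib.Helper42
namespace StalkColim

open Groth.Agent.Lib.Helper42.FTLocal ModSite

noncomputable section

section Site

variable {C : Type u} [SmallCategory C] {J : GrothendieckTopology C}
  (p : GrothendieckTopology.Point.{u} J) (O : Sheaf J CommRingCat.{u})

/-- the stalk at a point of the site, as a functor to abelian groups -/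
def stalkFunctor : ModSite.Mod O ⥤ AddCommGrpCat.{u} :=
  SheafOfModules.toSheaf (ModSite.ringSh O) ⋙ p.sheafFiber

instance preservesColimits_stalkFunctor : PreservesColimitsOfSize.{u, u} (stalkFunctor p O) := by
  have := Groth.Agent.S12450.result O
  unfold stalkFunctor
  infer_instance

variable {O}

/-- every element of the stalk of a filtered colimit comes from a stage -/
lemma exists_rep_of_filtered {I : Type u} [SmallCategory I] [IsFiltered I] (D : I ⥤ ModSite.Mod O)
    (c : Cocone D) (hc : IsColimit c) (q : ModSite.stalkAb p c.pt) :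
    ∃ (i : I) (q' : ModSite.stalkAb p (D.obj i)),
      ((stalkFunctor p O).map (c.ι.app i)).hom q' = q :=
  Concrete.isColimit_exists_rep (D ⋙ stalkFunctor p O)
    (isColimitOfPreserves (stalkFunctor p O) hc) q

/-- an element of the stalk of a stage dying in the stalk of the filtered colimit dies at a later
stage -/
lemma exists_map_eq_zero_of_filtered {I : Type u} [SmallCategory I] [IsFiltered I]
    (D : I ⥤ ModSite.Mod O) (c : Cocone D) (hc : IsColimit c) (i : I)
    (q : ModSite.stalkAb p (D.obj i)) (hq : ((stalkFunctor p O).map (c.ι.app i)).hom q = 0) :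
    ∃ (j : I) (f : i ⟶ j), ((stalkFunctor p O).map (D.map f)).hom q = 0 := by
  have h : ((stalkFunctor p O).mapCocone c).ι.app i q =
      ((stalkFunctor p O).mapCocone c).ι.app i (0 : ModSite.stalkAb p (D.obj i)) := by
    refine hq.trans ?_
    exact (map_zero ((stalkFunctor p O).map (c.ι.app i)).hom).symm
  obtain ⟨k, f, g, hfg⟩ := Concrete.isColimit_exists_of_rep_eq (D ⋙ stalkFunctor p O)
    (isColimitOfPreserves (stalkFunctor p O) hc) q 0 h
  refine ⟨k, f, ?_⟩
  refine hfg.trans ?_
  exact map_zero ((stalkFunctor p O).map (D.map g)).hom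

end Site

section Ab

/-- every element of a coproduct of abelian groups is a finite sum of elements of the summands -/
lemma exists_finset_sum_of_isColimit_cofan {I : Type u} (A : I → AddCommGrpCat.{u}) (c : Cofan A)
    (hc : IsColimit c) (x : c.pt) :
    ∃ (S : Finset I) (a : ∀ i, A i), x = ∑ i ∈ S, (c.inj i).hom (a i) := by
  classical
  let φ : (DirectSum I fun i => A i) →+ c.pt := DirectSum.toAddMonoid (fun i => (c.inj i).hom)
  let H : AddSubgroup c.pt := φ.range
  let q : c.pt →+ c.pt ⧸ H := QuotientAddGroup.mk' H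
  have hq : AddCommGrpCat.ofHom q = 0 := by
    refine Cofan.IsColimit.hom_ext hc _ _ (fun i => ?_)
    rw [comp_zero]
    ext a
    change q ((c.inj i).hom a) = 0
    rw [QuotientAddGroup.mk'_apply, QuotientAddGroup.eq_zero_iff]
    exact ⟨DirectSum.of (fun i => A i) i a,
      DirectSum.toAddMonoid_of (fun i => (c.inj i).hom) i a⟩
  have hx : x ∈ H := by
    rw [← QuotientAddGroup.eq_zero_iff, ← QuotientAddGroup.mk'_apply]
    change (AddCommGrpCat.ofHom q).hom x = 0
    rw [hq]
    rfl
  obtain ⟨d, rfl⟩ := hx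
  refine ⟨d.support, fun i => d i, ?_⟩
  change DFinsupp.liftAddHom _ d = _
  rw [DFinsupp.liftAddHom_apply, DFinsupp.sumAddHom_apply]
  rfl

end Ab

section Top

variable {X : TopCat.{u}} {O : TopCat.Sheaf CommRingCat.{u} X} (x : X)

/-- two sections agreeing locally are equal -/
lemma eq_of_locally {R : Sheaf (Opens.grothendieckTopology X) RingCat.{u}}
    (N : SheafOfModules.{u} R) {U : Opens X} (s t : N.val.obj (op U))
    (h : ∀ x ∈ U, ∃ (W : Opens X) (hW : W ≤ U), x ∈ W ∧
      rs N (homOfLE hW) s = rs N (homOfLE hW) t) : s = t := by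
  choose W hW hxW hst using h
  refine TopCat.Sheaf.eq_of_locally_eq' ⟨N.val.presheaf, N.isSheaf⟩
    (fun x : U => W x.1 x.2) U (fun x => homOfLE (hW x.1 x.2)) ?_ s t (fun x => hst x.1 x.2)
  intro y hy
  exact Opens.mem_iSup.mpr ⟨⟨y, hy⟩, hxW y hy⟩

/-- every element of the stalk is a germ -/
lemma germ_surjective (F : ModSite.Mod O)
    (q : ModSite.stalkAb (Opens.pointGrothendieckTopology x) F) :
    ∃ (Y : Opens X) (hx : x ∈ Y) (t : F.val.obj (op Y)),
      ModSite.germ (Opens.pointGrothendieckTopology x) F Y ⟨⟨hx⟩⟩ t = q := by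
  obtain ⟨Y, y, t, rfl⟩ := (Opens.pointGrothendieckTopology x).toPresheafFiber_jointly_surjective
    (P := (ModSite.toAb F).obj) q
  exact ⟨Y, y.down.down, t, rfl⟩

lemma germ_res (F : ModSite.Mod O) {U W : Opens X} (h : W ≤ U) (hx : x ∈ W)
    (s : F.val.obj (op U)) :
    ModSite.germ (Opens.pointGrothendieckTopology x) F W ⟨⟨hx⟩⟩ (rs F (homOfLE h) s) =
      ModSite.germ (Opens.pointGrothendieckTopology x) F U ⟨⟨h hx⟩⟩ s :=
  (Opens.pointGrothendieckTopology x).toPresheafFiber_w_apply (homOfLE h) ⟨⟨hx⟩⟩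
    (ModSite.toAb F).obj s

lemma germ_map {F G : ModSite.Mod O} (φ : F ⟶ G) {U : Opens X} (hx : x ∈ U)
    (s : F.val.obj (op U)) :
    ((stalkFunctor (Opens.pointGrothendieckTopology x) O).map φ).hom
        (ModSite.germ (Opens.pointGrothendieckTopology x) F U ⟨⟨hx⟩⟩ s) =
      ModSite.germ (Opens.pointGrothendieckTopology x) G U ⟨⟨hx⟩⟩ (φ.val.app (op U) s) :=
  (Opens.pointGrothendieckTopology x).toPresheafFiber_naturality_apply
    ((SheafOfModules.toSheaf (ModSite.ringSh O)).map φ).hom U ⟨⟨hx⟩⟩ s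

/-- sections with the same germ agree on a neighbourhood -/
lemma exists_res_eq_of_germ_eq (F : ModSite.Mod O) {U : Opens X} (hx : x ∈ U)
    (s s' : F.val.obj (op U))
    (h : ModSite.germ (Opens.pointGrothendieckTopology x) F U ⟨⟨hx⟩⟩ s =
      ModSite.germ (Opens.pointGrothendieckTopology x) F U ⟨⟨hx⟩⟩ s') :
    ∃ (W : Opens X) (hW : W ≤ U), x ∈ W ∧ rs F (homOfLE hW) s = rs F (homOfLE hW) s' := by
  obtain ⟨W, f, w, -, hW⟩ := ((Opens.pointGrothendieckTopology x).toPresheafFiber_eq_iff'
    (P := (ModSite.toAb F).obj) U ⟨⟨hx⟩⟩ _ _).mp h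
  exact ⟨W, leOfHom f, w.down.down, hW⟩

/-- a section whose germ is the image of an element of the stalk lifts locally -/
lemma exists_local_preimage_of_stalk {G F : ModSite.Mod O} (φ : G ⟶ F) {U₀ : Opens X}
    (hxU : x ∈ U₀) (s : F.val.obj (op U₀))
    (q : ModSite.stalkAb (Opens.pointGrothendieckTopology x) G)
    (hq : ((stalkFunctor (Opens.pointGrothendieckTopology x) O).map φ).hom q =
      ModSite.germ (Opens.pointGrothendieckTopology x) F U₀ ⟨⟨hxU⟩⟩ s) :
    ∃ (W : Opens X) (hW : W ≤ U₀), x ∈ W ∧ ∃ t : G.val.obj (op W),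
      φ.val.app (op W) t = rs F (homOfLE hW) s := by
  obtain ⟨Y, hxY, t, rfl⟩ := germ_surjective x G q
  rw [germ_map] at hq
  have h2 : ModSite.germ (Opens.pointGrothendieckTopology x) F (Y ⊓ U₀) ⟨⟨⟨hxY, hxU⟩⟩⟩
      (rs F (homOfLE inf_le_left) (φ.val.app (op Y) t)) =
      ModSite.germ (Opens.pointGrothendieckTopology x) F (Y ⊓ U₀) ⟨⟨⟨hxY, hxU⟩⟩⟩
        (rs F (homOfLE inf_le_right) s) := by
    rw [germ_res, germ_res]
    exact hq
  obtain ⟨W, hW, hxW, e⟩ := exists_res_eq_of_germ_eq x F
    (show x ∈ Y ⊓ U₀ from ⟨hxY, hxU⟩) _ _ h2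
  refine ⟨W, hW.trans inf_le_right, hxW, rs G (homOfLE (hW.trans inf_le_left)) t, ?_⟩
  rw [rs_comp, rs_comp] at e
  exact (rs_app φ _ t).symm.trans e

/-- a section of a filtered colimit comes locally from a stage -/
lemma exists_local_rep_of_filtered {I : Type u} [SmallCategory I] [IsFiltered I]
    (D : I ⥤ ModSite.Mod O) (c : Cocone D) (hc : IsColimit c) {U : Opens X} (hx : x ∈ U)
    (s : c.pt.val.obj (op U)) :
    ∃ (i : I) (W : Opens X) (hW : W ≤ U), x ∈ W ∧ ∃ t : (D.obj i).val.obj (op W),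
      (c.ι.app i).val.app (op W) t = rs c.pt (homOfLE hW) s := by
  obtain ⟨i, q', hq'⟩ := exists_rep_of_filtered (Opens.pointGrothendieckTopology x) D c hc
    (ModSite.germ (Opens.pointGrothendieckTopology x) c.pt U ⟨⟨hx⟩⟩ s)
  obtain ⟨W, hW, hxW, t, ht⟩ := exists_local_preimage_of_stalk x (c.ι.app i) hx s q' hq'
  exact ⟨i, W, hW, hxW, t, ht⟩

/-- a section of a stage dying in the filtered colimit dies locally at a later stage -/
lemma exists_local_map_eq_zero_of_filtered {I : Type u} [SmallCategory I] [IsFiltered I]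
    (D : I ⥤ ModSite.Mod O) (c : Cocone D) (hc : IsColimit c) (i : I) {U : Opens X} (hx : x ∈ U)
    (t : (D.obj i).val.obj (op U)) (h : (c.ι.app i).val.app (op U) t = 0) :
    ∃ (j : I) (f : i ⟶ j) (W : Opens X) (hW : W ≤ U), x ∈ W ∧
      rs (D.obj j) (homOfLE hW) ((D.map f).val.app (op U) t) = 0 := by
  have h0 : ((stalkFunctor (Opens.pointGrothendieckTopology x) O).map (c.ι.app i)).hom
      (ModSite.germ (Opens.pointGrothendieckTopology x) (D.obj i) U ⟨⟨hx⟩⟩ t) = 0 := by
    rw [germ_map, h]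
    exact map_zero _
  obtain ⟨j, f, hf⟩ := exists_map_eq_zero_of_filtered (Opens.pointGrothendieckTopology x) D c hc
    i _ h0
  rw [germ_map] at hf
  obtain ⟨W, hW, hxW, e⟩ := exists_res_eq_of_germ_eq x (D.obj j) hx _ 0
    (hf.trans (map_zero _).symm)
  exact ⟨j, f, W, hW, hxW, e.trans (map_zero _)⟩

/-- a section of a coproduct is locally a finite sum of images of sections of the summands -/
lemma exists_local_finset_sum {I : Type u} (F : I → ModSite.Mod O) (P : ModSite.Mod O)
    (g : ∀ i, F i ⟶ P) (hc : IsColimit (Cofan.mk P g)) {U : Opens X} (hx : x ∈ U)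
    (s : P.val.obj (op U)) :
    ∃ (W : Opens X) (hW : W ≤ U), x ∈ W ∧ ∃ (S : Finset I) (t : ∀ i, (F i).val.obj (op W)),
      rs P (homOfLE hW) s = ∑ i ∈ S, (g i).val.app (op W) (t i) := by
  classical
  have hc' := isColimitCofanMkObjOfIsColimit
    (stalkFunctor (Opens.pointGrothendieckTopology x) O) F g hc
  obtain ⟨S, a, ha⟩ := exists_finset_sum_of_isColimit_cofan _ _ hc'
    (ModSite.germ (Opens.pointGrothendieckTopology x) P U ⟨⟨hx⟩⟩ s)
  have hrep : ∀ i, ∃ (Y : Opens X) (hx : x ∈ Y) (t : (F i).val.obj (op Y)),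
      ModSite.germ (Opens.pointGrothendieckTopology x) (F i) Y ⟨⟨hx⟩⟩ t = a i :=
    fun i => germ_surjective x (F i) (a i)
  choose Y hxY t ht using hrep
  let W₀ : Opens X := U ⊓ ⨅ i : S, Y i.1
  have hxW₀ : x ∈ W₀ := by
    refine ⟨hx, ?_⟩
    rw [SetLike.mem_coe, ← SetLike.mem_coe, Opens.coe_iInf]
    exact Set.mem_iInter.mpr (fun i => hxY i.1)
  have hW₀Y : ∀ i (hi : i ∈ S), W₀ ≤ Y i := fun i hi =>
    inf_le_right.trans (iInf_le (fun i : S => Y i.1) ⟨i, hi⟩)
  let t' : ∀ i, (F i).val.obj (op W₀) := fun i =>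
    if hi : i ∈ S then rs (F i) (homOfLE (hW₀Y i hi)) (t i) else 0
  have hgerm : ModSite.germ (Opens.pointGrothendieckTopology x) P W₀ ⟨⟨hxW₀⟩⟩
      (rs P (homOfLE inf_le_left) s) =
      ModSite.germ (Opens.pointGrothendieckTopology x) P W₀ ⟨⟨hxW₀⟩⟩
        (∑ i ∈ S, (g i).val.app (op W₀) (t' i)) := by
    have hsum : ModSite.germ (Opens.pointGrothendieckTopology x) P W₀ ⟨⟨hxW₀⟩⟩
        (∑ i ∈ S, (g i).val.app (op W₀) (t' i)) =
        ∑ i ∈ S, ModSite.germ (Opens.pointGrothendieckTopology x) P W₀ ⟨⟨hxW₀⟩⟩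
          ((g i).val.app (op W₀) (t' i)) :=
      map_sum ((Opens.pointGrothendieckTopology x).toPresheafFiber W₀ ⟨⟨hxW₀⟩⟩
        (ModSite.toAb P).obj).hom _ S
    rw [germ_res, ha, hsum]
    refine Finset.sum_congr rfl (fun i hi => ?_)
    rw [← germ_map]
    change ((stalkFunctor (Opens.pointGrothendieckTopology x) O).map (g i)).hom (a i) = _
    rw [← ht i]
    congr 1
    simp only [t', dif_pos hi]
    exact (germ_res x (F i) (hW₀Y i hi) hxW₀ (t i)).symm
  obtain ⟨W, hW, hxW, e⟩ := exists_res_eq_of_germ_eq x P hxW₀ _ _ hgerm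
  refine ⟨W, hW.trans inf_le_left, hxW, S, fun i => rs (F i) (homOfLE hW) (t' i), ?_⟩
  rw [rs_comp] at e
  refine e.trans ?_
  rw [map_sum]
  exact Finset.sum_congr rfl (fun i _ => rs_app (g i) (homOfLE hW) (t' i))

end Top

end

end StalkColim
end Groth.Agent.Lib.Helper42
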