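import Groth.Agent.Lib.Helper42.FPLocal
import Groth.Agent.Lib.Helper42.StalkColim

/-!
# Morphisms out of a finitely presented module and directed colimits (ringed spaces)

* `exists_glue`: gluing of sections of a sheaf of modules on a topological space (plain restrictions).
* `exists_map_eq_zero_of_isCompact`: finitely many sections of a stage of a directed system over a
  quasi-compact open which die in the colimit die at a later stage.
* `PartialHom`, `exists_partialHom_of_charts`: a morphism of sheaves of modules over an open `Ω`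
  glued from charts (local generators with prescribed compatible images).
* `hom_ext_of_isLocGen`: morphisms agreeing on local generators are equal.
-/

set_option autoImplicit false
universe u
open CategoryTheory CategoryTheory.Limits TopologicalSpace Opposite

namespace Groth.Agent.Lib.Helper42
namespace HomColim

open Groth.Agent.Lib.Helper42.FTLocal Groth.Agent.Lib.Helper42.FPLocal
  Groth.Agent.Lib.Helper42.StalkColim ModSite

noncomputable section

section Glue

variable {X : TopCat.{u}} {R : Sheaf (Opens.grothendieckTopology X) RingCat.{u}}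

/-- gluing of sections of a sheaf of modules -/
lemma exists_glue (N : SheafOfModules.{u} R) (U : Opens X) {ι : Type u} (W : ι → Opens X)
    (hW : ∀ i, W i ≤ U) (hcov : ∀ x ∈ U, ∃ i, x ∈ W i) (σ : ∀ i, N.val.obj (op (W i)))
    (hσ : ∀ i j, rs N (homOfLE (inf_le_left : W i ⊓ W j ≤ W i)) (σ i) =
      rs N (homOfLE (inf_le_right : W i ⊓ W j ≤ W j)) (σ j)) :
    ∃ τ : N.val.obj (op U), ∀ i, rs N (homOfLE (hW i)) τ = σ i := by
  have hcompat : TopCat.Presheaf.IsCompatible N.val.presheaf W σ := fun i j => hσ i j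
  obtain ⟨τ, hτ, -⟩ := TopCat.Sheaf.existsUnique_gluing' ⟨N.val.presheaf, N.isSheaf⟩ W U
    (fun i => homOfLE (hW i))
    (fun x hx => by
      obtain ⟨i, hi⟩ := hcov x hx
      exact Opens.mem_iSup.mpr ⟨i, hi⟩) σ hcompat
  exact ⟨τ, hτ⟩

end Glue

section Kill

variable {X : TopCat.{u}} {O : TopCat.Sheaf CommRingCat.{u} X}
  {I : Type u} [Preorder I] [Nonempty I] [IsDirected I (· ≤ ·)] (D : I ⥤ ModSite.Mod O)

lemma map_map_apply {i j k : I} (f : i ⟶ j) (g : j ⟶ k) (h : i ⟶ k) (U : Opens X)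
    (t : (D.obj i).val.obj (op U)) :
    (D.map g).val.app (op U) ((D.map f).val.app (op U) t) = (D.map h).val.app (op U) t := by
  have : h = f ≫ g := Subsingleton.elim _ _
  rw [this, D.map_comp]
  rfl

variable (c : Cocone D) (hc : IsColimit c)

include hc in
/-- a section of a stage over a quasi-compact open dying in the colimit dies at a later stage -/
lemma exists_map_eq_zero_of_isCompact_single (i : I) (U : Opens X) (hU : IsCompact (U : Set X))
    (t : (D.obj i).val.obj (op U)) (h : (c.ι.app i).val.app (op U) t = 0) :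
    ∃ (k : I) (f : i ⟶ k), (D.map f).val.app (op U) t = 0 := by
  classical
  have h1 : ∀ x : U, ∃ (j : I) (f : i ⟶ j) (W : Opens X) (hW : W ≤ U), x.1 ∈ W ∧
      rs (D.obj j) (homOfLE hW) ((D.map f).val.app (op U) t) = 0 := fun x =>
    exists_local_map_eq_zero_of_filtered x.1 D c hc i x.2 t h
  choose j f W hW hxW hz using h1
  obtain ⟨S, hS⟩ := hU.elim_finite_subcover (fun x : U => (W x : Set X)) (fun x => (W x).isOpen)
    (fun y hy => Set.mem_iUnion.mpr ⟨⟨y, hy⟩, hxW ⟨y, hy⟩⟩)
  obtain ⟨k, hk⟩ := (insert i (S.image j)).exists_le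
  refine ⟨k, homOfLE (hk i (Finset.mem_insert_self _ _)), ?_⟩
  refine eq_of_locally (D.obj k) _ _ (fun x hx => ?_)
  obtain ⟨y, hy⟩ := Set.mem_iUnion.mp (hS hx)
  obtain ⟨hyS, hxy⟩ := Set.mem_iUnion.mp hy
  have hjk : j y ≤ k := hk (j y) (Finset.mem_insert_of_mem (Finset.mem_image_of_mem j hyS))
  refine ⟨W y, hW y, hxy, ?_⟩
  rw [← map_map_apply D (f y) (homOfLE hjk), rs_app, hz y, map_zero, map_zero]

include hc in
/-- finitely many sections of a stage over quasi-compact opens dying in the colimit die at a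
later stage -/
lemma exists_map_eq_zero_of_isCompact (i : I) {A : Type u} [Finite A] (U : A → Opens X)
    (hU : ∀ a, IsCompact (U a : Set X)) (t : ∀ a, (D.obj i).val.obj (op (U a)))
    (h : ∀ a, (c.ι.app i).val.app (op (U a)) (t a) = 0) :
    ∃ (k : I) (f : i ⟶ k), ∀ a, (D.map f).val.app (op (U a)) (t a) = 0 := by
  have h1 := fun a => exists_map_eq_zero_of_isCompact_single D c hc i (U a) (hU a) (t a) (h a)
  choose k f hf using h1
  obtain ⟨k₀, hk₀⟩ := Finite.exists_le k
  obtain ⟨k₁, hik₁, hk₁⟩ := exists_ge_ge i k₀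
  refine ⟨k₁, homOfLE hik₁, fun a => ?_⟩
  rw [← map_map_apply D (f a) (homOfLE ((hk₀ a).trans hk₁)), hf a, map_zero]

end Kill

section Partial

variable {X : TopCat.{u}} {R : Sheaf (Opens.grothendieckTopology X) RingCat.{u}}

/-- a morphism `M|Ω ⟶ T|Ω`, in terms of sections -/
structure PartialHom (M T : SheafOfModules.{u} R) (Ω : Opens X) where
  app : ∀ (W : Opens X), W ≤ Ω → M.val.obj (op W) → T.val.obj (op W)
  map_add : ∀ (W : Opens X) (hW : W ≤ Ω) (m m' : M.val.obj (op W)),
    app W hW (m + m') = app W hW m + app W hW m'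
  map_smul : ∀ (W : Opens X) (hW : W ≤ Ω) (a : R.obj.obj (op W)) (m : M.val.obj (op W)),
    app W hW (a • m) = a • app W hW m
  map_rs : ∀ (W : Opens X) (hW : W ≤ Ω) (W' : Opens X) (h : W' ≤ W) (m : M.val.obj (op W)),
    rs T (homOfLE h) (app W hW m) = app W' (h.trans hW) (rs M (homOfLE h) m)

namespace PartialHom

variable {M T T' : SheafOfModules.{u} R} {Ω : Opens X}

/-- the additive map on sections -/
def appAdd (φ : PartialHom M T Ω) (W : Opens X) (hW : W ≤ Ω) :
    M.val.obj (op W) →+ T.val.obj (op W) :=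
  AddMonoidHom.mk' (φ.app W hW) (φ.map_add W hW)

lemma app_sum_smul (φ : PartialHom M T Ω) (W : Opens X) (hW : W ≤ Ω) {N : Type u} [Fintype N]
    (a : N → R.obj.obj (op W)) (m : N → M.val.obj (op W)) :
    φ.app W hW (∑ n, a n • m n) = ∑ n, a n • φ.app W hW (m n) := by
  have := map_sum (φ.appAdd W hW) (fun n => a n • m n) Finset.univ
  refine this.trans (Finset.sum_congr rfl (fun n _ => ?_))
  exact φ.map_smul W hW (a n) (m n)

/-- a morphism as a partial morphism -/
def ofHom (ψ : M ⟶ T) (Ω : Opens X) : PartialHom M T Ω where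
  app W _ m := ψ.val.app (op W) m
  map_add W _ m m' := _root_.map_add (ψ.val.app (op W)).hom m m'
  map_smul W _ a m := _root_.map_smul (ψ.val.app (op W)).hom a m
  map_rs W _ W' h m := rs_app ψ (homOfLE h) m

/-- composition of a partial morphism with a morphism -/
def comp (φ : PartialHom M T Ω) (g : T ⟶ T') : PartialHom M T' Ω where
  app W hW m := g.val.app (op W) (φ.app W hW m)
  map_add W hW m m' := by rw [φ.map_add, _root_.map_add]
  map_smul W hW a m := by rw [φ.map_smul, _root_.map_smul]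
  map_rs W hW W' h m := by rw [rs_app, φ.map_rs]

/-- partial morphisms agreeing on local generators are equal -/
lemma ext_of_isLocGen (φ φ' : PartialHom M T Ω)
    (h : ∀ y ∈ Ω, ∃ (U : Opens X) (hU : U ≤ Ω) (_ : y ∈ U) (N : Type u) (_ : Fintype N)
      (s : N → M.val.obj (op U)), IsLocGen M U s ∧ ∀ n, φ.app U hU (s n) = φ'.app U hU (s n))
    (W : Opens X) (hW : W ≤ Ω) (m : M.val.obj (op W)) : φ.app W hW m = φ'.app W hW m := by
  refine eq_of_locally T _ _ (fun x hx => ?_)
  obtain ⟨U, hU, hxU, N, _, s, hs, hφ⟩ := h x (hW hx)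
  obtain ⟨W', hW', hxW', c, hc⟩ := hs (W ⊓ U) inf_le_right (rs M (homOfLE inf_le_left) m) x
    ⟨hx, hxU⟩
  refine ⟨W', hW'.trans inf_le_left, hxW', ?_⟩
  rw [rs_le_le] at hc
  rw [φ.map_rs, φ'.map_rs, hc, app_sum_smul, app_sum_smul]
  refine Finset.sum_congr rfl (fun n _ => ?_)
  rw [← φ.map_rs U hU, ← φ'.map_rs U hU, hφ]

/-- a partial morphism over the whole space is a morphism -/
def toHom (φ : PartialHom M T ⊤) : M ⟶ T :=
  ⟨{ app := fun W => ModuleCat.ofHom
        { toFun := φ.app W.unop le_top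
          map_add' := φ.map_add W.unop le_top
          map_smul' := φ.map_smul W.unop le_top }
     naturality := by
      intro W W' f
      ext m
      exact (φ.map_rs W.unop le_top W'.unop (leOfHom f.unop) m).symm }⟩

lemma toHom_app (φ : PartialHom M T ⊤) (W : Opens X) (m : M.val.obj (op W)) :
    (toHom φ).val.app (op W) m = φ.app W le_top m := rfl

end PartialHom

/-- morphisms agreeing on local generators are equal -/
lemma hom_ext_of_isLocGen {M T : SheafOfModules.{u} R} (α β : M ⟶ T)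
    (h : ∀ y : X, ∃ (U : Opens X) (_ : y ∈ U) (N : Type u) (_ : Fintype N)
      (s : N → M.val.obj (op U)),
      IsLocGen M U s ∧ ∀ n, α.val.app (op U) (s n) = β.val.app (op U) (s n)) : α = β := by
  ext W m
  induction W using Opposite.rec with | op W => ?_
  refine PartialHom.ext_of_isLocGen (PartialHom.ofHom α ⊤) (PartialHom.ofHom β ⊤) (fun y _ => ?_)
    W le_top m
  obtain ⟨U, hyU, N, hN, s, hs, hαβ⟩ := h y
  exact ⟨U, le_top, hyU, N, hN, s, hs, hαβ⟩

end Partial

section Charts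

variable {X : TopCat.{u}} {R : Sheaf (Opens.grothendieckTopology X) RingCat.{u}}
  (M T : SheafOfModules.{u} R) (Ω : Opens X)
  {A : Type u} (V : A → Opens X) (N : A → Type u) [∀ α, Fintype (N α)]
  (s : ∀ α, N α → M.val.obj (op (V α))) (t : ∀ α, N α → T.val.obj (op (V α)))

/-- `τ` is the value at `m` of the morphism determined by the charts -/
def IsVal (W : Opens X) (m : M.val.obj (op W)) (τ : T.val.obj (op W)) : Prop :=
  ∀ (α : A) (W' : Opens X) (h : W' ≤ W) (hα : W' ≤ V α) (a : N α → R.obj.obj (op W')),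
    rs M (homOfLE h) m = ∑ n, a n • rs M (homOfLE hα) (s α n) →
    rs T (homOfLE h) τ = ∑ n, a n • rs T (homOfLE hα) (t α n)

variable {M T Ω V N s t}

lemma IsVal.res {W : Opens X} {m : M.val.obj (op W)} {τ : T.val.obj (op W)}
    (h : IsVal M T V N s t W m τ) {W₁ : Opens X} (h₁ : W₁ ≤ W) :
    IsVal M T V N s t W₁ (rs M (homOfLE h₁) m) (rs T (homOfLE h₁) τ) := by
  intro α W' h' hα a ha
  rw [rs_le_le] at ha ⊢
  exact h α W' _ hα a ha

variable (hcov : ∀ x ∈ Ω, ∃ α, x ∈ V α) (hgen : ∀ α, IsLocGen M (V α) (s α))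
  (hcompat : ∀ (α β : A) (W : Opens X) (hα : W ≤ V α) (hβ : W ≤ V β)
    (a : N α → R.obj.obj (op W)) (b : N β → R.obj.obj (op W)),
    ∑ n, a n • rs M (homOfLE hα) (s α n) = ∑ n, b n • rs M (homOfLE hβ) (s β n) →
    ∑ n, a n • rs T (homOfLE hα) (t α n) = ∑ n, b n • rs T (homOfLE hβ) (t β n))

include hcov hgen in
lemma IsVal.unique {W : Opens X} (hW : W ≤ Ω) {m : M.val.obj (op W)} {τ τ' : T.val.obj (op W)}
    (h : IsVal M T V N s t W m τ) (h' : IsVal M T V N s t W m τ') : τ = τ' := by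
  refine eq_of_locally T _ _ (fun x hx => ?_)
  obtain ⟨α, hα⟩ := hcov x (hW hx)
  obtain ⟨W', hW', hxW', c, hc⟩ := hgen α (W ⊓ V α) inf_le_right (rs M (homOfLE inf_le_left) m) x
    ⟨hx, hα⟩
  rw [rs_le_le] at hc
  refine ⟨W', hW'.trans inf_le_left, hxW', ?_⟩
  rw [h α W' _ (hW'.trans inf_le_right) c hc, h' α W' _ (hW'.trans inf_le_right) c hc]

include hcompat in
lemma isVal_comb_chart (α : A) {W : Opens X} (hα : W ≤ V α) (a : N α → R.obj.obj (op W)) :
    IsVal M T V N s t W (∑ n, a n • rs M (homOfLE hα) (s α n))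
      (∑ n, a n • rs T (homOfLE hα) (t α n)) := by
  intro β W' h hβ b hb
  rw [rs_sum_smul] at hb ⊢
  simp only [rs_le_le] at hb ⊢
  exact hcompat α β W' _ hβ _ b hb

include hcov hgen hcompat in
lemma exists_isVal {W : Opens X} (hW : W ≤ Ω) (m : M.val.obj (op W)) :
    ∃ τ, IsVal M T V N s t W m τ := by
  have h1 : ∀ x : W, ∃ (α : A) (W' : Opens X) (h : W' ≤ W) (hα : W' ≤ V α), x.1 ∈ W' ∧
      ∃ c : N α → R.obj.obj (op W'),
        rs M (homOfLE h) m = ∑ n, c n • rs M (homOfLE hα) (s α n) := by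
    intro x
    obtain ⟨α, hα⟩ := hcov x.1 (hW x.2)
    obtain ⟨W', hW', hxW', c, hc⟩ := hgen α (W ⊓ V α) inf_le_right
      (rs M (homOfLE inf_le_left) m) x.1 ⟨x.2, hα⟩
    rw [rs_le_le] at hc
    exact ⟨α, W', hW'.trans inf_le_left, hW'.trans inf_le_right, hxW', c, hc⟩
  choose α W' h hα hx c hc using h1
  have key : ∀ (x : W) (W'' : Opens X) (h'' : W'' ≤ W' x),
      rs M (homOfLE (h''.trans (h x))) m =
        ∑ n, rr R (homOfLE h'') (c x n) • rs M (homOfLE (h''.trans (hα x))) (s (α x) n) := by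
    intro x W'' h''
    have := congrArg (rs M (homOfLE h'')) (hc x)
    rw [rs_le_le, rs_sum_smul] at this
    simpa only [rs_le_le] using this
  obtain ⟨τ, hτ⟩ := exists_glue T W W' h (fun x hxW => ⟨⟨x, hxW⟩, hx ⟨x, hxW⟩⟩)
    (fun x => ∑ n, c x n • rs T (homOfLE (hα x)) (t (α x) n)) (by
      intro x y
      rw [rs_sum_smul, rs_sum_smul]
      simp only [rs_le_le]
      refine hcompat (α x) (α y) (W' x ⊓ W' y) _ _ _ _ ?_
      rw [← key x _ inf_le_left, ← key y _ inf_le_right])
  refine ⟨τ, ?_⟩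
  intro β W'' h'' hβ a ha
  refine eq_of_locally T _ _ (fun x hxW'' => ?_)
  let x' : W := ⟨x, h'' hxW''⟩
  refine ⟨W'' ⊓ W' x', inf_le_left, ⟨hxW'', hx x'⟩, ?_⟩
  have e1 : rs T (homOfLE (inf_le_left : W'' ⊓ W' x' ≤ W'')) (rs T (homOfLE h'') τ) =
      rs T (homOfLE (inf_le_right : W'' ⊓ W' x' ≤ W' x')) (rs T (homOfLE (h x')) τ) := by
    rw [rs_le_le, rs_le_le]
  rw [e1, hτ x', rs_sum_smul, rs_sum_smul]
  simp only [rs_le_le]
  refine hcompat (α x') β (W'' ⊓ W' x') _ _ _ _ ?_
  rw [← key x' _ inf_le_right]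
  have := congrArg (rs M (homOfLE (inf_le_left : W'' ⊓ W' x' ≤ W''))) ha
  rw [rs_le_le, rs_sum_smul] at this
  simpa only [rs_le_le] using this

include hgen hcompat in
lemma IsVal.comb {W : Opens X} {m m' : M.val.obj (op W)} {τ τ' : T.val.obj (op W)}
    (hτ : IsVal M T V N s t W m τ) (hτ' : IsVal M T V N s t W m' τ') (a a' : R.obj.obj (op W)) :
    IsVal M T V N s t W (a • m + a' • m') (a • τ + a' • τ') := by
  intro β W' h hβ b hb
  refine eq_of_locally T _ _ (fun x hx => ?_)
  obtain ⟨W₁, hW₁, hx₁, c, hc⟩ := hgen β W' hβ (rs M (homOfLE h) m) x hx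
  obtain ⟨W₂, hW₂, hx₂, c', hc'⟩ := hgen β W' hβ (rs M (homOfLE h) m') x hx
  have e1 : rs M (homOfLE ((inf_le_left : W₁ ⊓ W₂ ≤ W₁).trans (hW₁.trans h))) m =
      ∑ n, rr R (homOfLE (inf_le_left : W₁ ⊓ W₂ ≤ W₁)) (c n) •
        rs M (homOfLE ((inf_le_left : W₁ ⊓ W₂ ≤ W₁).trans (hW₁.trans hβ))) (s β n) := by
    have := congrArg (rs M (homOfLE (inf_le_left : W₁ ⊓ W₂ ≤ W₁))) hc
    rw [rs_le_le, rs_le_le, rs_sum_smul] at this
    simpa only [rs_le_le] using this
  have e2 : rs M (homOfLE ((inf_le_left : W₁ ⊓ W₂ ≤ W₁).trans (hW₁.trans h))) m' =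
      ∑ n, rr R (homOfLE (inf_le_right : W₁ ⊓ W₂ ≤ W₂)) (c' n) •
        rs M (homOfLE ((inf_le_left : W₁ ⊓ W₂ ≤ W₁).trans (hW₁.trans hβ))) (s β n) := by
    have := congrArg (rs M (homOfLE (inf_le_right : W₁ ⊓ W₂ ≤ W₂))) hc'
    rw [rs_le_le, rs_le_le, rs_sum_smul] at this
    simpa only [rs_le_le] using this
  have v1 := hτ β (W₁ ⊓ W₂) _ _ _ e1
  have v2 := hτ' β (W₁ ⊓ W₂) _ _ _ e2
  refine ⟨W₁ ⊓ W₂, inf_le_left.trans hW₁, ⟨hx₁, hx₂⟩, ?_⟩
  rw [rs_le_le, map_add, rs_smul, rs_smul, v1, v2, rs_sum_smul]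
  simp only [rs_le_le, Finset.smul_sum, smul_smul]
  rw [← Finset.sum_add_distrib]
  simp only [← add_smul]
  refine hcompat β β (W₁ ⊓ W₂) _ _ _ _ ?_
  have := congrArg (rs M (homOfLE ((inf_le_left : W₁ ⊓ W₂ ≤ W₁).trans hW₁))) hb
  rw [rs_le_le, map_add, rs_smul, rs_smul, e1, e2, rs_sum_smul] at this
  simp only [rs_le_le, Finset.smul_sum, smul_smul] at this
  rw [← Finset.sum_add_distrib] at this
  simpa only [← add_smul] using this

include hcov hgen hcompat in
/-- a partial morphism glued from charts -/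
theorem exists_partialHom_of_charts :
    ∃ φ : PartialHom M T Ω,
      (∀ (α : A) (W : Opens X) (hW : W ≤ Ω) (hα : W ≤ V α) (a : N α → R.obj.obj (op W)),
        φ.app W hW (∑ n, a n • rs M (homOfLE hα) (s α n)) =
          ∑ n, a n • rs T (homOfLE hα) (t α n)) ∧
      ∀ (α : A) (hα : V α ≤ Ω) (n : N α), φ.app (V α) hα (s α n) = t α n := by
  classical
  have hex := fun (W : Opens X) (hW : W ≤ Ω) (m : M.val.obj (op W)) =>
    exists_isVal hcov hgen hcompat hW m
  choose f hf using hex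
  have huniq : ∀ (W : Opens X) (hW : W ≤ Ω) (m : M.val.obj (op W)) (τ : T.val.obj (op W)),
      IsVal M T V N s t W m τ → f W hW m = τ := fun W hW m τ hτ =>
    IsVal.unique hcov hgen hW (hf W hW m) hτ
  have hcomb : ∀ (W : Opens X) (hW : W ≤ Ω) (a a' : R.obj.obj (op W)) (m m' : M.val.obj (op W)),
      f W hW (a • m + a' • m') = a • f W hW m + a' • f W hW m' := fun W hW a a' m m' =>
    huniq W hW _ _ (IsVal.comb hgen hcompat (hf W hW m) (hf W hW m') a a')
  refine ⟨{ app := f, map_add := ?_, map_smul := ?_, map_rs := ?_ }, ?_, ?_⟩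
  · intro W hW m m'
    have := hcomb W hW 1 1 m m'
    simpa only [one_smul] using this
  · intro W hW a m
    have := hcomb W hW a 0 m m
    simpa only [zero_smul, add_zero] using this
  · intro W hW W' h m
    exact (huniq W' (h.trans hW) _ _ ((hf W hW m).res h)).symm
  · intro α W hW hα a
    exact huniq W hW _ _ (isVal_comb_chart hcompat α hα a)
  · intro α hα n
    refine huniq (V α) hα _ _ ?_
    have := isVal_comb_chart hcompat α (le_refl (V α)) (fun n' => if n' = n then 1 else 0)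
    simpa only [ite_smul, one_smul, zero_smul, Finset.sum_ite_eq', Finset.mem_univ, if_true,
      rs_le_self] using this

end Charts

section Rel

variable {X : TopCat.{u}} {R : Sheaf (Opens.grothendieckTopology X) RingCat.{u}}

/-- sections satisfying the defining relations satisfy all relations of the generators -/
lemma sum_smul_eq_zero_of_isLocRel {M T : SheafOfModules.{u} R} {U : Opens X} {N L : Type u}
    [Fintype N] [Fintype L] {s : N → M.val.obj (op U)} {r : L → N → R.obj.obj (op U)}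
    (hr : IsLocRel M U s r) (t : N → T.val.obj (op U)) (ht : ∀ l, ∑ n, r l n • t n = 0)
    {W : Opens X} (hW : W ≤ U) (a : N → R.obj.obj (op W))
    (ha : ∑ n, a n • rs M (homOfLE hW) (s n) = 0) :
    ∑ n, a n • rs T (homOfLE hW) (t n) = 0 := by
  refine eq_of_locally T _ _ (fun y hy => ?_)
  obtain ⟨W', hW', hyW', b, hb⟩ := hr.2 W hW a ha y hy
  refine ⟨W', hW', hyW', ?_⟩
  have h2 : ∀ l, ∑ n, rr R (homOfLE (hW'.trans hW)) (r l n) •
      rs T (homOfLE (hW'.trans hW)) (t n) = 0 := by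
    intro l
    have := congrArg (rs T (homOfLE (hW'.trans hW))) (ht l)
    rwa [rs_sum_smul, map_zero] at this
  rw [rs_sum_smul, map_zero]
  simp only [rs_le_le, hb]
  calc ∑ n, (∑ l, b l * rr R (homOfLE (hW'.trans hW)) (r l n)) •
        rs T (homOfLE (hW'.trans hW)) (t n)
      = ∑ l, b l • ∑ n, rr R (homOfLE (hW'.trans hW)) (r l n) •
        rs T (homOfLE (hW'.trans hW)) (t n) := by
        simp only [Finset.sum_smul, Finset.smul_sum, smul_smul]
        exact Finset.sum_comm
    _ = 0 := by simp only [h2, smul_zero, Finset.sum_const_zero]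

lemma sum_smul_eq_of_isLocRel {M T : SheafOfModules.{u} R} {U : Opens X} {N L : Type u}
    [Fintype N] [Fintype L] {s : N → M.val.obj (op U)} {r : L → N → R.obj.obj (op U)}
    (hr : IsLocRel M U s r) (t : N → T.val.obj (op U)) (ht : ∀ l, ∑ n, r l n • t n = 0)
    {W : Opens X} (hW : W ≤ U) (a b : N → R.obj.obj (op W))
    (hab : ∑ n, a n • rs M (homOfLE hW) (s n) = ∑ n, b n • rs M (homOfLE hW) (s n)) :
    ∑ n, a n • rs T (homOfLE hW) (t n) = ∑ n, b n • rs T (homOfLE hW) (t n) := by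
  have h := sum_smul_eq_zero_of_isLocRel hr t ht hW (fun n => a n - b n)
    (by simp only [sub_smul, Finset.sum_sub_distrib, hab, sub_self])
  simp only [sub_smul, Finset.sum_sub_distrib] at h
  exact sub_eq_zero.mp h

end Rel

section Colim

variable {X : TopCat.{u}} {O : TopCat.Sheaf CommRingCat.{u} X}
  {I : Type u} [Preorder I] [Nonempty I] [IsDirected I (· ≤ ·)] (D : I ⥤ ModSite.Mod O)
  (c : Cocone D)

omit [Nonempty I] [IsDirected I (· ≤ ·)] in
lemma ι_map_apply {i j : I} (f : i ⟶ j) (U : Opens X) (t : (D.obj i).val.obj (op U)) :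
    (c.ι.app j).val.app (op U) ((D.map f).val.app (op U) t) = (c.ι.app i).val.app (op U) t := by
  rw [← c.w f]
  rfl

omit [Nonempty I] [IsDirected I (· ≤ ·)] in
lemma ι_rs (i : I) {V W : Opens X} (h : W ≤ V) (m : (D.obj i).val.obj (op V)) :
    (c.ι.app i).val.app (op W) (rs (D.obj i) (homOfLE h) m) =
      rs c.pt (homOfLE h) ((c.ι.app i).val.app (op V) m) :=
  (rs_app (N' := c.pt) (c.ι.app i) (homOfLE h) m).symm

/-- finitely many local conditions, monotone in the stage and the neighbourhood, hold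
simultaneously -/
lemma exists_common {Nn : Type u} [Finite Nn] (y : X) (i₀ : I) (U₀ : Opens X) (hy₀ : y ∈ U₀)
    (P : Nn → I → Opens X → Prop)
    (hP : ∀ n i W i' W', i ≤ i' → W' ≤ W → P n i W → P n i' W')
    (h : ∀ n, ∃ i W, y ∈ W ∧ P n i W) :
    ∃ i W, i₀ ≤ i ∧ W ≤ U₀ ∧ y ∈ W ∧ ∀ n, P n i W := by
  choose i W hy hP' using h
  obtain ⟨i₁, hi₁⟩ := Finite.exists_le i
  obtain ⟨i₂, hi₀₂, hi₁₂⟩ := exists_ge_ge i₀ i₁
  refine ⟨i₂, U₀ ⊓ ⨅ n, W n, hi₀₂, inf_le_left, ⟨hy₀, ?_⟩, fun n =>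
    hP n (i n) (W n) i₂ _ ((hi₁ n).trans hi₁₂) (inf_le_right.trans (iInf_le W n)) (hP' n)⟩
  rw [SetLike.mem_coe, ← SetLike.mem_coe, Opens.coe_iInf]
  exact Set.mem_iInter.mpr hy

variable (G : ModSite.Mod O)

/-- a chart of a morphism `ψ : G ⟶ colim`: local generators and relations of `G` over `V`, with lifts
of the images of the generators to the stage `i` satisfying the relations -/
structure Chart (ψ : G ⟶ c.pt) (i : I) (V : Opens X) where
  N : Type u
  [fN : Fintype N]
  L : Type u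
  [fL : Fintype L]
  s : N → G.val.obj (op V)
  r : L → N → (ModSite.ringSh O).obj.obj (op V)
  t : N → (D.obj i).val.obj (op V)
  gen : IsLocGen G V s
  rel : IsLocRel G V s r
  lift : ∀ n, (c.ι.app i).val.app (op V) (t n) = ψ.val.app (op V) (s n)
  relt : ∀ l, ∑ n, r l n • t n = 0

attribute [instance] Chart.fN Chart.fL

variable {D c G}

omit [Nonempty I] [IsDirected I (· ≤ ·)] in
lemma map_sum_smul {i i' : I} (f : i ⟶ i') (V : Opens X) {N : Type u} [Fintype N]
    (a : N → (ModSite.ringSh O).obj.obj (op V)) (t : N → (D.obj i).val.obj (op V)) :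
    (D.map f).val.app (op V) (∑ n, a n • t n) = ∑ n, a n • (D.map f).val.app (op V) (t n) := by
  rw [map_sum]
  exact Finset.sum_congr rfl (fun n _ => map_smul _ _ _)

omit [Nonempty I] [IsDirected I (· ≤ ·)] in
/-- restriction of a chart to a smaller open and a later stage -/
def Chart.restrict {ψ : G ⟶ c.pt} {i : I} {V : Opens X} (ch : Chart D c G ψ i V) {V' : Opens X}
    (h : V' ≤ V) {i' : I} (f : i ⟶ i') : Chart D c G ψ i' V' where
  N := ch.N
  L := ch.L
  s n := rs G (homOfLE h) (ch.s n)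
  r l n := rr (ModSite.ringSh O) (homOfLE h) (ch.r l n)
  t n := (D.map f).val.app (op V') (rs (D.obj i) (homOfLE h) (ch.t n))
  gen := IsLocGen.mono h ch.gen
  rel := IsLocRel.mono h ch.rel
  lift n := by rw [ι_map_apply, ι_rs, ch.lift, rs_app]
  relt l := by
    rw [← map_sum_smul, ← rs_sum_smul, ch.relt, map_zero, map_zero]

variable (hc : IsColimit c)

include hc in
/-- around every point, a morphism from a finitely presented module to the colimit has a chart -/
lemma exists_chart [SheafOfModules.IsFinitePresentation (R := ModSite.ringSh O) G] (ψ : G ⟶ c.pt)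
    (y : X) : ∃ (i : I) (W : Opens X), y ∈ W ∧ Nonempty (Chart D c G ψ i W) := by
  obtain ⟨U, hyU, N, _, s, L, _, r, hgen, hrel⟩ :=
    (isFinitePresentation_iff (R := ModSite.ringSh O) G).mp inferInstance y
  obtain ⟨i₀⟩ := (inferInstance : Nonempty I)
  -- lifts of the images of the generators
  obtain ⟨i₁, W₁, -, hW₁, hyW₁, h1⟩ := exists_common y i₀ U hyU
    (fun (n : N) i W => ∃ (hW : W ≤ U) (t' : (D.obj i).val.obj (op W)),
      (c.ι.app i).val.app (op W) t' = rs c.pt (homOfLE hW) (ψ.val.app (op U) (s n)))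
    (by
      rintro n i W i' W' hi hW' ⟨hW, t', ht'⟩
      refine ⟨hW'.trans hW,
        (D.map (homOfLE hi)).val.app (op W') (rs (D.obj i) (homOfLE hW') t'), ?_⟩
      rw [ι_map_apply, ι_rs, ht', rs_le_le])
    (fun n => by
      obtain ⟨i, W, hW, hyW, t', ht'⟩ :=
        exists_local_rep_of_filtered y D c hc hyU (ψ.val.app (op U) (s n))
      exact ⟨i, W, hyW, hW, t', ht'⟩)
  choose hW₁' t₁ ht₁ using h1
  -- the relations die in the colimit
  have h0 : ∀ l, (c.ι.app i₁).val.app (op W₁)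
      (∑ n, rr (ModSite.ringSh O) (homOfLE hW₁) (r l n) • t₁ n) = 0 := by
    intro l
    have e : ψ.val.app (op U) (∑ n, r l n • s n) = ∑ n, r l n • ψ.val.app (op U) (s n) := by
      rw [map_sum]
      exact Finset.sum_congr rfl (fun n _ => map_smul _ _ _)
    rw [hrel.1 l, map_zero] at e
    have e2 := congrArg (rs c.pt (homOfLE hW₁)) e
    rw [map_zero, rs_sum_smul] at e2
    rw [map_sum]
    refine Eq.trans (Finset.sum_congr rfl (fun n _ => ?_)) e2.symm
    rw [map_smul, ht₁]
  -- so they die at a later stage, near `y`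
  obtain ⟨i₂, W₂, hi₁₂, hW₂, hyW₂, h2⟩ := exists_common y i₁ W₁ hyW₁
    (fun (l : L) i W => ∃ (hi : i₁ ≤ i) (hW : W ≤ W₁),
      rs (D.obj i) (homOfLE hW) ((D.map (homOfLE hi)).val.app (op W₁)
        (∑ n, rr (ModSite.ringSh O) (homOfLE hW₁) (r l n) • t₁ n)) = 0)
    (by
      rintro l i W i' W' hi hW' ⟨hi₁, hW, e⟩
      refine ⟨hi₁.trans hi, hW'.trans hW, ?_⟩
      rw [← map_map_apply D (homOfLE hi₁) (homOfLE hi), ← rs_le_le _ hW hW', rs_app, e, map_zero,
        map_zero])
    (fun l => by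
      obtain ⟨j, f, W, hW, hyW, e⟩ :=
        exists_local_map_eq_zero_of_filtered y D c hc i₁ hyW₁ _ (h0 l)
      have hf : f = homOfLE (leOfHom f) := Subsingleton.elim _ _
      rw [hf] at e
      exact ⟨j, W, hyW, leOfHom f, hW, e⟩)
  refine ⟨i₂, W₂, hyW₂, ⟨?_⟩⟩
  exact
    { N := N
      L := L
      s := fun n => rs G (homOfLE (hW₂.trans hW₁)) (s n)
      r := fun l n => rr (ModSite.ringSh O) (homOfLE (hW₂.trans hW₁)) (r l n)
      t := fun n => (D.map (homOfLE hi₁₂)).val.app (op W₂) (rs (D.obj i₁) (homOfLE hW₂) (t₁ n))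
      gen := IsLocGen.mono (hW₂.trans hW₁) hgen
      rel := IsLocRel.mono (hW₂.trans hW₁) hrel
      lift := by
        intro n
        rw [ι_map_apply, ι_rs, ht₁, rs_le_le, rs_app]
      relt := by
        intro l
        obtain ⟨hi, hW, e⟩ := h2 l
        rw [rs_app, rs_sum_smul, map_sum_smul] at e
        refine Eq.trans (Finset.sum_congr rfl (fun n _ => ?_)) e
        rw [rr_le_le] }

variable (hX : ∀ (ι : Type u) (V : ι → Opens X), iSup V = ⊤ →
  ∃ (J : Type u) (_ : Finite J) (U : J → Opens X), iSup U = ⊤ ∧ (∀ j, ∃ i, U j ≤ V i) ∧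
    ∀ j j', IsCompact ((U j ⊓ U j' : Opens X) : Set X))

include hc hX in
/-- injectivity of `colim Hom(G, F_i) → Hom(G, colim F_i)` -/
theorem exists_map_eq_of_comp_ι_eq
    [SheafOfModules.IsFinitePresentation (R := ModSite.ringSh O) G] (i : I)
    (φ φ' : G ⟶ D.obj i) (h : φ ≫ c.ι.app i = φ' ≫ c.ι.app i) :
    ∃ (k : I) (f : i ⟶ k), φ ≫ D.map f = φ' ≫ D.map f := by
  have hfp := (isFinitePresentation_iff (R := ModSite.ringSh O) G).mp inferInstance
  choose U hyU N hN s L hL r hgen hrel using hfp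
  obtain ⟨J, hJ, V, hV, href, hcpt⟩ := hX X U (by
    rw [eq_top_iff]
    intro y _
    exact Opens.mem_iSup.mpr ⟨y, hyU y⟩)
  choose y hy using href
  have hfin : ∀ j : J, Finite (N (y j)) := fun j => Finite.of_fintype _
  obtain ⟨k, f, hk⟩ := exists_map_eq_zero_of_isCompact D c hc i (A := Σ j : J, N (y j))
    (fun a => V a.1)
    (fun a => by
      have := hcpt a.1 a.1
      rwa [inf_idem] at this)
    (fun a => φ.val.app (op (V a.1)) (rs G (homOfLE (hy a.1)) (s (y a.1) a.2)) -
      φ'.val.app (op (V a.1)) (rs G (homOfLE (hy a.1)) (s (y a.1) a.2)))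
    (by
      intro a
      rw [map_sub, sub_eq_zero]
      exact congrArg (fun χ => χ.val.app (op (V a.1))
        (rs G (homOfLE (hy a.1)) (s (y a.1) a.2))) h)
  refine ⟨k, f, hom_ext_of_isLocGen _ _ (fun z => ?_)⟩
  obtain ⟨j, hz⟩ : ∃ j, z ∈ V j := by
    have : z ∈ (⨆ j, V j : Opens X) := by rw [hV]; trivial
    exact Opens.mem_iSup.mp this
  refine ⟨V j, hz, N (y j), hN (y j), fun n => rs G (homOfLE (hy j)) (s (y j) n),
    IsLocGen.mono (hy j) (hgen (y j)), fun n => ?_⟩
  have := hk ⟨j, n⟩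
  rw [map_sub, sub_eq_zero] at this
  exact this

include hc hX in
/-- surjectivity of `colim Hom(G, F_i) → Hom(G, colim F_i)` -/
theorem exists_lift_of_finitePresentation
    [SheafOfModules.IsFinitePresentation (R := ModSite.ringSh O) G] (ψ : G ⟶ c.pt) :
    ∃ (k : I) (φ : G ⟶ D.obj k), φ ≫ c.ι.app k = ψ := by
  have hch := exists_chart hc ψ
  choose i W hyW hch using hch
  obtain ⟨J, hJ, V, hV, href, hcpt⟩ := hX X W (by
    rw [eq_top_iff]
    intro y _
    exact Opens.mem_iSup.mpr ⟨y, hyW y⟩)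
  choose y hy using href
  obtain ⟨i₁, hi₁⟩ := Finite.exists_le (fun j => i (y j))
  let ch : ∀ j, Chart D c G ψ i₁ (V j) := fun j =>
    (hch (y j)).some.restrict (hy j) (homOfLE (hi₁ j))
  have hcovV : ∀ z : X, ∃ j, z ∈ V j := by
    intro z
    have : z ∈ (⨆ j, V j : Opens X) := by rw [hV]; trivial
    exact Opens.mem_iSup.mp this
  -- the morphisms defined by the single charts
  have hφ : ∀ j, ∃ φ : PartialHom G (D.obj i₁) (V j),
      ∀ n, φ.app (V j) le_rfl ((ch j).s n) = (ch j).t n := by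
    intro j
    obtain ⟨φ, -, hφ⟩ := exists_partialHom_of_charts (M := G) (T := D.obj i₁) (Ω := V j)
      (A := PUnit.{u + 1}) (V := fun _ => V j) (N := fun _ => (ch j).N) (s := fun _ => (ch j).s)
      (t := fun _ => (ch j).t) (fun x hx => ⟨PUnit.unit, hx⟩) (fun _ => (ch j).gen)
      (fun _ _ W' hα _ a b hab =>
        sum_smul_eq_of_isLocRel (ch j).rel (ch j).t (ch j).relt hα a b hab)
    exact ⟨φ, fun n => hφ PUnit.unit le_rfl n⟩
  choose φ hφ using hφ
  have C1 : ∀ (j : J) (W' : Opens X) (hW' : W' ≤ V j) (m : G.val.obj (op W')),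
      (c.ι.app i₁).val.app (op W') ((φ j).app W' hW' m) = ψ.val.app (op W') m := fun j =>
    PartialHom.ext_of_isLocGen ((φ j).comp (T' := c.pt) (c.ι.app i₁)) (PartialHom.ofHom ψ (V j))
      (fun z hz => ⟨V j, le_rfl, hz, (ch j).N, (ch j).fN, (ch j).s, (ch j).gen, fun n => by
        change (c.ι.app i₁).val.app (op (V j)) ((φ j).app (V j) le_rfl ((ch j).s n)) =
          ψ.val.app (op (V j)) ((ch j).s n)
        rw [hφ, (ch j).lift]⟩)
  -- comparison of the charts on the overlaps, at a later stage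
  have hfin : ∀ p : J × J, Finite (ch p.1).N := fun p => Finite.of_fintype _
  obtain ⟨k, f, hk⟩ := exists_map_eq_zero_of_isCompact D c hc i₁
    (A := Σ p : J × J, (ch p.1).N)
    (fun a => V a.1.1 ⊓ V a.1.2) (fun a => hcpt _ _)
    (fun a => (φ a.1.2).app (V a.1.1 ⊓ V a.1.2) inf_le_right
        (rs G (homOfLE inf_le_left) ((ch a.1.1).s a.2)) -
      rs (D.obj i₁) (homOfLE inf_le_left) ((ch a.1.1).t a.2))
    (by
      intro a
      rw [map_sub, C1, ι_rs, (ch a.1.1).lift, rs_app, sub_self])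
  -- the glued morphism
  obtain ⟨Φ, -, hΦ⟩ := exists_partialHom_of_charts (M := G) (T := D.obj k) (Ω := ⊤)
    (A := J) (V := V) (N := fun j => (ch j).N) (s := fun j => (ch j).s)
    (t := fun j n => (D.map f).val.app (op (V j)) ((ch j).t n))
    (fun z _ => hcovV z) (fun j => (ch j).gen)
    (by
      intro j j' W' hj hj' a b hab
      let Ψ : PartialHom G (D.obj k) (V j') := (φ j').comp (D.map f)
      have key : ∀ n, rs (D.obj k) (homOfLE hj) ((D.map f).val.app (op (V j)) ((ch j).t n)) =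
          Ψ.app W' hj' (rs G (homOfLE hj) ((ch j).s n)) := by
        intro n
        have hk' := hk ⟨(j, j'), n⟩
        rw [map_sub, sub_eq_zero] at hk'
        have hW' : W' ≤ V j ⊓ V j' := le_inf hj hj'
        calc rs (D.obj k) (homOfLE hj) ((D.map f).val.app (op (V j)) ((ch j).t n))
            = rs (D.obj k) (homOfLE hW') (rs (D.obj k) (homOfLE inf_le_left)
                ((D.map f).val.app (op (V j)) ((ch j).t n))) := by rw [rs_le_le]
          _ = rs (D.obj k) (homOfLE hW') ((D.map f).val.app (op (V j ⊓ V j'))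
                (rs (D.obj i₁) (homOfLE inf_le_left) ((ch j).t n))) := by rw [rs_app]
          _ = rs (D.obj k) (homOfLE hW') (Ψ.app (V j ⊓ V j') inf_le_right
                (rs G (homOfLE inf_le_left) ((ch j).s n))) := by
              rw [← hk']
              rfl
          _ = Ψ.app W' hj' (rs G (homOfLE hj) ((ch j).s n)) := by rw [Ψ.map_rs, rs_le_le]
      have key' : ∀ n, rs (D.obj k) (homOfLE hj') ((D.map f).val.app (op (V j')) ((ch j').t n)) =
          Ψ.app W' hj' (rs G (homOfLE hj') ((ch j').s n)) := by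
        intro n
        rw [← Ψ.map_rs (V j') le_rfl W' hj']
        change _ = rs (D.obj k) (homOfLE hj')
          ((D.map f).val.app (op (V j')) ((φ j').app (V j') le_rfl ((ch j').s n)))
        rw [hφ]
      simp only [key, key']
      rw [← Ψ.app_sum_smul, ← Ψ.app_sum_smul, hab])
  refine ⟨k, Φ.toHom, hom_ext_of_isLocGen _ _ (fun z => ?_)⟩
  obtain ⟨j, hz⟩ := hcovV z
  refine ⟨V j, hz, (ch j).N, (ch j).fN, (ch j).s, (ch j).gen, fun n => ?_⟩
  change (c.ι.app k).val.app (op (V j)) (Φ.app (V j) le_top ((ch j).s n)) =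
    ψ.val.app (op (V j)) ((ch j).s n)
  rw [hΦ j le_top n, ι_map_apply, (ch j).lift]

end Colim

end

end HomColim
end Groth.Agent.Lib.Helper42
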