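import Groth.Prelude.Def_RelProj2

/-!
# The open `X_f` of a relative `Proj` attached to a homogeneous global section
-/

set_option autoImplicit false
universe u

open CategoryTheory CategoryTheory.Limits AlgebraicGeometry TopologicalSpace Opposite
open scoped HomogeneousIdeal

namespace Groth.Agent.Lib.Helper42

variable {Y P : Scheme.{u}} (𝒮 : RelProj.QCGrAlg Y) (p : P ⟶ Y)
  (chart : ∀ (U : Y.Opens) (hU : IsAffineOpen U), (((p ⁻¹ᵁ U : P.Opens) : Scheme.{u}) ≅ Proj (𝒮.deg U hU)))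

/-- Restriction of a global section to an open. -/
def resTop (f : 𝒮.presheaf.obj (op ⊤)) (U : Y.Opens) : 𝒮.presheaf.obj (op U) :=
  (𝒮.presheaf.map (homOfLE le_top).op).hom f

theorem res_resTop (f : 𝒮.presheaf.obj (op ⊤)) {U V : Y.Opens} (i : V ≤ U) :
    (𝒮.presheaf.map (homOfLE i).op).hom (resTop 𝒮 f U) = resTop 𝒮 f V := by
  unfold resTop
  rw [← CommRingCat.comp_apply, ← Functor.map_comp]
  rfl

/-- The piece of `X_f` over the affine open `U`. -/
def piece (f : 𝒮.presheaf.obj (op ⊤)) (U : Y.Opens) (hU : IsAffineOpen U) : P.Opens :=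
  (RelProj.emb p chart U hU) ''ᵁ Proj.basicOpen (𝒮.deg U hU) (resTop 𝒮 f U)

theorem piece_eq (f : 𝒮.presheaf.obj (op ⊤)) (U : Y.Opens) (hU : IsAffineOpen U) :
    piece 𝒮 p chart f U hU =
      (p ⁻¹ᵁ U).ι ''ᵁ ((chart U hU).hom ⁻¹ᵁ Proj.basicOpen (𝒮.deg U hU) (resTop 𝒮 f U)) := by
  unfold piece RelProj.emb
  rw [Scheme.Hom.comp_image]
  congr 1
  apply Opens.ext
  ext x
  simp only [Scheme.Hom.coe_image, Scheme.Hom.coe_preimage, Set.mem_image, Set.mem_preimage,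
    SetLike.mem_coe]
  constructor
  · rintro ⟨y, hy, rfl⟩
    rw [Scheme.inv_hom_apply]
    exact hy
  · intro hx
    exact ⟨(chart U hU).hom x, hx, Scheme.hom_inv_apply _ _⟩

theorem piece_le (f : 𝒮.presheaf.obj (op ⊤)) (U : Y.Opens) (hU : IsAffineOpen U) :
    piece 𝒮 p chart f U hU ≤ p ⁻¹ᵁ U := by
  rw [piece_eq]
  rintro _ ⟨x, -, rfl⟩
  exact x.2

theorem opensRange_emb (U : Y.Opens) (hU : IsAffineOpen U) :
    (RelProj.emb p chart U hU).opensRange = p ⁻¹ᵁ U := by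
  unfold RelProj.emb
  rw [Scheme.Hom.opensRange_comp_of_isIso, Scheme.Opens.opensRange_ι]

variable {𝒮 p chart}

/-- Compatibility of the pieces with restriction to a basic open. -/
theorem piece_basicOpen (hP : RelProj.IsRelProj 𝒮 p chart) (f : 𝒮.presheaf.obj (op ⊤))
    (U : Y.Opens) (hU : IsAffineOpen U) (r : Γ(Y, U)) :
    piece 𝒮 p chart f (Y.basicOpen r) (hU.basicOpen r) =
      piece 𝒮 p chart f U hU ⊓ p ⁻¹ᵁ (Y.basicOpen r) := by
  have hres := RelProj.map_res_emb hP U hU r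
  set ψ := Proj.map (𝒮.res hU (hU.basicOpen r) (Y.basicOpen_le r)) (𝒮.irrelevant_le_map U hU r) with hψ
  set eU := RelProj.emb p chart U hU with heU
  have hinj : Function.Injective eU.base := eU.isOpenEmbedding.injective
  have hD : Proj.basicOpen (𝒮.deg (Y.basicOpen r) (hU.basicOpen r)) (resTop 𝒮 f (Y.basicOpen r)) =
      ψ ⁻¹ᵁ Proj.basicOpen (𝒮.deg U hU) (resTop 𝒮 f U) := by
    rw [hψ, Proj.map_preimage_basicOpen]
    congr 1
    exact (res_resTop 𝒮 f (Y.basicOpen_le r)).symm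
  have hb : ∀ y, (RelProj.emb p chart (Y.basicOpen r) (hU.basicOpen r)) y = eU (ψ y) := by
    intro y
    rw [← hres, Scheme.Hom.comp_apply]
  have hrange : ((p ⁻¹ᵁ (Y.basicOpen r) : P.Opens) : Set P) = eU '' Set.range ψ := by
    have h1 := congrArg (fun V : P.Opens => (V : Set P))
      (opensRange_emb 𝒮 p chart _ (hU.basicOpen r))
    simp only [Scheme.Hom.coe_opensRange] at h1
    rw [← h1, ← Set.range_comp]
    exact congrArg Set.range (funext hb)
  apply Opens.ext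
  rw [Opens.coe_inf, hrange]
  unfold piece
  rw [hD]
  simp only [Scheme.Hom.coe_image, Scheme.Hom.coe_preimage]
  rw [← Set.image_inter hinj, ← Set.image_preimage_eq_inter_range, ← Set.image_comp]
  exact congrArg (fun g => g '' _) (funext hb)

theorem piece_congr (f : 𝒮.presheaf.obj (op ⊤)) {U U' : Y.Opens} (hU : IsAffineOpen U)
    (hU' : IsAffineOpen U') (e : U = U') : piece 𝒮 p chart f U hU = piece 𝒮 p chart f U' hU' := by
  subst e; rfl

variable (𝒮 p chart) in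
/-- The open `X_f`. -/
def xf (f : 𝒮.presheaf.obj (op ⊤)) : P.Opens := ⨆ U : Y.affineOpens, piece 𝒮 p chart f U.1 U.2

theorem xf_inf_preimage (hP : RelProj.IsRelProj 𝒮 p chart) (f : 𝒮.presheaf.obj (op ⊤))
    (U : Y.Opens) (hU : IsAffineOpen U) :
    xf 𝒮 p chart f ⊓ p ⁻¹ᵁ U = piece 𝒮 p chart f U hU := by
  apply le_antisymm
  · rintro x ⟨hx, hxU⟩
    obtain ⟨V, hV⟩ := Opens.mem_iSup.mp hx
    have hxV : x ∈ p ⁻¹ᵁ V.1 := piece_le 𝒮 p chart f V.1 V.2 hV
    obtain ⟨r, s, e, hxr⟩ := exists_basicOpen_le_affine_inter hU V.2 (p.base x) ⟨hxU, hxV⟩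
    have h1 : x ∈ piece 𝒮 p chart f (Y.basicOpen s) (V.2.basicOpen s) := by
      rw [piece_basicOpen hP f V.1 V.2 s]
      exact ⟨hV, e ▸ hxr⟩
    rw [← piece_congr f (hU.basicOpen r) (V.2.basicOpen s) e, piece_basicOpen hP f U hU r] at h1
    exact h1.1
  · exact le_inf (le_iSup (fun U : Y.affineOpens => piece 𝒮 p chart f U.1 U.2) ⟨U, hU⟩)
      (piece_le 𝒮 p chart f U hU)

theorem isAffineHom_xf (hP : RelProj.IsRelProj 𝒮 p chart) {d : ℕ} (hd : 0 < d)
    (f : 𝒮.presheaf.obj (op ⊤)) (hf : ∀ (U : Y.Opens) (hU : IsAffineOpen U), resTop 𝒮 f U ∈ 𝒮.deg U hU d) :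
    IsAffineHom ((xf 𝒮 p chart f).ι ≫ p) := by
  refine ⟨fun U hU => ?_⟩
  rw [Scheme.Hom.comp_preimage, ← Scheme.Hom.isAffineOpen_iff_of_isOpenImmersion (xf 𝒮 p chart f).ι,
    Scheme.Hom.image_preimage_eq_opensRange_inf, Scheme.Opens.opensRange_ι, xf_inf_preimage hP f U hU]
  exact (Proj.isAffineOpen_basicOpen (𝒮.deg U hU) (resTop 𝒮 f U) (hf U hU) hd).image_of_isOpenImmersion _

end Groth.Agent.Lib.Helper42
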