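import Groth.Agent.Lib.Helper42.ProjBaseChange
import Groth.Agent.Lib.Helper42.RelProjGlue
import Groth.Agent.Lib.Helper42.RelProjBasicOpen
import Groth.Prelude.Def_RelProj4

/-!
# The relative homogeneous spectrum commutes with base change
-/

set_option autoImplicit false
universe u

open CategoryTheory CategoryTheory.Limits AlgebraicGeometry TopologicalSpace Opposite
open scoped HomogeneousIdeal

namespace Groth.Agent.Lib.Helper42

section emb

variable {Y P : Scheme.{u}} {𝒮 : RelProj.QCGrAlg Y} {p : P ⟶ Y}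
  {chart : ∀ (U : Y.Opens) (hU : IsAffineOpen U), (((p ⁻¹ᵁ U : P.Opens) : Scheme.{u}) ≅ Proj (𝒮.deg U hU))}
  (hP : RelProj.IsRelProj 𝒮 p chart)

include hP in
theorem emb_comp_toOpen_ι (U : Y.Opens) (hU : IsAffineOpen U) :
    RelProj.emb p chart U hU ≫ p = RelProjGlue.toOpen 𝒮 U hU ≫ U.ι := by
  unfold RelProj.emb
  rw [RelProjGlue.toOpen_ι, Category.assoc, ← hP.chart_over U hU, Iso.inv_hom_id_assoc]

include hP in
/-- The chart of a relative `Proj` over an affine open is the preimage of that open. -/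
theorem isPullback_emb (U : Y.Opens) (hU : IsAffineOpen U) :
    IsPullback (RelProj.emb p chart U hU) (RelProjGlue.toOpen 𝒮 U hU) p U.ι := by
  refine (IsOpenImmersion.isPullback _ _ _ _ (emb_comp_toOpen_ι hP U hU) ?_).flip
  rw [Scheme.Opens.opensRange_ι, opensRange_emb]

end emb

/-- Over an affine pair, the base change square of `Proj`s is cartesian. -/
theorem isPullback_projMap_rel {Y Y' : Scheme.{u}} (ψ : Y' ⟶ Y) (𝒮 : RelProj.QCGrAlg Y)
    (𝒮' : RelProj.QCGrAlg Y') {U : Y.Opens} (hU : IsAffineOpen U) {U' : Y'.Opens}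
    (hU' : IsAffineOpen U') (hle : U' ≤ ψ ⁻¹ᵁ U) (φ : 𝒮.deg U hU →+*ᵍ 𝒮'.deg U' hU')
    (hpo : IsPushout (ψ.appLE U U' hle) (𝒮.str.app (op U)) (𝒮'.str.app (op U'))
      (CommRingCat.ofHom (φ : 𝒮.presheaf.obj (op U) →+* 𝒮'.presheaf.obj (op U'))))
    (hirr : (𝒮'.deg U' hU')₊ ≤ ((𝒮.deg U hU)₊).map φ) :
    IsPullback (Proj.map φ hirr) (RelProjGlue.toOpen 𝒮' U' hU') (RelProjGlue.toOpen 𝒮 U hU)
      (ψ.resLE U U' hle) := by
  letI a1 : Algebra Γ(Y, U) Γ(Y', U') := (ψ.appLE U U' hle).hom.toAlgebra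
  letI a2 : Algebra Γ(Y, U) (𝒮.presheaf.obj (op U)) := (𝒮.str.app (op U)).hom.toAlgebra
  letI a3 : Algebra Γ(Y', U') (𝒮'.presheaf.obj (op U')) := (𝒮'.str.app (op U')).hom.toAlgebra
  letI a4 : Algebra (𝒮.presheaf.obj (op U)) (𝒮'.presheaf.obj (op U')) :=
    (φ : 𝒮.presheaf.obj (op U) →+* 𝒮'.presheaf.obj (op U')).toAlgebra
  letI a5 : Algebra Γ(Y, U) (𝒮'.presheaf.obj (op U')) :=
    ((𝒮'.str.app (op U')).hom.comp (ψ.appLE U U' hle).hom).toAlgebra
  haveI t1 : IsScalarTower Γ(Y, U) Γ(Y', U') (𝒮'.presheaf.obj (op U')) :=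
    .of_algebraMap_eq fun r => rfl
  haveI t2 : IsScalarTower Γ(Y, U) (𝒮.presheaf.obj (op U)) (𝒮'.presheaf.obj (op U')) :=
    .of_algebraMap_eq fun r => congrArg (fun m => m.hom r) hpo.w
  haveI : Algebra.IsPushout Γ(Y, U) Γ(Y', U') (𝒮.presheaf.obj (op U)) (𝒮'.presheaf.obj (op U')) :=
    CommRingCat.isPushout_iff_isPushout.mp hpo
  have h := AwayBaseChange.isPullback_projMap (R' := Γ(Y, U)) (R := Γ(Y', U')) φ (fun b => rfl)
    (𝒮.str_mem U hU) (𝒮'.str_mem U' hU') hirr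
  refine IsPullback.of_iso h (Iso.refl _) (Iso.refl _) hU'.isoSpec.symm hU.isoSpec.symm ?_ ?_ ?_ ?_
  · simp
  · simp only [Iso.refl_hom, Category.id_comp, Iso.symm_hom, Category.assoc]
    rfl
  · simp only [Iso.refl_hom, Category.id_comp, Iso.symm_hom, Category.assoc]
    rfl
  · exact isoSpec_inv_resLE ψ hU hU' hle

end Groth.Agent.Lib.Helper42
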