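import Mathlib

/-!
# Graded rings generated in degrees `0` and `1`: the irrelevant ideal is generated in degree one
-/

set_option autoImplicit false
universe u

open DirectSum
open scoped HomogeneousIdeal

namespace Groth.Agent.Lib.Helper42

variable {B τ : Type u} [CommRing B] [SetLike τ B] [AddSubgroupClass τ B]
  {ℬ : ℕ → τ} [GradedRing ℬ]

theorem monomial_mem_span_degOne (w : B)
    (hw : w ∈ Submonoid.closure ((ℬ 0 : Set B) ∪ (ℬ 1 : Set B))) :
    ∃ m, w ∈ ℬ m ∧ (1 ≤ m → w ∈ Ideal.span (ℬ 1 : Set B)) := by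
  induction hw using Submonoid.closure_induction with
  | mem w hw =>
    rcases hw with hw | hw
    · exact ⟨0, hw, fun h => absurd h (by norm_num)⟩
    · exact ⟨1, hw, fun _ => Ideal.subset_span hw⟩
  | one => exact ⟨0, SetLike.GradedOne.one_mem, fun h => absurd h (by norm_num)⟩
  | mul w₁ w₂ _ _ ih₁ ih₂ =>
    obtain ⟨m₁, hm₁, H₁⟩ := ih₁
    obtain ⟨m₂, hm₂, H₂⟩ := ih₂
    refine ⟨m₁ + m₂, SetLike.mul_mem_graded hm₁ hm₂, fun hm => ?_⟩
    rcases Nat.eq_zero_or_pos m₁ with rfl | h₁
    · rw [zero_add] at hm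
      exact Ideal.mul_mem_left _ _ (H₂ hm)
    · exact Ideal.mul_mem_right _ _ (H₁ h₁)

/-- If `ℬ` is generated by `ℬ 0` and `ℬ 1`, its irrelevant ideal is generated by `ℬ 1`. -/
theorem irrelevant_le_span_degOne
    (hgen : Subring.closure ((ℬ 0 : Set B) ∪ (ℬ 1 : Set B)) = ⊤) :
    (HomogeneousIdeal.irrelevant ℬ).toIdeal ≤ Ideal.span (ℬ 1 : Set B) := by
  classical
  have key : ∀ y : B, ∀ k, 1 ≤ k → (decompose ℬ y k : B) ∈ Ideal.span (ℬ 1 : Set B) := by
    intro y k hk
    have hy : y ∈ Subring.closure ((ℬ 0 : Set B) ∪ (ℬ 1 : Set B)) := by rw [hgen]; trivial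
    rw [Subring.mem_closure_iff] at hy
    induction hy using AddSubgroup.closure_induction with
    | mem w hw =>
      obtain ⟨m, hm, H⟩ := monomial_mem_span_degOne w hw
      by_cases hmk : m = k
      · subst hmk
        rw [decompose_of_mem_same ℬ hm]
        exact H hk
      · rw [decompose_of_mem_ne ℬ hm hmk]
        exact zero_mem _
    | zero =>
      rw [decompose_zero, DirectSum.zero_apply, ZeroMemClass.coe_zero]
      exact zero_mem _
    | add a b _ _ iha ihb =>
      rw [decompose_add, DirectSum.add_apply, AddMemClass.coe_add]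
      exact add_mem iha ihb
    | neg a _ iha =>
      rw [decompose_neg]
      change (((-(decompose ℬ a)) k : ℬ k) : B) ∈ _
      have : ((-(decompose ℬ a)) k : ℬ k) = -((decompose ℬ a) k) := rfl
      rw [this, NegMemClass.coe_neg]
      exact neg_mem iha
  intro a ha
  rw [← DirectSum.sum_support_decompose ℬ a]
  refine Ideal.sum_mem _ fun i _ => ?_
  rcases Nat.eq_zero_or_pos i with rfl | hi
  · have : (decompose ℬ a 0 : B) = 0 := (HomogeneousIdeal.mem_irrelevant_iff ℬ a).mp ha
    rw [this]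
    exact zero_mem _
  · exact key a i hi

end Groth.Agent.Lib.Helper42
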