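import Groth.Agent.Lib.Helper42.ModLocal

/-!
# Glueing morphisms of `O_X`-modules from a basis of opens / from local identifications
-/

set_option autoImplicit false
universe u
open CategoryTheory CategoryTheory.Limits AlgebraicGeometry Opposite TopologicalSpace
noncomputable section

namespace Groth.Agent.Lib.Helper42.ModLocal

section Basis
variable {X : Scheme.{u}} {F G : X.Modules} {ι : Type u} (B : ι → X.Opens)
  (hB : Opens.IsBasis (Set.range B))
  (δ : ∀ i, Γ(F, B i) →+ Γ(G, B i))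
  (hres : ∀ i j (h : B j ≤ B i) (s : Γ(F, B i)),
    δ j (F.presheaf.map (homOfLE h).op s) = G.presheaf.map (homOfLE h).op (δ i s))
  (hsmul : ∀ i (r : Γ(X, B i)) (s : Γ(F, B i)), δ i (r • s) = r • δ i s)

def basisHom : (inducedFunctor B).op ⋙ F.presheaf ⟶ (inducedFunctor B).op ⋙ G.presheaf where
  app i := AddCommGrpCat.ofHom (δ i.unop)
  naturality i j g := by
    ext s
    exact hres i.unop j.unop (leOfHom g.unop.hom) s

def extendHom : F.presheaf ⟶ G.presheaf :=
  TopCat.Sheaf.restrictHomEquivHom F.presheaf ⟨G.presheaf, G.isSheaf⟩ hB (basisHom B δ hres)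

theorem extendHom_app (i : ι) (s : Γ(F, B i)) :
    (extendHom B hB δ hres).app (op (B i)) s = δ i s := by
  have := TopCat.Sheaf.extend_hom_app F.presheaf ⟨G.presheaf, G.isSheaf⟩ hB (basisHom B δ hres) i
  exact congr($this s)

theorem extendHom_res {U V : X.Opens} (h : V ≤ U) (s : Γ(F, U)) :
    (extendHom B hB δ hres).app (op V) (F.presheaf.map (homOfLE h).op s) =
      G.presheaf.map (homOfLE h).op ((extendHom B hB δ hres).app (op U) s) := by
  have := (extendHom B hB δ hres).naturality (homOfLE h).op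
  exact congr($this s)

include hsmul in
theorem extendHom_smul (U : X.Opens) (r : Γ(X, U)) (s : Γ(F, U)) :
    (extendHom B hB δ hres).app (op U) (r • s) = r • (extendHom B hB δ hres).app (op U) s := by
  refine section_ext G fun x hx => ?_
  obtain ⟨_, ⟨i, rfl⟩, hxi, hle⟩ := (Opens.isBasis_iff_nbhd.mp hB) hx
  refine ⟨B i, hle, hxi, ?_⟩
  rw [← extendHom_res, Scheme.Modules.map_smul, Scheme.Modules.map_smul, extendHom_app, hsmul,
    ← extendHom_res, extendHom_app]

/-- a morphism of modules glued from additive, linear, compatible maps on a basis of opens -/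
def homOfBasis : F ⟶ G :=
  ⟨PresheafOfModules.homMk (extendHom B hB δ hres)
    (fun U r s => extendHom_smul B hB δ hres hsmul U.unop r s)⟩

theorem homOfBasis_app (i : ι) (s : Γ(F, B i)) :
    (homOfBasis B hB δ hres hsmul).app (B i) s = δ i s :=
  extendHom_app B hB δ hres i s

include hB in
theorem hom_ext_of_basis (φ ψ : F ⟶ G) (h : ∀ i (s : Γ(F, B i)), φ.app (B i) s = ψ.app (B i) s) :
    φ = ψ := by
  refine Scheme.Modules.hom_ext _ _ fun W => ?_
  ext s
  refine section_ext G fun x hx => ?_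
  obtain ⟨_, ⟨i, rfl⟩, hxi, hle⟩ := (Opens.isBasis_iff_nbhd.mp hB) hx
  refine ⟨B i, hle, hxi, ?_⟩
  rw [← app_res, ← app_res, h]

end Basis

section Local
variable {X : Scheme.{u}} {ι : Type u} (V : ι → X.Opens) (hV : ∀ x : X, ∃ i, x ∈ V i)
  {F G : X.Modules} (T : ι → X.Modules) (lam' : ∀ i, G ⟶ T i) (κ : ∀ i, F ⟶ T i)
  (hbij : ∀ i (W : X.Opens), W ≤ V i → Function.Bijective ((lam' i).app W))
  (hcompat : ∀ i j (W : X.Opens), W ≤ V i → W ≤ V j → ∀ (s : Γ(F, W)) (t : Γ(G, W)),
    (lam' i).app W t = (κ i).app W s → (lam' j).app W t = (κ j).app W s)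
  (hT : ∀ i (W : X.Opens),
    Function.Injective ((T i).presheaf.map (homOfLE (inf_le_left : W ⊓ V i ≤ W)).op))

/-- index type of the basis of opens contained in some `V i` -/
abbrev LIdx : Type u := Σ i : ι, {W : X.Opens // W ≤ V i}

/-- the basis of opens contained in some `V i` -/
abbrev LB : LIdx V → X.Opens := fun j => j.2.1

include hV in
theorem isBasis_LB : Opens.IsBasis (Set.range (LB V)) := by
  rw [Opens.isBasis_iff_nbhd]
  intro W x hx
  obtain ⟨i, hi⟩ := hV x
  exact ⟨W ⊓ V i, ⟨⟨i, W ⊓ V i, inf_le_right⟩, rfl⟩, ⟨hx, hi⟩, inf_le_left⟩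

/-- the local map `Γ(F, W) → Γ(G, W)`, `W ≤ V i` -/
def localMap (j : LIdx V) : Γ(F, LB V j) →+ Γ(G, LB V j) :=
  (AddEquiv.ofBijective ((lam' j.1).app j.2.1).hom (hbij j.1 j.2.1 j.2.2)).symm.toAddMonoidHom.comp
    ((κ j.1).app j.2.1).hom

theorem lam'_localMap (j : LIdx V) (s : Γ(F, LB V j)) :
    (lam' j.1).app j.2.1 (localMap V T lam' κ hbij j s) = (κ j.1).app j.2.1 s :=
  (AddEquiv.ofBijective ((lam' j.1).app j.2.1).hom (hbij j.1 j.2.1 j.2.2)).apply_symm_apply _

include hcompat in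
theorem localMap_res (j j' : LIdx V) (h : LB V j' ≤ LB V j) (s : Γ(F, LB V j)) :
    localMap V T lam' κ hbij j' (F.presheaf.map (homOfLE h).op s) =
      G.presheaf.map (homOfLE h).op (localMap V T lam' κ hbij j s) := by
  apply (hbij j'.1 j'.2.1 j'.2.2).injective
  rw [lam'_localMap]
  symm
  apply hcompat j.1 j'.1 j'.2.1 (h.trans j.2.2) j'.2.2
  rw [app_res, app_res, lam'_localMap]

theorem localMap_smul (j : LIdx V) (r : Γ(X, LB V j)) (s : Γ(F, LB V j)) :
    localMap V T lam' κ hbij j (r • s) = r • localMap V T lam' κ hbij j s := by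
  apply (hbij j.1 j.2.1 j.2.2).injective
  rw [lam'_localMap, Scheme.Modules.Hom.app_smul, Scheme.Modules.Hom.app_smul, lam'_localMap]

include hV hbij hcompat hT in
theorem existsUnique_hom_of_local : ∃! φ : F ⟶ G, ∀ i, φ ≫ lam' i = κ i := by
  have hB := isBasis_LB V hV
  refine ⟨homOfBasis (LB V) hB (localMap V T lam' κ hbij) (localMap_res V T lam' κ hbij hcompat)
    (localMap_smul V T lam' κ hbij), ?_, ?_⟩
  · intro i
    refine Scheme.Modules.hom_ext _ _ fun W => ?_
    ext s
    apply hT i W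
    change (T i).presheaf.map _ ((lam' i).app W ((homOfBasis (LB V) hB (localMap V T lam' κ hbij)
      (localMap_res V T lam' κ hbij hcompat) (localMap_smul V T lam' κ hbij)).app W s)) =
      (T i).presheaf.map _ ((κ i).app W s)
    rw [← app_res, ← app_res, ← app_res]
    have := homOfBasis_app (LB V) hB (localMap V T lam' κ hbij) (localMap_res V T lam' κ hbij hcompat)
      (localMap_smul V T lam' κ hbij) ⟨i, W ⊓ V i, inf_le_right⟩
      (F.presheaf.map (homOfLE (inf_le_left : W ⊓ V i ≤ W)).op s)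
    rw [this]
    exact lam'_localMap V T lam' κ hbij ⟨i, W ⊓ V i, inf_le_right⟩ _
  · intro ψ hψ
    apply hom_ext_of_basis (LB V) hB
    intro j s
    rw [homOfBasis_app]
    apply (hbij j.1 j.2.1 j.2.2).injective
    rw [lam'_localMap]
    exact congrArg (fun φ => (Scheme.Modules.Hom.app φ j.2.1) s) (hψ j.1)

end Local

section Iso
variable {X : Scheme.{u}}

theorem isIso_of_bijective_basis {F G : X.Modules} (φ : F ⟶ G)
    (h : ∀ x : X, ∃ V : X.Opens, x ∈ V ∧ ∀ W : X.Opens, W ≤ V → Function.Bijective (φ.app W)) :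
    IsIso φ := by
  have h1 : Mono φ := mono_of_basis φ fun x => by
    obtain ⟨V, hxV, hV⟩ := h x
    exact ⟨V, hxV, fun W hW => (hV W hW).injective⟩
  have h2 : Epi φ := epi_of_locally_surjective φ fun W t x hx => by
    obtain ⟨V, hxV, hV⟩ := h x
    obtain ⟨s, hs⟩ := (hV (W ⊓ V) inf_le_right).surjective (G.presheaf.map (homOfLE inf_le_left).op t)
    exact ⟨W ⊓ V, inf_le_left, ⟨hx, hxV⟩, s, hs⟩
  exact isIso_of_mono_of_epi φ

end Iso

end Groth.Agent.Lib.Helper42.ModLocal
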