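import Groth.Agent.Lib.Helper42.SymGrAlg
import Groth.Agent.Lib.Helper42.ModGlue
import Groth.Agent.Lib.Helper42.GenDegOneIrr
import Groth.Agent.Lib.Helper49.QCAlgModule

/-!
# The graded surjection `Sym(𝒮) → 𝒮` through the degree-one projection (helper42; S12485)
-/

set_option autoImplicit false
set_option linter.unusedSectionVars false
universe u
open CategoryTheory CategoryTheory.Limits AlgebraicGeometry Opposite TopologicalSpace
open scoped HomogeneousIdeal
noncomputable section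

namespace Groth.Agent.Lib.Helper42.SymProjHom

open Groth.Agent.Lib.Helper18.SymQC Groth.Agent.Lib.Helper18.SymLoc RelSpec
open Groth.Agent.Lib.Helper42.SymGrading Groth.Agent.Lib.Helper42.SymGrAlg

variable {Y : Scheme.{u}} (𝒮 : RelProj.QCGrAlg Y)

theorem isBasis_range_affine : Opens.IsBasis (Set.range (fun U : Y.affineOpens => (U.1 : Y.Opens))) := by
  have : Set.range (fun U : Y.affineOpens => (U.1 : Y.Opens)) = Y.affineOpens := Subtype.range_coe
  rw [this]
  exact Y.isBasis_affineOpens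

/-- the degree-`d` projection on sections over an affine open -/
def projU (d : ℕ) (U : Y.affineOpens) : Γ(𝒮.toModule, U.1) →+ Γ(𝒮.toModule, U.1) where
  toFun s := ofSec 𝒮.toQCAlg U.1
    (DirectSum.decompose (𝒮.deg U.1 U.2) (toSec 𝒮.toQCAlg U.1 s) d : 𝒮.presheaf.obj (op U.1))
  map_zero' := by
    have h0 : toSec 𝒮.toQCAlg U.1 0 = 0 := rfl
    rw [h0, DirectSum.decompose_zero, DirectSum.zero_apply, ZeroMemClass.coe_zero]
    rfl
  map_add' a b := by
    have h0 : toSec 𝒮.toQCAlg U.1 (a + b) = toSec 𝒮.toQCAlg U.1 a + toSec 𝒮.toQCAlg U.1 b := rfl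
    rw [h0, DirectSum.decompose_add, DirectSum.add_apply, AddMemClass.coe_add]
    rfl

theorem projU_apply (d : ℕ) (U : Y.affineOpens) (s : Γ(𝒮.toModule, U.1)) :
    toSec 𝒮.toQCAlg U.1 (projU 𝒮 d U s) =
      (DirectSum.decompose (𝒮.deg U.1 U.2) (toSec 𝒮.toQCAlg U.1 s) d : 𝒮.presheaf.obj (op U.1)) := rfl

/-- the degree-`d` projection as an endomorphism of the `O_Y`-module `𝒮` -/
def projHom (d : ℕ) : 𝒮.toModule ⟶ 𝒮.toModule :=
  ModLocal.homOfBasis (fun U : Y.affineOpens => (U.1 : Y.Opens)) isBasis_range_affine (projU 𝒮 d)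
    (by
      intro U V h s
      have h1 := (GradedRingHom.map_directSumDecompose (𝒮.deg U.1 U.2) (𝒮.deg V.1 V.2) (𝒮.res U.2 V.2 h)
        (x := toSec 𝒮.toQCAlg U.1 s) (i := d)).symm
      exact h1)
    (by
      intro U r s
      have h1 := DirectSum.coe_decompose_mul_of_left_mem_zero (𝒮.deg U.1 U.2) (𝒮.str_mem U.1 U.2 r)
        (b := toSec 𝒮.toQCAlg U.1 s) (j := d)
      exact h1)

theorem projHom_app (d : ℕ) (U : Y.Opens) (hU : IsAffineOpen U) (s : Γ(𝒮.toModule, U)) :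
    toSec 𝒮.toQCAlg U ((projHom 𝒮 d).app U s) =
      (DirectSum.decompose (𝒮.deg U hU) (toSec 𝒮.toQCAlg U s) d : 𝒮.presheaf.obj (op U)) :=
  congrArg (toSec 𝒮.toQCAlg U) (ModLocal.homOfBasis_app (fun U : Y.affineOpens => (U.1 : Y.Opens))
    isBasis_range_affine (projU 𝒮 d) _ _ ⟨U, hU⟩ s)

theorem projHom_mem (d : ℕ) (U : Y.Opens) (hU : IsAffineOpen U) (s : Γ(𝒮.toModule, U)) :
    toSec 𝒮.toQCAlg U ((projHom 𝒮 d).app U s) ∈ 𝒮.deg U hU d := by
  rw [projHom_app 𝒮 d U hU]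
  exact SetLike.coe_mem _

theorem projHom_of_mem (d : ℕ) (U : Y.Opens) (hU : IsAffineOpen U) (s : 𝒮.presheaf.obj (op U))
    (hs : s ∈ 𝒮.deg U hU d) : toSec 𝒮.toQCAlg U ((projHom 𝒮 d).app U (ofSec 𝒮.toQCAlg U s)) = s := by
  rw [projHom_app 𝒮 d U hU]
  exact DirectSum.decompose_of_mem_same _ hs

section lift
variable (E : Y.Modules) [E.IsQuasicoherent] (φ : E ⟶ 𝒮.toModule)
  (hφ : ∀ (U : Y.Opens) (hU : IsAffineOpen U) (x : Γ(E, U)), toSec 𝒮.toQCAlg U (φ.app U x) ∈ 𝒮.deg U hU 1)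

include hφ in
/-- the lift of a module map landing in degree one is graded -/
theorem liftU_mem_deg (U : Y.Opens) (hU : IsAffineOpen U) {n : ℕ} {z : SymmetricAlgebra Γ(Y, U) Γ(E, U)}
    (hz : z ∈ deg Γ(Y, U) Γ(E, U) n) : liftU E 𝒮.toQCAlg φ U z ∈ 𝒮.deg U hU n := by
  induction hz using Submodule.pow_induction_on_left' with
  | algebraMap r =>
    rw [liftU_algebraMap]
    exact 𝒮.str_mem U hU r
  | add x y i hx hy ihx ihy =>
    rw [map_add]
    exact add_mem ihx ihy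
  | mem_mul m hm i x hx ih =>
    obtain ⟨m, rfl⟩ := hm
    rw [map_mul, liftU_ι]
    have := SetLike.mul_mem_graded (hφ U hU m) ih
    rwa [add_comm] at this

/-- components of an algebra map out of `symAlg E`, read through `secE` -/
theorem hom_app_eq (B : QCAlg Y) (φ' : E ⟶ B.toModule) (ψ : symAlg E ⟶ B)
    (hψ : jHom E ≫ QCAlg.Hom.toModuleMap ψ = φ') (U : Y.Opens) (hU : IsAffineOpen U)
    (x : (symAlg E).presheaf.obj (op U)) :
    (ψ.hom.app (op U)).hom x = liftU E B φ' U (secE E U hU x) := by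
  have h1 := compU_eq E B φ' ψ hψ U hU x
  have h2 := compU_eq E (symAlg E) (jHom E) (𝟙 _) (by rw [toModuleMap_id, Category.comp_id]) U hU x
  have h3 : secE E U hU x = (gam E U hU).hom x := by
    rw [← secE_liftU E U hU ((gam E U hU).hom x), ← h2]
    rfl
  rw [h3]
  exact h1

include hφ in
theorem isGradedHom_psiHom :
    RelProj.IsGradedHom (𝒜 := symGrAlg E) (ℬ := 𝒮) (psiHom E 𝒮.toQCAlg φ) := by
  intro U hU d x hx
  have h1 := hom_app_eq E 𝒮.toQCAlg φ (psiHom E 𝒮.toQCAlg φ) (jHom_psiHom E 𝒮.toQCAlg φ) U hU x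
  have h2 : liftU E 𝒮.toQCAlg φ U (secE E U hU x) ∈ 𝒮.deg U hU d := liftU_mem_deg 𝒮 E φ hφ U hU hx
  rw [← h1] at h2
  exact h2

end lift

end Groth.Agent.Lib.Helper42.SymProjHom
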