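import Mathlib

set_option autoImplicit false
universe u
open CategoryTheory CategoryTheory.Limits AlgebraicGeometry TopologicalSpace Opposite

namespace Groth.Agent.Lib.Helper42
namespace QCohColim

variable {J : Type u} [Category.{u} J]

/-- sections over `U` as a functor to abelian groups -/
noncomputable def sec {X : Scheme.{u}} (U : X.Opens) : X.Modules ⥤ Ab :=
  Scheme.Modules.toPresheaf X ⋙ (evaluation _ _).obj (op U)

@[simp] lemma sec_obj {X : Scheme.{u}} (U : X.Opens) (M : X.Modules) : (sec U).obj M = Γ(M, U) := rfl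
@[simp] lemma sec_map {X : Scheme.{u}} (U : X.Opens) {M N : X.Modules} (φ : M ⟶ N) :
    (sec U).map φ = φ.app U := rfl

/-- global sections on `Spec R` -/
noncomputable def secTopIso {R : CommRingCat.{u}} :
    sec (⊤ : (Spec R).Opens) ≅ moduleSpecΓFunctor (R := R) ⋙ forget₂ (ModuleCat R) Ab :=
  NatIso.ofComponents (fun M => Iso.refl _) (fun f => by rfl)

/-- sections over an open as sections of the restriction -/
noncomputable def secIso {X : Scheme.{u}} {U : X.Opens} (hU : IsAffineOpen U) :
    sec U ≅ Scheme.Modules.restrictFunctor hU.fromSpec ⋙ sec (⊤ : (Spec Γ(X, U)).Opens) :=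
  NatIso.ofComponents
    (fun M => M.presheaf.mapIso (eqToIso (by
      rw [Scheme.Hom.image_top_eq_opensRange, hU.opensRange_fromSpec])).op)
    (fun f => by
      exact (f.mapPresheaf.naturality _).symm)

/-- `Γ` on `Spec R` preserves colimits of diagrams of quasi-coherent modules. -/
lemma preservesColimit_moduleSpecΓFunctor {R : CommRingCat.{u}} (K : J ⥤ (Spec R).Modules)
    (hK : ∀ j, (K.obj j).IsQuasicoherent) :
    PreservesColimit K (moduleSpecΓFunctor (R := R)) := by
  have hiso : ∀ j, IsIso (Scheme.Modules.fromTildeΓ (K.obj j)) := fun j => by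
    have := hK j; infer_instance
  have e : (K ⋙ moduleSpecΓFunctor (R := R)) ⋙ tilde.functor R ≅ K :=
    NatIso.ofComponents (fun j => @asIso _ _ _ _ (Scheme.Modules.fromTildeΓ (K.obj j)) (hiso j))
      (fun f => Scheme.Modules.fromTildeΓNatTrans.naturality (K.map f))
  have : PreservesColimit (K ⋙ moduleSpecΓFunctor (R := R))
      (tilde.functor R ⋙ moduleSpecΓFunctor (R := R)) :=
    preservesColimit_of_natIso _ (tilde.toTildeΓNatIso (R := R))
  have : PreservesColimit ((K ⋙ moduleSpecΓFunctor (R := R)) ⋙ tilde.functor R)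
      (moduleSpecΓFunctor (R := R)) :=
    preservesColimit_of_preserves_colimit_cocone
      (isColimitOfPreserves (tilde.functor R) (colimit.isColimit (K ⋙ moduleSpecΓFunctor (R := R))))
      (isColimitOfPreserves (tilde.functor R ⋙ moduleSpecΓFunctor (R := R))
        (colimit.isColimit (K ⋙ moduleSpecΓFunctor (R := R))))
  exact preservesColimit_of_iso_diagram _ e

/-- Sections over an affine open preserve colimits of diagrams of quasi-coherent modules. -/
lemma preservesColimit_sec {X : Scheme.{u}} {U : X.Opens} (hU : IsAffineOpen U)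
    (D : J ⥤ X.Modules) (hD : ∀ j, (D.obj j).IsQuasicoherent) :
    PreservesColimit D (sec U) := by
  have h1 : PreservesColimit (D ⋙ Scheme.Modules.restrictFunctor hU.fromSpec)
      (moduleSpecΓFunctor (R := Γ(X, U))) :=
    preservesColimit_moduleSpecΓFunctor _ (fun j => by
      have := hD j
      exact inferInstanceAs (((Scheme.Modules.restrictFunctor hU.fromSpec).obj (D.obj j)).IsQuasicoherent))
  have h2 : PreservesColimit (D ⋙ Scheme.Modules.restrictFunctor hU.fromSpec)
      (sec (⊤ : (Spec Γ(X, U)).Opens)) :=
    preservesColimit_of_natIso _ secTopIso.symm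
  have h3 : PreservesColimit D
      (Scheme.Modules.restrictFunctor hU.fromSpec ⋙ sec (⊤ : (Spec Γ(X, U)).Opens)) :=
    inferInstance
  exact preservesColimit_of_natIso _ (secIso hU).symm

end QCohColim
end Groth.Agent.Lib.Helper42
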