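import Groth.Agent.Lib.Helper42.DirImgFull
import Groth.Agent.Lib.Helper42.QCohColim

/-!
# The direct image along an affine morphism preserves colimits of quasi-coherent modules
(as a functor to modules over the direct image algebra)
-/

set_option autoImplicit false
universe u
open CategoryTheory CategoryTheory.Limits AlgebraicGeometry TopologicalSpace Opposite
open Groth.Agent.Lib.Helper49 Groth.Agent.Lib.Helper49.ModGlue Groth.Agent.Lib.Helper42.DirImgFull

namespace Groth.Agent.Lib.Helper42
namespace DirImgColim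

attribute [local instance] instCategoryAMod

variable {X S : Scheme.{u}} (f : X ⟶ S) [IsAffineHom f]

/-- the underlying `O_S`-module -/
noncomputable abbrev under (T : AMod (RelSpec.QCAlg.directImage f)) : S.Modules :=
  (AMod.toOS (RelSpec.QCAlg.directImage f)).obj T

/-- the action of the direct image algebra -/
@[reducible] noncomputable def moduleB (T : AMod (RelSpec.QCAlg.directImage f)) (V : S.Opens) :
    Module Γ(X, f ⁻¹ᵁ V) Γ(under f T, V) :=
  (T.val.obj (op V)).isModule

attribute [local instance] moduleB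

lemma res_smulB (T : AMod (RelSpec.QCAlg.directImage f)) {V V' : S.Opens} (h : V' ≤ V)
    (b : Γ(X, f ⁻¹ᵁ V)) (t : Γ(under f T, V)) :
    res (under f T) h (b • t) = resO (f.preimage_mono h) b • res (under f T) h t :=
  T.val.map_smul (homOfLE h).op b t

lemma smul_under (T : AMod (RelSpec.QCAlg.directImage f)) {V : S.Opens}
    (r : Γ(S, V)) (t : Γ(under f T, V)) :
    r • t = (f.app V r) • t := rfl

omit [IsAffineHom f] in
lemma smul_push (N : X.Modules) {V : S.Opens}
    (r : Γ(S, V)) (n : Γ((Scheme.Modules.pushforward f).obj N, V)) :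
    r • n = ((f.app V r) • (show Γ(N, f ⁻¹ᵁ V) from n) : Γ(N, f ⁻¹ᵁ V)) := rfl

/-- an `O_S`-linear map which is linear over the direct image algebra is a morphism of modules
over the direct image algebra -/
noncomputable def mkHom (N : X.Modules) (T : AMod (RelSpec.QCAlg.directImage f))
    (u : (Scheme.Modules.pushforward f).obj N ⟶ under f T)
    (hu : ∀ (V : S.Opens) (b : Γ(X, f ⁻¹ᵁ V)) (n : Γ(N, f ⁻¹ᵁ V)),
      u.app V (b • n) = b • u.app V n) :
    (AMod.dirImg f).obj N ⟶ T :=
  ⟨PresheafOfModules.homMk (M₁ := ((AMod.dirImg f).obj N).val) (M₂ := T.val) u.mapPresheaf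
    (fun V b n => hu V.unop b n)⟩

lemma mkHom_app (N : X.Modules) (T : AMod (RelSpec.QCAlg.directImage f))
    (u : (Scheme.Modules.pushforward f).obj N ⟶ under f T)
    (hu : ∀ (V : S.Opens) (b : Γ(X, f ⁻¹ᵁ V)) (n : Γ(N, f ⁻¹ᵁ V)),
      u.app V (b • n) = b • u.app V n) (V : S.Opens) (n : Γ(N, f ⁻¹ᵁ V)) :
    ((AMod.toOS _).map (mkHom f N T u hu)).app V n = u.app V n := rfl

/-- the underlying map on sections of a morphism of modules over the direct image algebra -/
noncomputable def appB {N : X.Modules} {T : AMod (RelSpec.QCAlg.directImage f)}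
    (g : (AMod.dirImg f).obj N ⟶ T) (V : S.Opens) : Γ(N, f ⁻¹ᵁ V) →+ Γ(under f T, V) :=
  (((AMod.toOS _).map g).app V).hom

lemma appB_smul {N : X.Modules} {T : AMod (RelSpec.QCAlg.directImage f)}
    (g : (AMod.dirImg f).obj N ⟶ T) (V : S.Opens) (b : Γ(X, f ⁻¹ᵁ V)) (n : Γ(N, f ⁻¹ᵁ V)) :
    appB f g V (b • n) = b • appB f g V n :=
  (g.val.app (op V)).hom.map_smul b n

lemma appB_res {N : X.Modules} {T : AMod (RelSpec.QCAlg.directImage f)}
    (g : (AMod.dirImg f).obj N ⟶ T) {V V' : S.Opens} (h : V' ≤ V) (n : Γ(N, f ⁻¹ᵁ V)) :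
    appB f g V' (res N (f.preimage_mono h) n) = res (under f T) h (appB f g V n) :=
  PresheafOfModules.naturality_apply g.val (homOfLE h).op n

lemma hom_ext_appB {N : X.Modules} {T : AMod (RelSpec.QCAlg.directImage f)}
    (g g' : (AMod.dirImg f).obj N ⟶ T) (h : ∀ V n, appB f g V n = appB f g' V n) : g = g' := by
  apply SheafOfModules.hom_ext
  ext V n
  exact h V.unop n

lemma appB_comp_map {N N' : X.Modules} {T : AMod (RelSpec.QCAlg.directImage f)}
    (a : N ⟶ N') (g : (AMod.dirImg f).obj N' ⟶ T) (V : S.Opens) (n : Γ(N, f ⁻¹ᵁ V)) :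
    appB f ((AMod.dirImg f).map a ≫ g) V n = appB f g V (a.app (f ⁻¹ᵁ V) n) := rfl

/-- local data on affine opens for a morphism `f_* N ⟶ T` -/
structure AffHom (N : X.Modules) (T : AMod (RelSpec.QCAlg.directImage f)) where
  /-- the components -/
  app : ∀ V : S.affineOpens, Γ(N, f ⁻¹ᵁ V.1) →+ Γ(under f T, V.1)
  smul : ∀ (V : S.affineOpens) (b : Γ(X, f ⁻¹ᵁ V.1)) (n : Γ(N, f ⁻¹ᵁ V.1)),
    app V (b • n) = b • app V n
  nat : ∀ (V V' : S.affineOpens) (h : V'.1 ≤ V.1) (n : Γ(N, f ⁻¹ᵁ V.1)),
    app V' (res N (f.preimage_mono h) n) = res (under f T) h (app V n)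

variable {f}

/-- the local homomorphisms -/
noncomputable def AffHom.localHom {N : X.Modules} {T : AMod (RelSpec.QCAlg.directImage f)}
    (γ : AffHom f N T) :
    LocalHom ((Scheme.Modules.pushforward f).obj N) (under f T) S.affineOpens where
  φ V := γ.app V
  smul V r s := γ.smul V (f.app V.1 r) s
  compat V W h s := (γ.nat V W h s).symm

/-- the glued `O_S`-linear map -/
noncomputable def AffHom.glueO {N : X.Modules} {T : AMod (RelSpec.QCAlg.directImage f)}
    (γ : AffHom f N T) : (Scheme.Modules.pushforward f).obj N ⟶ under f T :=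
  γ.localHom.glue S.isBasis_affineOpens

lemma AffHom.glueO_app {N : X.Modules} {T : AMod (RelSpec.QCAlg.directImage f)}
    (γ : AffHom f N T) (V : S.affineOpens) (n : Γ(N, f ⁻¹ᵁ V.1)) :
    γ.glueO.app V.1 n = γ.app V n :=
  γ.localHom.glue_app S.isBasis_affineOpens V n

lemma AffHom.glueO_smul {N : X.Modules} {T : AMod (RelSpec.QCAlg.directImage f)}
    (γ : AffHom f N T) (V : S.Opens) (b : Γ(X, f ⁻¹ᵁ V)) (n : Γ(N, f ⁻¹ᵁ V)) :
    γ.glueO.app V (b • n) = b • γ.glueO.app V n := by
  refine eq_of_basis S.isBasis_affineOpens (under f T) _ _ (fun W hW => ?_)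
  have e1 : res (under f T) hW (γ.glueO.app V (b • n)) =
      γ.glueO.app W.1 (res N (f.preimage_mono hW) (b • n)) :=
    (app_res γ.glueO hW (b • n)).symm
  have e2 : res (under f T) hW (γ.glueO.app V n) =
      γ.glueO.app W.1 (res N (f.preimage_mono hW) n) :=
    (app_res γ.glueO hW n).symm
  rw [res_smulB, e1, e2, res_smul, γ.glueO_app, γ.glueO_app, γ.smul]

/-- the glued morphism -/
noncomputable def AffHom.glue {N : X.Modules} {T : AMod (RelSpec.QCAlg.directImage f)}
    (γ : AffHom f N T) : (AMod.dirImg f).obj N ⟶ T :=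
  mkHom f N T γ.glueO γ.glueO_smul

lemma AffHom.appB_glue {N : X.Modules} {T : AMod (RelSpec.QCAlg.directImage f)}
    (γ : AffHom f N T) (V : S.affineOpens) (n : Γ(N, f ⁻¹ᵁ V.1)) :
    appB f γ.glue V.1 n = γ.app V n :=
  γ.glueO_app V n

/-- morphisms to a module over the direct image algebra are determined on affine opens -/
lemma hom_ext_affine {N : X.Modules} {T : AMod (RelSpec.QCAlg.directImage f)}
    (g g' : (AMod.dirImg f).obj N ⟶ T)
    (h : ∀ (V : S.affineOpens) n, appB f g V.1 n = appB f g' V.1 n) : g = g' := by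
  refine hom_ext_appB f g g' (fun V n => ?_)
  refine eq_of_basis S.isBasis_affineOpens (under f T) _ _ (fun W hW => ?_)
  rw [← appB_res, ← appB_res, h]

section Colim

variable {J : Type u} [Category.{u} J] (D : J ⥤ X.Modules) (hD : ∀ j, (D.obj j).IsQuasicoherent)
  (c : Cocone D) (hc : IsColimit c)

include hD in
/-- the cocone of sections over the preimage of an affine open is a colimit -/
noncomputable def secIsColimit (V : S.affineOpens) :
    IsColimit ((QCohColim.sec (f ⁻¹ᵁ V.1)).mapCocone c) :=
  haveI := QCohColim.preservesColimit_sec (IsAffineOpen.preimage V.2 f) D hD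
  isColimitOfPreserves _ hc

include hD hc in
lemma sec_hom_ext (V : S.affineOpens) {Z : Type u} [AddCommGroup Z]
    (a b : Γ(c.pt, f ⁻¹ᵁ V.1) →+ Z)
    (h : ∀ j (n : Γ(D.obj j, f ⁻¹ᵁ V.1)),
      a ((c.ι.app j).app (f ⁻¹ᵁ V.1) n) = b ((c.ι.app j).app (f ⁻¹ᵁ V.1) n)) : a = b := by
  have := (secIsColimit D hD c hc V).hom_ext (f := AddCommGrpCat.ofHom a)
    (f' := AddCommGrpCat.ofHom b) (fun j => by
      ext n
      exact h j n)
  exact congrArg AddCommGrpCat.Hom.hom this

variable (s : Cocone (D ⋙ AMod.dirImg f))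

/-- the cocone of sections of a cocone of modules over the direct image algebra -/
noncomputable def secCocone (V : S.Opens) : Cocone (D ⋙ QCohColim.sec (f ⁻¹ᵁ V)) where
  pt := Γ(under f s.pt, V)
  ι :=
    { app := fun j => AddCommGrpCat.ofHom (appB f (s.ι.app j) V)
      naturality := fun j j' a => by
        ext n
        have h1 := s.w a
        have h2 : appB f ((AMod.dirImg f).map (D.map a) ≫ s.ι.app j') V n =
            appB f (s.ι.app j) V n := by
          have := congrArg (fun g => appB f g V n) h1
          exact this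
        exact h2 }

/-- the induced map on sections over an affine open -/
noncomputable def descSec (V : S.affineOpens) : Γ(c.pt, f ⁻¹ᵁ V.1) →+ Γ(under f s.pt, V.1) :=
  ((secIsColimit D hD c hc V).desc (secCocone D s V.1)).hom

lemma descSec_app (V : S.affineOpens) (j : J) (n : Γ(D.obj j, f ⁻¹ᵁ V.1)) :
    descSec D hD c hc s V ((c.ι.app j).app (f ⁻¹ᵁ V.1) n) = appB f (s.ι.app j) V.1 n := by
  have := (secIsColimit D hD c hc V).fac (secCocone D s V.1) j
  exact congr($this n)

/-- the local data of the induced morphism -/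
noncomputable def descAffHom : AffHom f c.pt s.pt where
  app V := descSec D hD c hc s V
  smul V b n := by
    have key : (descSec D hD c hc s V).comp (DistribSMul.toAddMonoidHom _ b) =
        (DistribSMul.toAddMonoidHom _ b).comp (descSec D hD c hc s V) := by
      refine sec_hom_ext D hD c hc V _ _ (fun j m => ?_)
      simp only [AddMonoidHom.comp_apply, DistribSMul.toAddMonoidHom_apply]
      rw [← Scheme.Modules.Hom.app_smul, descSec_app, descSec_app, appB_smul]
    exact DFunLike.congr_fun key n
  nat V V' h n := by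
    have key : (descSec D hD c hc s V').comp (res c.pt (f.preimage_mono h)) =
        (res (under f s.pt) h).comp (descSec D hD c hc s V) := by
      refine sec_hom_ext D hD c hc V _ _ (fun j m => ?_)
      simp only [AddMonoidHom.comp_apply]
      rw [← app_res, descSec_app, descSec_app]
      exact appB_res f (s.ι.app j) h m
    exact DFunLike.congr_fun key n

include hD hc in
/-- The direct image along an affine morphism preserves colimits of diagrams of quasi-coherent
modules, as a functor to modules over the direct image algebra. -/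
theorem nonempty_isColimit_mapCocone : Nonempty (IsColimit ((AMod.dirImg f).mapCocone c)) := by
  refine ⟨{ desc := fun s => (descAffHom D hD c hc s).glue, fac := ?_, uniq := ?_ }⟩
  · intro s j
    refine hom_ext_affine _ _ (fun V n => ?_)
    change appB f ((AMod.dirImg f).map (c.ι.app j) ≫ (descAffHom D hD c hc s).glue) V.1 n = _
    rw [appB_comp_map, AffHom.appB_glue]
    exact descSec_app D hD c hc s V j n
  · intro s m hm
    refine hom_ext_affine _ _ (fun V n => ?_)
    rw [AffHom.appB_glue]
    have key : appB f m V.1 = descSec D hD c hc s V := by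
      refine sec_hom_ext D hD c hc V _ _ (fun j k => ?_)
      rw [descSec_app, ← appB_comp_map]
      have := congrArg (fun g => appB f g V.1 k) (hm j)
      exact this
    exact DFunLike.congr_fun key n

include hD in
/-- the direct image preserves the colimit of a diagram of quasi-coherent modules -/
lemma preservesColimit_dirImg [HasColimit D] : PreservesColimit D (AMod.dirImg f) :=
  preservesColimit_of_preserves_colimit_cocone (colimit.isColimit D)
    (nonempty_isColimit_mapCocone D hD _ (colimit.isColimit D)).some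

end Colim

end DirImgColim
end Groth.Agent.Lib.Helper42
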