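import Mathlib.AlgebraicGeometry.Pullbacks
import Mathlib.AlgebraicGeometry.Restrict
import Mathlib.AlgebraicGeometry.AffineScheme

/-!
# Cartesian squares of schemes can be checked locally on the base of the base change
-/

set_option autoImplicit false
universe u

open CategoryTheory CategoryTheory.Limits AlgebraicGeometry TopologicalSpace Opposite

namespace Groth.Agent.Lib.Helper42

/-- A commutative square `h, q, p, g` is cartesian as soon as, for an open cover `𝒱` of the source `Y'` of `g`,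
each piece `Wᵢ = q⁻¹(𝒱ᵢ)` (given as a pullback) is the fibre product of `p` and `𝒱ᵢ ⟶ Y' ⟶ Y`. -/
theorem isPullback_of_cover_base {W X Y' Y : Scheme.{u}} (h : W ⟶ X) (q : W ⟶ Y') (p : X ⟶ Y) (g : Y' ⟶ Y)
    (𝒱 : Y'.OpenCover)
    (H : ∀ i, ∃ (Wi : Scheme.{u}) (j : Wi ⟶ W) (qi : Wi ⟶ 𝒱.X i),
      IsPullback j qi q (𝒱.f i) ∧ IsPullback (j ≫ h) qi p (𝒱.f i ≫ g)) :
    IsPullback h q p g := by
  refine (Scheme.isPullback_of_openCover q h g p 𝒱 ?_).flip
  intro i
  obtain ⟨Wi, j, qi, h1, h2⟩ := H i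
  refine IsPullback.of_iso h2.flip h1.isoPullback (Iso.refl _) (Iso.refl _) (Iso.refl _) ?_ ?_ ?_ ?_
  · change qi ≫ 𝟙 _ = h1.isoPullback.hom ≫ pullback.snd q (𝒱.f i)
    rw [Category.comp_id]
    exact h1.isoPullback_hom_snd.symm
  · change (j ≫ h) ≫ 𝟙 _ = h1.isoPullback.hom ≫ pullback.fst q (𝒱.f i) ≫ h
    rw [Category.comp_id, h1.isoPullback_hom_fst_assoc]
  · simp
  · simp

/-- The cover of `Y'` by the affine opens `U'` lying over an affine open `U` of `Y`. -/
structure AffPairIdx {Y' Y : Scheme.{u}} (g : Y' ⟶ Y) : Type u where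
  /-- the affine open of the target -/
  U : Y.Opens
  hU : IsAffineOpen U
  /-- the affine open of the source -/
  U' : Y'.Opens
  hU' : IsAffineOpen U'
  hle : U' ≤ g ⁻¹ᵁ U

/-- The open cover of the source of `g` by the affine opens lying over affine opens of the target. -/
noncomputable def affPairCover {Y' Y : Scheme.{u}} (g : Y' ⟶ Y) : Y'.OpenCover where
  I₀ := AffPairIdx g
  X k := k.U'
  f k := k.U'.ι
  mem₀ := by
    rw [Scheme.presieve₀_mem_precoverage_iff]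
    refine ⟨fun x ↦ ?_, inferInstance⟩
    obtain ⟨U, hU, hyU, -⟩ := (Opens.isBasis_iff_nbhd.mp Y.isBasis_affineOpens)
      (show g.base x ∈ (⊤ : Y.Opens) from trivial)
    obtain ⟨U', hU', hyU', hle⟩ := (Opens.isBasis_iff_nbhd.mp Y'.isBasis_affineOpens)
      (show x ∈ g ⁻¹ᵁ U from hyU)
    exact ⟨⟨U, hU, U', hU', hle⟩, ⟨x, hyU'⟩, rfl⟩

theorem isoSpec_inv_resLE {Y' Y : Scheme.{u}} (g : Y' ⟶ Y) {U : Y.Opens} (hU : IsAffineOpen U)
    {U' : Y'.Opens} (hU' : IsAffineOpen U') (hle : U' ≤ g ⁻¹ᵁ U) :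
    Spec.map (g.appLE U U' hle) ≫ hU.isoSpec.inv = hU'.isoSpec.inv ≫ g.resLE U U' hle := by
  rw [← cancel_mono U.ι, Category.assoc, Category.assoc, Scheme.Hom.resLE_comp_ι]
  exact (IsAffineOpen.SpecMap_appLE_fromSpec g hU hU' hle)

end Groth.Agent.Lib.Helper42
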