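import Groth.Agent.Lib.Helper42.LocalCharts
import Groth.Agent.Lib.Helper42.ProjMap

/-!
# Target-local properties of `Proj.map`, checked on the standard charts
-/

set_option autoImplicit false
universe u

open CategoryTheory CategoryTheory.Limits AlgebraicGeometry HomogeneousLocalization
open scoped HomogeneousIdeal

namespace Groth.Agent.Lib.Helper42

variable {A B σ τ : Type u} [CommRing A] [CommRing B]
  [SetLike σ A] [AddSubgroupClass σ A] [SetLike τ B] [AddSubgroupClass τ B]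
  {𝒜 : ℕ → σ} {ℬ : ℕ → τ} [GradedRing 𝒜] [GradedRing ℬ]

theorem iSup_basicOpen_sigma_eq_top (𝒜 : ℕ → σ) [GradedRing 𝒜] :
    (⨆ s : (Σ i : ℕ+, 𝒜 i), Proj.basicOpen 𝒜 (s.2 : A)) = ⊤ := by
  have := (Proj.affineOpenCover 𝒜).openCover.iSup_opensRange
  rw [← this]
  refine iSup_congr fun s => ?_
  exact (Proj.opensRange_awayι 𝒜 (s.2 : A) s.2.2 s.1.2).symm

/-- A Zariski-local-at-the-target property holds for `Proj.map f` iff it holds for all the maps
`Spec B_(f s) ⟶ Spec A_(s)`, `s` homogeneous of positive degree. -/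
theorem proj_map_iff (P : MorphismProperty Scheme.{u}) [IsZariskiLocalAtTarget P]
    (f : 𝒜 →+*ᵍ ℬ) (hf : ℬ₊ ≤ 𝒜₊.map f) :
    P (Proj.map f hf) ↔ ∀ s : (Σ i : ℕ+, 𝒜 i),
      P (Spec.map (CommRingCat.ofHom (Away.map f (s.2 : A)))) := by
  refine iff_of_charts P (Proj.map f hf) (fun s : (Σ i : ℕ+, 𝒜 i) => Proj.basicOpen 𝒜 (s.2 : A))
    (iSup_basicOpen_sigma_eq_top 𝒜)
    (fun s => Proj.awayι ℬ (f (s.2 : A)) (f.2 s.2.2) s.1.2)
    (fun s => Proj.awayι 𝒜 (s.2 : A) s.2.2 s.1.2) ?_ ?_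
    (fun s => Spec.map (CommRingCat.ofHom (Away.map f (s.2 : A)))) ?_
  · intro s
    rw [Proj.opensRange_awayι, Proj.map_preimage_basicOpen]
  · intro s
    rw [Proj.opensRange_awayι]
  · intro s
    exact Proj.awayι_comp_map f hf s.1.2 (s.2 : A) s.2.2

/-- `mk n b = mk (n+1) (s * b)` in `Away 𝒜 s`. -/
theorem away_mk_succ {d : ℕ} {s : A} (hs : s ∈ 𝒜 d) (n : ℕ) (b : A) (hb : b ∈ 𝒜 (n • d)) :
    Away.mk 𝒜 hs n b hb = Away.mk 𝒜 hs (n + 1) (s * b)
      (by rw [add_smul, one_smul, add_comm]; exact SetLike.mul_mem_graded hs hb) := by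
  ext
  rw [Away.val_mk, Away.val_mk, Localization.mk_eq_mk_iff, Localization.r_iff_exists]
  refine ⟨1, ?_⟩
  simp only [OneMemClass.coe_one, one_mul]
  ring

theorem away_mk_eq_zero_iff {d : ℕ} {s : A} (hs : s ∈ 𝒜 d) (n : ℕ) (a : A) (ha : a ∈ 𝒜 (n • d)) :
    Away.mk 𝒜 hs n a ha = 0 ↔ ∃ k : ℕ, s ^ k * a = 0 := by
  rw [HomogeneousLocalization.ext_iff_val, Away.val_mk, HomogeneousLocalization.val_zero,
    Localization.mk_eq_mk', IsLocalization.mk'_eq_zero_iff]
  constructor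
  · rintro ⟨⟨_, k, rfl⟩, h⟩
    exact ⟨k, h⟩
  · rintro ⟨k, h⟩
    exact ⟨⟨_, k, rfl⟩, h⟩

/-- If `f` is bijective in every positive degree, then the induced maps on degree-zero
localizations at homogeneous elements of positive degree are bijective. -/
theorem away_map_bijective (f : 𝒜 →+*ᵍ ℬ)
    (hpos : ∀ n : ℕ, 0 < n → Set.BijOn f (𝒜 n) (ℬ n)) {d : ℕ} (hd : 0 < d) {s : A} (hs : s ∈ 𝒜 d) :
    Function.Bijective (Away.map f s) := by
  constructor
  · rw [injective_iff_map_eq_zero]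
    intro x hx
    obtain ⟨n, a, ha, rfl⟩ := Away.mk_surjective 𝒜 hs x
    rw [Away.map_mk f s hs n a ha, away_mk_eq_zero_iff] at hx
    obtain ⟨k, hk⟩ := hx
    rw [away_mk_eq_zero_iff]
    refine ⟨k + 1, ?_⟩
    have hmem : s ^ (k + 1) * a ∈ 𝒜 ((k + 1) • d + n • d) :=
      SetLike.mul_mem_graded (SetLike.pow_mem_graded _ hs) ha
    have hpos' : 0 < (k + 1) • d + n • d := by
      have : 0 < (k + 1) • d := by
        rw [smul_eq_mul]; exact Nat.mul_pos (Nat.succ_pos k) hd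
      omega
    apply (hpos _ hpos').injOn hmem (zero_mem _)
    rw [map_zero, map_mul, map_pow, pow_succ, mul_assoc, mul_comm (f s), ← mul_assoc, hk, zero_mul]
  · intro y
    obtain ⟨n, b, hb, rfl⟩ := Away.mk_surjective ℬ (f.2 hs) y
    have hmem : f s * b ∈ ℬ ((n + 1) • d) := by
      rw [add_smul, one_smul, add_comm]; exact SetLike.mul_mem_graded (f.2 hs) hb
    have hpos' : 0 < (n + 1) • d := by
      rw [smul_eq_mul]; exact Nat.mul_pos (Nat.succ_pos n) hd
    obtain ⟨a, ha, hab⟩ := (hpos _ hpos').surjOn hmem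
    refine ⟨Away.mk 𝒜 hs (n + 1) a ha, ?_⟩
    rw [Away.map_mk f s hs (n + 1) a ha, away_mk_succ (f.2 hs) n b hb]
    congr 1

/-- If `f` is surjective, so are the induced maps on degree-zero localizations at homogeneous
elements. -/
theorem away_map_surjective (f : 𝒜 →+*ᵍ ℬ) (hsurj : Function.Surjective f) {d : ℕ} {s : A}
    (hs : s ∈ 𝒜 d) : Function.Surjective (Away.map f s) := by
  intro y
  obtain ⟨n, b, hb, rfl⟩ := Away.mk_surjective ℬ (f.2 hs) y
  obtain ⟨a', rfl⟩ := hsurj b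
  refine ⟨Away.mk 𝒜 hs n (DirectSum.decompose 𝒜 a' (n • d) : A) (SetLike.coe_mem _), ?_⟩
  rw [Away.map_mk]
  congr 1
  rw [GradedRingHom.map_directSumDecompose 𝒜 ℬ f]
  exact DirectSum.decompose_of_mem_same ℬ hb

theorem proj_map_isIso (f : 𝒜 →+*ᵍ ℬ) (hf : ℬ₊ ≤ 𝒜₊.map f)
    (hpos : ∀ n : ℕ, 0 < n → Set.BijOn f (𝒜 n) (ℬ n)) : IsIso (Proj.map f hf) := by
  have := (proj_map_iff (MorphismProperty.isomorphisms Scheme.{u}) f hf).mpr ?_
  · exact this
  intro s
  have hb := away_map_bijective f hpos s.1.2 s.2.2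
  have : IsIso (CommRingCat.ofHom (Away.map f (s.2 : A))) := by
    rw [ConcreteCategory.isIso_iff_bijective]
    exact hb
  exact (inferInstance : IsIso (Spec.map (CommRingCat.ofHom (Away.map f (s.2 : A)))))

theorem proj_map_isClosedImmersion (f : 𝒜 →+*ᵍ ℬ) (hf : ℬ₊ ≤ 𝒜₊.map f)
    (hsurj : Function.Surjective f) : IsClosedImmersion (Proj.map f hf) := by
  rw [proj_map_iff @IsClosedImmersion f hf]
  intro s
  exact IsClosedImmersion.spec_of_surjective _ (away_map_surjective f hsurj s.2.2)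

end Groth.Agent.Lib.Helper42
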