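import Groth.Agent.Lib.Helper42.RelProjMap
import Groth.Agent.Lib.Helper42.ProjMapLocal

/-!
# Target-local properties of morphisms of relative `Proj`s, checked chartwise
-/

set_option autoImplicit false
universe u

open CategoryTheory CategoryTheory.Limits AlgebraicGeometry TopologicalSpace Opposite
open scoped HomogeneousIdeal

namespace Groth.Agent.Lib.Helper42

/-- If `h ≫ pA = pB` and `h` restricts to `g U` over every affine open `U` of the base, then a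
target-local property holds for `h` iff it does for all `g U`. -/
theorem iff_of_base_affine (P : MorphismProperty Scheme.{u}) [IsZariskiLocalAtTarget P]
    {Y PA PB : Scheme.{u}} (pA : PA ⟶ Y) (pB : PB ⟶ Y) (h : PB ⟶ PA) (hcomp : h ≫ pA = pB)
    (g : ∀ U : Y.affineOpens, ((pB ⁻¹ᵁ U.1 : PB.Opens) : Scheme.{u}) ⟶ ((pA ⁻¹ᵁ U.1 : PA.Opens) : Scheme.{u}))
    (hg : ∀ U : Y.affineOpens, (pB ⁻¹ᵁ U.1).ι ≫ h = g U ≫ (pA ⁻¹ᵁ U.1).ι) :
    P h ↔ ∀ U, P (g U) := by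
  refine iff_of_charts P h (fun U : Y.affineOpens => pA ⁻¹ᵁ U.1) ?_
    (fun U => (pB ⁻¹ᵁ U.1).ι) (fun U => (pA ⁻¹ᵁ U.1).ι) ?_ ?_ g hg
  · rw [← Scheme.Hom.preimage_iSup, iSup_affineOpens_eq_top, Scheme.Hom.preimage_top]
  · intro U
    subst hcomp
    rw [Scheme.Opens.opensRange_ι, Scheme.Hom.comp_preimage]
  · intro U
    rw [Scheme.Opens.opensRange_ι]

variable {Y : Scheme.{u}}

theorem isRelProjMap_iff (P : MorphismProperty Scheme.{u}) [IsZariskiLocalAtTarget P]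
    {PA PB : Scheme.{u}} {𝒜 ℬ : RelProj.QCGrAlg Y}
    (φ : 𝒜.toQCAlg ⟶ ℬ.toQCAlg) (hφ : RelProj.IsGradedHom φ)
    (hirr : ∀ (U : Y.Opens) (hU : IsAffineOpen U),
      (ℬ.deg U hU)₊ ≤ ((𝒜.deg U hU)₊).map (RelProj.gradedHomAt φ hφ U hU))
    {pA : PA ⟶ Y} {pB : PB ⟶ Y}
    {chartA : ∀ (U : Y.Opens) (hU : IsAffineOpen U), (((pA ⁻¹ᵁ U : PA.Opens) : Scheme.{u}) ≅ Proj (𝒜.deg U hU))}
    {chartB : ∀ (U : Y.Opens) (hU : IsAffineOpen U), (((pB ⁻¹ᵁ U : PB.Opens) : Scheme.{u}) ≅ Proj (ℬ.deg U hU))}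
    (hA : RelProj.IsRelProj 𝒜 pA chartA) (hB : RelProj.IsRelProj ℬ pB chartB)
    (h : PB ⟶ PA) (hh : RelProj.IsRelProjMap φ hφ hirr chartA chartB h) :
    P h ↔ ∀ (U : Y.Opens) (hU : IsAffineOpen U),
      P (Proj.map (RelProj.gradedHomAt φ hφ U hU) (hirr U hU)) := by
  rw [iff_of_base_affine P pA pB h (isRelProjMap_comp_base φ hφ hirr hA hB h hh)
    (fun U => (chartB U.1 U.2).hom ≫ Proj.map (RelProj.gradedHomAt φ hφ U.1 U.2) (hirr U.1 U.2) ≫
      (chartA U.1 U.2).inv)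
    (fun U => by simpa only [Category.assoc] using hh U.1 U.2)]
  constructor
  · intro H U hU
    have := H ⟨U, hU⟩
    rwa [P.cancel_left_of_respectsIso, P.cancel_right_of_respectsIso] at this
  · intro H U
    rw [P.cancel_left_of_respectsIso, P.cancel_right_of_respectsIso]
    exact H U.1 U.2

end Groth.Agent.Lib.Helper42
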