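import Groth.Agent.Lib.Helper42.LocInj
import Groth.Agent.Lib.Helper5.ExtZeroSub
import Groth.Agent.Lib.Helper30.ModEpi
import Groth.Agent.S0484

/-!
# Injectivity of sheaves of modules is local (for covers by subterminal objects) (helper42)

* `epi_of_coversTop`: a morphism of sheaves of modules whose restrictions to the members of a
  family covering the final object are epimorphisms is an epimorphism.
* `injective_of_coversTop`: if `Y i` are subterminal objects covering the final object and all
  `F|_{Y i}` are injective then `F` is injective.
-/

set_option autoImplicit false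
universe u
open CategoryTheory Limits Opposite

namespace Groth.Agent.Lib.Helper42.LocInjSite

open Groth.Agent.Lib.Helper30

variable {C : Type u} [SmallCategory C] {J : GrothendieckTopology C}
  (O : Sheaf J CommRingCat.{u})

theorem epi_of_coversTop {A B : ModSite.Mod O} (p : A ⟶ B) {I : Type*} (Y : I → C)
    (hY : J.CoversTop Y) (h : ∀ i, Epi ((ModSite.restr O (Y i)).map p)) : Epi p := by
  apply ModEpi.epi_of_isLocallySurjective
  constructor
  intro W b
  apply J.transitive (hY W)
  intro W' a ha
  obtain ⟨i, ⟨v⟩⟩ := ha
  have hi := ModEpi.isLocallySurjective_of_epi ((ModSite.restr O (Y i)).map p)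
  have h1 := hi.imageSieve_mem (U := Over.mk v) (B.val.map a.op b)
  rw [GrothendieckTopology.mem_over_iff] at h1
  refine J.superset_covering ?_ h1
  intro Z c hc
  rw [Sieve.overEquiv_iff] at hc
  obtain ⟨t, ht⟩ := hc
  refine ⟨t, ?_⟩
  refine ht.trans ?_
  exact (ConcreteCategory.congr_hom (B.val.map_comp a.op c.op) b).symm

noncomputable instance preservesFiniteLimits_extZero (U : C) :
    PreservesFiniteLimits (ModSite.extZero O U) :=
  ExtZero.pullback_preservesFiniteLimits (ModSite.ringSh O) U

noncomputable instance preservesFiniteColimits_extZero (U : C) :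
    PreservesFiniteColimits (ModSite.extZero O U) :=
  have := (ModSite.extZeroAdj O U).leftAdjoint_preservesColimits
  inferInstance

noncomputable instance preservesFiniteLimits_restr (U : C) :
    PreservesFiniteLimits (ModSite.restr O U) :=
  have := (ModSite.extZeroAdj O U).rightAdjoint_preservesLimits
  inferInstance

instance additive_extZero (U : C) : (ModSite.extZero O U).Additive :=
  ExtZero.pullback_additive (ModSite.ringSh O) U

/-- **injectivity is local** (for covers by subterminal objects). -/
theorem injective_of_coversTop (F : ModSite.Mod O) {I : Type*} (Y : I → C)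
    (hY : J.CoversTop Y) (hsub : ∀ (i : I) (V : C), Subsingleton (V ⟶ Y i))
    (hF : ∀ i, Injective ((ModSite.restr O (Y i)).obj F)) : Injective F := by
  have hGA : IsGrothendieckAbelian.{u} (ModSite.Mod O) :=
    Groth.Agent.S0484.result J (ModSite.ringSh O)
  exact LocInj.injective_of_family_adj.{u} (I := I)
    (ℬ := fun i => ModSite.Mod (O.over (Y i)))
    (fun i => ModSite.extZero O (Y i)) (fun i => ModSite.restr O (Y i))
    (fun i => ModSite.extZeroAdj O (Y i))
    (fun i T => Groth.Agent.Lib.Helper5.ExtZeroSub.mono_extZero_counit_app O (Y i) (hsub i) T)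
    (fun p _ hp => epi_of_coversTop O p Y hY hp) F hF

end Groth.Agent.Lib.Helper42.LocInjSite
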