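import Mathlib.RingTheory.GradedAlgebra.HomogeneousLocalization
import Mathlib.Algebra.MonoidAlgebra.Defs
import Mathlib.RingTheory.Localization.Away.Basic

/-!
# The degree-zero part of `B_f` is a direct summand of `B_f`

For a graded ring `ℬ` and `f ∈ ℬ d`, the grading gives a ring homomorphism `B_f → B_f[ℤ]`; its coefficient at `0`
is an additive retraction of `B_f` onto the image of `ℬ_(f)`, linear over `ℬ 0`.
-/

set_option autoImplicit false
universe u

open HomogeneousLocalization AddMonoidAlgebra DirectSum

namespace Groth.Agent.Lib.Helper42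

namespace AwayRetraction

variable {B σ : Type u} [CommRing B] [SetLike σ B] [AddSubgroupClass σ B] (ℬ : ℕ → σ) [GradedRing ℬ]
  (f : B)

/-- The pieces of the coaction. -/
noncomputable def coactPiece (i : ℕ) : ℬ i →+ AddMonoidAlgebra (Localization.Away f) ℤ :=
  (singleAddHom (i : ℤ)).comp
    ((algebraMap B (Localization.Away f)).toAddMonoidHom.comp (AddSubgroupClass.subtype (ℬ i)))

theorem coactPiece_apply (i : ℕ) (b : ℬ i) :
    coactPiece ℬ f i b = single (i : ℤ) (algebraMap B (Localization.Away f) (b : B)) := rfl

/-- The coaction `B → B_f[ℤ]`, `b ↦ ∑ (bᵢ/1) Tⁱ`. -/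
noncomputable def coact : B →+* AddMonoidAlgebra (Localization.Away f) ℤ :=
  (DirectSum.toSemiring (coactPiece ℬ f)
    (by
      rw [coactPiece_apply]
      change single ((0 : ℕ) : ℤ) (algebraMap B (Localization.Away f) 1) = 1
      rw [map_one, Nat.cast_zero]
      rfl)
    (by
      intro i j ai aj
      rw [coactPiece_apply, coactPiece_apply, coactPiece_apply, single_mul_single, ← map_mul,
        Nat.cast_add]
      rfl)).comp (DirectSum.decomposeRingEquiv ℬ : B →+* ⨁ i, ℬ i)

theorem coact_of_mem {i : ℕ} {b : B} (hb : b ∈ ℬ i) :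
    coact ℬ f b = single (i : ℤ) (algebraMap B (Localization.Away f) b) := by
  unfold coact
  rw [RingHom.comp_apply]
  change DirectSum.toSemiring _ _ _ (DirectSum.decompose ℬ b) = _
  rw [DirectSum.decompose_of_mem ℬ hb, DirectSum.toSemiring_of, coactPiece_apply]

/-- The `n`-th power of `f` as an element of `Submonoid.powers f`. -/
def pw (f : B) (n : ℕ) : Submonoid.powers f := ⟨f ^ n, n, rfl⟩

@[simp] theorem coe_pw (f : B) (n : ℕ) : ((pw f n : Submonoid.powers f) : B) = f ^ n := rfl

variable {ℬ f} {d : ℕ} (hf : f ∈ ℬ d)

include hf in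
theorem isUnit_coact : IsUnit (coact ℬ f f) := by
  rw [coact_of_mem ℬ f hf]
  refine IsUnit.of_mul_eq_one (single (-(d : ℤ)) (IsLocalization.Away.invSelf f)) ?_
  rw [single_mul_single, add_neg_cancel, IsLocalization.Away.mul_invSelf]
  rfl

/-- The extension of the coaction to `B_f`. -/
noncomputable def coactLoc : Localization.Away f →+* AddMonoidAlgebra (Localization.Away f) ℤ :=
  IsLocalization.Away.lift f (isUnit_coact hf)

theorem coactLoc_algebraMap (b : B) :
    coactLoc hf (algebraMap B (Localization.Away f) b) = coact ℬ f b :=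
  IsLocalization.Away.lift_eq f (isUnit_coact hf) b

/-- The coaction on a homogeneous fraction. -/
theorem coactLoc_mk {i : ℕ} {b : B} (hb : b ∈ ℬ i) (n : ℕ) :
    coactLoc hf (Localization.mk b (pw f n)) =
      single ((i : ℤ) - (n * d : ℕ)) (Localization.mk b (pw f n)) := by
  have hfn : f ^ n ∈ ℬ (n • d) := SetLike.pow_mem_graded n hf
  have h1 : Localization.mk b (pw f n) * algebraMap B (Localization.Away f) (f ^ n) =
      algebraMap B (Localization.Away f) b := by
    rw [← Localization.mk_one_eq_algebraMap, ← Localization.mk_one_eq_algebraMap,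
      Localization.mk_mul, Localization.mk_eq_mk_iff, Localization.r_iff_exists]
    exact ⟨1, by simp; ring⟩
  have h2 := congrArg (coactLoc hf) h1
  rw [map_mul, coactLoc_algebraMap, coactLoc_algebraMap, coact_of_mem ℬ f hfn,
    coact_of_mem ℬ f hb] at h2
  have h3 : single ((n • d : ℕ) : ℤ) (algebraMap B (Localization.Away f) (f ^ n)) *
      single (-((n • d : ℕ) : ℤ)) (Localization.mk 1 (pw f n)) =
      (1 : AddMonoidAlgebra (Localization.Away f) ℤ) := by
    rw [single_mul_single, add_neg_cancel, ← Localization.mk_one_eq_algebraMap, Localization.mk_mul]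
    have : Localization.mk (f ^ n * 1) ((1 : Submonoid.powers f) * (pw f n)) =
        (1 : Localization.Away f) := by
      rw [← Localization.mk_one, Localization.mk_eq_mk_iff, Localization.r_iff_exists]
      exact ⟨1, by simp⟩
    rw [this]
    rfl
  calc coactLoc hf (Localization.mk b (pw f n))
      = coactLoc hf (Localization.mk b (pw f n)) *
          (single ((n • d : ℕ) : ℤ) (algebraMap B (Localization.Away f) (f ^ n)) *
            single (-((n • d : ℕ) : ℤ)) (Localization.mk 1 (pw f n))) := by
        rw [h3, mul_one]
    _ = single (i : ℤ) (algebraMap B (Localization.Away f) b) *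
          single (-((n • d : ℕ) : ℤ)) (Localization.mk 1 (pw f n)) := by
        rw [← mul_assoc, h2]
    _ = _ := by
        rw [single_mul_single, ← Localization.mk_one_eq_algebraMap, Localization.mk_mul, mul_one,
          one_mul, smul_eq_mul, sub_eq_add_neg]

/-- The coefficient at `0` of the coaction: an additive endomorphism of `B_f`. -/
noncomputable def rho : Localization.Away f →+ Localization.Away f where
  toFun y := (coactLoc hf y).coeff 0
  map_zero' := by simp
  map_add' x y := by simp

theorem rho_apply (y : Localization.Away f) : rho hf y = (coactLoc hf y).coeff 0 := rfl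

theorem rho_mk {i : ℕ} {b : B} (hb : b ∈ ℬ i) (n : ℕ) :
    rho hf (Localization.mk b (pw f n)) =
      if i = n * d then Localization.mk b (pw f n) else 0 := by
  rw [rho_apply, coactLoc_mk hf hb n, coeff_single, Finsupp.single_apply]
  congr 1
  rw [sub_eq_zero, Nat.cast_inj]

theorem rho_val (x : Away ℬ f) : rho hf x.val = x.val := by
  obtain ⟨n, b, hb, rfl⟩ := Away.mk_surjective ℬ hf x
  rw [Away.val_mk]
  exact (rho_mk hf hb n).trans (if_pos (by rw [smul_eq_mul]))

theorem rho_mem_range (y : Localization.Away f) : ∃ x : Away ℬ f, x.val = rho hf y := by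
  classical
  induction y using Localization.induction_on with
  | H y =>
    obtain ⟨b, ⟨_, n, rfl⟩⟩ := y
    change ∃ x : Away ℬ f, x.val = rho hf (Localization.mk b (pw f n))
    have hsum : Localization.mk b (pw f n) =
        ∑ i ∈ (DirectSum.decompose ℬ b).support,
          Localization.mk ((DirectSum.decompose ℬ b i : B)) (pw f n) := by
      conv_lhs => rw [← DirectSum.sum_support_decompose ℬ b]
      induction (DirectSum.decompose ℬ b).support using Finset.induction_on with
      | empty => simp [Localization.mk_zero]
      | insert a s ha ih =>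
        rw [Finset.sum_insert ha, Finset.sum_insert ha, ← ih, Localization.add_mk_self]
    have hmem : ∀ i, ∃ x : Away ℬ f, x.val =
        rho hf (Localization.mk ((DirectSum.decompose ℬ b i : B)) (pw f n)) := by
      intro i
      rw [rho_mk hf (SetLike.coe_mem _) n]
      split_ifs with h
      · refine ⟨Away.mk ℬ hf n (DirectSum.decompose ℬ b i : B) ?_, ?_⟩
        · rw [smul_eq_mul, ← h]; exact SetLike.coe_mem _
        · rw [Away.val_mk]
          rfl
      · exact ⟨0, HomogeneousLocalization.val_zero⟩
    choose x hx using hmem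
    refine ⟨∑ i ∈ (DirectSum.decompose ℬ b).support, x i, ?_⟩
    rw [hsum, map_sum]
    have : (∑ i ∈ (DirectSum.decompose ℬ b).support, x i).val =
        ∑ i ∈ (DirectSum.decompose ℬ b).support, (x i).val :=
      map_sum (algebraMap (Away ℬ f) (Localization.Away f)) _ _
    rw [this]
    exact Finset.sum_congr rfl fun i _ => hx i

/-- `rho` is linear over the degree-zero part. -/
theorem rho_mul_of_mem_zero {c : B} (hc : c ∈ ℬ 0) (y : Localization.Away f) :
    rho hf (algebraMap B (Localization.Away f) c * y) =
      algebraMap B (Localization.Away f) c * rho hf y := by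
  rw [rho_apply, map_mul, coactLoc_algebraMap, coact_of_mem ℬ f hc, Nat.cast_zero,
    coeff_single_mul_apply, neg_zero, zero_add, rho_apply]

end AwayRetraction

end Groth.Agent.Lib.Helper42
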