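import Mathlib.RingTheory.IsTensorProduct
import Mathlib.LinearAlgebra.TensorProduct.Tower

/-!
# Base change of a direct summand
-/

set_option autoImplicit false
universe u

open TensorProduct

namespace Groth.Agent.Lib.Helper42

/-- If `ψt : Mt → Nt` is a base change along `R' → R`, `M` is an `R'`-direct summand of `Mt`, `N` embeds `R`-linearly in
`Nt`, `ψ : M → N` is compatible with `ψt`, and `N` is spanned over `R` by `ψ(M)`, then `ψ` is a base change. -/
theorem isBaseChange_of_retract {R' R M Mt N Nt : Type*} [CommRing R'] [CommRing R] [Algebra R' R]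
    [AddCommGroup M] [Module R' M] [AddCommGroup Mt] [Module R' Mt]
    [AddCommGroup N] [Module R' N] [Module R N] [IsScalarTower R' R N]
    [AddCommGroup Nt] [Module R' Nt] [Module R Nt] [IsScalarTower R' R Nt]
    (ψ : M →ₗ[R'] N) (ψt : Mt →ₗ[R'] Nt) (hψt : IsBaseChange R ψt)
    (incl : M →ₗ[R'] Mt) (ret : Mt →ₗ[R'] M) (hret : ∀ x, ret (incl x) = x)
    (j : N →ₗ[R] Nt) (hj : Function.Injective j) (hcomm : ∀ x, j (ψ x) = ψt (incl x))
    (hspan : ∀ y : N, y ∈ Submodule.span R (Set.range ψ)) : IsBaseChange R ψ := by
  have hinj2 : Function.Injective (incl.baseChange R) := by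
    apply Function.LeftInverse.injective (g := ret.baseChange R)
    intro t
    rw [← LinearMap.comp_apply, ← LinearMap.baseChange_comp]
    have : ret ∘ₗ incl = LinearMap.id := LinearMap.ext hret
    rw [this, LinearMap.baseChange_id, LinearMap.id_apply]
  have h1 : ∀ t, j (LinearMap.liftBaseChange R ψ t) = hψt.equiv (incl.baseChange R t) := by
    intro t
    induction t with
    | zero => simp
    | tmul r x =>
      rw [LinearMap.liftBaseChange_tmul, LinearMap.baseChange_tmul, hψt.equiv_tmul, map_smul, hcomm]
    | add x y hx hy => rw [map_add, map_add, hx, hy, map_add, map_add]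
  have hinj : Function.Injective (LinearMap.liftBaseChange R ψ) := by
    intro t t' h
    apply hinj2
    apply hψt.equiv.injective
    rw [← h1, ← h1, h]
  have hsurj : Function.Surjective (LinearMap.liftBaseChange R ψ) := by
    intro y
    have : Submodule.span R (Set.range ψ) ≤ LinearMap.range (LinearMap.liftBaseChange R ψ) := by
      rw [Submodule.span_le]
      rintro _ ⟨x, rfl⟩
      exact ⟨1 ⊗ₜ x, by rw [LinearMap.liftBaseChange_tmul, one_smul]⟩
    exact this (hspan y)
  exact IsBaseChange.of_equiv (LinearEquiv.ofBijective _ ⟨hinj, hsurj⟩)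
    (fun x => by simp)

end Groth.Agent.Lib.Helper42
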