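import Groth.Agent.Lib.Helper42.AwayRetraction
import Groth.Agent.Lib.Helper42.BaseChangeRetract
import Groth.Agent.Lib.Helper42.ProjMap
import Mathlib.RingTheory.Localization.BaseChange
import Mathlib.Algebra.Category.Ring.Constructions

/-!
# Degree-zero localizations commute with base change
-/

set_option autoImplicit false
universe u

open HomogeneousLocalization DirectSum

namespace Groth.Agent.Lib.Helper42

namespace AwayBaseChange

section projMk

variable {A τ : Type u} [CommRing A] [SetLike τ A] [AddSubgroupClass τ A]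
  (𝒜 : ℕ → τ) [GradedRing 𝒜] {g : A} {e : ℕ} (hg : g ∈ 𝒜 e)

/-- `a ↦ a_{ne}/gⁿ`. -/
noncomputable def projMk (n : ℕ) (a : A) : Away 𝒜 g :=
  Away.mk 𝒜 hg n (DirectSum.decompose 𝒜 a (n • e) : A) (SetLike.coe_mem _)

theorem val_projMk (n : ℕ) (a : A) :
    (projMk 𝒜 hg n a).val =
      Localization.mk (DirectSum.decompose 𝒜 a (n • e) : A) (AwayRetraction.pw g n) :=
  Away.val_mk _ _ _ _ _

theorem projMk_of_mem (n : ℕ) {a : A} (ha : a ∈ 𝒜 (n • e)) :
    projMk 𝒜 hg n a = Away.mk 𝒜 hg n a ha := by
  ext
  rw [val_projMk, Away.val_mk, DirectSum.decompose_of_mem_same 𝒜 ha]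
  rfl

theorem projMk_zero (n : ℕ) : projMk 𝒜 hg n 0 = 0 := by
  ext
  rw [val_projMk, DirectSum.decompose_zero, DirectSum.zero_apply, ZeroMemClass.coe_zero,
    Localization.mk_zero, HomogeneousLocalization.val_zero]

theorem projMk_add (n : ℕ) (a b : A) :
    projMk 𝒜 hg n (a + b) = projMk 𝒜 hg n a + projMk 𝒜 hg n b := by
  ext
  rw [HomogeneousLocalization.val_add, val_projMk, val_projMk, val_projMk, DirectSum.decompose_add,
    DirectSum.add_apply, AddMemClass.coe_add, Localization.add_mk_self]

theorem projMk_mul_of_mem_zero (n : ℕ) {c : A} (hc : c ∈ 𝒜 0) (a : A) :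
    projMk 𝒜 hg n (c * a) = fromZeroRingHom 𝒜 (.powers g) ⟨c, hc⟩ * projMk 𝒜 hg n a := by
  ext
  rw [HomogeneousLocalization.val_mul, val_projMk, val_projMk,
    DirectSum.coe_decompose_mul_of_left_mem_zero 𝒜 hc]
  change _ = Localization.mk c 1 * _
  rw [Localization.mk_mul, one_mul]

end projMk

variable {R' R B A σ τ : Type u} [CommRing R'] [CommRing R] [CommRing B] [CommRing A]
  [SetLike σ B] [AddSubgroupClass σ B] [SetLike τ A] [AddSubgroupClass τ A]
  {ℬ : ℕ → σ} {𝒜 : ℕ → τ} [GradedRing ℬ] [GradedRing 𝒜]

theorem map_projMk (φ : ℬ →+*ᵍ 𝒜) {f : B} {d : ℕ} (hf : f ∈ ℬ d) (hφf : φ f ∈ 𝒜 d) (n : ℕ) (b : B) :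
    Away.map φ f (projMk ℬ hf n b) = projMk 𝒜 hφf n (φ b) := by
  unfold projMk
  rw [Away.map_mk]
  congr 1
  exact GradedRingHom.map_directSumDecompose ℬ 𝒜 φ

variable [Algebra R' R] [Algebra R' B] [Algebra R A] [Algebra R' A] [Algebra B A]
  [IsScalarTower R' R A] [IsScalarTower R' B A]
  (φ : ℬ →+*ᵍ 𝒜) (hφA : ∀ b, φ b = algebraMap B A b) (f : B)

omit [AddSubgroupClass σ B] [AddSubgroupClass τ A] [GradedRing ℬ] [GradedRing 𝒜] [Algebra B A] in
theorem awayMap_algebraMap (b : B) :
    Localization.awayMap (φ : B →+* A) f (algebraMap B (Localization.Away f) b) =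
      algebraMap A (Localization.Away (φ f)) (φ b) :=
  IsLocalization.map_eq _ _

variable (R') in
include hφA in
/-- The map `B_f → A_{φ f}` as an `R'`-linear map. -/
noncomputable def locLin : Localization.Away f →ₗ[R'] Localization.Away (φ f) where
  toFun := Localization.awayMap (φ : B →+* A) f
  map_add' := map_add _
  map_smul' r y := by
    rw [RingHom.id_apply, Algebra.smul_def, Algebra.smul_def, map_mul,
      IsScalarTower.algebraMap_apply R' B (Localization.Away f), awayMap_algebraMap,
      hφA (algebraMap R' B r), ← IsScalarTower.algebraMap_apply R' B A]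
    congr 1

include hφA in
theorem isBaseChange_locLin [Algebra.IsPushout R' R B A] : IsBaseChange R (locLin R' φ hφA f) := by
  letI : Algebra (Localization.Away f) (Localization.Away (φ f)) :=
    (Localization.awayMap (φ : B →+* A) f).toAlgebra
  haveI t1 : IsScalarTower B (Localization.Away f) (Localization.Away (φ f)) :=
    .of_algebraMap_eq fun b => by
      change algebraMap B (Localization.Away (φ f)) b =
        Localization.awayMap (φ : B →+* A) f (algebraMap B (Localization.Away f) b)
      rw [awayMap_algebraMap, hφA b, IsScalarTower.algebraMap_apply B A (Localization.Away (φ f))]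
  haveI t2 : IsScalarTower R' (Localization.Away f) (Localization.Away (φ f)) :=
    .of_algebraMap_eq fun r => by
      rw [IsScalarTower.algebraMap_apply R' B (Localization.Away f),
        ← IsScalarTower.algebraMap_apply B (Localization.Away f),
        ← IsScalarTower.algebraMap_apply R' B]
  haveI : IsLocalization (Algebra.algebraMapSubmonoid A (Submonoid.powers f))
      (Localization.Away (φ f)) := by
    have : Algebra.algebraMapSubmonoid A (Submonoid.powers f) = Submonoid.powers (φ f) := by
      rw [Algebra.algebraMapSubmonoid, Submonoid.map_powers, ← hφA]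
    rw [this]
    infer_instance
  have h1 : Algebra.IsPushout B A (Localization.Away f) (Localization.Away (φ f)) :=
    Algebra.isPushout_of_isLocalization (Submonoid.powers f) _ _ _
  have h2 : Algebra.IsPushout B (Localization.Away f) A (Localization.Away (φ f)) := h1.symm
  haveI h3 : Algebra.IsPushout R' B R A := Algebra.IsPushout.symm inferInstance
  have h4 : Algebra.IsPushout R' (Localization.Away f) R (Localization.Away (φ f)) :=
    (Algebra.IsPushout.comp_iff R' B R A).mpr h2
  exact h4.symm.out

omit [Algebra R' R] [Algebra R' B] [Algebra R A] [Algebra R' A] [Algebra B A]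
  [IsScalarTower R' R A] [IsScalarTower R' B A] in
theorem awayMap_mk (b : B) (n : ℕ) :
    Localization.awayMap (φ : B →+* A) f (Localization.mk b (AwayRetraction.pw f n)) =
      Localization.mk (φ b) (AwayRetraction.pw (φ f) n) := by
  rw [Localization.mk_eq_mk', Localization.mk_eq_mk']
  unfold Localization.awayMap IsLocalization.Away.map
  rw [IsLocalization.map_mk']
  congr 1
  exact Subtype.ext (map_pow φ f n)

/-- The structure map into the degree-zero part. -/
def strZ {R' B σ : Type u} [CommRing R'] [CommRing B] [SetLike σ B] [AddSubgroupClass σ B]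
    (ℬ : ℕ → σ) [GradedRing ℬ] [Algebra R' B] (hR' : ∀ r : R', algebraMap R' B r ∈ ℬ 0) :
    R' →+* ℬ 0 where
  toFun r := ⟨algebraMap R' B r, hR' r⟩
  map_one' := Subtype.ext (map_one _)
  map_mul' a b := Subtype.ext (map_mul _ a b)
  map_zero' := Subtype.ext (map_zero _)
  map_add' a b := Subtype.ext (map_add _ a b)

variable (hR' : ∀ r, algebraMap R' B r ∈ ℬ 0) (hR : ∀ r, algebraMap R A r ∈ 𝒜 0)

include hφA in
/-- Degree-zero localization commutes with base change. -/
theorem isPushout_away [Algebra.IsPushout R' R B A] {d : ℕ} (hf : f ∈ ℬ d) :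
    CategoryTheory.IsPushout (CommRingCat.ofHom (algebraMap R' R))
      (CommRingCat.ofHom ((fromZeroRingHom ℬ (.powers f)).comp (strZ ℬ hR')))
      (CommRingCat.ofHom ((fromZeroRingHom 𝒜 (.powers (φ f))).comp (strZ 𝒜 hR)))
      (CommRingCat.ofHom (Away.map φ f)) := by
  have hφf : φ f ∈ 𝒜 d := φ.map_mem hf
  letI algM : Algebra R' (Away ℬ f) :=
    ((fromZeroRingHom ℬ (.powers f)).comp (strZ ℬ hR')).toAlgebra
  letI algN : Algebra R (Away 𝒜 (φ f)) :=
    ((fromZeroRingHom 𝒜 (.powers (φ f))).comp (strZ 𝒜 hR)).toAlgebra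
  letI algMN : Algebra (Away ℬ f) (Away 𝒜 (φ f)) := (Away.map φ f).toAlgebra
  letI algR'N : Algebra R' (Away 𝒜 (φ f)) :=
    (((fromZeroRingHom 𝒜 (.powers (φ f))).comp (strZ 𝒜 hR)).comp (algebraMap R' R)).toAlgebra
  haveI : IsScalarTower R' R (Away 𝒜 (φ f)) := .of_algebraMap_eq fun r => rfl
  haveI : IsScalarTower R' (Away ℬ f) (Away 𝒜 (φ f)) := .of_algebraMap_eq fun r => by
    change fromZeroRingHom 𝒜 (.powers (φ f)) (strZ 𝒜 hR (algebraMap R' R r)) =
      Away.map φ f (fromZeroRingHom ℬ (.powers f) (strZ ℬ hR' r))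
    rw [← RingHom.comp_apply (Away.map φ f), away_map_comp_fromZeroRingHom, RingHom.comp_apply]
    congr 1
    apply Subtype.ext
    change algebraMap R A (algebraMap R' R r) = φ (algebraMap R' B r)
    rw [hφA, ← IsScalarTower.algebraMap_apply, ← IsScalarTower.algebraMap_apply]
  refine (CommRingCat.isPushout_iff_isPushout (R := R') (R' := R) (S := Away ℬ f)
    (S' := Away 𝒜 (φ f))).mpr ⟨?_⟩
  -- the linear maps
  let incl : Away ℬ f →ₗ[R'] Localization.Away f :=
    { toFun := HomogeneousLocalization.val
      map_add' := HomogeneousLocalization.val_add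
      map_smul' := fun r x => by
        change (fromZeroRingHom ℬ (.powers f) (strZ ℬ hR' r) * x).val = r • x.val
        rw [HomogeneousLocalization.val_mul, Algebra.smul_def,
          IsScalarTower.algebraMap_apply R' B (Localization.Away f)]
        rfl }
  have hincl : Function.Injective incl := HomogeneousLocalization.val_injective _
  let rhoLin : Localization.Away f →ₗ[R'] Localization.Away f :=
    { toFun := AwayRetraction.rho hf
      map_add' := map_add _
      map_smul' := fun r y => by
        rw [RingHom.id_apply, Algebra.smul_def, Algebra.smul_def,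
          IsScalarTower.algebraMap_apply R' B (Localization.Away f),
          AwayRetraction.rho_mul_of_mem_zero hf (hR' r)] }
  let ret : Localization.Away f →ₗ[R'] Away ℬ f :=
    (LinearEquiv.ofInjective incl hincl).symm.toLinearMap ∘ₗ
      rhoLin.codRestrict (LinearMap.range incl) (fun y => by
        obtain ⟨x, hx⟩ := AwayRetraction.rho_mem_range hf y
        exact ⟨x, hx⟩)
  have hret : ∀ x, ret (incl x) = x := by
    intro x
    change (LinearEquiv.ofInjective incl hincl).symm _ = x
    rw [LinearEquiv.symm_apply_eq]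
    apply Subtype.ext
    exact AwayRetraction.rho_val hf x
  let j : Away 𝒜 (φ f) →ₗ[R] Localization.Away (φ f) :=
    { toFun := HomogeneousLocalization.val
      map_add' := HomogeneousLocalization.val_add
      map_smul' := fun r x => by
        change (fromZeroRingHom 𝒜 (.powers (φ f)) (strZ 𝒜 hR r) * x).val = r • x.val
        rw [HomogeneousLocalization.val_mul, Algebra.smul_def,
          IsScalarTower.algebraMap_apply R A (Localization.Away (φ f))]
        rfl }
  have hj : Function.Injective j := HomogeneousLocalization.val_injective _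
  refine isBaseChange_of_retract _ (locLin R' φ hφA f) (isBaseChange_locLin φ hφA f) incl ret hret
    j hj ?_ ?_
  · intro x
    obtain ⟨n, b, hb, rfl⟩ := Away.mk_surjective ℬ hf x
    change (Away.map φ f (Away.mk ℬ hf n b hb)).val =
      Localization.awayMap (φ : B →+* A) f (Away.mk ℬ hf n b hb).val
    rw [Away.map_mk, Away.val_mk, Away.val_mk]
    exact (awayMap_mk φ f b n).symm
  · intro y
    obtain ⟨n, a, ha, rfl⟩ := Away.mk_surjective 𝒜 hφf y
    rw [← projMk_of_mem 𝒜 hφf n ha]
    have key : ∀ a : A, projMk 𝒜 hφf n a ∈ Submodule.span R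
        (Set.range (IsScalarTower.toAlgHom R' (Away ℬ f) (Away 𝒜 (φ f))).toLinearMap) := by
      intro a
      refine IsBaseChange.inductionOn
        (Algebra.IsPushout.out (R := R') (S := R) (R' := B) (S' := A)) a _ ?_ ?_ ?_ ?_
      · rw [projMk_zero]
        exact zero_mem _
      · intro b
        change projMk 𝒜 hφf n (algebraMap B A b) ∈ _
        rw [← hφA, ← map_projMk φ hf hφf]
        exact Submodule.subset_span ⟨projMk ℬ hf n b, rfl⟩
      · intro r a' h
        rw [Algebra.smul_def, projMk_mul_of_mem_zero 𝒜 hφf n (hR r)]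
        exact Submodule.smul_mem _ r h
      · intro a₁ a₂ h₁ h₂
        rw [projMk_add]
        exact add_mem h₁ h₂
    exact key a

end AwayBaseChange

end Groth.Agent.Lib.Helper42
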