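import Groth.Agent.Lib.Helper42.ProjMap
import Mathlib.RingTheory.Localization.Away.Basic

/-!
# Degree-zero localization of a graded ring and its homogeneous localizations

If `ψ : 𝒜 →+*ᵍ ℬ` exhibits `B` as the localization of `A` at a degree-zero element `c`, then for every
homogeneous `f` the ring `ℬ_(ψ f)` is the localization of `𝒜_(f)` at `c/1`.
-/

set_option autoImplicit false
universe u

open HomogeneousLocalization

namespace Groth.Agent.Lib.Helper42

variable {A B σ τ : Type u} [CommRing A] [CommRing B]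
  [SetLike σ A] [AddSubgroupClass σ A] [SetLike τ B] [AddSubgroupClass τ B]
  {𝒜 : ℕ → σ} {ℬ : ℕ → τ} [GradedRing 𝒜] [GradedRing ℬ]

/-- The inverse of a degree-zero unit has degree zero. -/
theorem mem_zero_of_mul_eq_one {b u : B} (hb : b ∈ ℬ 0) (hbu : b * u = 1) : u ∈ ℬ 0 := by
  classical
  have h1 : b * GradedRing.projZeroRingHom ℬ u = 1 := by
    have := congrArg (GradedRing.projZeroRingHom ℬ) hbu
    rw [map_mul, map_one] at this
    rwa [show GradedRing.projZeroRingHom ℬ b = b from DirectSum.decompose_of_mem_same _ hb] at this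
  have h2 : u = GradedRing.projZeroRingHom ℬ u := by
    calc u = u * (b * GradedRing.projZeroRingHom ℬ u) := by rw [h1, mul_one]
      _ = (b * u) * GradedRing.projZeroRingHom ℬ u := by ring
      _ = _ := by rw [hbu, one_mul]
  rw [h2]
  exact SetLike.coe_mem _

theorem val_fromZeroRingHom (S : Submonoid A) (a : 𝒜 0) :
    (fromZeroRingHom 𝒜 S a).val = Localization.mk (a : A) 1 := rfl

variable (ψ : 𝒜 →+*ᵍ ℬ) [Algebra A B] (hψ : ∀ a, algebraMap A B a = ψ a) {c : A} (hc : c ∈ 𝒜 0)
  [IsLocalization.Away c B] {d : ℕ} {f : A} (hf : f ∈ 𝒜 d)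

include hψ hf in
theorem isLocalization_away_awayMap :
    letI := (Away.map ψ f).toAlgebra
    IsLocalization.Away (fromZeroRingHom 𝒜 (.powers f) ⟨c, hc⟩) (Away ℬ (ψ f)) := by
  classical
  letI := (Away.map ψ f).toAlgebra
  have halg : ∀ x, algebraMap (Away 𝒜 f) (Away ℬ (ψ f)) x = Away.map ψ f x := fun _ => rfl
  have hcz : Away.map ψ f (fromZeroRingHom 𝒜 (.powers f) ⟨c, hc⟩) =
      fromZeroRingHom ℬ (.powers (ψ f)) ⟨ψ c, ψ.map_mem hc⟩ :=
    RingHom.congr_fun (away_map_comp_fromZeroRingHom ψ f) ⟨c, hc⟩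
  refine IsLocalization.Away.mk _ ?_ ?_ ?_
  · rw [halg, hcz]
    obtain ⟨u, hu⟩ := (IsLocalization.Away.algebraMap_isUnit (S := B) c).exists_right_inv
    rw [hψ] at hu
    have hu0 : u ∈ ℬ 0 := mem_zero_of_mul_eq_one (ψ.map_mem hc) hu
    refine IsUnit.of_mul_eq_one (fromZeroRingHom ℬ (.powers (ψ f)) ⟨u, hu0⟩) ?_
    rw [← map_mul, show (⟨ψ c, ψ.map_mem hc⟩ : ℬ 0) * ⟨u, hu0⟩ = 1 from Subtype.ext hu, map_one]
  · intro s
    obtain ⟨n, b, hb, rfl⟩ := Away.mk_surjective ℬ (ψ.map_mem hf) s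
    obtain ⟨k, a, hka⟩ := IsLocalization.Away.surj (S := B) c b
    rw [hψ, hψ] at hka
    have hbk : b * ψ c ^ k ∈ ℬ (n • d) := by
      have h0 : ψ c ^ k ∈ ℬ 0 := by
        simpa using SetLike.pow_mem_graded k (ψ.map_mem hc)
      simpa only [add_zero] using SetLike.mul_mem_graded hb h0
    have ha' : ψ (DirectSum.decompose 𝒜 a (n • d) : A) = b * ψ c ^ k := by
      rw [GradedRingHom.map_directSumDecompose, ← hka, DirectSum.decompose_of_mem_same _ hbk]
    refine ⟨k, Away.mk 𝒜 hf n (DirectSum.decompose 𝒜 a (n • d) : A) (SetLike.coe_mem _), ?_⟩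
    rw [halg, halg, hcz, Away.map_mk]
    ext
    simp only [val_mul, val_pow, Away.val_mk, val_fromZeroRingHom, ha', Localization.mk_pow,
      Localization.mk_mul, one_pow, mul_one]
    rfl
  · intro x y hxy
    obtain ⟨n, a, ha, rfl⟩ := Away.mk_surjective 𝒜 hf x
    obtain ⟨m, a', ha', rfl⟩ := Away.mk_surjective 𝒜 hf y
    rw [halg, halg, Away.map_mk, Away.map_mk] at hxy
    have hv := congrArg HomogeneousLocalization.val hxy
    rw [Away.val_mk, Away.val_mk, Localization.mk_eq_mk_iff, Localization.r_iff_exists] at hv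
    obtain ⟨⟨_, l, rfl⟩, hl⟩ := hv
    simp only at hl
    have hl' : algebraMap A B (f ^ l * (f ^ m * a)) = algebraMap A B (f ^ l * (f ^ n * a')) := by
      rw [hψ, hψ]
      simpa only [map_mul, map_pow] using hl
    obtain ⟨k, hk⟩ := IsLocalization.Away.exists_of_eq (S := B) c hl'
    refine ⟨k, ?_⟩
    ext
    simp only [val_mul, val_pow, Away.val_mk, val_fromZeroRingHom, Localization.mk_pow,
      Localization.mk_mul, one_pow, one_mul]
    rw [Localization.mk_eq_mk_iff, Localization.r_iff_exists]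
    refine ⟨⟨f ^ l, l, rfl⟩, ?_⟩
    simp only
    linear_combination hk

end Groth.Agent.Lib.Helper42
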