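import Mathlib

/-!
# Refining a standard chart of `Proj`: restricting along a graded homomorphism and multiplying the
element by a homogeneous element
-/

set_option autoImplicit false
universe u

open CategoryTheory AlgebraicGeometry HomogeneousLocalization
open scoped HomogeneousIdeal

namespace Groth.Agent.Lib.Helper42

variable {A A₃ σ σ₃ : Type u} [CommRing A] [CommRing A₃]
  [SetLike σ A] [AddSubgroupClass σ A] [SetLike σ₃ A₃] [AddSubgroupClass σ₃ A₃]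
  {𝒜 : ℕ → σ} {𝒜₃ : ℕ → σ₃} [GradedRing 𝒜] [GradedRing 𝒜₃]

theorem refine_mem (ρ : 𝒜 →+*ᵍ 𝒜₃) {d e : ℕ} {g₃ : A₃} (hg₃ : g₃ ∈ 𝒜₃ e) (n : ℕ) {a : A}
    (ha : a ∈ 𝒜 (n • d)) : ρ a * g₃ ^ n ∈ 𝒜₃ (n • (d + e)) := by
  rw [smul_add]
  exact SetLike.mul_mem_graded (Graded.map_mem ρ ha) (SetLike.pow_mem_graded n hg₃)

/-- The refinement homomorphism `𝒜_(f) → 𝒜₃_(ρ f · g₃)`, `a / f^n ↦ ρ a · g₃^n / (ρ f · g₃)^n`, together with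
the compatibility of the standard charts. -/
theorem exists_refine (ρ : 𝒜 →+*ᵍ 𝒜₃) (hirr : 𝒜₃₊ ≤ 𝒜₊.map ρ) {d e : ℕ} (hd : 0 < d)
    {f : A} (hf : f ∈ 𝒜 d) {g₃ : A₃} (hg₃ : g₃ ∈ 𝒜₃ e) {f₃ : A₃} (hf₃ : f₃ ∈ 𝒜₃ (d + e))
    (h : f₃ = ρ f * g₃) :
    ∃ s : Away 𝒜 f →+* Away 𝒜₃ f₃,
      (∀ (n : ℕ) (a : A) (ha : a ∈ 𝒜 (n • d)),
        s (Away.mk 𝒜 hf n a ha) = Away.mk 𝒜₃ hf₃ n (ρ a * g₃ ^ n) (refine_mem ρ hg₃ n ha)) ∧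
      Proj.awayι 𝒜₃ f₃ hf₃ (Nat.add_pos_left hd e) ≫ Proj.map ρ hirr =
        Spec.map (CommRingCat.ofHom s) ≫ Proj.awayι 𝒜 f hf hd := by
  subst h
  refine ⟨(awayMap 𝒜₃ hg₃ rfl).comp (Away.map ρ f), ?_, ?_⟩
  · intro n a ha
    rw [RingHom.comp_apply, Away.map_mk ρ f hf n a ha, awayMap_mk]
  · rw [CommRingCat.ofHom_comp, Spec.map_comp, Category.assoc, ← Proj.awayι_comp_map ρ hirr hd f hf,
      ← Category.assoc]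
    congr 1
    exact (Proj.SpecMap_awayMap_awayι 𝒜₃ (Graded.map_mem ρ hf) hd hg₃ rfl).symm

end Groth.Agent.Lib.Helper42
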