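import Groth.Agent.Lib.Helper42.ModGlue
import Groth.Agent.Lib.Helper45.InvBasis

/-!
# Modules with local bases on a common cover and equal transition functions are isomorphic (helper42)
-/

set_option autoImplicit false
universe u
open CategoryTheory CategoryTheory.Limits AlgebraicGeometry Opposite TopologicalSpace
noncomputable section

namespace Groth.Agent.Lib.Helper42.BasisGlue

open Groth.Agent.Lib.Helper45 Groth.Agent.Lib.Helper49 Groth.Agent.Lib.Helper42.ModLocal

variable {X : Scheme.{u}} {F G : X.Modules} {ι : Type u} (V : ι → X.Opens) (hV : ∀ x : X, ∃ i, x ∈ V i)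
  (τ : ∀ i, Γ(F, V i)) (σ : ∀ i, Γ(G, V i))
  (hτ : ∀ i, IsBasisOn F (V i) (τ i)) (hσ : ∀ i, IsBasisOn G (V i) (σ i))
  (hc : ∀ (i j : ι) (W : X.Opens) (hi : W ≤ V i) (hj : W ≤ V j) (c : Γ(X, W)),
    mres F hi (τ i) = c • mres F hj (τ j) → mres G hi (σ i) = c • mres G hj (σ j))

/-- the coefficient of a section with respect to the local basis `τ i` -/
def coefEquiv (j : LIdx V) : Γ(X, LB V j) ≃+ Γ(F, LB V j) :=
  AddEquiv.ofBijective
    ((LinearMap.toSpanSingleton Γ(X, LB V j) Γ(F, LB V j) (mres F j.2.2 (τ j.1))).toAddMonoidHom)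
    (hτ j.1 j.2.1 j.2.2)

theorem coefEquiv_apply (j : LIdx V) (r : Γ(X, LB V j)) :
    coefEquiv V τ hτ j r = r • mres F j.2.2 (τ j.1) := rfl

/-- the local map sending `r • τ i` to `r • σ i` -/
def delta (j : LIdx V) : Γ(F, LB V j) →+ Γ(G, LB V j) :=
  ((LinearMap.toSpanSingleton Γ(X, LB V j) Γ(G, LB V j) (mres G j.2.2 (σ j.1))).toAddMonoidHom).comp
    (coefEquiv V τ hτ j).symm.toAddMonoidHom

theorem delta_smul_basis (j : LIdx V) (r : Γ(X, LB V j)) :
    delta V τ σ hτ j (r • mres F j.2.2 (τ j.1)) = r • mres G j.2.2 (σ j.1) := by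
  have h1 : (coefEquiv V τ hτ j).symm (r • mres F j.2.2 (τ j.1)) = r := by
    rw [← coefEquiv_apply V τ hτ j r, AddEquiv.symm_apply_apply]
  change (LinearMap.toSpanSingleton _ _ _) ((coefEquiv V τ hτ j).symm _) = _
  rw [h1]
  rfl

include hτ in
theorem exists_eq_smul_basis (j : LIdx V) (s : Γ(F, LB V j)) :
    ∃ r : Γ(X, LB V j), s = r • mres F j.2.2 (τ j.1) := by
  obtain ⟨r, hr⟩ := (hτ j.1 j.2.1 j.2.2).2 s
  exact ⟨r, hr.symm⟩

include hc in
theorem delta_res (j j' : LIdx V) (h : LB V j' ≤ LB V j) (s : Γ(F, LB V j)) :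
    delta V τ σ hτ j' (F.presheaf.map (homOfLE h).op s) =
      G.presheaf.map (homOfLE h).op (delta V τ σ hτ j s) := by
  obtain ⟨r, rfl⟩ := exists_eq_smul_basis V τ hτ j s
  rw [delta_smul_basis]
  change delta V τ σ hτ j' (mres F h (r • mres F j.2.2 (τ j.1))) = mres G h (r • mres G j.2.2 (σ j.1))
  rw [mres_smul, mres_smul, mres_mres, mres_mres]
  obtain ⟨a, ha⟩ := exists_eq_smul_basis V τ hτ j' (mres F (h.trans j.2.2) (τ j.1))
  have ha' := hc j.1 j'.1 (LB V j') (h.trans j.2.2) j'.2.2 a ha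
  rw [ha, ha', smul_smul, smul_smul, delta_smul_basis]

theorem delta_smul (j : LIdx V) (r : Γ(X, LB V j)) (s : Γ(F, LB V j)) :
    delta V τ σ hτ j (r • s) = r • delta V τ σ hτ j s := by
  obtain ⟨c, rfl⟩ := exists_eq_smul_basis V τ hτ j s
  rw [smul_smul, delta_smul_basis, delta_smul_basis, smul_smul]

include hσ in
theorem delta_bijective (j : LIdx V) : Function.Bijective (delta V τ σ hτ j) := by
  have h1 : Function.Bijective (coefEquiv V τ hτ j).symm := (coefEquiv V τ hτ j).symm.bijective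
  have h2 := hσ j.1 j.2.1 j.2.2
  exact h2.comp h1

include hV hc hσ hτ in
/-- two modules with local bases on a common cover and the same transition functions are isomorphic -/
theorem nonempty_iso_of_local_bases : Nonempty (F ≅ G) := by
  have hB := isBasis_LB V hV
  let φ : F ⟶ G := homOfBasis (LB V) hB (delta V τ σ hτ) (delta_res V τ σ hτ hc) (delta_smul V τ σ hτ)
  have : IsIso φ := by
    refine isIso_of_bijective_basis φ fun x => ?_
    obtain ⟨i, hi⟩ := hV x
    refine ⟨V i, hi, fun W hW => ?_⟩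
    have h1 : ∀ s, φ.app W s = delta V τ σ hτ ⟨i, W, hW⟩ s := fun s =>
      homOfBasis_app (LB V) hB (delta V τ σ hτ) (delta_res V τ σ hτ hc) (delta_smul V τ σ hτ) ⟨i, W, hW⟩ s
    have h2 : (φ.app W : Γ(F, W) → Γ(G, W)) = delta V τ σ hτ ⟨i, W, hW⟩ := funext h1
    rw [h2]
    exact delta_bijective V τ σ hτ hσ ⟨i, W, hW⟩
  exact ⟨asIso φ⟩

end Groth.Agent.Lib.Helper42.BasisGlue
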