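import Groth.Statements.S9122
import Groth.Agent.Lib.Helper30.FreeTerminal
import Groth.Agent.Lib.Helper30.ModEpi
import Mathlib.CategoryTheory.Functor.ReflectsIso.Limits

/-!
# Sheaves of modules on a site with the chaotic topology (helper42)

* `IsChaotic K`: only maximal sieves cover.  Then `SheafOfModules.forget` is an equivalence,
  `SheafOfModules.evaluation` preserves colimits (`preservesColimits_evaluation`); the evaluation
  functors jointly reflect isomorphisms on any site (`jointlyReflectIsomorphisms_evaluation`).
* `bc N g : N(W) ⊗_{O(W)} O(W') ⟶ N(W')` the base-change map (as in S9122), `bcNat` natural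
  transformation, `isIso_bc_unit`, `isIso_app_of_isColimit` (general closure lemma).
-/

set_option autoImplicit false
universe u
open CategoryTheory Opposite Limits

namespace Groth.Agent.Lib.Helper42.Chaotic

variable {D : Type u} [SmallCategory D] {K : GrothendieckTopology D}

/-- only maximal sieves are covering -/
def IsChaotic (K : GrothendieckTopology D) : Prop := ∀ (V : D) (S : Sieve V), S ∈ K V → S = ⊤

theorem isChaotic_bot : IsChaotic (⊥ : GrothendieckTopology D) := by
  intro V S hS
  exact hS

variable (hK : IsChaotic K)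

section Part0
variable (R : Sheaf K RingCat.{u})

include hK in
theorem isSheaf_of_chaotic {A : Type*} [Category A] (P : Dᵒᵖ ⥤ A) : Presheaf.IsSheaf K P := by
  intro E V S hS
  rw [hK V S hS]
  exact Presieve.isSheafFor_top _

include hK in
theorem essSurj_forget : (SheafOfModules.forget.{u} R).EssSurj := by
  constructor
  intro P
  exact ⟨⟨P, isSheaf_of_chaotic hK _⟩, ⟨Iso.refl _⟩⟩

include hK in
theorem isEquivalence_forget : (SheafOfModules.forget.{u} R).IsEquivalence := by
  have := essSurj_forget hK R
  exact { }

include hK in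
theorem preservesColimits_evaluation (W : D) :
    PreservesColimitsOfSize.{u, u} (SheafOfModules.evaluation.{u} R (op W)) := by
  have := isEquivalence_forget hK R
  unfold SheafOfModules.evaluation
  infer_instance

theorem jointlyReflectIsomorphisms_evaluation :
    JointlyReflectIsomorphisms (fun W : D => SheafOfModules.evaluation.{u} R (op W)) := by
  constructor
  intro N N' f hf
  have h1 : IsIso ((SheafOfModules.forget R).map f) := by
    have h2 : IsIso ((PresheafOfModules.toPresheaf R.obj).map ((SheafOfModules.forget R).map f)) := by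
      apply (config := { allowSynthFailures := true }) NatIso.isIso_of_isIso_app
      intro W
      have := hf W.unop
      exact inferInstanceAs (IsIso ((forget₂ (ModuleCat _) AddCommGrpCat).map
        ((SheafOfModules.evaluation.{u} R (op W.unop)).map f)))
    exact isIso_of_reflects_iso _ (PresheafOfModules.toPresheaf R.obj)
  exact isIso_of_reflects_iso _ (SheafOfModules.forget R)

end Part0

section Clean

open ChangeOfRings in
theorem exists_eq_tmul_one {R S : Type u} [CommRing R] [CommRing S] (f : R →+* S)
    (z : (ModuleCat.extendScalars f).obj (ModuleCat.of R R)) :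
    ∃ s : S, z = s ⊗ₜ[R,f] (1 : R) := by
  letI : Module R S := Module.compHom S f
  induction z using TensorProduct.induction_on with
  | zero => exact ⟨0, (TensorProduct.zero_tmul (R := R) S (1 : R)).symm⟩
  | add x y hx hy =>
    obtain ⟨s, rfl⟩ := hx
    obtain ⟨s', rfl⟩ := hy
    exact ⟨s + s', (TensorProduct.add_tmul (R := R) s s' (1 : R)).symm⟩
  | tmul s r =>
    change S at s
    refine ⟨f r * s, ?_⟩
    have h := TensorProduct.smul_tmul (R := R) (R' := R) (M := S) (N := R) r (s : S) (1 : R)
    have h2 : r • (1 : R) = r := mul_one r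
    rw [h2] at h
    exact h.symm

open ChangeOfRings in
/-- clean version: the base change of the ring itself -/
theorem isIso_homEquiv_symm_self {R S : Type u} [CommRing R] [CommRing S] (f : R →+* S)
    (φ : ModuleCat.of R R ⟶ (ModuleCat.restrictScalars f).obj (ModuleCat.of S S))
    (hφ : ∀ r : R, φ.hom r = f r) :
    IsIso (((ModuleCat.extendRestrictScalarsAdj f).homEquiv (ModuleCat.of R R)
      (ModuleCat.of S S)).symm φ) := by
  let ψ := ((ModuleCat.extendRestrictScalarsAdj f).homEquiv (ModuleCat.of R R)
      (ModuleCat.of S S)).symm φ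
  have hψ : ∀ (s : S) (r : R), ψ.hom (s ⊗ₜ[R,f] r) = s * f r := by
    intro s r
    show s • (φ.hom r) = s * f r
    rw [hφ]
    rfl
  rw [ConcreteCategory.isIso_iff_bijective]
  constructor
  · intro z z' h
    obtain ⟨s, rfl⟩ := exists_eq_tmul_one f z
    obtain ⟨s', rfl⟩ := exists_eq_tmul_one f z'
    have h1 : s * f 1 = s' * f 1 := (hψ s 1).symm.trans (h.trans (hψ s' 1))
    rw [map_one, mul_one, mul_one] at h1
    rw [h1]
  · intro s
    exact ⟨s ⊗ₜ[R,f] (1 : R), (hψ s 1).trans (by rw [map_one, mul_one])⟩


end Clean

section Part1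
variable (O : Sheaf K CommRingCat.{u})

/-- evaluation with values in modules over the commutative ring of sections -/
noncomputable abbrev evC (W : D) : ModSite.Mod O ⥤ ModuleCat.{u} (O.obj.obj (op W)) :=
  SheafOfModules.evaluation.{u} (ModSite.ringSh O) (op W)

variable {O}

/-- base change map -/
noncomputable def bc (N : ModSite.Mod O) {W W' : D} (g : W' ⟶ W) :
    (ModuleCat.extendScalars (O.obj.map g.op).hom).obj
        (N.val.obj (op W) : ModuleCat.{u} (O.obj.obj (op W))) ⟶
      (N.val.obj (op W') : ModuleCat.{u} (O.obj.obj (op W'))) :=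
  ((ModuleCat.extendRestrictScalarsAdj (O.obj.map g.op).hom).homEquiv
    (N.val.obj (op W) : ModuleCat.{u} (O.obj.obj (op W)))
    (N.val.obj (op W') : ModuleCat.{u} (O.obj.obj (op W')))).symm (N.val.map g.op)

theorem bc_tmul (N : ModSite.Mod O) {W W' : D} (g : W' ⟶ W) (s : O.obj.obj (op W'))
    (n : N.val.obj (op W)) :
    (bc N g).hom (s ⊗ₜ n) = s • (show N.val.obj (op W') from N.val.map g.op n) := by
  rfl


theorem bc_naturality {N N' : ModSite.Mod O} (φ : N ⟶ N') {W W' : D} (g : W' ⟶ W) :
    (ModuleCat.extendScalars (O.obj.map g.op).hom).map ((evC O W).map φ) ≫ bc N' g =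
      bc N g ≫ (evC O W').map φ := by
  apply ModuleCat.hom_ext
  apply LinearMap.ext
  intro z
  induction z using TensorProduct.induction_on with
  | zero => exact (map_zero _).trans (map_zero _).symm
  | add x y hx hy => exact (map_add _ x y).trans ((congrArg₂ (· + ·) hx hy).trans (map_add _ x y).symm)
  | tmul s n =>
    show (bc N' g).hom (s ⊗ₜ (φ.val.app (op W) n)) = φ.val.app (op W') ((bc N g).hom (s ⊗ₜ n))
    rw [bc_tmul, bc_tmul]
    erw [map_smul]
    congr 1
    exact (PresheafOfModules.naturality_apply φ.val g.op n).symm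

/-- base change as a natural transformation -/
noncomputable def bcNat {W W' : D} (g : W' ⟶ W) :
    evC O W ⋙ ModuleCat.extendScalars (O.obj.map g.op).hom ⟶ evC O W' where
  app N := bc N g
  naturality _ _ φ := bc_naturality φ g



theorem isIso_bc_unit {W W' : D} (g : W' ⟶ W) : IsIso (bc (ModSite.unit O) g) :=
  isIso_homEquiv_symm_self (O.obj.map g.op).hom ((ModSite.unit O).val.map g.op) (fun _ => rfl)

end Part1

section General

/-- a natural transformation between functors preserving a colimit is an isomorphism at the
colimit as soon as it is on the diagram -/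
theorem isIso_app_of_isColimit {C E : Type*} [Category C] [Category E] {Φ Ψ : C ⥤ E} (β : Φ ⟶ Ψ)
    {Jd : Type*} [Category Jd] {G : Jd ⥤ C} (c : Cocone G) (hc : IsColimit c)
    [PreservesColimit G Φ] [PreservesColimit G Ψ] (h : ∀ j, IsIso (β.app (G.obj j))) :
    IsIso (β.app c.pt) := by
  let hΦ := isColimitOfPreserves Φ hc
  let hΨ := isColimitOfPreserves Ψ hc
  let inv' : Ψ.obj c.pt ⟶ Φ.obj c.pt := hΨ.desc
    { pt := Φ.obj c.pt
      ι :=
        { app := fun j => inv (β.app (G.obj j)) ≫ Φ.map (c.ι.app j)
          naturality := by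
            intro j j' f
            simp only [Functor.comp_obj, Functor.comp_map, Functor.const_obj_obj,
              Functor.const_obj_map, Category.comp_id]
            rw [IsIso.eq_inv_comp, ← Category.assoc, ← β.naturality, Category.assoc,
              IsIso.hom_inv_id_assoc, ← Φ.map_comp, c.w] } }
  refine ⟨inv', ?_, ?_⟩
  · apply hΦ.hom_ext
    intro j
    have h1 : (Φ.mapCocone c).ι.app j ≫ β.app c.pt = β.app (G.obj j) ≫ (Ψ.mapCocone c).ι.app j :=
      β.naturality (c.ι.app j)
    rw [← Category.assoc, h1, Category.assoc, hΨ.fac]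
    simp
  · apply hΨ.hom_ext
    intro j
    rw [← Category.assoc, hΨ.fac]
    simp only [Functor.mapCocone_pt, Functor.mapCocone_ι_app, Category.assoc, Category.comp_id]
    rw [β.naturality, IsIso.inv_hom_id_assoc]

end General

section Claim1

variable {O : Sheaf K CommRingCat.{u}}

include hK in
theorem preservesColimits_evC (W : D) : PreservesColimitsOfSize.{u, u} (evC O W) :=
  preservesColimits_evaluation hK (ModSite.ringSh O) W

include hK in
theorem isIso_bc_free (I : Type u) {W W' : D} (g : W' ⟶ W) :
    IsIso (bc (SheafOfModules.free (R := ModSite.ringSh O) I) g) := by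
  have h1 := preservesColimits_evC hK (O := O) W
  have h2 := preservesColimits_evC hK (O := O) W'
  let G : Discrete I ⥤ ModSite.Mod O := Discrete.functor (fun _ : I => ModSite.unit O)
  have h3 : PreservesColimit G (evC O W ⋙ ModuleCat.extendScalars (O.obj.map g.op).hom) :=
    inferInstance
  have h4 : PreservesColimit G (evC O W') := inferInstance
  exact isIso_app_of_isColimit (bcNat g) (colimit.cocone G) (colimit.isColimit G)
    (fun _ => isIso_bc_unit g)

include hK in
theorem isIso_bc_of_presentation (N : ModSite.Mod O) (P : N.Presentation) {W W' : D}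
    (g : W' ⟶ W) : IsIso (bc N g) := by
  have h1 := preservesColimits_evC hK (O := O) W
  have h2 := preservesColimits_evC hK (O := O) W'
  have hc := P.isColimit
  let f : SheafOfModules.free (R := ModSite.ringSh O) P.relations.I ⟶
      SheafOfModules.free P.generators.I :=
    (SheafOfModules.freeHomEquiv _).symm P.relations.s ≫ (kernel.ι _)
  have h3 : PreservesColimit (parallelPair f 0)
      (evC O W ⋙ ModuleCat.extendScalars (O.obj.map g.op).hom) := inferInstance
  have h4 : PreservesColimit (parallelPair f 0) (evC O W') := inferInstance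
  have key : ∀ j, IsIso ((bcNat (O := O) g).app ((parallelPair f 0).obj j)) := by
    rintro (_ | _)
    · exact isIso_bc_free hK _ g
    · exact isIso_bc_free hK _ g
  exact isIso_app_of_isColimit (Φ := evC O W ⋙ ModuleCat.extendScalars (O.obj.map g.op).hom)
    (Ψ := evC O W') (bcNat g) (G := parallelPair f 0)
    (CokernelCofork.ofπ (f := f) P.generators.π (by simp [f])) hc key

end Claim1

section Claim2

open Groth.Agent.Lib.Helper30.FreeTerminal SheafOfModules

variable {O : Sheaf K CommRingCat.{u}} {T : D} (hT : IsTerminal T) (N : ModSite.Mod O)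

/-- generators: all sections over the terminal object -/
noncomputable def gMap : free (R := ModSite.ringSh O) (N.val.obj (op T)) ⟶ N :=
  freeDesc hT N id

/-- index type of the relations: the kernel of `gMap` over `T` -/
def RelIdx : Type u :=
  {τ : (free (R := ModSite.ringSh O) (N.val.obj (op T))).val.obj (op T) //
    (gMap hT N).val.app (op T) τ = 0}

/-- relations -/
noncomputable def fMap : free (R := ModSite.ringSh O) (RelIdx hT N) ⟶
    free (R := ModSite.ringSh O) (N.val.obj (op T)) :=
  freeDesc hT _ (fun l => l.val)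

lemma gMap_eF (n : N.val.obj (op T)) : (gMap hT N).val.app (op T) (eF n T) = n :=
  freeDesc_eF hT N id n

lemma fMap_eF (l : RelIdx hT N) : (fMap hT N).val.app (op T) (eF l T) = l.val :=
  freeDesc_eF hT _ (fun l : RelIdx hT N => l.val) l

lemma fMap_gMap : fMap hT N ≫ gMap hT N = 0 := by
  apply free_hom_ext hT
  intro l
  show (gMap hT N).val.app (op T) ((fMap hT N).val.app (op T) (eF l T)) = 0
  rw [fMap_eF]
  exact l.property

instance additive_evC (W : D) : (evC O W).Additive :=
  inferInstanceAs ((SheafOfModules.forget (ModSite.ringSh O) ⋙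
    PresheafOfModules.evaluation _ (op W)).Additive)

instance additive_extendScalars {R S : Type u} [CommRing R] [CommRing S] (f : R →+* S) :
    (ModuleCat.extendScalars.{u, u, u} f).Additive :=
  (ModuleCat.extendRestrictScalarsAdj f).left_adjoint_additive

/-- the short complex of sections over `W` of the presentation candidate -/
noncomputable def SC (W : D) : ShortComplex (ModuleCat.{u} (O.obj.obj (op W))) :=
  ShortComplex.mk ((evC O W).map (fMap hT N)) ((evC O W).map (gMap hT N)) (by
    rw [← CategoryTheory.Functor.map_comp, fMap_gMap, CategoryTheory.Functor.map_zero])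

lemma SC_T_exact : (SC hT N T).Exact := by
  rw [ShortComplex.moduleCat_exact_iff]
  intro x₂ hx₂
  exact ⟨eF (⟨x₂, hx₂⟩ : RelIdx hT N) T, fMap_eF hT N ⟨x₂, hx₂⟩⟩

lemma SC_T_epi : Epi (SC hT N T).g := by
  rw [ModuleCat.epi_iff_surjective]
  intro n
  exact ⟨eF n T, gMap_eF hT N n⟩

include hK in
lemma SC_exact_epi (h : ∀ W : D, IsIso (bc N (hT.from W))) (W : D) :
    (SC hT N W).Exact ∧ Epi (SC hT N W).g := by
  let E := ModuleCat.extendScalars (O.obj.map (hT.from W).op).hom
  have hpf : PreservesFiniteColimits E := inferInstance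
  have hall : ∀ (S : ShortComplex (ModuleCat.{u} (O.obj.obj (op T)))),
      S.Exact ∧ Epi S.g → (S.map E).Exact ∧ Epi (E.map S.g) :=
    ((Functor.preservesFiniteColimits_tfae E).out 3 1).mp hpf
  have hE : ((SC hT N T).map E).Exact ∧ Epi (E.map (SC hT N T).g) :=
    hall (SC hT N T) ⟨SC_T_exact hT N, SC_T_epi hT N⟩
  let φ : (SC hT N T).map E ⟶ SC hT N W :=
    { τ₁ := bc _ (hT.from W)
      τ₂ := bc _ (hT.from W)
      τ₃ := bc N (hT.from W)
      comm₁₂ := (bc_naturality (fMap hT N) (hT.from W)).symm
      comm₂₃ := (bc_naturality (gMap hT N) (hT.from W)).symm }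
  have i1 : IsIso φ.τ₁ := isIso_bc_free hK _ _
  have i2 : IsIso φ.τ₂ := isIso_bc_free hK _ _
  have i3 : IsIso φ.τ₃ := h W
  refine ⟨(ShortComplex.exact_iff_of_epi_of_isIso_of_mono φ).mp hE.1, ?_⟩
  have hE2 : Epi ((SC hT N T).map E).g := hE.2
  have : Epi (φ.τ₂ ≫ (SC hT N W).g) := by
    rw [φ.comm₂₃]
    infer_instance
  exact epi_of_epi φ.τ₂ _

include hK in
/-- Claim 2: if all base change maps from the terminal object are isomorphisms then `N` has a
global presentation. -/
theorem nonempty_presentation_of_bc (h : ∀ W : D, IsIso (bc N (hT.from W))) :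
    Nonempty N.Presentation := by
  have hcol : ∀ W : D, IsColimit ((evC O W).mapCocone
      (CokernelCofork.ofπ (gMap hT N) (fMap_gMap hT N))) := by
    intro W
    obtain ⟨hex, hepi⟩ := SC_exact_epi hK hT N h W
    exact (CokernelCofork.isColimitMapCoconeEquiv _ _).symm hex.gIsCokernel
  have hp : ∀ W : D, PreservesColimit (parallelPair (fMap hT N) 0)
      (SheafOfModules.evaluation.{u} (ModSite.ringSh O) (op W)) := fun W => by
    have := preservesColimits_evaluation hK (ModSite.ringSh O) W
    infer_instance
  have H' : IsColimit (CokernelCofork.ofπ (gMap hT N) (fMap_gMap hT N)) :=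
    (jointlyReflectIsomorphisms_evaluation (ModSite.ringSh O)).jointlyReflectsColimit hcol
  exact ⟨presentationOfIsCokernelFree _ _ _ H'⟩

end Claim2

section OverSite

include hK in
theorem isChaotic_over (X : D) : IsChaotic (K.over X) := by
  intro Y S hS
  rw [GrothendieckTopology.mem_over_iff] at hS
  have h1 := hK _ _ hS
  apply (Sieve.overEquiv Y).injective
  rw [h1, map_top]

variable {O : Sheaf K CommRingCat.{u}}

/-- the base change maps of the restriction `F|_X` are those of `F` -/
theorem isIso_bc_over_iff (F : ModSite.Mod O) (X : D) {W W' : Over X} (g : W' ⟶ W) :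
    IsIso (bc (O := O.over X) (F.over X) g) ↔ IsIso (bc F g.left) := Iff.rfl

include hK in
/-- quasi-coherent modules for a chaotic topology have bijective base change maps -/
theorem isIso_bc_of_isQuasicoherent (F : ModSite.Mod O)
    (hF : SheafOfModules.IsQuasicoherent (R := ModSite.ringSh O) F) {U V : D} (g : U ⟶ V) :
    IsIso (bc F g) := by
  obtain ⟨⟨q⟩⟩ := hF
  have h1 : Sieve.ofObjects q.X V = ⊤ := hK _ _ (q.coversTop V)
  have h2 : (Sieve.ofObjects q.X V).arrows (𝟙 V) := by
    rw [h1]
    trivial
  obtain ⟨i, ⟨v⟩⟩ := (Sieve.mem_ofObjects_iff ..).mp h2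
  have h3 := isIso_bc_of_presentation (isChaotic_over hK (q.X i)) (O := O.over (q.X i))
    (F.over (q.X i)) (q.presentation i) (Over.homMk g : Over.mk (g ≫ v) ⟶ Over.mk v)
  exact (isIso_bc_over_iff F (q.X i) _).mp h3

include hK in
/-- conversely -/
theorem isQuasicoherent_of_isIso_bc (F : ModSite.Mod O)
    (h : ∀ (U V : D) (g : U ⟶ V), IsIso (bc F g)) :
    SheafOfModules.IsQuasicoherent (R := ModSite.ringSh O) F := by
  have hp : ∀ V : D, Nonempty ((F.over V).Presentation) := by
    intro V
    refine nonempty_presentation_of_bc (isChaotic_over hK V) (O := O.over V)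
      (Over.mkIdTerminal (X := V)) (F.over V) ?_
    intro W
    rw [isIso_bc_over_iff]
    exact h _ _ _
  let q : SheafOfModules.QuasicoherentData.{u} (R := ModSite.ringSh O) F :=
    { I := D
      X := id
      coversTop := fun _ => GrothendieckTopology.covering_of_eq_top K <| by simp
      presentation := fun V => (hp V).some }
  exact q.isQuasicoherent

include hK in
theorem isQuasicoherent_iff_isIso_bc (F : ModSite.Mod O) :
    SheafOfModules.IsQuasicoherent (R := ModSite.ringSh O) F ↔
      ∀ (U V : D) (g : U ⟶ V), IsIso (bc F g) :=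
  ⟨fun hF _ _ g => isIso_bc_of_isQuasicoherent hK F hF g, isQuasicoherent_of_isIso_bc hK F⟩

end OverSite

end Groth.Agent.Lib.Helper42.Chaotic
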