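import Groth.Agent.Lib.Helper42.Chaotic
import Mathlib.Algebra.Category.ModuleCat.Descent
import Mathlib.Algebra.Category.ModuleCat.Sheaf.Limits

/-!
# Weak Serre property of quasi-coherent modules for the chaotic topology with flat restriction
maps (helper42)

* `isIso_app_of_isLimit`: a natural transformation between functors preserving a limit is an
  isomorphism at the limit point as soon as it is on the diagram.
* `isIso_bc_kernel`, `isIso_bc_cokernel`, `isIso_bc_of_shortExact`.
-/

set_option autoImplicit false
universe u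
open CategoryTheory Opposite Limits

namespace Groth.Agent.Lib.Helper42.Chaotic

section General

theorem isIso_app_of_isLimit {C E : Type*} [Category C] [Category E] {Φ Ψ : C ⥤ E} (β : Φ ⟶ Ψ)
    {Jd : Type*} [Category Jd] {G : Jd ⥤ C} (c : Cone G) (hc : IsLimit c)
    [PreservesLimit G Φ] [PreservesLimit G Ψ] (h : ∀ j, IsIso (β.app (G.obj j))) :
    IsIso (β.app c.pt) := by
  let hΦ := isLimitOfPreserves Φ hc
  let hΨ := isLimitOfPreserves Ψ hc
  have hw : IsIso (Functor.whiskerLeft G β) := by
    apply (config := { allowSynthFailures := true }) NatIso.isIso_of_isIso_app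
    intro j
    exact h j
  let e := hΦ.conePointsIsoOfNatIso hΨ (asIso (Functor.whiskerLeft G β))
  have he : e.hom = β.app c.pt := by
    apply hΨ.hom_ext
    intro j
    rw [IsLimit.conePointsIsoOfNatIso_hom_comp]
    simp
  rw [← he]
  infer_instance

end General

variable {D : Type u} [SmallCategory D] {K : GrothendieckTopology D} (hK : IsChaotic K)
  {O : Sheaf K CommRingCat.{u}}

instance preservesFiniteLimits_evC (W : D) : PreservesFiniteLimits (evC O W) :=
  inferInstanceAs (PreservesFiniteLimits
    (SheafOfModules.evaluation.{u} (ModSite.ringSh O) (op W)))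

include hK in
theorem isIso_bc_cokernel {F G : ModSite.Mod O} (α : F ⟶ G) {U V : D} (g : U ⟶ V)
    (hF : IsIso (bc F g)) (hG : IsIso (bc G g)) : IsIso (bc (cokernel α) g) := by
  have h1 := preservesColimits_evC hK (O := O) V
  have h2 := preservesColimits_evC hK (O := O) U
  have h3 : PreservesColimit (parallelPair α 0)
      (evC O V ⋙ ModuleCat.extendScalars (O.obj.map g.op).hom) := inferInstance
  have h4 : PreservesColimit (parallelPair α 0) (evC O U) := inferInstance
  have key : ∀ j, IsIso ((bcNat (O := O) g).app ((parallelPair α 0).obj j)) := by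
    rintro (_ | _)
    · exact hF
    · exact hG
  exact isIso_app_of_isColimit (Φ := evC O V ⋙ ModuleCat.extendScalars (O.obj.map g.op).hom)
    (Ψ := evC O U) (bcNat g) (G := parallelPair α 0)
    (colimit.cocone (parallelPair α 0)) (colimit.isColimit _) key

theorem isIso_bc_kernel {F G : ModSite.Mod O} (α : F ⟶ G) {U V : D} (g : U ⟶ V)
    (hflat : (O.obj.map g.op).hom.Flat)
    (hF : IsIso (bc F g)) (hG : IsIso (bc G g)) : IsIso (bc (kernel α) g) := by
  have h0 : PreservesFiniteLimits (ModuleCat.extendScalars.{u, u, u} (O.obj.map g.op).hom) :=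
    ModuleCat.preservesFiniteLimits_extendScalars_of_flat hflat
  have h3 : PreservesLimit (parallelPair α 0)
      (evC O V ⋙ ModuleCat.extendScalars (O.obj.map g.op).hom) := inferInstance
  have h4 : PreservesLimit (parallelPair α 0) (evC O U) := inferInstance
  have key : ∀ j, IsIso ((bcNat (O := O) g).app ((parallelPair α 0).obj j)) := by
    rintro (_ | _)
    · exact hF
    · exact hG
  exact isIso_app_of_isLimit (Φ := evC O V ⋙ ModuleCat.extendScalars (O.obj.map g.op).hom)
    (Ψ := evC O U) (bcNat g) (G := parallelPair α 0)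
    (limit.cone (parallelPair α 0)) (limit.isLimit _) key

include hK in
theorem isIso_bc_of_shortExact (S : ShortComplex (ModSite.Mod O)) (hS : S.ShortExact)
    {U V : D} (g : U ⟶ V) (hflat : (O.obj.map g.op).hom.Flat)
    (h1 : IsIso (bc S.X₁ g)) (h3 : IsIso (bc S.X₃ g)) : IsIso (bc S.X₂ g) := by
  have h0 : PreservesFiniteLimits (ModuleCat.extendScalars.{u, u, u} (O.obj.map g.op).hom) :=
    ModuleCat.preservesFiniteLimits_extendScalars_of_flat hflat
  have c1 := preservesColimits_evC hK (O := O) V
  have c2 := preservesColimits_evC hK (O := O) U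
  have p1 : PreservesFiniteLimits
      (evC O V ⋙ ModuleCat.extendScalars (O.obj.map g.op).hom) := inferInstance
  have p2 : PreservesFiniteColimits
      (evC O V ⋙ ModuleCat.extendScalars (O.obj.map g.op).hom) := inferInstance
  have p3 : PreservesFiniteColimits (evC O U) := inferInstance
  have a1 : (evC O V ⋙ ModuleCat.extendScalars (O.obj.map g.op).hom).Additive := inferInstance
  have e1 := hS.map_of_exact (evC O V ⋙ ModuleCat.extendScalars (O.obj.map g.op).hom)
  have e2 := hS.map_of_exact (evC O U)
  let φ := S.mapNatTrans (bcNat (O := O) g)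
  have i1 : IsIso φ.τ₁ := h1
  have i3 : IsIso φ.τ₃ := h3
  exact ShortComplex.isIso₂_of_shortExact_of_isIso₁₃ φ e1 e2

include hK in
/-- weak Serre property -/
theorem weakSerre (hO : ∀ (U V : D) (g : U ⟶ V), (O.obj.map g.op).hom.Flat) :
    (∀ (F G : ModSite.Mod O) (α : F ⟶ G),
        SheafOfModules.IsQuasicoherent (R := ModSite.ringSh O) F →
        SheafOfModules.IsQuasicoherent (R := ModSite.ringSh O) G →
        SheafOfModules.IsQuasicoherent (R := ModSite.ringSh O) (kernel α) ∧
        SheafOfModules.IsQuasicoherent (R := ModSite.ringSh O) (cokernel α)) ∧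
    (∀ (S : ShortComplex (ModSite.Mod O)), S.ShortExact →
        SheafOfModules.IsQuasicoherent (R := ModSite.ringSh O) S.X₁ →
        SheafOfModules.IsQuasicoherent (R := ModSite.ringSh O) S.X₃ →
        SheafOfModules.IsQuasicoherent (R := ModSite.ringSh O) S.X₂) := by
  refine ⟨fun F G α hF hG => ⟨?_, ?_⟩, fun S hS h1 h3 => ?_⟩
  · rw [isQuasicoherent_iff_isIso_bc hK] at hF hG ⊢
    intro U V g
    exact isIso_bc_kernel α g (hO U V g) (hF U V g) (hG U V g)
  · rw [isQuasicoherent_iff_isIso_bc hK] at hF hG ⊢
    intro U V g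
    exact isIso_bc_cokernel hK α g (hF U V g) (hG U V g)
  · rw [isQuasicoherent_iff_isIso_bc hK] at h1 h3 ⊢
    intro U V g
    exact isIso_bc_of_shortExact hK S hS g (hO U V g) (h1 U V g) (h3 U V g)

end Groth.Agent.Lib.Helper42.Chaotic
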