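import Groth.Agent.S6846
import Groth.Agent.Lib.Helper42.StalkColim
import Groth.Agent.Lib.Helper38.ShClEss

/-!
# Direct image of modules along a closed embedding of ringed spaces

`i : (Z, O_Z) → (X, O_X)` a closed embedding with `O_X → i_* O_Z` locally surjective.  The direct
image `i_*` on modules preserves epimorphisms (hence is exact), is full and faithful.
-/

set_option autoImplicit false
universe u
open CategoryTheory CategoryTheory.Limits TopologicalSpace Opposite

namespace Groth.Agent.Lib.Helper42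
namespace ClosedEmb

open Groth.Agent.Lib.Helper42.FTLocal Groth.Agent.Lib.Helper42.StalkColim
  Groth.Agent.Lib.Helper30 Groth.Agent.S6846 Groth.Agent.Lib.Helper38.ShCl ModSite

noncomputable section

variable {Z X : TopCat.{u}} (i : Z ⟶ X)
    (O_Z : TopCat.Sheaf CommRingCat.{u} Z) (O_X : TopCat.Sheaf CommRingCat.{u} X)
    (c : O_X ⟶ ((TopologicalSpace.Opens.map i).sheafPushforwardContinuous CommRingCat.{u}
      (Opens.grothendieckTopology X) (Opens.grothendieckTopology Z)).obj O_Z)

/-- the direct image functor -/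
abbrev P : ModSite.Mod O_Z ⥤ ModSite.Mod O_X :=
  (ModSite.RMor.ofFlat (TopologicalSpace.Opens.map i) c).push

variable (hi : Topology.IsClosedEmbedding i)

include hi in
/-- opens of `X` missing `Z` have empty preimage -/
lemma not_mem_map_of_le_compl (W : Opens X) (hW : W ≤ compl i hi) (w : Z) :
    w ∉ (Opens.map i).obj W := fun hw => hW hw ⟨w, rfl⟩

include hi in
/-- the direct image along a closed embedding preserves epimorphisms -/
lemma push_preservesEpi : (P i O_Z O_X c).PreservesEpimorphisms where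
  preserves {G H} g _ := by
    apply ModEpi.epi_of_isLocallySurjective
    constructor
    intro U m y hy
    by_cases hyZ : y ∈ Set.range i
    · obtain ⟨z, rfl⟩ := hyZ
      obtain ⟨V', f', ⟨t, ht⟩, hzV'⟩ := (ModEpi.isLocallySurjective_of_epi g).imageSieve_mem
        (U := (Opens.map i).obj U) m z hy
      obtain ⟨U', hU'U, rfl⟩ := exists_opens_preimage_eq i hi.isInducing V' U (leOfHom f')
      exact ⟨U', homOfLE hU'U, ⟨t, ht⟩, hzV'⟩
    · refine ⟨U ⊓ compl i hi, homOfLE inf_le_left, ⟨0, ?_⟩, ⟨hy, hyZ⟩⟩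
      exact (eq_zero_of_isEmpty H (not_mem_map_of_le_compl i hi _ inf_le_right) _).trans
        (eq_zero_of_isEmpty H (not_mem_map_of_le_compl i hi _ inf_le_right) _).symm

include hi in
/-- the direct image along a closed embedding is exact -/
lemma push_preservesFiniteColimits : PreservesFiniteColimits (P i O_Z O_X c) := by
  haveI := push_preservesEpi i O_Z O_X c hi
  haveI : (P i O_Z O_X c).IsRightAdjoint :=
    ModSite.RMor.isRightAdjoint_push (ModSite.RMor.ofFlat (TopologicalSpace.Opens.map i) c)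
  haveI : PreservesFiniteLimits (P i O_Z O_X c) := inferInstance
  exact ModEpi.preservesFiniteColimits_of_preservesEpi _

section FullyFaithful

variable {i O_Z O_X c}

/-- the component of a morphism between direct images, on the sections of the original modules -/
def appP {F G : ModSite.Mod O_Z} (ψ : (P i O_Z O_X c).obj F ⟶ (P i O_Z O_X c).obj G)
    (U : Opens X) :
    F.val.obj (op ((Opens.map i).obj U)) →+ G.val.obj (op ((Opens.map i).obj U)) :=
  (ψ.val.app (op U)).hom.toAddMonoidHom

lemma appP_smulX {F G : ModSite.Mod O_Z} (ψ : (P i O_Z O_X c).obj F ⟶ (P i O_Z O_X c).obj G)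
    (U : Opens X) (b : (ModSite.ringSh O_X).obj.obj (op U))
    (n : F.val.obj (op ((Opens.map i).obj U))) :
    appP ψ U (cmap i O_Z O_X c U b • n) = cmap i O_Z O_X c U b • appP ψ U n :=
  (ψ.val.app (op U)).hom.map_smul b n

lemma appP_res {F G : ModSite.Mod O_Z} (ψ : (P i O_Z O_X c).obj F ⟶ (P i O_Z O_X c).obj G)
    {U W : Opens X} (h : W ≤ U) (n : F.val.obj (op ((Opens.map i).obj U))) :
    appP ψ W (rs F (homOfLE ((Opens.map i).monotone h)) n) =
      rs G (homOfLE ((Opens.map i).monotone h)) (appP ψ U n) :=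
  PresheafOfModules.naturality_apply ψ.val (homOfLE h).op n

/-- a morphism between direct images is linear over `i_* O_Z` -/
lemma appP_smul (hc : Sheaf.IsLocallySurjective c) {F G : ModSite.Mod O_Z}
    (ψ : (P i O_Z O_X c).obj F ⟶ (P i O_Z O_X c).obj G) (U : Opens X)
    (a : (ModSite.ringSh O_Z).obj.obj (op ((Opens.map i).obj U)))
    (n : F.val.obj (op ((Opens.map i).obj U))) :
    appP ψ U (a • n) = a • appP ψ U n := by
  refine StalkColim.eq_of_locally G _ _ (fun z hz => ?_)
  obtain ⟨W, hW, hzW, b, hb⟩ := exists_local_preimage i O_Z O_X c hc U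
    (fun _ : PUnit.{u + 1} => a) (i z) hz
  refine ⟨(Opens.map i).obj W, (Opens.map i).monotone hW, hzW, ?_⟩
  rw [← appP_res ψ hW, rs_smul, rs_smul, ← hb PUnit.unit, appP_smulX, appP_res ψ hW]

lemma rr_rr_self (R : Sheaf (Opens.grothendieckTopology Z) RingCat.{u}) {V V' : Opens Z}
    (g : V' ⟶ V) (g' : V ⟶ V') (r : R.obj.obj (op V)) : rr R g' (rr R g r) = r := by
  have h1 : rr R g' (rr R g r) = rr R (g' ≫ g) r :=
    (ConcreteCategory.congr_hom (R.obj.map_comp g.op g'.op) r).symm
  rw [h1, Subsingleton.elim (g' ≫ g) (𝟙 V)]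
  exact ConcreteCategory.congr_hom (R.obj.map_id (op V)) r

variable (i O_Z O_X c)

include hi in
/-- the direct image along a closed embedding is full -/
theorem push_full (hc : Sheaf.IsLocallySurjective c) : (P i O_Z O_X c).Full where
  map_surjective := by
    intro F G ψ
    let ψab : (Opens.map i).op ⋙ F.val.presheaf ⟶ (Opens.map i).op ⋙ G.val.presheaf :=
      (PresheafOfModules.toPresheaf _).map ψ.val
    have hlin : ∀ (V : (Opens Z)ᵒᵖ) (r : (ModSite.ringSh O_Z).obj.obj V) (m : F.val.obj V),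
        (preimageNat i hi ψab).app V (r • m) = r • (preimageNat i hi ψab).app V m := by
      intro V r m
      induction V using Opposite.rec with | op V => ?_
      have e1 : ∀ x : F.val.obj (op V), (preimageNat i hi ψab).app (op V) x =
          rs G (eqToHom (map_vOf i hi V).symm) (appP ψ (vOf i hi V)
            (rs F (eqToHom (map_vOf i hi V)) x)) := fun x => rfl
      rw [e1, e1, rs_smul, appP_smul hc, rs_smul, rr_rr_self]
      rfl
    refine ⟨⟨PresheafOfModules.homMk (preimageNat i hi ψab) hlin⟩, ?_⟩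
    apply SheafOfModules.hom_ext
    apply (PresheafOfModules.toPresheaf _).map_injective
    exact whiskerLeft_preimageNat i hi ψab

include hi in
/-- the direct image along a closed embedding is faithful -/
theorem push_faithful : (P i O_Z O_X c).Faithful where
  map_injective := by
    intro F G φ₁ φ₂ h
    apply SheafOfModules.hom_ext
    ext V m
    induction V using Opposite.rec with | op V => ?_
    obtain ⟨U, -, rfl⟩ := exists_opens_preimage_eq i hi.isInducing V ⊤ le_top
    exact congrArg (fun ψ => ψ.val.app (op U) m) h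

end FullyFaithful

section Action

variable {i O_Z O_X}
variable (G : ModSite.Mod O_X)

/-- `t` is the product of the section `a` of `i_* O_Z` with the section `s` of `G` -/
def IsSm (U : Opens X) (a : (ModSite.ringSh O_Z).obj.obj (op ((Opens.map i).obj U)))
    (s t : G.val.obj (op U)) : Prop :=
  ∀ (W : Opens X) (hW : W ≤ U) (b : (ModSite.ringSh O_X).obj.obj (op W)),
    cmap i O_Z O_X c W b = rr (ModSite.ringSh O_Z) (homOfLE ((Opens.map i).monotone hW)) a →
      rs G (homOfLE hW) t = b • rs G (homOfLE hW) s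

/-- the hypothesis that the kernel of `O_X → i_* O_Z` kills `G` -/
def Killed : Prop :=
  ∀ (U : Opens X) (a : (ModSite.ringSh O_X).obj.obj (op U)),
    cmap i O_Z O_X c U a = 0 → ∀ s : G.val.obj (op U), a • s = 0

variable {c G}

lemma smul_eq_of_cmap_eq (hG : Killed c G) {U : Opens X}
    (b b' : (ModSite.ringSh O_X).obj.obj (op U))
    (h : cmap i O_Z O_X c U b = cmap i O_Z O_X c U b') (s : G.val.obj (op U)) :
    b • s = b' • s := by
  have h0 : cmap i O_Z O_X c U (b - b') = 0 := by rw [map_sub, h, sub_self]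
  have := hG U (b - b') h0 s
  rw [sub_smul, sub_eq_zero] at this
  exact this

lemma rs_rs {Y : TopCat.{u}} {R : Sheaf (Opens.grothendieckTopology Y) RingCat.{u}}
    (N : SheafOfModules.{u} R) {V W W' : Opens Y} (h₁ : W ≤ V) (h₂ : W' ≤ W)
    (m : N.val.obj (op V)) :
    rs N (homOfLE h₂) (rs N (homOfLE h₁) m) = rs N (homOfLE (h₂.trans h₁)) m :=
  rs_comp N _ _ m

lemma rr_rr {Y : TopCat.{u}} (R : Sheaf (Opens.grothendieckTopology Y) RingCat.{u})
    {V W W' : Opens Y} (h₁ : W ≤ V) (h₂ : W' ≤ W) (r : R.obj.obj (op V)) :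
    rr R (homOfLE h₂) (rr R (homOfLE h₁) r) = rr R (homOfLE (h₂.trans h₁)) r :=
  (ConcreteCategory.congr_hom (R.obj.map_comp (homOfLE h₁).op (homOfLE h₂).op) r).symm

lemma rr_self {Y : TopCat.{u}} (R : Sheaf (Opens.grothendieckTopology Y) RingCat.{u})
    {V : Opens Y} (h : V ≤ V) (r : R.obj.obj (op V)) : rr R (homOfLE h) r = r :=
  ConcreteCategory.congr_hom (R.obj.map_id (op V)) r

lemma rs_self {Y : TopCat.{u}} {R : Sheaf (Opens.grothendieckTopology Y) RingCat.{u}}
    (N : SheafOfModules.{u} R) {V : Opens Y} (h : V ≤ V) (m : N.val.obj (op V)) :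
    rs N (homOfLE h) m = m :=
  ConcreteCategory.congr_hom (N.val.presheaf.map_id (op V)) m

/-- it suffices to check the defining property of the product locally -/
lemma isSm_of_local (hG : Killed c G) {U : Opens X}
    {a : (ModSite.ringSh O_Z).obj.obj (op ((Opens.map i).obj U))} {s t : G.val.obj (op U)}
    (h : ∀ x ∈ U, ∃ (W : Opens X) (hW : W ≤ U), x ∈ W ∧
      ∃ b : (ModSite.ringSh O_X).obj.obj (op W),
        cmap i O_Z O_X c W b =
          rr (ModSite.ringSh O_Z) (homOfLE ((Opens.map i).monotone hW)) a ∧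
        rs G (homOfLE hW) t = b • rs G (homOfLE hW) s) : IsSm c G U a s t := by
  intro W' hW' b' hb'
  refine StalkColim.eq_of_locally G _ _ (fun x hx => ?_)
  obtain ⟨W, hW, hxW, b, hb, htb⟩ := h x (hW' hx)
  refine ⟨W ⊓ W', inf_le_right, ⟨hxW, hx⟩, ?_⟩
  rw [rs_rs, rs_smul, rs_rs]
  have e1 : rs G (homOfLE ((inf_le_right : W ⊓ W' ≤ W').trans hW')) t =
      rs G (homOfLE (inf_le_left : W ⊓ W' ≤ W)) (rs G (homOfLE hW) t) := (rs_rs G _ _ t).symm
  rw [e1, htb, rs_smul, rs_rs]
  refine smul_eq_of_cmap_eq hG _ _ ?_ _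
  rw [cmap_rr, cmap_rr, hb, hb', rr_rr, rr_rr]

/-- the product is unique -/
lemma isSm_unique (hc : Sheaf.IsLocallySurjective c) {U : Opens X}
    {a : (ModSite.ringSh O_Z).obj.obj (op ((Opens.map i).obj U))} {s t t' : G.val.obj (op U)}
    (h : IsSm c G U a s t) (h' : IsSm c G U a s t') : t = t' := by
  refine StalkColim.eq_of_locally G _ _ (fun x hx => ?_)
  obtain ⟨W, hW, hxW, b, hb⟩ := exists_local_preimage i O_Z O_X c hc U
    (fun _ : PUnit.{u + 1} => a) x hx
  exact ⟨W, hW, hxW, (h W hW (b PUnit.unit) (hb PUnit.unit)).trans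
    (h' W hW (b PUnit.unit) (hb PUnit.unit)).symm⟩

/-- the product exists -/
lemma exists_isSm (hc : Sheaf.IsLocallySurjective c) (hG : Killed c G) (U : Opens X)
    (a : (ModSite.ringSh O_Z).obj.obj (op ((Opens.map i).obj U))) (s : G.val.obj (op U)) :
    ∃ t, IsSm c G U a s t := by
  have hloc : ∀ x : U, ∃ (W : Opens X) (hW : W ≤ U), x.1 ∈ W ∧
      ∃ b : (ModSite.ringSh O_X).obj.obj (op W), cmap i O_Z O_X c W b =
        rr (ModSite.ringSh O_Z) (homOfLE ((Opens.map i).monotone hW)) a := fun x => by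
    obtain ⟨W, hW, hxW, b, hb⟩ := exists_local_preimage i O_Z O_X c hc U
      (fun _ : PUnit.{u + 1} => a) x.1 x.2
    exact ⟨W, hW, hxW, b PUnit.unit, hb PUnit.unit⟩
  choose W hW hxW b hb using hloc
  let Gs : TopCat.Sheaf AddCommGrpCat.{u} X := ⟨G.val.presheaf, G.isSheaf⟩
  let sf : ∀ x : U, G.val.obj (op (W x)) := fun x => b x • rs G (homOfLE (hW x)) s
  have hcompat : TopCat.Presheaf.IsCompatible Gs.obj W sf := by
    intro x y
    change rs G (homOfLE inf_le_left) (sf x) = rs G (homOfLE inf_le_right) (sf y)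
    simp only [sf]
    rw [rs_smul, rs_smul, rs_rs, rs_rs]
    refine smul_eq_of_cmap_eq hG _ _ ?_ _
    rw [cmap_rr, cmap_rr, hb, hb, rr_rr, rr_rr]
  obtain ⟨t, ht, -⟩ := Gs.existsUnique_gluing' W U (fun x => homOfLE (hW x))
    (fun x hx => Opens.mem_iSup.mpr ⟨⟨x, hx⟩, hxW ⟨x, hx⟩⟩) sf hcompat
  exact ⟨t, isSm_of_local hG (fun x hx =>
    ⟨W ⟨x, hx⟩, hW _, hxW _, b _, hb _, ht ⟨x, hx⟩⟩)⟩

/-- local lifts of one section of `i_* O_Z` -/
lemma exists_lift₁ (hc : Sheaf.IsLocallySurjective c) (U : Opens X)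
    (a : (ModSite.ringSh O_Z).obj.obj (op ((Opens.map i).obj U))) (x : X) (hx : x ∈ U) :
    ∃ (W : Opens X) (hW : W ≤ U), x ∈ W ∧ ∃ b : (ModSite.ringSh O_X).obj.obj (op W),
      cmap i O_Z O_X c W b =
        rr (ModSite.ringSh O_Z) (homOfLE ((Opens.map i).monotone hW)) a := by
  obtain ⟨W, hW, hxW, b, hb⟩ := exists_local_preimage i O_Z O_X c hc U
    (fun _ : PUnit.{u + 1} => a) x hx
  exact ⟨W, hW, hxW, b PUnit.unit, hb PUnit.unit⟩

/-- local lifts of two sections of `i_* O_Z` -/
lemma exists_lift₂ (hc : Sheaf.IsLocallySurjective c) (U : Opens X)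
    (a a' : (ModSite.ringSh O_Z).obj.obj (op ((Opens.map i).obj U))) (x : X) (hx : x ∈ U) :
    ∃ (W : Opens X) (hW : W ≤ U), x ∈ W ∧ ∃ b b' : (ModSite.ringSh O_X).obj.obj (op W),
      cmap i O_Z O_X c W b =
        rr (ModSite.ringSh O_Z) (homOfLE ((Opens.map i).monotone hW)) a ∧
      cmap i O_Z O_X c W b' =
        rr (ModSite.ringSh O_Z) (homOfLE ((Opens.map i).monotone hW)) a' := by
  obtain ⟨W, hW, hxW, b, hb⟩ := exists_local_preimage i O_Z O_X c hc U
    (fun k : ULift.{u} Bool => if k.down then a else a') x hx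
  refine ⟨W, hW, hxW, b ⟨true⟩, b ⟨false⟩, ?_, ?_⟩
  · simpa using hb ⟨true⟩
  · simpa using hb ⟨false⟩

section Sm

variable (hc : Sheaf.IsLocallySurjective c) (hG : Killed c G)

/-- the product of a section of `i_* O_Z` and a section of `G` -/
def sm (U : Opens X) (a : (ModSite.ringSh O_Z).obj.obj (op ((Opens.map i).obj U)))
    (s : G.val.obj (op U)) : G.val.obj (op U) :=
  (exists_isSm hc hG U a s).choose

lemma sm_spec (U : Opens X) (a : (ModSite.ringSh O_Z).obj.obj (op ((Opens.map i).obj U)))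
    (s : G.val.obj (op U)) : IsSm c G U a s (sm hc hG U a s) :=
  (exists_isSm hc hG U a s).choose_spec

lemma rs_sm {U W : Opens X} (hW : W ≤ U)
    (a : (ModSite.ringSh O_Z).obj.obj (op ((Opens.map i).obj U)))
    (s : G.val.obj (op U)) (b : (ModSite.ringSh O_X).obj.obj (op W))
    (hb : cmap i O_Z O_X c W b =
      rr (ModSite.ringSh O_Z) (homOfLE ((Opens.map i).monotone hW)) a) :
    rs G (homOfLE hW) (sm hc hG U a s) = b • rs G (homOfLE hW) s :=
  sm_spec hc hG U a s W hW b hb

lemma sm_eq_of_local {U : Opens X}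
    {a : (ModSite.ringSh O_Z).obj.obj (op ((Opens.map i).obj U))} {s t : G.val.obj (op U)}
    (h : ∀ x ∈ U, ∃ (W : Opens X) (hW : W ≤ U), x ∈ W ∧
      ∃ b : (ModSite.ringSh O_X).obj.obj (op W),
        cmap i O_Z O_X c W b =
          rr (ModSite.ringSh O_Z) (homOfLE ((Opens.map i).monotone hW)) a ∧
        rs G (homOfLE hW) t = b • rs G (homOfLE hW) s) : sm hc hG U a s = t :=
  isSm_unique hc (sm_spec hc hG U a s) (isSm_of_local hG h)

lemma sm_cmap (U : Opens X) (b : (ModSite.ringSh O_X).obj.obj (op U)) (s : G.val.obj (op U)) :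
    sm hc hG U (cmap i O_Z O_X c U b) s = b • s := by
  refine sm_eq_of_local hc hG (fun x hx => ⟨U, le_rfl, hx, b, ?_, ?_⟩)
  · rw [rr_self]
  · rw [rs_self, rs_self]

lemma sm_one (U : Opens X) (s : G.val.obj (op U)) : sm hc hG U 1 s = s := by
  have := sm_cmap hc hG U 1 s
  rwa [map_one, one_smul] at this

lemma sm_zero_left (U : Opens X) (s : G.val.obj (op U)) : sm hc hG U 0 s = 0 := by
  have := sm_cmap hc hG U 0 s
  rwa [map_zero, zero_smul] at this

lemma sm_zero_right (U : Opens X)
    (a : (ModSite.ringSh O_Z).obj.obj (op ((Opens.map i).obj U))) : sm hc hG U a 0 = 0 := by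
  refine sm_eq_of_local hc hG (fun x hx => ?_)
  obtain ⟨W, hW, hxW, b, hb⟩ := exists_lift₁ hc U a x hx
  exact ⟨W, hW, hxW, b, hb, by rw [map_zero, smul_zero]⟩

lemma sm_add_right (U : Opens X)
    (a : (ModSite.ringSh O_Z).obj.obj (op ((Opens.map i).obj U))) (s s' : G.val.obj (op U)) :
    sm hc hG U a (s + s') = sm hc hG U a s + sm hc hG U a s' := by
  refine sm_eq_of_local hc hG (fun x hx => ?_)
  obtain ⟨W, hW, hxW, b, hb⟩ := exists_lift₁ hc U a x hx
  refine ⟨W, hW, hxW, b, hb, ?_⟩
  rw [map_add, map_add, rs_sm hc hG hW a s b hb, rs_sm hc hG hW a s' b hb, smul_add]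

lemma sm_add_left (U : Opens X)
    (a a' : (ModSite.ringSh O_Z).obj.obj (op ((Opens.map i).obj U))) (s : G.val.obj (op U)) :
    sm hc hG U (a + a') s = sm hc hG U a s + sm hc hG U a' s := by
  refine sm_eq_of_local hc hG (fun x hx => ?_)
  obtain ⟨W, hW, hxW, b, b', hb, hb'⟩ := exists_lift₂ hc U a a' x hx
  refine ⟨W, hW, hxW, b + b', ?_, ?_⟩
  · rw [map_add, map_add, hb, hb']
  · rw [map_add, rs_sm hc hG hW a s b hb, rs_sm hc hG hW a' s b' hb', add_smul]

lemma sm_mul (U : Opens X)
    (a a' : (ModSite.ringSh O_Z).obj.obj (op ((Opens.map i).obj U))) (s : G.val.obj (op U)) :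
    sm hc hG U (a * a') s = sm hc hG U a (sm hc hG U a' s) := by
  refine sm_eq_of_local hc hG (fun x hx => ?_)
  obtain ⟨W, hW, hxW, b, b', hb, hb'⟩ := exists_lift₂ hc U a a' x hx
  refine ⟨W, hW, hxW, b * b', ?_, ?_⟩
  · rw [map_mul, map_mul, hb, hb']
  · rw [rs_sm hc hG hW a _ b hb, rs_sm hc hG hW a' s b' hb', mul_smul]

lemma sm_res {U U' : Opens X} (h : U' ≤ U)
    (a : (ModSite.ringSh O_Z).obj.obj (op ((Opens.map i).obj U))) (s : G.val.obj (op U)) :
    sm hc hG U' (rr (ModSite.ringSh O_Z) (homOfLE ((Opens.map i).monotone h)) a)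
        (rs G (homOfLE h) s) = rs G (homOfLE h) (sm hc hG U a s) := by
  refine sm_eq_of_local hc hG (fun x hx => ?_)
  obtain ⟨W, hW, hxW, b, hb⟩ := exists_lift₁ hc U' _ x hx
  refine ⟨W, hW, hxW, b, hb, ?_⟩
  rw [rr_rr] at hb
  rw [rs_rs, rs_rs]
  exact rs_sm hc hG (hW.trans h) a s b hb

end Sm

end Action

section Construct

variable {i O_Z O_X c}
variable {G : ModSite.Mod O_X} (hc : Sheaf.IsLocallySurjective c) (hG : Killed c G)

variable (G) in
/-- the underlying presheaf of abelian groups of the module on `Z` -/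
def Mpre : (Opens Z)ᵒᵖ ⥤ AddCommGrpCat.{u} := (vFun i hi).op ⋙ G.val.presheaf

/-- sections of `O_Z` over `V`, seen over the preimage of the largest open with preimage `V` -/
def tr (V : Opens Z) : (ModSite.ringSh O_Z).obj.obj (op V) →+*
    (ModSite.ringSh O_Z).obj.obj (op ((Opens.map i).obj (vOf i hi V))) :=
  rr (ModSite.ringSh O_Z) (homOfLE (map_vOf i hi V).le)

/-- the module structure on the sections -/
def modV (V : (Opens Z)ᵒᵖ) : Module ((ModSite.ringSh O_Z).obj.obj V) ((Mpre hi G).obj V) where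
  smul a s := sm hc hG (vOf i hi V.unop) (tr hi V.unop a) s
  one_smul s := by
    change sm hc hG (vOf i hi V.unop) (tr hi V.unop 1) s = s
    rw [map_one, sm_one]
  mul_smul a a' s := by
    change sm hc hG (vOf i hi V.unop) (tr hi V.unop (a * a')) s =
      sm hc hG (vOf i hi V.unop) (tr hi V.unop a) (sm hc hG (vOf i hi V.unop) (tr hi V.unop a') s)
    rw [map_mul, sm_mul]
  smul_zero a := sm_zero_right hc hG _ _
  smul_add a s s' := sm_add_right hc hG _ _ s s'
  add_smul a a' s := by
    change sm hc hG (vOf i hi V.unop) (tr hi V.unop (a + a')) s =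
      sm hc hG (vOf i hi V.unop) (tr hi V.unop a) s + sm hc hG (vOf i hi V.unop) (tr hi V.unop a') s
    rw [map_add, sm_add_left]
  zero_smul s := by
    change sm hc hG (vOf i hi V.unop) (tr hi V.unop 0) s = 0
    rw [map_zero, sm_zero_left]

lemma modV_smul (V : Opens Z) (a : (ModSite.ringSh O_Z).obj.obj (op V))
    (s : G.val.obj (op (vOf i hi V))) :
    (letI := modV hi hc hG (op V); a • (show (Mpre hi G).obj (op V) from s)) =
      sm hc hG (vOf i hi V) (tr hi V a) s := rfl

lemma Mpre_map_apply {V V' : Opens Z} (h : V' ≤ V) (m : G.val.obj (op (vOf i hi V))) :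
    (Mpre hi G).map (homOfLE h).op m = rs G (homOfLE (vOf_mono i hi h)) m := rfl

lemma modV_map_smul ⦃A B : (Opens Z)ᵒᵖ⦄ (f : A ⟶ B) (r : (ModSite.ringSh O_Z).obj.obj A)
    (m : (Mpre hi G).obj A) :
    (letI := modV hi hc hG; (Mpre hi G).map f (r • m) =
      ((ModSite.ringSh O_Z).obj.map f).hom r • (Mpre hi G).map f m) := by
  induction A using Opposite.rec with | op V => ?_
  induction B using Opposite.rec with | op V' => ?_
  have hle : V' ≤ V := leOfHom f.unop
  obtain rfl : f = (homOfLE hle).op := Subsingleton.elim _ _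
  change rs G (homOfLE (vOf_mono i hi hle)) (sm hc hG (vOf i hi V) (tr hi V r) m) =
    sm hc hG (vOf i hi V') (tr hi V' (rr (ModSite.ringSh O_Z) (homOfLE hle) r))
      (rs G (homOfLE (vOf_mono i hi hle)) m)
  rw [← sm_res hc hG (vOf_mono i hi hle)]
  congr 1
  unfold tr
  rw [rr_rr, rr_rr]

/-- the presheaf of modules on `Z` -/
def F₀ : PresheafOfModules.{u} (ModSite.ringSh O_Z).obj :=
  letI := modV hi hc hG
  PresheafOfModules.ofPresheaf (Mpre hi G) (modV_map_smul hi hc hG)

lemma F₀_presheaf : (F₀ hi hc hG).presheaf = Mpre hi G := rfl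

variable (G) in
/-- the underlying sheaf of sets of `G` -/
def Gset : TopCat.Sheaf (Type u) X :=
  ⟨G.val.presheaf ⋙ forget AddCommGrpCat.{u},
    (Presheaf.isSheaf_iff_isSheaf_forget (Opens.grothendieckTopology X) G.val.presheaf
      (forget AddCommGrpCat.{u})).mp G.isSheaf⟩

include hG in
/-- sections of `G` over opens missing `Z` vanish -/
lemma eq_zero_of_le_compl (V : Opens X) (hV : V ≤ compl i hi) (s : G.val.obj (op V)) : s = 0 := by
  have hsub : Subsingleton (O_Z.obj.obj (op ((Opens.map i).obj V))) :=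
    CommRingCat.subsingleton_of_isTerminal
      (O_Z.isTerminalOfEqEmpty (map_eq_bot_of_le_compl i hi V hV))
  have h1 : cmap i O_Z O_X c V 1 = 0 := hsub.elim _ _
  have := hG V 1 h1 s
  rwa [one_smul] at this

include hi hG in
lemma stalk_unique (x : X) (hx : x ∉ Set.range i) :
    Nonempty (Unique ((Gset G).presheaf.stalk x)) := by
  refine stalk_unique_of_sections _ x (compl i hi) hx (fun V hV => ?_)
  exact ⟨⟨⟨(0 : G.val.obj (op V))⟩, fun s => eq_zero_of_le_compl hi hG V hV s⟩⟩

include hG in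
lemma isSheaf_Mpre : Presheaf.IsSheaf (Opens.grothendieckTopology Z) (Mpre hi G) :=
  (Presheaf.isSheaf_iff_isSheaf_forget (Opens.grothendieckTopology Z) (Mpre hi G)
    (forget AddCommGrpCat.{u})).mpr (isSheaf_preF i hi (Gset G) (stalk_unique hi hG))

/-- the module on `Z` whose direct image is `G` -/
def FZ : ModSite.Mod O_Z := ⟨F₀ hi hc hG, isSheaf_Mpre hi hG⟩

/-- the comparison map `i_* F ⟶ G` on underlying presheaves -/
def θab : (Opens.map i).op ⋙ Mpre hi G ⟶ G.val.presheaf where
  app U := G.val.presheaf.map (homOfLE (le_vOf_map i hi U.unop)).op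
  naturality := by
    intro U U' f
    change G.val.presheaf.map _ ≫ G.val.presheaf.map _ =
      G.val.presheaf.map _ ≫ G.val.presheaf.map _
    rw [← G.val.presheaf.map_comp, ← G.val.presheaf.map_comp]
    congr 1

lemma θab_app_apply (U : Opens X) (m : G.val.obj (op (vOf i hi ((Opens.map i).obj U)))) :
    (θab hi (G := G)).app (op U) m = rs G (homOfLE (le_vOf_map i hi U)) m := rfl

lemma θab_linear (U : (Opens X)ᵒᵖ) (b : (ModSite.ringSh O_X).obj.obj U)
    (m : ((P i O_Z O_X c).obj (FZ hi hc hG)).val.obj U) :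
    (θab hi (G := G)).app U (b • m) = b • (θab hi (G := G)).app U m := by
  induction U using Opposite.rec with | op U => ?_
  change rs G (homOfLE (le_vOf_map i hi U)) (sm hc hG (vOf i hi ((Opens.map i).obj U))
    (tr hi ((Opens.map i).obj U) (cmap i O_Z O_X c U b)) m) =
      b • rs G (homOfLE (le_vOf_map i hi U)) m
  rw [← sm_res hc hG (le_vOf_map i hi U)]
  unfold tr
  rw [rr_rr, rr_self, sm_cmap]

/-- the comparison map `i_* F ⟶ G` -/
def θ : (P i O_Z O_X c).obj (FZ hi hc hG) ⟶ G :=
  ⟨PresheafOfModules.homMk (θab hi (G := G)) (θab_linear hi hc hG)⟩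

lemma θ_app_apply (U : Opens X) (m : G.val.obj (op (vOf i hi ((Opens.map i).obj U)))) :
    (θ hi hc hG).val.app (op U) m = rs G (homOfLE (le_vOf_map i hi U)) m := rfl

lemma θ_bijective (U : Opens X) : Function.Bijective ((θ hi hc hG).val.app (op U)) :=
  bijective_res i hi (Gset G) (stalk_unique hi hG) (le_vOf_map i hi U)
    (map_vOf i hi ((Opens.map i).obj U)).le

/-- a morphism of sheaves of modules injective on sections is a monomorphism -/
lemma mono_of_injective {Y : TopCat.{u}} {R : Sheaf (Opens.grothendieckTopology Y) RingCat.{u}}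
    {M N : SheafOfModules.{u} R} (f : M ⟶ N)
    (h : ∀ W : Opens Y, Function.Injective (f.val.app (op W))) : Mono f := by
  refine Preadditive.mono_of_cancel_zero _ (fun {T} g hg => ?_)
  ext W z
  apply h W.unop
  have := congrArg (fun φ => φ.val.app W z) hg
  refine this.trans ?_
  exact (map_zero (f.val.app W).hom).symm

/-- a morphism of sheaves of modules surjective on sections is an epimorphism -/
lemma epi_of_surjective {Y : TopCat.{u}} {R : Sheaf (Opens.grothendieckTopology Y) RingCat.{u}}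
    {M N : SheafOfModules.{u} R} (f : M ⟶ N)
    (h : ∀ W : Opens Y, Function.Surjective (f.val.app (op W))) : Epi f := by
  apply ModEpi.epi_of_isLocallySurjective
  constructor
  intro U m y hy
  obtain ⟨t, ht⟩ := h U m
  refine ⟨U, 𝟙 U, ⟨t, ?_⟩, hy⟩
  refine ht.trans ?_
  exact (rs_self N le_rfl m).symm

lemma isIso_θ : IsIso (θ hi hc hG) := by
  haveI : Mono (θ hi hc hG) := mono_of_injective _ (fun U => (θ_bijective hi hc hG U).1)
  haveI : Epi (θ hi hc hG) := epi_of_surjective _ (fun U => (θ_bijective hi hc hG U).2)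
  exact isIso_of_mono_of_epi _

include hi hc hG in
/-- a module killed by the kernel of `O_X → i_* O_Z` is a direct image -/
theorem essImage_of_killed : (P i O_Z O_X c).essImage G := by
  haveI := isIso_θ hi hc hG
  exact ⟨FZ hi hc hG, ⟨asIso (θ hi hc hG)⟩⟩

/-- a direct image is killed by the kernel of `O_X → i_* O_Z` -/
theorem killed_of_essImage (h : (P i O_Z O_X c).essImage G) : Killed c G := by
  obtain ⟨F, ⟨e⟩⟩ := h
  intro U a ha s
  have h1 : e.hom.val.app (op U) (e.inv.val.app (op U) s) = s :=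
    congrArg (fun φ => φ.val.app (op U) s) e.inv_hom_id
  have h2 : a • (e.inv.val.app (op U) s) = 0 := by
    change cmap i O_Z O_X c U a •
      (show F.val.obj (op ((Opens.map i).obj U)) from e.inv.val.app (op U) s) = 0
    rw [ha, zero_smul]
  rw [← h1, ← map_smul, h2, map_zero]

end Construct

end

end ClosedEmb
end Groth.Agent.Lib.Helper42
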