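import Mathlib

/-!
# The fibre of a morphism that is affine over a chart of the target
-/

set_option autoImplicit false
universe u

open CategoryTheory CategoryTheory.Limits AlgebraicGeometry TopologicalSpace Opposite

namespace Groth.Agent.Lib.Helper42

/-- If `π : E ⟶ X` restricts over the affine chart `j' : Spec R₀ ⟶ X` to `Spec θ : Spec C ⟶ Spec R₀`, then a
pushout of `θ` along `R₀ → κ(x)` computes the fibre of `π` at `x`. -/
theorem exists_fibre_iso_of_chart {E X : Scheme.{u}} (π : E ⟶ X) (x : X) {R₀ C F : CommRingCat.{u}}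
    (j' : Spec R₀ ⟶ X) [IsOpenImmersion j'] (j : Spec C ⟶ E) [IsOpenImmersion j] (θ : R₀ ⟶ C)
    (hj : j ≫ π = Spec.map θ ≫ j') (hrange : π ⁻¹ᵁ j'.opensRange = j.opensRange)
    (χ : R₀ ⟶ X.residueField x) (hχ : Spec.map χ ≫ j' = X.fromSpecResidueField x)
    (a : X.residueField x ⟶ F) (ξ : C ⟶ F) (hpo : IsPushout θ χ ξ a) :
    ∃ e : pullback π (X.fromSpecResidueField x) ≅ Spec F,
      e.hom ≫ Spec.map a = pullback.snd π (X.fromSpecResidueField x) := by
  have h1 : IsPullback (Spec.map ξ) (Spec.map a) (Spec.map θ) (Spec.map χ) :=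
    isPullback_SpecMap_of_isPushout θ χ ξ a hpo
  have h2 : IsPullback j (Spec.map θ) π j' :=
    (IsOpenImmersion.isPullback (Spec.map θ) j j' π hj hrange).flip
  have h3 := h1.paste_horiz h2
  rw [hχ] at h3
  exact ⟨h3.isoPullback.symm, h3.isoPullback_inv_snd⟩

/-- The point `x` of the chart `j' : Spec R₀ ⟶ X` gives `R₀ → κ(x)`. -/
theorem exists_residue_hom_of_mem_range {X : Scheme.{u}} (x : X) {R₀ : CommRingCat.{u}}
    (j' : Spec R₀ ⟶ X) [IsOpenImmersion j'] (hx : x ∈ Set.range j'.base) :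
    ∃ χ : R₀ ⟶ X.residueField x, Spec.map χ ≫ j' = X.fromSpecResidueField x := by
  have hsub : Set.range (X.fromSpecResidueField x).base ⊆ Set.range j'.base := by
    rw [Scheme.range_fromSpecResidueField]
    rintro _ rfl
    exact hx
  refine ⟨Spec.preimage (IsOpenImmersion.lift j' (X.fromSpecResidueField x) hsub), ?_⟩
  rw [Spec.map_preimage, IsOpenImmersion.lift_fac]

end Groth.Agent.Lib.Helper42
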