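import Groth.Agent.Lib.Helper42.AwayRetraction
import Mathlib.Algebra.Polynomial.Laurent
import Mathlib.RingTheory.FiniteType

/-!
# `A_f = A_(f)[T, T⁻¹]` for `f` homogeneous of degree one
-/

set_option autoImplicit false
universe u

open HomogeneousLocalization AddMonoidAlgebra DirectSum

namespace Groth.Agent.Lib.Helper42

namespace LaurentAway

variable {A σ : Type u} [CommRing A] [SetLike σ A] [AddSubgroupClass σ A] (𝒜 : ℕ → σ) [GradedRing 𝒜]
  (f : A)

/-- The unit `f/1` of `A_f`. -/
noncomputable def unitF : (Localization.Away f)ˣ :=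
  (IsLocalization.Away.algebraMap_isUnit (S := Localization.Away f) f).unit

@[simp] theorem coe_unitF : ((unitF f : (Localization.Away f)ˣ) : Localization.Away f) =
    algebraMap A (Localization.Away f) f := rfl

/-- `n ↦ (f/1)^n`. -/
noncomputable def zhom : Multiplicative ℤ →* Localization.Away f :=
  (Units.coeHom _).comp (zpowersHom _ (unitF f))

theorem zhom_apply (n : ℤ) : zhom f (Multiplicative.ofAdd n) = ((unitF f ^ n : (Localization.Away f)ˣ) :
    Localization.Away f) := rfl

/-- The comparison homomorphism `A_(f)[T, T⁻¹] → A_f`, `T ↦ f/1`. -/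
noncomputable def toLoc : AddMonoidAlgebra (Away 𝒜 f) ℤ →ₐ[Away 𝒜 f] Localization.Away f :=
  AddMonoidAlgebra.lift (Away 𝒜 f) (Localization.Away f) ℤ (zhom f)

theorem toLoc_single (n : ℤ) (c : Away 𝒜 f) :
    toLoc 𝒜 f (single n c) = c.val * ((unitF f ^ n : (Localization.Away f)ˣ) : Localization.Away f) := by
  unfold toLoc
  rw [AddMonoidAlgebra.lift_single, zhom_apply, Algebra.smul_def]
  rfl

variable {𝒜 f} (hf : f ∈ 𝒜 1)

open AwayRetraction

include hf in
theorem coactLoc_val (c : Away 𝒜 f) : coactLoc hf c.val = single 0 c.val := by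
  obtain ⟨n, b, hb, rfl⟩ := Away.mk_surjective 𝒜 hf c
  rw [Away.val_mk]
  have := coactLoc_mk hf hb n
  change coactLoc hf (Localization.mk b (pw f n)) = _
  rw [this]
  congr 1
  simp

/-- `n ↦ (f/1)^n Tⁿ`. -/
noncomputable def zhomT (f : A) : Multiplicative ℤ →* AddMonoidAlgebra (Localization.Away f) ℤ where
  toFun n := single (Multiplicative.toAdd n) (zhom f n)
  map_one' := by
    change single (0 : ℤ) (zhom f 1) = 1
    rw [(zhom f).map_one]
    rfl
  map_mul' m n := by
    change single (Multiplicative.toAdd m + Multiplicative.toAdd n) (zhom f (m * n)) = _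
    rw [(zhom f).map_mul, single_mul_single]

include hf in
theorem coactLoc_zhom (n : ℤ) :
    coactLoc hf (zhom f (Multiplicative.ofAdd n)) = single n (zhom f (Multiplicative.ofAdd n)) := by
  have h : ((coactLoc hf : Localization.Away f →+* _) : Localization.Away f →* _).comp (zhom f) =
      zhomT f := by
    apply MonoidHom.ext_mint
    change coactLoc hf (zhom f (Multiplicative.ofAdd 1)) = single 1 (zhom f (Multiplicative.ofAdd 1))
    rw [zhom_apply, zpow_one, coe_unitF, coactLoc_algebraMap, coact_of_mem 𝒜 f hf]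
    rfl
  exact DFunLike.congr_fun h (Multiplicative.ofAdd n)

include hf in
theorem coactLoc_toLoc_single (n : ℤ) (c : Away 𝒜 f) :
    coactLoc hf (toLoc 𝒜 f (single n c)) = single n (toLoc 𝒜 f (single n c)) := by
  rw [toLoc_single, map_mul, coactLoc_val hf, ← zhom_apply, coactLoc_zhom hf, single_mul_single,
    zero_add]

include hf in
theorem coeff_coactLoc_toLoc (p : AddMonoidAlgebra (Away 𝒜 f) ℤ) (m : ℤ) :
    (coactLoc hf (toLoc 𝒜 f p)).coeff m = toLoc 𝒜 f (single m (p.coeff m)) := by
  induction p using AddMonoidAlgebra.induction_linear with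
  | zero => simp
  | add p q hp hq =>
    rw [map_add, map_add, coeff_add, Finsupp.add_apply, hp, hq, coeff_add, Finsupp.add_apply,
      single_add, map_add]
  | single n c =>
    rw [coactLoc_toLoc_single hf, coeff_single, coeff_single, Finsupp.single_apply,
      Finsupp.single_apply]
    split_ifs with h
    · subst h; rfl
    · rw [single_zero, map_zero]

include hf in
theorem toLoc_injective : Function.Injective (toLoc 𝒜 f) := by
  rw [injective_iff_map_eq_zero]
  intro p hp
  ext m
  have h1 := coeff_coactLoc_toLoc hf p m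
  rw [hp, map_zero] at h1
  rw [toLoc_single] at h1
  have h2 : (p.coeff m).val = 0 := by
    have := congrArg (fun y => y * ((unitF f ^ (-m) : (Localization.Away f)ˣ) : Localization.Away f)) h1
    simp only [coeff_zero, Finsupp.zero_apply, zero_mul] at this
    rw [mul_assoc, ← Units.val_mul, ← zpow_add, add_neg_cancel, zpow_zero, Units.val_one, mul_one] at this
    exact this.symm
  have h3 : p.coeff m = 0 := HomogeneousLocalization.val_injective _ (by rw [h2, HomogeneousLocalization.val_zero])
  rw [h3]
  rfl

include hf in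
theorem algebraMap_mem_range_of_mem {i : ℕ} {b : A} (hb : b ∈ 𝒜 i) :
    algebraMap A (Localization.Away f) b ∈ (toLoc 𝒜 f).range := by
  have hb' : b ∈ 𝒜 (i • 1) := by rwa [smul_eq_mul, mul_one]
  refine ⟨single (i : ℤ) (Away.mk 𝒜 hf i b hb'), ?_⟩
  change toLoc 𝒜 f _ = _
  rw [toLoc_single, Away.val_mk, zpow_natCast, Units.val_pow_eq_pow_val, coe_unitF, ← map_pow,
    ← Localization.mk_one_eq_algebraMap, ← Localization.mk_one_eq_algebraMap, Localization.mk_mul,
    Localization.mk_eq_mk_iff, Localization.r_iff_exists]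
  exact ⟨1, by simp; ring⟩

include hf in
theorem algebraMap_mem_range (b : A) :
    algebraMap A (Localization.Away f) b ∈ (toLoc 𝒜 f).range := by
  classical
  rw [← DirectSum.sum_support_decompose 𝒜 b, map_sum]
  exact Subalgebra.sum_mem _ fun i _ => algebraMap_mem_range_of_mem hf (SetLike.coe_mem _)

theorem inv_mem_range :
    ((unitF f ^ (-1 : ℤ) : (Localization.Away f)ˣ) : Localization.Away f) ∈ (toLoc 𝒜 f).range := by
  refine ⟨single (-1 : ℤ) 1, ?_⟩
  change toLoc 𝒜 f _ = _
  rw [toLoc_single, HomogeneousLocalization.val_one, one_mul]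

include hf in
theorem toLoc_surjective : Function.Surjective (toLoc 𝒜 f) := by
  intro y
  change y ∈ (toLoc 𝒜 f).range
  induction y using Localization.induction_on with
  | H y =>
    obtain ⟨b, ⟨_, n, rfl⟩⟩ := y
    change Localization.mk b (pw f n) ∈ (toLoc 𝒜 f).range
    have h0 : Localization.mk b (pw f n) * (algebraMap A (Localization.Away f) f) ^ n =
        algebraMap A (Localization.Away f) b := by
      rw [← map_pow, ← Localization.mk_one_eq_algebraMap, ← Localization.mk_one_eq_algebraMap,
        Localization.mk_mul, Localization.mk_eq_mk_iff, Localization.r_iff_exists]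
      exact ⟨1, by simp; ring⟩
    have hu : (algebraMap A (Localization.Away f) f) ^ n *
        ((unitF f ^ (-1 : ℤ) : (Localization.Away f)ˣ) : Localization.Away f) ^ n = 1 := by
      rw [← coe_unitF, ← mul_pow, ← Units.val_mul, zpow_neg_one, mul_inv_cancel, Units.val_one,
        one_pow]
    have h1 : Localization.mk b (pw f n) = algebraMap A (Localization.Away f) b *
        ((unitF f ^ (-1 : ℤ) : (Localization.Away f)ˣ) : Localization.Away f) ^ n := by
      rw [← h0, mul_assoc, hu, mul_one]
    rw [h1]
    exact Subalgebra.mul_mem _ (algebraMap_mem_range hf b) (Subalgebra.pow_mem _ inv_mem_range n)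

include hf in
theorem toLoc_bijective : Function.Bijective (toLoc 𝒜 f) :=
  ⟨toLoc_injective hf, toLoc_surjective hf⟩

/-- `A_(f)[T, T⁻¹] ≃ A_f`. -/
noncomputable def equiv : AddMonoidAlgebra (Away 𝒜 f) ℤ ≃ₐ[Away 𝒜 f] Localization.Away f :=
  AlgEquiv.ofBijective (toLoc 𝒜 f) (toLoc_bijective hf)

include hf in
theorem finiteType : Algebra.FiniteType (Away 𝒜 f) (Localization.Away f) :=
  Algebra.FiniteType.of_surjective (toLoc 𝒜 f) (toLoc_surjective hf)

end LaurentAway

end Groth.Agent.Lib.Helper42
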