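import Mathlib

/-!
# Base change of (Laurent) polynomial algebras as pushouts of commutative rings
-/

set_option autoImplicit false
universe u

open CategoryTheory CategoryTheory.Limits

namespace Groth.Agent.Lib.Helper42

open scoped AlgebraMonoidAlgebra in
/-- If `C ≃ R₀[T, T⁻¹]` over `R₀`, then `C ⊗_{R₀} K = K[T, T⁻¹]`. -/
theorem exists_isPushout_laurent {R₀ C : Type u} [CommRing R₀] [CommRing C] [Algebra R₀ C]
    (Φ : AddMonoidAlgebra R₀ ℤ ≃ₐ[R₀] C) (K : Type u) [CommRing K] (χ : R₀ →+* K) :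
    ∃ ξ : C →+* AddMonoidAlgebra K ℤ,
      IsPushout (CommRingCat.ofHom (algebraMap R₀ C)) (CommRingCat.ofHom χ) (CommRingCat.ofHom ξ)
        (CommRingCat.ofHom (algebraMap K (AddMonoidAlgebra K ℤ))) := by
  letI := χ.toAlgebra
  have h : Algebra.IsPushout R₀ K (AddMonoidAlgebra R₀ ℤ) (AddMonoidAlgebra K ℤ) := inferInstance
  have h2 := (CommRingCat.isPushout_iff_isPushout.mpr h).flip
  refine ⟨(algebraMap (AddMonoidAlgebra R₀ ℤ) (AddMonoidAlgebra K ℤ)).comp (Φ.symm : C →+* _),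
    h2.of_iso (Iso.refl _) (Φ.toRingEquiv.toCommRingCatIso) (Iso.refl _) (Iso.refl _) ?_ ?_ ?_ ?_⟩
  · refine CommRingCat.hom_ext (RingHom.ext fun r => ?_)
    exact Φ.commutes r
  · rfl
  · refine CommRingCat.hom_ext (RingHom.ext fun r => ?_)
    change algebraMap _ _ r = algebraMap _ _ (Φ.symm (Φ r))
    rw [Φ.symm_apply_apply]
  · rfl

attribute [local instance] Polynomial.algebra in
/-- If `C ≃ R₀[T]` over `R₀`, then `C ⊗_{R₀} K = K[T]`. -/
theorem exists_isPushout_polynomial {R₀ C : Type u} [CommRing R₀] [CommRing C] [Algebra R₀ C]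
    (Φ : Polynomial R₀ ≃ₐ[R₀] C) (K : Type u) [CommRing K] (χ : R₀ →+* K) :
    ∃ ξ : C →+* Polynomial K,
      IsPushout (CommRingCat.ofHom (algebraMap R₀ C)) (CommRingCat.ofHom χ) (CommRingCat.ofHom ξ)
        (CommRingCat.ofHom (algebraMap K (Polynomial K))) := by
  letI := χ.toAlgebra
  have h : Algebra.IsPushout R₀ K (Polynomial R₀) (Polynomial K) := inferInstance
  have h2 := (CommRingCat.isPushout_iff_isPushout.mpr h).flip
  refine ⟨(algebraMap (Polynomial R₀) (Polynomial K)).comp (Φ.symm : C →+* _),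
    h2.of_iso (Iso.refl _) (Φ.toRingEquiv.toCommRingCatIso) (Iso.refl _) (Iso.refl _) ?_ ?_ ?_ ?_⟩
  · refine CommRingCat.hom_ext (RingHom.ext fun r => ?_)
    exact Φ.commutes r
  · rfl
  · refine CommRingCat.hom_ext (RingHom.ext fun r => ?_)
    change algebraMap _ _ r = algebraMap _ _ (Φ.symm (Φ r))
    rw [Φ.symm_apply_apply]
  · rfl

end Groth.Agent.Lib.Helper42
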