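import Mathlib

/-!
# Checking target-local properties of a morphism on a family of "charts"
-/

set_option autoImplicit false
universe u

open CategoryTheory CategoryTheory.Limits AlgebraicGeometry TopologicalSpace Opposite

namespace Groth.Agent.Lib.Helper42

/-- Let `P` be Zariski-local at the target, `h : Z ⟶ X`, `V i` an open cover of `X`, and suppose
`j i : W i ⟶ Z`, `j' i : W' i ⟶ X` are open immersions with ranges `h⁻¹(V i)` resp. `V i`, and
`g i : W i ⟶ W' i` satisfies `j i ≫ h = g i ≫ j' i`. Then `P h ↔ ∀ i, P (g i)`. -/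
theorem iff_of_charts (P : MorphismProperty Scheme.{u}) [IsZariskiLocalAtTarget P]
    {Z X : Scheme.{u}} (h : Z ⟶ X) {ι : Type*} (V : ι → X.Opens) (hV : iSup V = ⊤)
    {W W' : ι → Scheme.{u}} (j : ∀ i, W i ⟶ Z) (j' : ∀ i, W' i ⟶ X)
    [∀ i, IsOpenImmersion (j i)] [∀ i, IsOpenImmersion (j' i)]
    (hj : ∀ i, (j i).opensRange = h ⁻¹ᵁ V i) (hj' : ∀ i, (j' i).opensRange = V i)
    (g : ∀ i, W i ⟶ W' i) (hg : ∀ i, j i ≫ h = g i ≫ j' i) : P h ↔ ∀ i, P (g i) := by
  rw [IsZariskiLocalAtTarget.iff_of_iSup_eq_top (P := P) V hV]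
  refine forall_congr' fun i => ?_
  have e1 : Set.range (j i) = Set.range (h ⁻¹ᵁ V i).ι := by
    have := congrArg (fun U : Z.Opens => (U : Set Z)) (hj i)
    simpa using this
  have e2 : Set.range (j' i) = Set.range (V i).ι := by
    have := congrArg (fun U : X.Opens => (U : Set X)) (hj' i)
    simpa using this
  let e := IsOpenImmersion.isoOfRangeEq (j i) (h ⁻¹ᵁ V i).ι e1
  let e' := IsOpenImmersion.isoOfRangeEq (j' i) (V i).ι e2
  have key : e.hom ≫ (h ∣_ V i) = g i ≫ e'.hom := by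
    rw [← cancel_mono (V i).ι]
    simp only [Category.assoc, morphismRestrict_ι]
    rw [IsOpenImmersion.isoOfRangeEq_hom_fac_assoc, IsOpenImmersion.isoOfRangeEq_hom_fac]
    exact hg i
  rw [← P.cancel_left_of_respectsIso e.hom (h ∣_ V i), key, P.cancel_right_of_respectsIso]

end Groth.Agent.Lib.Helper42
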