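import Groth.Prelude.Def_Cone
import Groth.Agent.Lib.Helper42.LaurentAway
import Groth.Agent.Lib.Helper42.LocalCharts
import Groth.Agent.Lib.Helper42.FibreChart
import Groth.Agent.Lib.Helper42.LaurentPushout

/-!
# The pointed affine cone over an affine base and its retraction onto `Proj`
-/

set_option autoImplicit false
universe u

open CategoryTheory CategoryTheory.Limits AlgebraicGeometry TopologicalSpace Opposite
open HomogeneousLocalization
open scoped HomogeneousIdeal

namespace Groth.Agent.Lib.Helper42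

namespace ConeAbs

variable {R A : Type u} [CommRing R] [CommRing A] [Algebra R A] {𝒜 : ℕ → Submodule R A} [GradedAlgebra 𝒜]

/-- `Spec A_g ⟶ Spec A`. -/
noncomputable abbrev locSpec (g : A) : Spec (CommRingCat.of (Localization.Away g)) ⟶ Spec (CommRingCat.of A) :=
  Spec.map (CommRingCat.ofHom (algebraMap A (Localization.Away g)))

/-- `Spec A_g ⟶ Spec A_(g)`. -/
noncomputable abbrev locToAway (𝒜 : ℕ → Submodule R A) [GradedAlgebra 𝒜] (g : A) :
    Spec (CommRingCat.of (Localization.Away g)) ⟶ Spec (CommRingCat.of (Away 𝒜 g)) :=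
  Spec.map (CommRingCat.ofHom (algebraMap (Away 𝒜 g) (Localization.Away g)))

theorem chart_ι {d : ℕ} {f : A} (hf : f ∈ 𝒜 d) (hd : 0 < d) :
    Cone.chart hf hd ≫ (Cone.pointed 𝒜).ι = locSpec f :=
  IsOpenImmersion.lift_fac _ _ _

instance {d : ℕ} {f : A} (hf : f ∈ 𝒜 d) (hd : 0 < d) : IsOpenImmersion (Cone.chart hf hd) := by
  have : IsOpenImmersion (Cone.chart hf hd ≫ (Cone.pointed 𝒜).ι) := by
    rw [chart_ι]; infer_instance
  exact IsOpenImmersion.of_comp _ (Cone.pointed 𝒜).ι

theorem mem_range_chart_iff {d : ℕ} {f : A} (hf : f ∈ 𝒜 d) (hd : 0 < d) (e : (Cone.pointed 𝒜 : Scheme.{u})) :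
    e ∈ Set.range (Cone.chart hf hd).base ↔ f ∉ (e.1 : PrimeSpectrum A).asIdeal := by
  have hr : Set.range (locSpec f).base = (PrimeSpectrum.basicOpen f : Set (PrimeSpectrum A)) :=
    PrimeSpectrum.localization_away_comap_range (Localization.Away f) f
  constructor
  · rintro ⟨s, rfl⟩
    have h1 := congrArg (fun m => m.base s) (chart_ι hf hd)
    have h2 : ((Cone.chart hf hd).base s).1 = (locSpec f).base s := h1
    have h3 : (locSpec f).base s ∈ Set.range (locSpec f).base := ⟨s, rfl⟩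
    rw [hr] at h3
    rw [h2]
    exact h3
  · intro he
    have h3 : e.1 ∈ Set.range (locSpec f).base := by
      rw [hr]; exact he
    obtain ⟨s, hs⟩ := h3
    refine ⟨s, Subtype.ext ?_⟩
    have h1 := congrArg (fun m => m.base s) (chart_ι hf hd)
    exact (h1 : ((Cone.chart hf hd).base s).1 = (locSpec f).base s).trans hs

/-- A point of the pointed cone misses a homogeneous element of positive degree. -/
theorem exists_homogeneous_not_mem (e : (Cone.pointed 𝒜 : Scheme.{u})) :
    ∃ (d : ℕ) (_ : 0 < d) (g : A) (_ : g ∈ 𝒜 d), g ∉ (e.1 : PrimeSpectrum A).asIdeal := by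
  classical
  by_contra hcon
  push Not at hcon
  apply e.2
  change (e.1 : PrimeSpectrum A) ∈ PrimeSpectrum.zeroLocus (((HomogeneousIdeal.irrelevant 𝒜).toIdeal : Set A))
  refine (PrimeSpectrum.mem_zeroLocus _ _).mpr ?_
  intro a ha
  rw [← DirectSum.sum_support_decompose 𝒜 a]
  refine Ideal.sum_mem _ fun i _ => ?_
  rcases Nat.eq_zero_or_pos i with rfl | hi
  · have : (DirectSum.decompose 𝒜 a 0 : A) = 0 := (HomogeneousIdeal.mem_irrelevant_iff 𝒜 a).mp ha
    rw [this]
    exact zero_mem _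
  · exact hcon i hi _ (SetLike.coe_mem _)

theorem awayι_locToAway_mem_basicOpen_iff {e d : ℕ} (he : 0 < e) (hd : 0 < d) {g f : A}
    (hg : g ∈ 𝒜 e) (hf : f ∈ 𝒜 d) (s : Spec (CommRingCat.of (Localization.Away g))) :
    (Proj.awayι 𝒜 g hg he).base ((locToAway 𝒜 g).base s) ∈ Proj.basicOpen 𝒜 f ↔
      f ∉ ((locSpec g).base s).asIdeal := by
  have h1 : (Proj.awayι 𝒜 g hg he).base ((locToAway 𝒜 g).base s) ∈ Proj.basicOpen 𝒜 f ↔
      (locToAway 𝒜 g).base s ∈ Proj.awayι 𝒜 g hg he ⁻¹ᵁ Proj.basicOpen 𝒜 f := Iff.rfl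
  rw [h1, Proj.awayι_preimage_basicOpen 𝒜 hg he hf hd]
  change ¬ (algebraMap (Away 𝒜 g) (Localization.Away g) (Away.isLocalizationElem hg hf) ∈ s.asIdeal) ↔
    ¬ (algebraMap A (Localization.Away g) f ∈ s.asIdeal)
  have hval : algebraMap (Away 𝒜 g) (Localization.Away g) (Away.isLocalizationElem hg hf) =
      Localization.mk (f ^ e) (AwayRetraction.pw g d) := by
    change (Away.mk 𝒜 hg d (f ^ e) _).val = _
    rw [Away.val_mk]
    rfl
  have hmul : Localization.mk (f ^ e) (AwayRetraction.pw g d) * (algebraMap A (Localization.Away g) g) ^ d =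
      (algebraMap A (Localization.Away g) f) ^ e := by
    rw [← map_pow, ← map_pow, ← Localization.mk_one_eq_algebraMap, ← Localization.mk_one_eq_algebraMap,
      Localization.mk_mul, Localization.mk_eq_mk_iff, Localization.r_iff_exists]
    exact ⟨1, by simp; ring⟩
  have hs := s.isPrime
  rw [hval, not_iff_not]
  constructor
  · intro h
    have h2 : (algebraMap A (Localization.Away g) f) ^ e ∈ s.asIdeal := by
      rw [← hmul]; exact Ideal.mul_mem_right _ _ h
    exact hs.mem_of_pow_mem _ h2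
  · intro h
    have h2 : Localization.mk (f ^ e) (AwayRetraction.pw g d) * (algebraMap A (Localization.Away g) g) ^ d ∈
        s.asIdeal := by
      rw [hmul]; exact Ideal.pow_mem_of_mem _ h e he
    refine (hs.mem_or_mem h2).resolve_right fun h3 => ?_
    have hu : IsUnit ((algebraMap A (Localization.Away g) g) ^ d) :=
      (IsLocalization.Away.algebraMap_isUnit g).pow d
    exact hs.ne_top (Ideal.eq_top_of_isUnit_mem _ h3 hu)

variable (π : (Cone.pointed 𝒜 : Scheme.{u}) ⟶ Proj 𝒜)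
  (hπ : ∀ (d : ℕ) (f : A) (hd : 0 < d) (hf : f ∈ 𝒜 d),
    Cone.chart hf hd ≫ π = locToAway 𝒜 f ≫ Proj.awayι 𝒜 f hf hd)

include hπ in
theorem preimage_basicOpen {d : ℕ} (hd : 0 < d) {f : A} (hf : f ∈ 𝒜 d) :
    (Cone.chart hf hd).opensRange = π ⁻¹ᵁ Proj.basicOpen 𝒜 f := by
  ext e
  change e ∈ Set.range (Cone.chart hf hd).base ↔ π.base e ∈ Proj.basicOpen 𝒜 f
  rw [mem_range_chart_iff]
  obtain ⟨e', he', g, hg, hge⟩ := exists_homogeneous_not_mem e
  obtain ⟨s, rfl⟩ := (mem_range_chart_iff hg he' e).mpr hge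
  have h1 := congrArg (fun m => m.base s) (hπ e' g he' hg)
  have h2 : π.base ((Cone.chart hg he').base s) =
      (Proj.awayι 𝒜 g hg he').base ((locToAway 𝒜 g).base s) := h1
  have h3 := congrArg (fun m => m.base s) (chart_ι hg he')
  have h4 : ((Cone.chart hg he').base s).1 = (locSpec g).base s := h3
  rw [h2, awayι_locToAway_mem_basicOpen_iff he' hd hg hf, h4]

variable (hgen : (HomogeneousIdeal.irrelevant 𝒜).toIdeal = Ideal.span (𝒜 1 : Set A))

include hgen in
theorem iSup_basicOpen_degOne : (⨆ f : {f : A // f ∈ 𝒜 1}, Proj.basicOpen 𝒜 f.1) = ⊤ := by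
  refine Proj.iSup_basicOpen_eq_top 𝒜 (fun f : {f : A // f ∈ 𝒜 1} => f.1) ?_
  rw [hgen]
  refine Ideal.span_mono ?_
  intro a ha
  exact ⟨⟨a, ha⟩, rfl⟩

include hπ hgen in
theorem iff_forall_degOne (P : MorphismProperty Scheme.{u}) [IsZariskiLocalAtTarget P] :
    P π ↔ ∀ f : {f : A // f ∈ 𝒜 1}, P (locToAway 𝒜 f.1) :=
  iff_of_charts P π (fun f : {f : A // f ∈ 𝒜 1} => Proj.basicOpen 𝒜 f.1)
    (iSup_basicOpen_degOne hgen) (fun f => Cone.chart f.2 one_pos)
    (fun f => Proj.awayι 𝒜 f.1 f.2 one_pos)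
    (fun f => preimage_basicOpen π hπ one_pos f.2)
    (fun f => Proj.opensRange_awayι _ _ _ _) (fun f => locToAway 𝒜 f.1)
    (fun f => hπ 1 f.1 one_pos f.2)

include hπ hgen in
theorem locallyOfFiniteType : LocallyOfFiniteType π := by
  rw [iff_forall_degOne π hπ hgen @LocallyOfFiniteType]
  intro f
  rw [HasRingHomProperty.Spec_iff (P := @LocallyOfFiniteType)]
  exact LaurentAway.finiteType f.2

include hπ hgen in
theorem quasiCompact : QuasiCompact π := by
  rw [iff_forall_degOne π hπ hgen @QuasiCompact]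
  intro f
  infer_instance

include hπ hgen in
theorem exists_fibre_iso (x : Proj 𝒜) :
    ∃ e : pullback π ((Proj 𝒜).fromSpecResidueField x) ≅
        Spec (CommRingCat.of (LaurentPolynomial ((Proj 𝒜).residueField x))),
      e.hom ≫ Spec.map (CommRingCat.ofHom (algebraMap ((Proj 𝒜).residueField x)
        (LaurentPolynomial ((Proj 𝒜).residueField x)))) =
          pullback.snd π ((Proj 𝒜).fromSpecResidueField x) := by
  have hx : x ∈ (⊤ : (Proj 𝒜).Opens) := trivial
  rw [← iSup_basicOpen_degOne hgen] at hx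
  obtain ⟨f, hxf⟩ := Opens.mem_iSup.mp hx
  rw [← Proj.opensRange_awayι 𝒜 f.1 f.2 one_pos] at hxf
  obtain ⟨χ, hχ⟩ := exists_residue_hom_of_mem_range x (Proj.awayι 𝒜 f.1 f.2 one_pos) hxf
  obtain ⟨ξ, hpo⟩ := exists_isPushout_laurent (LaurentAway.equiv f.2) ((Proj 𝒜).residueField x) χ.hom
  refine exists_fibre_iso_of_chart π x (Proj.awayι 𝒜 f.1 f.2 one_pos) (Cone.chart f.2 one_pos)
    (CommRingCat.ofHom (algebraMap (Away 𝒜 f.1) (Localization.Away f.1)))
    (hπ 1 f.1 one_pos f.2) ?_ χ hχ _ (CommRingCat.ofHom ξ) hpo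
  rw [Proj.opensRange_awayι]
  exact (preimage_basicOpen π hπ one_pos f.2).symm

end ConeAbs

end Groth.Agent.Lib.Helper42
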