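import Groth.Prelude.Def_RelProj4

/-!
# Ring-level facts on `RelCone.domOpen`, and consequences for `RelProj.domQ`
-/

set_option autoImplicit false
universe u

open CategoryTheory CategoryTheory.Limits AlgebraicGeometry TopologicalSpace Opposite
open scoped HomogeneousIdeal

namespace Groth.Agent.Lib.Helper42

section ring

variable {A σ : Type u} [CommRing A] [SetLike σ A] [AddSubgroupClass σ A] {𝒜 : ℕ → σ} [GradedRing 𝒜]
variable {B τ : Type u} [CommRing B] [SetLike τ B] [AddSubgroupClass τ B] {ℬ : ℕ → τ} [GradedRing ℬ]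
variable {T ρ : Type u} [CommRing T] [SetLike ρ T] [AddSubgroupClass ρ T] {𝒯 : ℕ → ρ} [GradedRing 𝒯]

theorem domOpen_eq_top_of_irrelevant_le (ψ : 𝒜 →+*ᵍ ℬ) (h : ℬ₊ ≤ 𝒜₊.map ψ) :
    RelCone.domOpen ψ = ⊤ := by
  rw [eq_top_iff]
  intro x _
  rw [RelCone.mem_domOpen]
  by_contra hcon
  push_neg at hcon
  apply x.not_irrelevant_le
  refine h.trans ?_
  rw [HomogeneousIdeal.map_le_iff_le_comap]
  intro f hf
  exact hcon f hf

/-- A graded ring homomorphism maps the irrelevant ideal into the irrelevant ideal. -/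
theorem map_mem_irrelevant (v : 𝒯 →+*ᵍ 𝒜) {x : T} (hx : x ∈ 𝒯₊) : v x ∈ 𝒜₊ := by
  rw [HomogeneousIdeal.mem_irrelevant_iff, GradedRing.proj_apply] at hx ⊢
  rw [← GradedRingHom.map_directSumDecompose 𝒯 𝒜 v, hx, map_zero]

theorem domOpen_le_of_comp (v : 𝒯 →+*ᵍ 𝒜) (ψ : 𝒜 →+*ᵍ ℬ) (ψ' : 𝒯 →+*ᵍ ℬ)
    (h : ∀ x, ψ' x = ψ (v x)) : RelCone.domOpen ψ' ≤ RelCone.domOpen ψ := by
  intro x hx
  rw [RelCone.mem_domOpen] at hx ⊢
  obtain ⟨f, hf, hfx⟩ := hx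
  exact ⟨v f, map_mem_irrelevant v hf, by rwa [← h]⟩

end ring

end Groth.Agent.Lib.Helper42

namespace Groth.Agent.Lib.Helper42

variable {Y : Scheme.{u}}

theorem ofHom_gradedAt_self {𝒜 ℬ : RelProj.QCGrAlg Y} (φ : 𝒜.toQCAlg ⟶ ℬ.toQCAlg)
    (hφ : RelProj.IsGradedHom φ) (U : Y.Opens) (hU : IsAffineOpen U) (hle : U ≤ (𝟙 Y) ⁻¹ᵁ U) :
    (RelProj.QGrHom.ofHom φ hφ).gradedAt U hU U hU hle = RelProj.gradedHomAt φ hφ U hU := by
  ext x
  change (((RelProj.QGrHom.ofHom φ hφ).toQHom.appLE U U hle).hom x) = (φ.hom.app (op U)).hom x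
  rw [RelSpec.QHom.appLE_eq]
  have h1 : ℬ.presheaf.map (homOfLE hle).op = 𝟙 _ := ℬ.presheaf.map_id (op U)
  rw [h1]
  rfl

/-- Every point of `pB⁻¹(U)` lies in the chart image of `domOpen` as soon as that `domOpen` is `⊤`. -/
theorem mem_emb_image_of_domOpen_eq_top {ℬ : RelProj.QCGrAlg Y} {PB : Scheme.{u}} (pB : PB ⟶ Y)
    (chartB : ∀ (U : Y.Opens) (hU : IsAffineOpen U), (((pB ⁻¹ᵁ U : PB.Opens) : Scheme.{u}) ≅ Proj (ℬ.deg U hU)))
    (U : Y.Opens) (hU : IsAffineOpen U) (W : (Proj (ℬ.deg U hU)).Opens) (hW : W = ⊤)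
    (x : PB) (hx : pB.base x ∈ U) : x ∈ (RelProj.emb pB chartB U hU) ''ᵁ W := by
  subst hW
  have hx' : x ∈ pB ⁻¹ᵁ U := hx
  have : (RelProj.emb pB chartB U hU) ''ᵁ ⊤ = pB ⁻¹ᵁ U := by
    rw [Scheme.Hom.image_top_eq_opensRange]
    unfold RelProj.emb
    rw [Scheme.Hom.opensRange_comp_of_isIso, Scheme.Opens.opensRange_ι]
  rw [this]
  exact hx'

end Groth.Agent.Lib.Helper42
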