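import Groth.Agent.Lib.Helper42.ProjMapLocal
import Groth.Agent.Lib.Helper42.DomOpen

/-!
# Ring-level facts for morphisms of `Proj`s defined on `domOpen`, and (TN) conditions
-/

set_option autoImplicit false
universe u

open CategoryTheory CategoryTheory.Limits AlgebraicGeometry HomogeneousLocalization TopologicalSpace
open scoped HomogeneousIdeal

namespace Groth.Agent.Lib.Helper42

variable {A B σ τ : Type u} [CommRing A] [CommRing B]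
  [SetLike σ A] [AddSubgroupClass σ A] [SetLike τ B] [AddSubgroupClass τ B]
  {𝒜 : ℕ → σ} {ℬ : ℕ → τ} [GradedRing 𝒜] [GradedRing ℬ] (ψ : 𝒜 →+*ᵍ ℬ)

theorem away_map_isLocalizationElem {d₂ d : ℕ} {f₂ f : A} (hf₂ : f₂ ∈ 𝒜 d₂) (hf : f ∈ 𝒜 d) :
    Away.map ψ f₂ (Away.isLocalizationElem hf₂ hf) =
      Away.isLocalizationElem (Graded.map_mem ψ hf₂) (Graded.map_mem ψ hf) := by
  unfold Away.isLocalizationElem
  rw [Away.map_mk]
  congr 1
  exact map_pow ψ f d₂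

theorem awayι_mem_basicOpen_iff {d₂ d : ℕ} (hd₂ : 0 < d₂) (hd : 0 < d) {f₂ f : A}
    (hf₂ : f₂ ∈ 𝒜 d₂) (hf : f ∈ 𝒜 d) (x' : Spec (CommRingCat.of (Away ℬ (ψ f₂)))) :
    (Proj.awayι 𝒜 f₂ hf₂ hd₂).base ((Spec.map (CommRingCat.ofHom (Away.map ψ f₂))).base x') ∈
        Proj.basicOpen 𝒜 f ↔
      (Proj.awayι ℬ (ψ f₂) (Graded.map_mem ψ hf₂) hd₂).base x' ∈ Proj.basicOpen ℬ (ψ f) := by
  have h1 : (Proj.awayι 𝒜 f₂ hf₂ hd₂).base ((Spec.map (CommRingCat.ofHom (Away.map ψ f₂))).base x') ∈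
        Proj.basicOpen 𝒜 f ↔ (Spec.map (CommRingCat.ofHom (Away.map ψ f₂))).base x' ∈
          Proj.awayι 𝒜 f₂ hf₂ hd₂ ⁻¹ᵁ Proj.basicOpen 𝒜 f := Iff.rfl
  have h2 : (Proj.awayι ℬ (ψ f₂) (Graded.map_mem ψ hf₂) hd₂).base x' ∈ Proj.basicOpen ℬ (ψ f) ↔
      x' ∈ Proj.awayι ℬ (ψ f₂) (Graded.map_mem ψ hf₂) hd₂ ⁻¹ᵁ Proj.basicOpen ℬ (ψ f) := Iff.rfl
  rw [h1, h2, Proj.awayι_preimage_basicOpen 𝒜 hf₂ hd₂ hf hd,
    Proj.awayι_preimage_basicOpen ℬ (Graded.map_mem ψ hf₂) hd₂ (Graded.map_mem ψ hf) hd,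
    ← away_map_isLocalizationElem ψ hf₂ hf]
  rfl

/-- Every point of `domOpen ψ` lies in some `D₊(ψ f)`, `f` homogeneous of positive degree. -/
theorem exists_mem_basicOpen_of_mem_domOpen (x : Proj ℬ) (hx : x ∈ RelCone.domOpen ψ) :
    ∃ (d : ℕ) (_ : 0 < d) (f : A) (_ : f ∈ 𝒜 d), x ∈ Proj.basicOpen ℬ (ψ f) := by
  classical
  rw [RelCone.mem_domOpen] at hx
  obtain ⟨f, hf, hfx⟩ := hx
  have hex : ∃ i, ψ (DirectSum.decompose 𝒜 f i : A) ∉ x.asHomogeneousIdeal := by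
    by_contra hcon
    push Not at hcon
    apply hfx
    rw [← DirectSum.sum_support_decompose 𝒜 f, map_sum]
    exact Ideal.sum_mem _ fun i _ => hcon i
  obtain ⟨i, hi⟩ := hex
  have hi0 : i ≠ 0 := by
    rintro rfl
    apply hi
    have : (DirectSum.decompose 𝒜 f 0 : A) = 0 := (HomogeneousIdeal.mem_irrelevant_iff 𝒜 f).mp hf
    rw [this, map_zero]
    exact zero_mem _
  exact ⟨i, Nat.pos_of_ne_zero hi0, _, SetLike.coe_mem _, hi⟩

/-- If `domOpen ψ = ⊤`, every point lies in some `D₊(ψ f)`, `f` homogeneous of positive degree. -/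
theorem exists_mem_basicOpen_of_domOpen_eq_top (hdom : RelCone.domOpen ψ = ⊤) (x : Proj ℬ) :
    ∃ (d : ℕ) (_ : 0 < d) (f : A) (_ : f ∈ 𝒜 d), x ∈ Proj.basicOpen ℬ (ψ f) :=
  exists_mem_basicOpen_of_mem_domOpen ψ x (by rw [hdom]; trivial)

/-- (TN)-surjectivity gives `domOpen = ⊤`. -/
theorem domOpen_eq_top_of_tnSurjective
    (hTN : ∃ n : ℕ, ∀ k, n ≤ k → ∀ y ∈ ℬ k, ∃ x ∈ 𝒜 k, ψ x = y) : RelCone.domOpen ψ = ⊤ := by
  classical
  obtain ⟨n, hn⟩ := hTN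
  rw [eq_top_iff]
  intro x _
  -- a homogeneous element of positive degree outside `x`
  have hex : ∃ (e : ℕ) (b : B), 0 < e ∧ b ∈ ℬ e ∧ b ∉ x.asHomogeneousIdeal := by
    by_contra hcon
    push Not at hcon
    apply x.not_irrelevant_le
    intro b hb
    rw [← DirectSum.sum_support_decompose ℬ b]
    refine Ideal.sum_mem _ fun i _ => ?_
    rcases Nat.eq_zero_or_pos i with rfl | hi
    · have : (DirectSum.decompose ℬ b 0 : B) = 0 := (HomogeneousIdeal.mem_irrelevant_iff ℬ b).mp hb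
      rw [this]
      exact zero_mem _
    · exact hcon i _ hi (SetLike.coe_mem _)
  obtain ⟨e, b, he, hb, hbx⟩ := hex
  have hmem : b ^ (n + 1) ∈ ℬ ((n + 1) • e) := SetLike.pow_mem_graded _ hb
  have hle : n ≤ (n + 1) • e := by
    rw [smul_eq_mul]
    nlinarith
  obtain ⟨a, ha, hab⟩ := hn _ hle _ hmem
  rw [RelCone.mem_domOpen]
  have hpos : 0 < (n + 1) • e := by rw [smul_eq_mul]; positivity
  refine ⟨a, HomogeneousIdeal.mem_irrelevant_of_mem 𝒜 hpos ha, ?_⟩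
  rw [hab]
  intro hmem'
  exact hbx (x.isPrime.mem_of_pow_mem _ hmem')

/-- `mk n b = mk (n+m) (s^m * b)` in `Away 𝒜 s`. -/
theorem away_mk_add {d : ℕ} {s : A} (hs : s ∈ 𝒜 d) (n m : ℕ) (b : A) (hb : b ∈ 𝒜 (n • d)) :
    Away.mk 𝒜 hs n b hb = Away.mk 𝒜 hs (n + m) (s ^ m * b)
      (by rw [add_smul, add_comm]; exact SetLike.mul_mem_graded (SetLike.pow_mem_graded m hs) hb) := by
  ext
  rw [Away.val_mk, Away.val_mk, Localization.mk_eq_mk_iff, Localization.r_iff_exists]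
  refine ⟨1, ?_⟩
  simp only [OneMemClass.coe_one, one_mul]
  ring

theorem away_map_surjective_of_tn
    (hTN : ∃ n : ℕ, ∀ k, n ≤ k → ∀ y ∈ ℬ k, ∃ x ∈ 𝒜 k, ψ x = y)
    {d : ℕ} (hd : 0 < d) {s : A} (hs : s ∈ 𝒜 d) : Function.Surjective (Away.map ψ s) := by
  obtain ⟨N, hN⟩ := hTN
  intro y
  obtain ⟨n, b, hb, rfl⟩ := Away.mk_surjective ℬ (Graded.map_mem ψ hs) y
  have hle : N ≤ (n + N) • d := by
    rw [smul_eq_mul]; nlinarith
  have hmem : ψ s ^ N * b ∈ ℬ ((n + N) • d) := by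
    rw [add_smul, add_comm]
    exact SetLike.mul_mem_graded (SetLike.pow_mem_graded N (Graded.map_mem ψ hs)) hb
  obtain ⟨a, ha, hab⟩ := hN _ hle _ hmem
  refine ⟨Away.mk 𝒜 hs (n + N) a ha, ?_⟩
  rw [Away.map_mk ψ s hs (n + N) a ha, away_mk_add (Graded.map_mem ψ hs) n N b hb]
  congr 1

theorem away_map_injective_of_tn
    (hTN : ∃ n : ℕ, ∀ k, n ≤ k → ∀ x ∈ 𝒜 k, ψ x = 0 → x = 0)
    {d : ℕ} (hd : 0 < d) {s : A} (hs : s ∈ 𝒜 d) : Function.Injective (Away.map ψ s) := by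
  obtain ⟨N, hN⟩ := hTN
  rw [injective_iff_map_eq_zero]
  intro x hx
  obtain ⟨n, a, ha, rfl⟩ := Away.mk_surjective 𝒜 hs x
  rw [Away.map_mk ψ s hs n a ha, away_mk_eq_zero_iff] at hx
  obtain ⟨k, hk⟩ := hx
  rw [away_mk_eq_zero_iff]
  refine ⟨k + N, ?_⟩
  have hmem : s ^ (k + N) * a ∈ 𝒜 ((k + N) • d + n • d) :=
    SetLike.mul_mem_graded (SetLike.pow_mem_graded _ hs) ha
  have hle : N ≤ (k + N) • d + n • d := by
    rw [smul_eq_mul, smul_eq_mul]; nlinarith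
  apply hN _ hle _ hmem
  rw [map_mul, map_pow, pow_add, mul_comm (ψ s ^ k), mul_assoc, hk, mul_zero]

end Groth.Agent.Lib.Helper42
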