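import Groth.Agent.Lib.Helper42.DomQ
import Groth.Agent.Lib.Helper42.ProjQMapAbs
import Groth.Agent.Lib.Helper42.RelProjMap

/-!
# The morphism `Proj(φ) : G(φ) ⟶ Proj(𝒜)` over one base: lies over the base, and target-local
properties can be checked on the standard charts
-/

set_option autoImplicit false
universe u

open CategoryTheory CategoryTheory.Limits AlgebraicGeometry TopologicalSpace Opposite
open HomogeneousLocalization
open scoped HomogeneousIdeal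

namespace Groth.Agent.Lib.Helper42

variable {Y : Scheme.{u}}

theorem emb_comp_p {𝒮 : RelProj.QCGrAlg Y} {P : Scheme.{u}} {p : P ⟶ Y}
    {chart : ∀ (U : Y.Opens) (hU : IsAffineOpen U), (((p ⁻¹ᵁ U : P.Opens) : Scheme.{u}) ≅ Proj (𝒮.deg U hU))}
    (hP : RelProj.IsRelProj 𝒮 p chart) (U : Y.Opens) (hU : IsAffineOpen U) :
    RelProj.emb p chart U hU ≫ p =
      Proj.toSpecZero (𝒮.deg U hU) ≫ Spec.map (𝒮.strZero U hU) ≫ hU.fromSpec := by
  unfold RelProj.emb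
  rw [Category.assoc, ← hP.chart_over U hU, Iso.inv_hom_id_assoc]

theorem awayι_emb_comp_p {𝒮 : RelProj.QCGrAlg Y} {P : Scheme.{u}} {p : P ⟶ Y}
    {chart : ∀ (U : Y.Opens) (hU : IsAffineOpen U), (((p ⁻¹ᵁ U : P.Opens) : Scheme.{u}) ≅ Proj (𝒮.deg U hU))}
    (hP : RelProj.IsRelProj 𝒮 p chart) (U : Y.Opens) (hU : IsAffineOpen U) {d : ℕ} (hd : 0 < d)
    (f : 𝒮.presheaf.obj (op U)) (hf : f ∈ 𝒮.deg U hU d) :
    Proj.awayι (𝒮.deg U hU) f hf hd ≫ RelProj.emb p chart U hU ≫ p =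
      Spec.map (CommRingCat.ofHom (fromZeroRingHom (𝒮.deg U hU) (Submonoid.powers f))) ≫
        Spec.map (𝒮.strZero U hU) ≫ hU.fromSpec := by
  rw [emb_comp_p hP U hU, Proj.awayι_toSpecZero_assoc]

section

variable {PA PB : Scheme.{u}} {𝒜 ℬ : RelProj.QCGrAlg Y}
  (φ : 𝒜.toQCAlg ⟶ ℬ.toQCAlg) (hφ : RelProj.IsGradedHom φ)
  {pA : PA ⟶ Y} {pB : PB ⟶ Y}
  {chartA : ∀ (U : Y.Opens) (hU : IsAffineOpen U), (((pA ⁻¹ᵁ U : PA.Opens) : Scheme.{u}) ≅ Proj (𝒜.deg U hU))}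
  {chartB : ∀ (U : Y.Opens) (hU : IsAffineOpen U), (((pB ⁻¹ᵁ U : PB.Opens) : Scheme.{u}) ≅ Proj (ℬ.deg U hU))}

/-- The graded homomorphism over the pair `(U, U)`. -/
noncomputable abbrev psi (U : Y.Opens) (hU : IsAffineOpen U) : 𝒜.deg U hU →+*ᵍ ℬ.deg U hU :=
  (RelProj.QGrHom.ofHom φ hφ).gradedAt U hU U hU (le_rfl : U ≤ (𝟙 Y) ⁻¹ᵁ U)

theorem psi_eq (U : Y.Opens) (hU : IsAffineOpen U) : psi φ hφ U hU = RelProj.gradedHomAt φ hφ U hU :=
  ofHom_gradedAt_self φ hφ U hU _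

theorem strZero_comp_zeroHom_psi (U : Y.Opens) (hU : IsAffineOpen U) :
    𝒜.strZero U hU ≫ CommRingCat.ofHom (zeroHom (psi φ hφ U hU)) = ℬ.strZero U hU := by
  rw [psi_eq]
  exact strZero_comp_zeroHom φ hφ U hU

/-- The standard chart of `G(φ)` over the pair `(U, U)`. -/
noncomputable abbrev stdChart (pB : PB ⟶ Y)
    (chartB : ∀ (U : Y.Opens) (hU : IsAffineOpen U), (((pB ⁻¹ᵁ U : PB.Opens) : Scheme.{u}) ≅ Proj (ℬ.deg U hU)))
    (U : Y.Opens) (hU : IsAffineOpen U) {d : ℕ} (hd : 0 < d)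
    (f : 𝒜.presheaf.obj (op U)) (hf : f ∈ 𝒜.deg U hU d) :
    Spec (CommRingCat.of (Away (ℬ.deg U hU) (psi φ hφ U hU f))) ⟶ PB :=
  RelProj.awayEmb (RelProj.QGrHom.ofHom φ hφ) pB chartB U hU U hU (le_rfl : U ≤ (𝟙 Y) ⁻¹ᵁ U) hd f hf

theorem stdChart_comp_p (hB : RelProj.IsRelProj ℬ pB chartB) (U : Y.Opens) (hU : IsAffineOpen U) {d : ℕ}
    (hd : 0 < d) (f : 𝒜.presheaf.obj (op U)) (hf : f ∈ 𝒜.deg U hU d) :
    stdChart φ hφ pB chartB U hU hd f hf ≫ pB =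
      Spec.map (CommRingCat.ofHom (fromZeroRingHom (ℬ.deg U hU) (Submonoid.powers (psi φ hφ U hU f)))) ≫
        Spec.map (ℬ.strZero U hU) ≫ hU.fromSpec := by
  unfold stdChart RelProj.awayEmb
  rw [Category.assoc]
  exact awayι_emb_comp_p hB U hU hd _ _

/-- Compatibility of the two structure maps on a standard chart. -/
theorem away_chart_compat (hA : RelProj.IsRelProj 𝒜 pA chartA) (hB : RelProj.IsRelProj ℬ pB chartB)
    (U : Y.Opens) (hU : IsAffineOpen U) {d : ℕ}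
    (hd : 0 < d) (f : 𝒜.presheaf.obj (op U)) (hf : f ∈ 𝒜.deg U hU d) :
    Spec.map (CommRingCat.ofHom (Away.map (psi φ hφ U hU) f)) ≫
        Proj.awayι (𝒜.deg U hU) f hf hd ≫ RelProj.emb pA chartA U hU ≫ pA =
      stdChart φ hφ pB chartB U hU hd f hf ≫ pB := by
  rw [stdChart_comp_p φ hφ hB, awayι_emb_comp_p hA U hU hd f hf]
  simp only [← Spec.map_comp_assoc]
  congr 2
  rw [← strZero_comp_zeroHom_psi φ hφ U hU]
  simp only [Category.assoc, ← CommRingCat.ofHom_comp]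
  rw [away_map_comp_fromZeroRingHom]

/-- Index of the standard charts of `G(φ)` (and of `Proj 𝒜`). -/
structure StdIdx (𝒜 : RelProj.QCGrAlg Y) where
  U : Y.Opens
  hU : IsAffineOpen U
  d : ℕ
  hd : 0 < d
  f : 𝒜.presheaf.obj (op U)
  hf : f ∈ 𝒜.deg U hU d

/-- The standard chart, lifted into `G(φ)`. -/
noncomputable def liftChart (pB : PB ⟶ Y)
    (chartB : ∀ (U : Y.Opens) (hU : IsAffineOpen U), (((pB ⁻¹ᵁ U : PB.Opens) : Scheme.{u}) ≅ Proj (ℬ.deg U hU)))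
    (i : StdIdx 𝒜) :
    Spec (CommRingCat.of (Away (ℬ.deg i.U i.hU) (psi φ hφ i.U i.hU i.f))) ⟶
      ((RelProj.domQ (RelProj.QGrHom.ofHom φ hφ) pB chartB : PB.Opens) : Scheme.{u}) :=
  IsOpenImmersion.lift (RelProj.domQ (RelProj.QGrHom.ofHom φ hφ) pB chartB).ι
    (stdChart φ hφ pB chartB i.U i.hU i.hd i.f i.hf)
    (RelProj.range_awayEmb_subset_domQ _ pB chartB i.U i.hU i.U i.hU le_rfl i.hd i.f i.hf)

@[reassoc]
theorem liftChart_ι (i : StdIdx 𝒜) :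
    liftChart φ hφ pB chartB i ≫ (RelProj.domQ (RelProj.QGrHom.ofHom φ hφ) pB chartB).ι =
      stdChart φ hφ pB chartB i.U i.hU i.hd i.f i.hf :=
  IsOpenImmersion.lift_fac _ _ _

instance isOpenImmersion_stdChart (U : Y.Opens) (hU : IsAffineOpen U) {d : ℕ} (hd : 0 < d)
    (f : 𝒜.presheaf.obj (op U)) (hf : f ∈ 𝒜.deg U hU d) :
    IsOpenImmersion (stdChart φ hφ pB chartB U hU hd f hf) := by
  unfold stdChart RelProj.awayEmb
  infer_instance

instance isOpenImmersion_liftChart (i : StdIdx 𝒜) : IsOpenImmersion (liftChart φ hφ pB chartB i) := by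
  have : IsOpenImmersion (liftChart φ hφ pB chartB i ≫
      (RelProj.domQ (RelProj.QGrHom.ofHom φ hφ) pB chartB).ι) := by
    rw [liftChart_ι]; infer_instance
  exact IsOpenImmersion.of_comp _ (RelProj.domQ (RelProj.QGrHom.ofHom φ hφ) pB chartB).ι

theorem liftChart_apply (i : StdIdx 𝒜) (w : Spec (CommRingCat.of (Away (ℬ.deg i.U i.hU) (psi φ hφ i.U i.hU i.f)))) :
    ((liftChart φ hφ pB chartB i).base w).1 =
      (RelProj.emb pB chartB i.U i.hU).base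
        ((Proj.awayι (ℬ.deg i.U i.hU) (psi φ hφ i.U i.hU i.f)
          (Graded.map_mem (psi φ hφ i.U i.hU) i.hf) i.hd).base w) := by
  have := congrArg (fun m => m.base w) (liftChart_ι φ hφ (pB := pB) (chartB := chartB) i)
  exact this

/-- A point of `G(φ)` that is the image of a point of `D₊(φ f)` lies in the standard chart at `f`. -/
theorem exists_liftChart_eq_of_mem (i : StdIdx 𝒜)
    (x : ((RelProj.domQ (RelProj.QGrHom.ofHom φ hφ) pB chartB : PB.Opens) : Scheme.{u}))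
    (z : Proj (ℬ.deg i.U i.hU)) (hz : z ∈ Proj.basicOpen (ℬ.deg i.U i.hU) (psi φ hφ i.U i.hU i.f))
    (hzx : (RelProj.emb pB chartB i.U i.hU).base z = x.1) :
    ∃ w, (liftChart φ hφ pB chartB i).base w = x := by
  rw [← Proj.opensRange_awayι _ _ (Graded.map_mem (psi φ hφ i.U i.hU) i.hf) i.hd] at hz
  obtain ⟨w, rfl⟩ := hz
  refine ⟨w, Subtype.ext ?_⟩
  rw [liftChart_apply, ← hzx]

/-- Every point of `G(φ)` over the affine open `U` lies in a standard chart over `U`. -/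
theorem exists_liftChart_eq (hB : RelProj.IsRelProj ℬ pB chartB)
    (x : ((RelProj.domQ (RelProj.QGrHom.ofHom φ hφ) pB chartB : PB.Opens) : Scheme.{u}))
    (U : Y.Opens) (hU : IsAffineOpen U) (hxU : pB.base x.1 ∈ U) :
    ∃ (d : ℕ) (hd : 0 < d) (f : 𝒜.presheaf.obj (op U)) (hf : f ∈ 𝒜.deg U hU d) (w : _),
      (liftChart φ hφ pB chartB ⟨U, hU, d, hd, f, hf⟩).base w = x := by
  have hx : x.1 ∈ RelProj.domQ (RelProj.QGrHom.ofHom φ hφ) pB chartB ⊓ pB ⁻¹ᵁ U := ⟨x.2, hxU⟩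
  rw [domQ_inf_preimage φ hφ hB U hU] at hx
  obtain ⟨z, hz, hzx⟩ := hx
  rw [← psi_eq] at hz
  obtain ⟨d, hd, f, hf, hzf⟩ := exists_mem_basicOpen_of_mem_domOpen (psi φ hφ U hU) z hz
  obtain ⟨w, hw⟩ := exists_liftChart_eq_of_mem φ hφ ⟨U, hU, d, hd, f, hf⟩ x z hzf hzx
  exact ⟨d, hd, f, hf, w, hw⟩

theorem exists_affineOpen_mem (y : Y) : ∃ (U : Y.Opens) (_ : IsAffineOpen U), y ∈ U := by
  obtain ⟨U, hU, hyU, -⟩ := Opens.isBasis_iff_nbhd.mp Y.isBasis_affineOpens (Opens.mem_top y)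
  exact ⟨U, hU, hyU⟩

/-- The standard charts cover `G(φ)`. -/
noncomputable def stdCover (hB : RelProj.IsRelProj ℬ pB chartB) :
    Scheme.OpenCover.{u} ((RelProj.domQ (RelProj.QGrHom.ofHom φ hφ) pB chartB : PB.Opens) : Scheme.{u}) :=
  Scheme.Cover.mkOfCovers (StdIdx 𝒜) _ (liftChart φ hφ pB chartB) (by
    intro x
    obtain ⟨U, hU, hxU⟩ := exists_affineOpen_mem (pB.base x.1)
    obtain ⟨d, hd, f, hf, w, hw⟩ := exists_liftChart_eq φ hφ hB x U hU hxU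
    exact ⟨⟨U, hU, d, hd, f, hf⟩, w, hw⟩)

section

variable {r : ((RelProj.domQ (RelProj.QGrHom.ofHom φ hφ) pB chartB : PB.Opens) : Scheme.{u}) ⟶ PA}
  (hr : RelProj.IsProjQMapOn (RelProj.QGrHom.ofHom φ hφ) pA chartA pB chartB
      (RelProj.domQ (RelProj.QGrHom.ofHom φ hφ) pB chartB) r)

include hr in
theorem liftChart_comp (i : StdIdx 𝒜) :
    liftChart φ hφ pB chartB i ≫ r =
      Spec.map (CommRingCat.ofHom (Away.map (psi φ hφ i.U i.hU) i.f)) ≫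
        Proj.awayι (𝒜.deg i.U i.hU) i.f i.hf i.hd ≫ RelProj.emb pA chartA i.U i.hU :=
  hr i.U i.hU i.U i.hU le_rfl i.d i.hd i.f i.hf _

include hr in
/-- `Proj(φ) : G(φ) ⟶ Proj 𝒜` is a morphism over the base. -/
theorem projQMapOn_comp_p (hA : RelProj.IsRelProj 𝒜 pA chartA) (hB : RelProj.IsRelProj ℬ pB chartB) :
    r ≫ pA = (RelProj.domQ (RelProj.QGrHom.ofHom φ hφ) pB chartB).ι ≫ pB := by
  apply (stdCover φ hφ hB).hom_ext
  intro i
  change liftChart φ hφ pB chartB i ≫ r ≫ pA = liftChart φ hφ pB chartB i ≫ _ ≫ pB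
  rw [← Category.assoc, liftChart_comp φ hφ hr i, Category.assoc, Category.assoc,
    away_chart_compat φ hφ hA hB, liftChart_ι_assoc]

/-- The standard chart of `Proj 𝒜` at the index `i`. -/
noncomputable abbrev tgtChart (pA : PA ⟶ Y)
    (chartA : ∀ (U : Y.Opens) (hU : IsAffineOpen U), (((pA ⁻¹ᵁ U : PA.Opens) : Scheme.{u}) ≅ Proj (𝒜.deg U hU)))
    (i : StdIdx 𝒜) : Spec (CommRingCat.of (Away (𝒜.deg i.U i.hU) i.f)) ⟶ PA :=
  Proj.awayι (𝒜.deg i.U i.hU) i.f i.hf i.hd ≫ RelProj.emb pA chartA i.U i.hU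

theorem iSup_opensRange_tgtChart :
    (⨆ i : StdIdx 𝒜, (tgtChart pA chartA i).opensRange) = ⊤ := by
  rw [eq_top_iff]
  intro x _
  obtain ⟨U, hU, hxU⟩ := exists_affineOpen_mem (pA.base x)
  have hx : x ∈ pA ⁻¹ᵁ U := hxU
  rw [← opensRange_emb 𝒜 pA chartA U hU] at hx
  obtain ⟨z, rfl⟩ := hx
  have hz : z ∈ (⨆ s : (Σ i : ℕ+, 𝒜.deg U hU i), Proj.basicOpen (𝒜.deg U hU) (s.2 : _)) := by
    rw [iSup_basicOpen_sigma_eq_top]; trivial
  obtain ⟨s, hs⟩ := Opens.mem_iSup.mp hz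
  rw [← Proj.opensRange_awayι _ _ s.2.2 s.1.2] at hs
  obtain ⟨w, rfl⟩ := hs
  exact Opens.mem_iSup.mpr ⟨⟨U, hU, s.1, s.1.2, s.2, s.2.2⟩, w, rfl⟩

include hr in
theorem opensRange_liftChart (hA : RelProj.IsRelProj 𝒜 pA chartA) (hB : RelProj.IsRelProj ℬ pB chartB)
    (i : StdIdx 𝒜) :
    (liftChart φ hφ pB chartB i).opensRange = r ⁻¹ᵁ (tgtChart pA chartA i).opensRange := by
  ext x
  constructor
  · rintro ⟨w, rfl⟩
    have := congrArg (fun m => m.base w) (liftChart_comp φ hφ hr i)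
    exact ⟨_, this.symm⟩
  · rintro ⟨v, hv⟩
    -- `x` lies over `i.U`
    have h1 : (RelProj.emb pA chartA i.U i.hU).base
        ((Proj.awayι (𝒜.deg i.U i.hU) i.f i.hf i.hd).base v) ∈ pA ⁻¹ᵁ i.U := by
      rw [← opensRange_emb 𝒜 pA chartA i.U i.hU]
      exact ⟨_, rfl⟩
    have h2 : pB.base x.1 ∈ i.U := by
      have e := congrArg (fun m => m.base x) (projQMapOn_comp_p φ hφ hr hA hB)
      have e' : pA.base (r.base x) = pB.base x.1 := e
      rw [← e', ← hv]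
      exact h1
    obtain ⟨d₂, hd₂, f₂, hf₂, w, hw⟩ := exists_liftChart_eq φ hφ hB x i.U i.hU h2
    have h3 := congrArg (fun m => m.base w) (liftChart_comp φ hφ hr ⟨i.U, i.hU, d₂, hd₂, f₂, hf₂⟩)
    have h3' : r.base ((liftChart φ hφ pB chartB ⟨i.U, i.hU, d₂, hd₂, f₂, hf₂⟩).base w) =
        (RelProj.emb pA chartA i.U i.hU).base ((Proj.awayι (𝒜.deg i.U i.hU) f₂ hf₂ hd₂).base
          ((Spec.map (CommRingCat.ofHom (Away.map (psi φ hφ i.U i.hU) f₂))).base w)) := h3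
    rw [hw, ← hv] at h3'
    have h4 : (Proj.awayι (𝒜.deg i.U i.hU) i.f i.hf i.hd).base v =
        (Proj.awayι (𝒜.deg i.U i.hU) f₂ hf₂ hd₂).base
          ((Spec.map (CommRingCat.ofHom (Away.map (psi φ hφ i.U i.hU) f₂))).base w) :=
      (RelProj.emb pA chartA i.U i.hU).isOpenEmbedding.injective h3'
    have h5 : (Proj.awayι (𝒜.deg i.U i.hU) f₂ hf₂ hd₂).base
          ((Spec.map (CommRingCat.ofHom (Away.map (psi φ hφ i.U i.hU) f₂))).base w) ∈
        Proj.basicOpen (𝒜.deg i.U i.hU) i.f := by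
      rw [← h4, ← Proj.opensRange_awayι _ _ i.hf i.hd]
      exact ⟨v, rfl⟩
    rw [awayι_mem_basicOpen_iff (psi φ hφ i.U i.hU) hd₂ i.hd hf₂ i.hf w] at h5
    refine exists_liftChart_eq_of_mem φ hφ i x _ h5 ?_
    rw [← hw]
    exact (liftChart_apply φ hφ ⟨i.U, i.hU, d₂, hd₂, f₂, hf₂⟩ w).symm

include hr in
/-- A Zariski-local-at-the-target property holds for `Proj(φ) : G(φ) ⟶ Proj 𝒜` iff it holds for all
the maps `Spec ℬ(U)_(φ f) ⟶ Spec 𝒜(U)_(f)`. -/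
theorem projQMapOn_iff (P : MorphismProperty Scheme.{u}) [IsZariskiLocalAtTarget P]
    (hA : RelProj.IsRelProj 𝒜 pA chartA) (hB : RelProj.IsRelProj ℬ pB chartB) :
    P r ↔ ∀ i : StdIdx 𝒜, P (Spec.map (CommRingCat.ofHom (Away.map (psi φ hφ i.U i.hU) i.f))) :=
  iff_of_charts P r (fun i : StdIdx 𝒜 => (tgtChart pA chartA i).opensRange)
    iSup_opensRange_tgtChart (liftChart φ hφ pB chartB) (tgtChart pA chartA)
    (opensRange_liftChart φ hφ hr hA hB) (fun _ => rfl)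
    (fun i => Spec.map (CommRingCat.ofHom (Away.map (psi φ hφ i.U i.hU) i.f)))
    (liftChart_comp φ hφ hr)

end

end

end Groth.Agent.Lib.Helper42
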