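import Groth.Agent.Lib.Helper42.OpensGlue

/-!
# The locally directed family of opens attached to `X ⟶ S' ⟶ S`, indexed by affine pairs

For `p' : X ⟶ S'` and `q : S' ⟶ S`, the opens `p'⁻¹(U')` for the affine pairs `(U, U')`
(`U ⊆ S` affine, `U' ⊆ q⁻¹(U)` affine), ordered by "basic open of" in both components.
-/

set_option autoImplicit false
universe u

open CategoryTheory CategoryTheory.Limits AlgebraicGeometry TopologicalSpace Opposite

namespace Groth.Agent.Lib.Helper42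

/-- An affine pair for `q : S' ⟶ S`. -/
structure AffPair {S S' : Scheme.{u}} (q : S' ⟶ S) where
  /-- the affine open of the target -/
  U : S.Opens
  hU : IsAffineOpen U
  /-- the affine open of the source -/
  U' : S'.Opens
  hU' : IsAffineOpen U'
  hle : U' ≤ q ⁻¹ᵁ U

namespace AffPair

variable {S S' : Scheme.{u}} {q : S' ⟶ S}

instance : Preorder (AffPair q) where
  le V₁ V := (∃ a : Γ(S, V.U), V₁.U = S.basicOpen a) ∧ (∃ b : Γ(S', V.U'), V₁.U' = S'.basicOpen b)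
  le_refl V := ⟨⟨1, by simp⟩, ⟨1, by simp⟩⟩
  le_trans := by
    rintro ⟨W, hW, W', hW', hWle⟩ ⟨V, hV, V', hV', hVle⟩ ⟨U, hU, U', hU', hUle⟩
      ⟨⟨s, hs⟩, ⟨s', hs'⟩⟩ ⟨⟨r, hr⟩, ⟨r', hr'⟩⟩
    dsimp only at s hs s' hs' r hr r' hr' ⊢
    subst hr hr'
    obtain ⟨f, hf⟩ := hU.basicOpen_basicOpen_is_basicOpen r s
    obtain ⟨f', hf'⟩ := hU'.basicOpen_basicOpen_is_basicOpen r' s'
    exact ⟨⟨f, hs.trans hf.symm⟩, ⟨f', hs'.trans hf'.symm⟩⟩

theorem le_U {V₁ V : AffPair q} (h : V₁ ≤ V) : V₁.U ≤ V.U := by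
  obtain ⟨⟨r, hr⟩, -⟩ := h
  rw [hr]
  exact S.basicOpen_le r

theorem le_U' {V₁ V : AffPair q} (h : V₁ ≤ V) : V₁.U' ≤ V.U' := by
  obtain ⟨-, ⟨r, hr⟩⟩ := h
  rw [hr]
  exact S'.basicOpen_le r

end AffPair

variable {X S S' : Scheme.{u}} (p' : X ⟶ S') (q : S' ⟶ S)

/-- The locally directed family `p'⁻¹(U')`, `(U, U')` an affine pair. -/
noncomputable def pairOpens : DirectedOpens X where
  I := AffPair q
  W V := p' ⁻¹ᵁ V.U'
  mono h := p'.preimage_mono (AffPair.le_U' h)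
  covers x := by
    obtain ⟨U, hU, hyU, -⟩ := (Opens.isBasis_iff_nbhd.mp S.isBasis_affineOpens)
      (show q.base (p'.base x) ∈ (⊤ : S.Opens) from trivial)
    obtain ⟨U', hU', hyU', hle⟩ := (Opens.isBasis_iff_nbhd.mp S'.isBasis_affineOpens)
      (show p'.base x ∈ q ⁻¹ᵁ U from hyU)
    exact ⟨⟨U, hU, U', hU', hle⟩, hyU'⟩
  directed := by
    rintro ⟨U, hU, U', hU', hle⟩ ⟨V, hV, V', hV', hle₂⟩ x hx₁ hx₂
    change p'.base x ∈ U' at hx₁
    change p'.base x ∈ V' at hx₂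
    obtain ⟨a, b, e, hxa⟩ := exists_basicOpen_le_affine_inter hU hV (q.base (p'.base x))
      ⟨hle hx₁, hle₂ hx₂⟩
    -- the corresponding basic opens upstairs
    have hT₁ : S'.basicOpen (q.appLE U U' hle a) = U' ⊓ q ⁻¹ᵁ (S.basicOpen a) :=
      Scheme.basicOpen_appLE q U' U hle a
    have hT₂ : S'.basicOpen (q.appLE V V' hle₂ b) = V' ⊓ q ⁻¹ᵁ (S.basicOpen b) :=
      Scheme.basicOpen_appLE q V' V hle₂ b
    have hxT₁ : p'.base x ∈ S'.basicOpen (q.appLE U U' hle a) := by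
      rw [hT₁]; exact ⟨hx₁, hxa⟩
    have hxT₂ : p'.base x ∈ S'.basicOpen (q.appLE V V' hle₂ b) := by
      rw [hT₂]; exact ⟨hx₂, e ▸ hxa⟩
    obtain ⟨c, d, e', hxc⟩ := exists_basicOpen_le_affine_inter (hU'.basicOpen _) (hV'.basicOpen _)
      (p'.base x) ⟨hxT₁, hxT₂⟩
    obtain ⟨c', hc'⟩ := hU'.basicOpen_basicOpen_is_basicOpen _ c
    obtain ⟨d', hd'⟩ := hV'.basicOpen_basicOpen_is_basicOpen _ d
    have hKle : S'.basicOpen c ≤ q ⁻¹ᵁ (S.basicOpen a) :=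
      ((S'.basicOpen_le c).trans hT₁.le).trans inf_le_right
    refine ⟨⟨S.basicOpen a, hU.basicOpen a, S'.basicOpen c, (hU'.basicOpen _).basicOpen c, hKle⟩,
      ⟨⟨a, rfl⟩, ⟨c', hc'.symm⟩⟩, ⟨⟨b, e⟩, ⟨d', e'.trans hd'.symm⟩⟩, hxc⟩

end Groth.Agent.Lib.Helper42
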