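import Groth.Prelude.Def_RelSpec
import Groth.Agent.Lib.Helper42.PairGlue

/-!
# The morphism of relative spectra induced by a `q`-morphism of quasi-coherent algebras
-/

set_option autoImplicit false
universe u

open CategoryTheory CategoryTheory.Limits AlgebraicGeometry TopologicalSpace Opposite

namespace Groth.Agent.Lib.Helper42

variable {S : Scheme.{u}}

/-- The chart of a relative spectrum as an isomorphism `π⁻¹(U) ≅ Spec A(U)`. -/
noncomputable def specChartIso (A : RelSpec.QCAlg S) (U : S.Opens) (hU : IsAffineOpen U) :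
    ((A.π ⁻¹ᵁ U : A.spec.Opens) : Scheme.{u}) ≅ Spec (A.presheaf.obj (op U)) :=
  IsOpenImmersion.isoOfRangeEq (A.π ⁻¹ᵁ U).ι (A.ι U hU) (by
    have := congrArg (fun V : A.spec.Opens => (V : Set A.spec)) (A.π_preimage U hU)
    simpa using this)

@[reassoc (attr := simp)]
theorem specChartIso_hom_ι (A : RelSpec.QCAlg S) (U : S.Opens) (hU : IsAffineOpen U) :
    (specChartIso A U hU).hom ≫ A.ι U hU = (A.π ⁻¹ᵁ U).ι :=
  IsOpenImmersion.isoOfRangeEq_hom_fac _ _ _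

@[reassoc (attr := simp)]
theorem specChartIso_inv_ι (A : RelSpec.QCAlg S) (U : S.Opens) (hU : IsAffineOpen U) :
    (specChartIso A U hU).inv ≫ (A.π ⁻¹ᵁ U).ι = A.ι U hU :=
  IsOpenImmersion.isoOfRangeEq_inv_fac _ _ _

/-- `ι_res` for a basic open. -/
theorem ι_res_basicOpen (A : RelSpec.QCAlg S) (U : S.Opens) (hU : IsAffineOpen U) (r : Γ(S, U)) :
    Spec.map (A.presheaf.map (homOfLE (S.basicOpen_le r)).op) ≫ A.ι U hU =
      A.ι (S.basicOpen r) (hU.basicOpen r) :=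
  A.ι_res (U := ⟨U, hU⟩) (V := ⟨S.basicOpen r, hU.basicOpen r⟩) (homOfLE ⟨r, rfl⟩)

theorem ι_congr (A : RelSpec.QCAlg S) {U V : S.Opens} (hU : IsAffineOpen U) (hV : IsAffineOpen V)
    (e : V = U) :
    Spec.map (A.presheaf.map (eqToHom (congrArg op e.symm))) ≫ A.ι U hU = A.ι V hV := by
  subst e
  simp

/-- `ι_res` for `V ≤ U` with `V` a basic open of `U`. -/
theorem ι_res_of_eq_basicOpen (A : RelSpec.QCAlg S) {U V : S.Opens} (hU : IsAffineOpen U)
    (hV : IsAffineOpen V) (r : Γ(S, U)) (e : V = S.basicOpen r) (i : V ≤ U) :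
    Spec.map (A.presheaf.map (homOfLE i).op) ≫ A.ι U hU = A.ι V hV := by
  subst e
  exact ι_res_basicOpen A U hU r

section qmap

variable {S' : Scheme.{u}} (q : S' ⟶ S) (B : RelSpec.QCAlg S) (B' : RelSpec.QCAlg S')
  (u : B.presheaf ⟶ q.base _* B'.presheaf)

/-- `B(U) ⟶ B'(U')` for `U' ≤ q⁻¹(U)`. -/
def uLE (U : S.Opens) (U' : S'.Opens) (hle : U' ≤ q ⁻¹ᵁ U) :
    B.presheaf.obj (op U) ⟶ B'.presheaf.obj (op U') :=
  (u.app (op U) : B.presheaf.obj (op U) ⟶ B'.presheaf.obj (op (q ⁻¹ᵁ U))) ≫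
    B'.presheaf.map (homOfLE hle).op

variable {q B B'}

theorem uLE_map {U : S.Opens} {U' U'' : S'.Opens} (hle : U' ≤ q ⁻¹ᵁ U) (i : U'' ≤ U') :
    uLE q B B' u U U' hle ≫ B'.presheaf.map (homOfLE i).op = uLE q B B' u U U'' (i.trans hle) := by
  rw [uLE, uLE, Category.assoc, ← Functor.map_comp]
  rfl

theorem map_uLE {U V : S.Opens} {U' : S'.Opens} (i : V ≤ U) (hle : U' ≤ q ⁻¹ᵁ V) :
    B.presheaf.map (homOfLE i).op ≫ uLE q B B' u V U' hle =
      uLE q B B' u U U' (hle.trans (q.preimage_mono i)) := by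
  rw [uLE, uLE, ← Category.assoc]
  have := u.naturality (homOfLE i).op
  rw [this, Category.assoc]
  change _ ≫ B'.presheaf.map _ ≫ B'.presheaf.map _ = _
  rw [← Functor.map_comp]
  rfl

theorem str_uLE (hu : B.str ≫ u = q.c ≫ (TopCat.Presheaf.pushforward CommRingCat.{u} q.base).map B'.str)
    (U : S.Opens) (U' : S'.Opens) (hle : U' ≤ q ⁻¹ᵁ U) :
    B.str.app (op U) ≫ uLE q B B' u U U' hle = q.appLE U U' hle ≫ B'.str.app (op U') := by
  have h1 := NatTrans.congr_app hu (op U)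
  rw [NatTrans.comp_app, NatTrans.comp_app] at h1
  rw [uLE, ← Category.assoc, h1, Category.assoc]
  change q.app U ≫ B'.str.app (op (q ⁻¹ᵁ U)) ≫ B'.presheaf.map _ = _
  rw [← B'.str.naturality, ← Category.assoc]
  rfl

/-- The local pieces of `Spec(u)`. -/
noncomputable def specQPiece (V : AffPair q) :
    ((B'.π ⁻¹ᵁ V.U' : B'.spec.Opens) : Scheme.{u}) ⟶ B.spec :=
  (specChartIso B' V.U' V.hU').hom ≫ Spec.map (uLE q B B' u V.U V.U' V.hle) ≫ B.ι V.U V.hU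

theorem specQPiece_compat (V₁ V : AffPair q) (h : V₁ ≤ V) :
    B'.spec.homOfLE (B'.π.preimage_mono (AffPair.le_U' h)) ≫ specQPiece u V = specQPiece u V₁ := by
  obtain ⟨⟨a, ha⟩, ⟨b, hb⟩⟩ := h
  have hU := AffPair.le_U (q := q) (V₁ := V₁) (V := V) ⟨⟨a, ha⟩, ⟨b, hb⟩⟩
  have hU' := AffPair.le_U' (q := q) (V₁ := V₁) (V := V) ⟨⟨a, ha⟩, ⟨b, hb⟩⟩
  unfold specQPiece
  have h1 : B'.spec.homOfLE (B'.π.preimage_mono hU') ≫ (specChartIso B' V.U' V.hU').hom =
      (specChartIso B' V₁.U' V₁.hU').hom ≫ Spec.map (B'.presheaf.map (homOfLE hU').op) := by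
    rw [← cancel_mono (B'.ι V.U' V.hU'), Category.assoc, Category.assoc, specChartIso_hom_ι,
      ι_res_of_eq_basicOpen B' V.hU' V₁.hU' b hb hU', specChartIso_hom_ι, Scheme.homOfLE_ι]
  rw [reassoc_of% h1, ← ι_res_of_eq_basicOpen B V.hU V₁.hU a ha hU, ← Spec.map_comp_assoc,
    ← Spec.map_comp_assoc, uLE_map, map_uLE]

/-- Existence and uniqueness of `Spec(u)`. -/
theorem existsUnique_specQMap :
    ∃! v : B'.spec ⟶ B.spec,
      ∀ (U : S.Opens) (hU : IsAffineOpen U) (U' : S'.Opens) (hU' : IsAffineOpen U') (hle : U' ≤ q ⁻¹ᵁ U),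
        B'.ι U' hU' ≫ v = Spec.map (uLE q B B' u U U' hle) ≫ B.ι U hU := by
  obtain ⟨v, hv, hv'⟩ := (pairOpens B'.π q).existsUnique_glue (specQPiece u)
    (fun V₁ V h => specQPiece_compat u V₁ V h)
  refine ⟨v, ?_, ?_⟩
  · intro U hU U' hU' hle
    have := hv ⟨U, hU, U', hU', hle⟩
    change (B'.π ⁻¹ᵁ U').ι ≫ v = specQPiece u ⟨U, hU, U', hU', hle⟩ at this
    rw [← specChartIso_inv_ι, Category.assoc, this]
    unfold specQPiece
    rw [Iso.inv_hom_id_assoc]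
  · intro v' hv''
    apply hv'
    intro V
    change (B'.π ⁻¹ᵁ V.U').ι ≫ v' = specQPiece u V
    rw [← specChartIso_hom_ι, Category.assoc, hv'' V.U V.hU V.U' V.hU' V.hle]
    rfl

/-- `Spec(u)` lies over `q`. -/
theorem specQMap_comp_π
    (hu : B.str ≫ u = q.c ≫ (TopCat.Presheaf.pushforward CommRingCat.{u} q.base).map B'.str)
    (v : B'.spec ⟶ B.spec)
    (hv : ∀ (U : S.Opens) (hU : IsAffineOpen U) (U' : S'.Opens) (hU' : IsAffineOpen U') (hle : U' ≤ q ⁻¹ᵁ U),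
        B'.ι U' hU' ≫ v = Spec.map (uLE q B B' u U U' hle) ≫ B.ι U hU) :
    v ≫ B.π = B'.π ≫ q := by
  apply (pairOpens B'.π q).hom_ext
  intro V
  obtain ⟨U, hU, U', hU', hle⟩ := V
  change (B'.π ⁻¹ᵁ U').ι ≫ v ≫ B.π = (B'.π ⁻¹ᵁ U').ι ≫ B'.π ≫ q
  rw [← specChartIso_hom_ι B' U' hU', Category.assoc, Category.assoc, reassoc_of% (hv U hU U' hU' hle),
    B.ι_π U hU, reassoc_of% (B'.ι_π U' hU'), ← Spec.map_comp_assoc, str_uLE u hu, Spec.map_comp_assoc,
    IsAffineOpen.SpecMap_appLE_fromSpec q hU hU' hle]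

end qmap

end Groth.Agent.Lib.Helper42
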