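import Groth.Prelude.Def_RelProj4
import Groth.Agent.Lib.Helper42.PolyGraded
import Groth.Agent.Lib.Helper42.ProjQMapOn
import Groth.Agent.Lib.Helper42.RelSpecMap

/-!
# The canonical immersion of the affine cone into the projective cone: the chart homomorphism
`𝒮h(U)_(z) → 𝒮(U)` is bijective
-/

set_option autoImplicit false
universe u

open CategoryTheory CategoryTheory.Limits AlgebraicGeometry TopologicalSpace Opposite
open HomogeneousLocalization Polynomial
open scoped HomogeneousIdeal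

namespace Groth.Agent.Lib.Helper42

variable {Y : Scheme.{u}} {𝒮 𝒮h : RelProj.QCGrAlg Y} {ι : 𝒮.toQCAlg ⟶ 𝒮h.toQCAlg}
  {z : 𝒮h.presheaf.obj (op ⊤)} (h : RelCone.IsPolyOver 𝒮 𝒮h ι z) (U : Y.Opens) (hU : IsAffineOpen U)

theorem evalOne_apply (F : 𝒮h.presheaf.obj (op U)) :
    h.evalOne U hU F = eval 1 ((h.polyEquiv U hU).symm F) := rfl

theorem awayZToBase_mk (k : ℕ) (x : 𝒮h.presheaf.obj (op U)) (hx : x ∈ 𝒮h.deg U hU (k • 1)) :
    h.awayZToBase U hU (Away.mk (𝒮h.deg U hU) (h.deg_z U hU) k x hx) = h.evalOne U hU x :=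
  h.awayZToBase_of_val U hU _ x k (Away.val_mk _ _ _ _ _)

theorem polyGraded_inj :
    Function.Injective (eval₂RingHom
      ((RelProj.gradedHomAt ι h.graded U hU : 𝒮.deg U hU →+*ᵍ 𝒮h.deg U hU) :
        𝒮.presheaf.obj (op U) →+* 𝒮h.presheaf.obj (op U)) (RelCone.restrictTop 𝒮h z U)) :=
  (h.bij U hU).1

theorem awayZToBase_injective : Function.Injective (h.awayZToBase U hU) := by
  rw [injective_iff_map_eq_zero]
  intro q hq
  obtain ⟨k, F, hF, rfl⟩ := Away.mk_surjective (𝒮h.deg U hU) (h.deg_z U hU) q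
  rw [awayZToBase_mk, evalOne_apply] at hq
  have hF' : F ∈ 𝒮h.deg U hU k := by
    rwa [smul_eq_mul, mul_one] at hF
  have hp : eval₂ ((RelProj.gradedHomAt ι h.graded U hU : 𝒮.deg U hU →+*ᵍ 𝒮h.deg U hU) :
      𝒮.presheaf.obj (op U) →+* 𝒮h.presheaf.obj (op U)) (RelCone.restrictTop 𝒮h z U)
      ((h.polyEquiv U hU).symm F) ∈ 𝒮h.deg U hU k := by
    have : eval₂ (ι.hom.app (op U)).hom (RelCone.restrictTop 𝒮h z U)
        ((h.polyEquiv U hU).symm F) = F := by
      rw [← h.polyEquiv_apply U hU, RingEquiv.apply_symm_apply]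
    have h2 : eval₂ ((RelProj.gradedHomAt ι h.graded U hU : 𝒮.deg U hU →+*ᵍ 𝒮h.deg U hU) :
      𝒮.presheaf.obj (op U) →+* 𝒮h.presheaf.obj (op U)) (RelCone.restrictTop 𝒮h z U)
      ((h.polyEquiv U hU).symm F) = F := this
    rw [h2]
    exact hF'
  have h0 := eq_zero_of_eval_one_eq_zero (RelProj.gradedHomAt ι h.graded U hU)
    (RelCone.restrictTop 𝒮h z U) (h.deg_z U hU) (polyGraded_inj h U hU) k _ hp hq
  have hF0 : F = 0 := by
    have := congrArg (h.polyEquiv U hU) h0
    rwa [RingEquiv.apply_symm_apply, map_zero] at this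
  subst hF0
  ext
  rw [Away.val_mk, HomogeneousLocalization.val_zero, Localization.mk_zero]

theorem awayZToBase_surjective : Function.Surjective (h.awayZToBase U hU) := by
  classical
  intro a
  have hmem : ∀ j : ℕ, (ι.hom.app (op U)).hom (DirectSum.decompose (𝒮.deg U hU) a j : 𝒮.presheaf.obj (op U)) ∈
      𝒮h.deg U hU (j • 1) := by
    intro j
    rw [smul_eq_mul, mul_one]
    exact h.graded U hU j _ (SetLike.coe_mem _)
  refine ⟨∑ j ∈ (DirectSum.decompose (𝒮.deg U hU) a).support,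
    Away.mk (𝒮h.deg U hU) (h.deg_z U hU) j _ (hmem j), ?_⟩
  rw [map_sum]
  conv_rhs => rw [← DirectSum.sum_support_decompose (𝒮.deg U hU) a]
  refine Finset.sum_congr rfl fun j _ => ?_
  rw [awayZToBase_mk, h.evalOne_ι]

theorem awayZToBase_bijective : Function.Bijective (h.awayZToBase U hU) :=
  ⟨awayZToBase_injective h U hU, awayZToBase_surjective h U hU⟩

/-- Two morphisms out of a relative spectrum agreeing on all charts are equal. -/
theorem spec_hom_ext (A : RelSpec.QCAlg Y) {Z : Scheme.{u}} (f f' : A.spec ⟶ Z)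
    (H : ∀ (U : Y.Opens) (hU : IsAffineOpen U), A.ι U hU ≫ f = A.ι U hU ≫ f') : f = f' := by
  apply hom_ext_of_affine A.π
  intro U hU
  rw [← specChartIso_hom_ι A U hU, Category.assoc, Category.assoc, H U hU]

theorem awayZToBase_fromZero (r : Γ(Y, U)) :
    h.awayZToBase U hU (fromZeroRingHom (𝒮h.deg U hU) (Submonoid.powers (RelCone.restrictTop 𝒮h z U))
      ((𝒮h.strZero U hU).hom r)) = (𝒮.str.app (op U)).hom r := by
  have hq : (fromZeroRingHom (𝒮h.deg U hU) (Submonoid.powers (RelCone.restrictTop 𝒮h z U))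
      ((𝒮h.strZero U hU).hom r)).val =
      Localization.mk ((𝒮h.str.app (op U)).hom r)
        ⟨RelCone.restrictTop 𝒮h z U ^ 0, pow_mem (Submonoid.mem_powers _) 0⟩ := by
    unfold fromZeroRingHom
    change Localization.mk _ _ = _
    congr 1
    exact Subtype.ext (pow_zero _).symm
  rw [h.awayZToBase_of_val U hU _ _ 0 hq]
  have hc := congrArg (fun ψ => ψ.hom r) (NatTrans.congr_app ι.comm (op U))
  have hc' : (ι.hom.app (op U)).hom ((𝒮.str.app (op U)).hom r) = (𝒮h.str.app (op U)).hom r := hc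
  rw [← hc', h.evalOne_ι]

theorem strZero_fromZero_awayZToBase :
    𝒮h.strZero U hU ≫ CommRingCat.ofHom (fromZeroRingHom (𝒮h.deg U hU)
      (Submonoid.powers (RelCone.restrictTop 𝒮h z U))) ≫ CommRingCat.ofHom (h.awayZToBase U hU) =
      𝒮.str.app (op U) := by
  ext r
  exact awayZToBase_fromZero h U hU r

section

variable {PC : Scheme.{u}} {pC : PC ⟶ Y}
  {chartC : ∀ (U : Y.Opens) (hU : IsAffineOpen U), (((pC ⁻¹ᵁ U : PC.Opens) : Scheme.{u}) ≅ Proj (𝒮h.deg U hU))}
  (hPC : RelProj.IsRelProj 𝒮h pC chartC)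
  {i : 𝒮.toQCAlg.spec ⟶ PC} (hi : RelCone.IsConeImm 𝒮 h pC chartC i)

include hPC hi in
/-- The canonical immersion of the affine cone into the projective cone lies over the base. -/
theorem coneImm_comp_p : i ≫ pC = 𝒮.toQCAlg.π := by
  apply spec_hom_ext
  intro U hU
  rw [reassoc_of% (hi U hU), awayι_emb_comp_p hPC U hU one_pos _ (h.deg_z U hU), 𝒮.toQCAlg.ι_π U hU]
  simp only [← Spec.map_comp_assoc]
  congr 2
  simp only [Category.assoc]
  exact strZero_fromZero_awayZToBase h U hU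

end

end Groth.Agent.Lib.Helper42
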