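import Groth.Agent.Lib.Helper42.ConeVertex
import Groth.Agent.Lib.Helper42.RelProjMap

/-!
# The locus at infinity of the projective cone
-/

set_option autoImplicit false
universe u

open CategoryTheory CategoryTheory.Limits AlgebraicGeometry TopologicalSpace Opposite
open HomogeneousLocalization Polynomial
open scoped HomogeneousIdeal

namespace Groth.Agent.Lib.Helper42

variable {Y : Scheme.{u}} {𝒮 𝒮h : RelProj.QCGrAlg Y} {ι : 𝒮.toQCAlg ⟶ 𝒮h.toQCAlg}
  {z : 𝒮h.presheaf.obj (op ⊤)} (h : RelCone.IsPolyOver 𝒮 𝒮h ι z)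
  (θ : 𝒮h.toQCAlg ⟶ 𝒮.toQCAlg) (hιθ : ι ≫ θ = 𝟙 _) (hθz : (θ.hom.app (op ⊤)).hom z = 0)

include hιθ in
theorem θ_ι_apply (U : Y.Opens) (a : 𝒮.presheaf.obj (op U)) :
    (θ.hom.app (op U)).hom ((ι.hom.app (op U)).hom a) = a := by
  have h1 := congrArg (fun φ : 𝒮.toQCAlg ⟶ 𝒮.toQCAlg => (φ.hom.app (op U)).hom a) hιθ
  exact h1

include hθz in
theorem θ_z (U : Y.Opens) : (θ.hom.app (op U)).hom (RelCone.restrictTop 𝒮h z U) = 0 := by
  have h1 := congrArg (fun φ => φ.hom z) (θ.hom.naturality (homOfLE (le_top : U ≤ ⊤)).op)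
  have h2 : (θ.hom.app (op U)).hom ((𝒮h.presheaf.map (homOfLE (le_top : U ≤ ⊤)).op).hom z) =
      (𝒮.presheaf.map (homOfLE (le_top : U ≤ ⊤)).op).hom ((θ.hom.app (op ⊤)).hom z) := h1
  unfold RelCone.restrictTop
  rw [h2, hθz, map_zero]

include h hιθ hθz in
/-- `G - ι(θ G)` is a multiple of `z`. -/
theorem exists_sub_eq_z_mul (U : Y.Opens) (hU : IsAffineOpen U) (G : 𝒮h.presheaf.obj (op U)) :
    ∃ G' : 𝒮h.presheaf.obj (op U),
      G - (ι.hom.app (op U)).hom ((θ.hom.app (op U)).hom G) = RelCone.restrictTop 𝒮h z U * G' := by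
  set G'' := G - (ι.hom.app (op U)).hom ((θ.hom.app (op U)).hom G) with hG''
  have hθG : (θ.hom.app (op U)).hom G'' = 0 := by
    rw [hG'', map_sub, θ_ι_apply θ hιθ, sub_self]
  set p := (h.polyEquiv U hU).symm G'' with hp
  have hpG : eval₂ (ι.hom.app (op U)).hom (RelCone.restrictTop 𝒮h z U) p = G'' := by
    rw [← h.polyEquiv_apply U hU, hp, RingEquiv.apply_symm_apply]
  have hc0 : p.coeff 0 = 0 := by
    have h1 := congrArg (θ.hom.app (op U)).hom hpG
    rw [hθG, hom_eval₂, θ_z θ hθz, eval₂_at_zero] at h1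
    have h2 : ((θ.hom.app (op U)).hom.comp (ι.hom.app (op U)).hom) (p.coeff 0) = p.coeff 0 :=
      θ_ι_apply θ hιθ U _
    rw [h2] at h1
    exact h1
  obtain ⟨q, hq⟩ := X_dvd_iff.mpr hc0
  refine ⟨eval₂ (ι.hom.app (op U)).hom (RelCone.restrictTop 𝒮h z U) q, ?_⟩
  rw [← hpG, hq, eval₂_mul, eval₂_X]

variable (hθ : RelProj.IsGradedHom θ)
  (hirr : ∀ (U : Y.Opens) (hU : IsAffineOpen U),
      (𝒮.deg U hU)₊ ≤ ((𝒮h.deg U hU)₊).map (RelProj.gradedHomAt θ hθ U hU))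

include h hιθ hθz in
/-- The image of `Proj 𝒮(U) ⟶ Proj 𝒮h(U)` is `V₊(z)`. -/
theorem mem_range_projMap_θ_iff (U : Y.Opens) (hU : IsAffineOpen U) (w : Proj (𝒮h.deg U hU)) :
    w ∈ Set.range (Proj.map (RelProj.gradedHomAt θ hθ U hU) (hirr U hU)).base ↔
      RelCone.restrictTop 𝒮h z U ∈ w.asHomogeneousIdeal := by
  constructor
  · rintro ⟨v, rfl⟩
    change (RelProj.gradedHomAt θ hθ U hU) (RelCone.restrictTop 𝒮h z U) ∈ v.asHomogeneousIdeal
    have : (RelProj.gradedHomAt θ hθ U hU) (RelCone.restrictTop 𝒮h z U) = 0 := θ_z θ hθz U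
    rw [this]
    exact zero_mem _
  · intro hz
    -- `w ∈ domOpen`, since `z ∈ w`
    have hdom : w ∈ RelCone.domOpen (RelProj.gradedHomAt ι h.graded U hU) := by
      by_contra hw
      exact (ProjectiveSpectrum.mem_basicOpen _ _ _).mp (z_not_mem_of_not_mem_domOpen h U hU w hw) hz
    obtain ⟨f, hf, hfw⟩ := (RelCone.mem_domOpen _ _).mp hdom
    let v : ProjectiveSpectrum (𝒮.deg U hU) :=
      { asHomogeneousIdeal := w.asHomogeneousIdeal.comap (RelProj.gradedHomAt ι h.graded U hU)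
        isPrime := w.isPrime.comap _
        not_irrelevant_le := fun hle => hfw (hle hf) }
    refine ⟨v, ?_⟩
    apply ProjectiveSpectrum.ext
    apply HomogeneousIdeal.ext'
    intro _ G _
    obtain ⟨G', hG'⟩ := exists_sub_eq_z_mul h θ hιθ hθz U hU G
    have hmem : G - (RelProj.gradedHomAt ι h.graded U hU) ((RelProj.gradedHomAt θ hθ U hU) G) ∈
        w.asHomogeneousIdeal.toIdeal := by
      have e : G - (RelProj.gradedHomAt ι h.graded U hU) ((RelProj.gradedHomAt θ hθ U hU) G) =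
          RelCone.restrictTop 𝒮h z U * G' := hG'
      rw [e]
      exact Ideal.mul_mem_right _ _ hz
    change (RelProj.gradedHomAt ι h.graded U hU) ((RelProj.gradedHomAt θ hθ U hU) G) ∈
      w.asHomogeneousIdeal.toIdeal ↔ G ∈ w.asHomogeneousIdeal.toIdeal
    constructor
    · intro h1
      have := Ideal.add_mem _ hmem h1
      rwa [sub_add_cancel] at this
    · intro h1
      have := Ideal.sub_mem _ h1 hmem
      rwa [sub_sub_cancel] at this

section relprojmap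

variable {PA PB : Scheme.{u}} {𝒜 ℬ : RelProj.QCGrAlg Y}
  (φ : 𝒜.toQCAlg ⟶ ℬ.toQCAlg) (hφ : RelProj.IsGradedHom φ)
  (hirr' : ∀ (U : Y.Opens) (hU : IsAffineOpen U),
    (ℬ.deg U hU)₊ ≤ ((𝒜.deg U hU)₊).map (RelProj.gradedHomAt φ hφ U hU))
  {pA : PA ⟶ Y} {pB : PB ⟶ Y}
  {chartA : ∀ (U : Y.Opens) (hU : IsAffineOpen U), (((pA ⁻¹ᵁ U : PA.Opens) : Scheme.{u}) ≅ Proj (𝒜.deg U hU))}
  {chartB : ∀ (U : Y.Opens) (hU : IsAffineOpen U), (((pB ⁻¹ᵁ U : PB.Opens) : Scheme.{u}) ≅ Proj (ℬ.deg U hU))}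
  (hA : RelProj.IsRelProj 𝒜 pA chartA) (hB : RelProj.IsRelProj ℬ pB chartB)
  (g : PB ⟶ PA) (hg : RelProj.IsRelProjMap φ hφ hirr' chartA chartB g)

include hg in
theorem emb_comp_relProjMap (U : Y.Opens) (hU : IsAffineOpen U) :
    RelProj.emb pB chartB U hU ≫ g =
      Proj.map (RelProj.gradedHomAt φ hφ U hU) (hirr' U hU) ≫ RelProj.emb pA chartA U hU := by
  unfold RelProj.emb
  rw [Category.assoc, hg U hU, Iso.inv_hom_id_assoc]

include hA hB hg in
theorem emb_mem_range_relProjMap_iff (U : Y.Opens) (hU : IsAffineOpen U) (w : Proj (𝒜.deg U hU)) :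
    (RelProj.emb pA chartA U hU).base w ∈ Set.range g.base ↔
      w ∈ Set.range (Proj.map (RelProj.gradedHomAt φ hφ U hU) (hirr' U hU)).base := by
  have key := emb_comp_relProjMap φ hφ hirr' g hg U hU
  constructor
  · rintro ⟨t, ht⟩
    have htU : t ∈ pB ⁻¹ᵁ U := by
      have h1 := congrArg (fun m => m.base t) (isRelProjMap_comp_base φ hφ hirr' hA hB g hg)
      have h2 : pA.base (g.base t) = pB.base t := h1
      change pB.base t ∈ U
      rw [← h2, ht]
      have : (RelProj.emb pA chartA U hU).base w ∈ pA ⁻¹ᵁ U := by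
        rw [← opensRange_emb 𝒜 pA chartA U hU]; exact ⟨w, rfl⟩
      exact this
    rw [← opensRange_emb ℬ pB chartB U hU] at htU
    obtain ⟨v, rfl⟩ := htU
    have h3 := congrArg (fun m => m.base v) key
    have h4 : g.base ((RelProj.emb pB chartB U hU).base v) =
        (RelProj.emb pA chartA U hU).base
          ((Proj.map (RelProj.gradedHomAt φ hφ U hU) (hirr' U hU)).base v) := h3
    rw [h4] at ht
    exact ⟨v, (RelProj.emb pA chartA U hU).isOpenEmbedding.injective ht⟩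
  · rintro ⟨v, rfl⟩
    have h3 := congrArg (fun m => m.base v) key
    exact ⟨_, h3⟩

end relprojmap

section

variable {PC P : Scheme.{u}} {pC : PC ⟶ Y}
  {chartC : ∀ (U : Y.Opens) (hU : IsAffineOpen U), (((pC ⁻¹ᵁ U : PC.Opens) : Scheme.{u}) ≅ Proj (𝒮h.deg U hU))}
  (hPC : RelProj.IsRelProj 𝒮h pC chartC)
  {i : 𝒮.toQCAlg.spec ⟶ PC} (hi : RelCone.IsConeImm 𝒮 h pC chartC i)
  {p : P ⟶ Y}
  {chart : ∀ (U : Y.Opens) (hU : IsAffineOpen U), (((p ⁻¹ᵁ U : P.Opens) : Scheme.{u}) ≅ Proj (𝒮.deg U hU))}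
  (hP : RelProj.IsRelProj 𝒮 p chart) (j : P ⟶ PC) (hj : RelProj.IsRelProjMap θ hθ hirr chartC chart j)

include hιθ hθz hPC hi hP hj in
/-- The image of the affine cone in the projective cone is the complement of the locus at infinity. -/
theorem range_coneImm_eq_compl_range_infinity : Set.range i.base = (Set.range j.base)ᶜ := by
  ext c
  obtain ⟨U, hU, hcU⟩ := exists_affineOpen_mem (pC.base c)
  have hc : c ∈ pC ⁻¹ᵁ U := hcU
  rw [← opensRange_emb 𝒮h pC chartC U hU] at hc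
  obtain ⟨w, rfl⟩ := hc
  rw [Set.mem_compl_iff, emb_mem_range_coneImm_iff h hPC hi U hU w,
    emb_mem_range_relProjMap_iff θ hθ hirr hPC hP j hj U hU w,
    mem_range_projMap_θ_iff h θ hιθ hθz hθ hirr U hU w]
  exact ProjectiveSpectrum.mem_basicOpen _ _ _

end

end Groth.Agent.Lib.Helper42
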