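import Mathlib.AlgebraicGeometry.Cover.Directed
import Mathlib.AlgebraicGeometry.AffineScheme
import Mathlib.AlgebraicGeometry.Restrict

/-!
# Gluing morphisms along a locally directed family of open subschemes

`W : I → X.Opens` is a monotone family of opens of `X` indexed by a preorder, covering `X`, such that any
point of `W i ⊓ W j` lies in some `W k` with `k ≤ i`, `k ≤ j`.  A family of morphisms `g i : W i ⟶ Z`
compatible with the inclusions `W k ⊆ W i` (`k ≤ i`) glues uniquely to a morphism `X ⟶ Z`.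
-/

set_option autoImplicit false
universe u v

open CategoryTheory CategoryTheory.Limits AlgebraicGeometry TopologicalSpace Opposite

namespace Groth.Agent.Lib.Helper42

/-- A locally directed family of opens. -/
structure DirectedOpens (X : Scheme.{u}) where
  /-- index type -/
  I : Type u
  /-- the preorder -/
  [preorder : Preorder I]
  /-- the opens -/
  W : I → X.Opens
  mono : ∀ {i j : I}, i ≤ j → W i ≤ W j
  covers : ∀ x : X, ∃ i, x ∈ W i
  directed : ∀ (i j : I) (x : X), x ∈ W i → x ∈ W j → ∃ k, k ≤ i ∧ k ≤ j ∧ x ∈ W k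

namespace DirectedOpens

variable {X : Scheme.{u}} (𝒟 : DirectedOpens X)

instance : Preorder 𝒟.I := 𝒟.preorder

/-- The associated open cover. -/
noncomputable def cover : X.OpenCover where
  I₀ := 𝒟.I
  X i := (𝒟.W i : X.Opens)
  f i := (𝒟.W i).ι
  mem₀ := by
    rw [Scheme.presieve₀_mem_precoverage_iff]
    refine ⟨fun x ↦ ?_, inferInstance⟩
    obtain ⟨i, hi⟩ := 𝒟.covers x
    exact ⟨i, ⟨x, hi⟩, rfl⟩

instance : Preorder 𝒟.cover.I₀ := inferInstanceAs <| Preorder 𝒟.I

noncomputable instance : Scheme.Cover.LocallyDirected 𝒟.cover where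
  trans {i j} hij := X.homOfLE (𝒟.mono (leOfHom hij))
  trans_id i := X.homOfLE_rfl _
  trans_comp hij hjk := (X.homOfLE_homOfLE _ _).symm
  w hij := X.homOfLE_ι _
  property_trans hij := by
    change IsOpenImmersion (X.homOfLE _)
    infer_instance
  directed {i j} x := by
    let 𝒰 := 𝒟.cover
    let x₀ : X := (pullback.fst (𝒰.f i) (𝒰.f j) ≫ 𝒰.f i).base x
    have hxi : x₀ ∈ 𝒟.W i := ((pullback.fst (𝒰.f i) (𝒰.f j)).base x).2
    have hxj : x₀ ∈ 𝒟.W j := by
      have : x₀ = (pullback.snd (𝒰.f i) (𝒰.f j) ≫ 𝒰.f j).base x := by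
        simp only [x₀, pullback.condition]
      rw [this]
      exact ((pullback.snd (𝒰.f i) (𝒰.f j)).base x).2
    obtain ⟨k, hki, hkj, hxk⟩ := 𝒟.directed i j x₀ hxi hxj
    refine ⟨k, homOfLE hki, homOfLE hkj, ⟨x₀, hxk⟩, ?_⟩
    apply (pullback.fst (𝒰.f i) (𝒰.f j) ≫ 𝒰.f i).isOpenEmbedding.injective
    rw [← Scheme.Hom.comp_apply, pullback.lift_fst_assoc]
    change ((X.homOfLE _ ≫ (𝒟.W i).ι).base ⟨x₀, hxk⟩) = x₀
    rw [X.homOfLE_ι]
    rfl

/-- Gluing along a locally directed family of opens. -/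
theorem existsUnique_glue {Z : Scheme.{u}}
    (g : ∀ i : 𝒟.I, ((𝒟.W i : X.Opens) : Scheme.{u}) ⟶ Z)
    (hg : ∀ (i j : 𝒟.I) (hij : i ≤ j), X.homOfLE (𝒟.mono hij) ≫ g j = g i) :
    ∃! h : X ⟶ Z, ∀ i : 𝒟.I, (𝒟.W i).ι ≫ h = g i := by
  let 𝒰 := 𝒟.cover
  have hcompat : ∀ {i j : 𝒰.I₀} (hij : i ⟶ j), 𝒰.trans hij ≫ g j = g i := by
    intro i j hij
    exact hg i j (leOfHom hij)
  refine ⟨𝒰.glueMorphismsOfLocallyDirected g hcompat, ?_, ?_⟩
  · intro i
    exact 𝒰.map_glueMorphismsOfLocallyDirected g hcompat i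
  · intro h' hh'
    apply 𝒰.hom_ext
    intro i
    rw [𝒰.map_glueMorphismsOfLocallyDirected g hcompat i]
    exact hh' i

/-- Two morphisms agreeing on all members of the family are equal. -/
theorem hom_ext {Z : Scheme.{u}} (h h' : X ⟶ Z)
    (H : ∀ i : 𝒟.I, (𝒟.W i).ι ≫ h = (𝒟.W i).ι ≫ h') : h = h' := by
  apply 𝒟.cover.hom_ext
  intro i
  exact H i

end DirectedOpens

end Groth.Agent.Lib.Helper42
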