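import Groth.Agent.Lib.Helper42.AwayRefine
import Groth.Agent.Lib.Helper42.OpensGlue
import Groth.Agent.Lib.Helper42.ProjQMapOn

/-!
# Existence of `Proj(u) : G(u) ⟶ Proj(𝒮)` for a graded morphism over a morphism of bases
-/

set_option autoImplicit false
universe u

open CategoryTheory CategoryTheory.Limits AlgebraicGeometry TopologicalSpace Opposite
open HomogeneousLocalization
open scoped HomogeneousIdeal

namespace Groth.Agent.Lib.Helper42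

variable {Y Y' : Scheme.{u}}

/-- Index of the standard charts of `G(u)`. -/
structure QIdx (g : Y' ⟶ Y) (𝒮 : RelProj.QCGrAlg Y) where
  U : Y.Opens
  hU : IsAffineOpen U
  U' : Y'.Opens
  hU' : IsAffineOpen U'
  hle : U' ≤ g ⁻¹ᵁ U
  d : ℕ
  hd : 0 < d
  f : 𝒮.presheaf.obj (op U)
  hf : f ∈ 𝒮.deg U hU d

variable {P P' : Scheme.{u}} {g : Y' ⟶ Y} {𝒮 : RelProj.QCGrAlg Y} {𝒮' : RelProj.QCGrAlg Y'}
  (u : RelProj.QGrHom g 𝒮 𝒮')
  (p : P ⟶ Y)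
  (chart : ∀ (U : Y.Opens) (hU : IsAffineOpen U), (((p ⁻¹ᵁ U : P.Opens) : Scheme.{u}) ≅ Proj (𝒮.deg U hU)))
  (p' : P' ⟶ Y')
  (chart' : ∀ (U : Y'.Opens) (hU : IsAffineOpen U), (((p' ⁻¹ᵁ U : P'.Opens) : Scheme.{u}) ≅ Proj (𝒮'.deg U hU)))

namespace QIdx

variable (k : QIdx g 𝒮)

/-- The graded homomorphism over the pair of `k`. -/
noncomputable abbrev psi : 𝒮.deg k.U k.hU →+*ᵍ 𝒮'.deg k.U' k.hU' :=
  u.gradedAt k.U k.hU k.U' k.hU' k.hle

/-- The standard chart of `G(u)`, as a morphism to `Proj 𝒮'`. -/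
noncomputable abbrev src : Spec (CommRingCat.of (Away (𝒮'.deg k.U' k.hU') (k.psi u k.f))) ⟶ P' :=
  RelProj.awayEmb u p' chart' k.U k.hU k.U' k.hU' k.hle k.hd k.f k.hf

/-- The standard chart of `G(u)`, lifted into `G(u)`. -/
noncomputable def lft : Spec (CommRingCat.of (Away (𝒮'.deg k.U' k.hU') (k.psi u k.f))) ⟶
    ((RelProj.domQ u p' chart' : P'.Opens) : Scheme.{u}) :=
  IsOpenImmersion.lift (RelProj.domQ u p' chart').ι (k.src u p' chart')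
    (RelProj.range_awayEmb_subset_domQ u p' chart' k.U k.hU k.U' k.hU' k.hle k.hd k.f k.hf)

@[reassoc]
theorem lft_ι : k.lft u p' chart' ≫ (RelProj.domQ u p' chart').ι = k.src u p' chart' :=
  IsOpenImmersion.lift_fac _ _ _

instance : IsOpenImmersion (k.src u p' chart') := by
  unfold src RelProj.awayEmb
  infer_instance

instance : IsOpenImmersion (k.lft u p' chart') := by
  have : IsOpenImmersion (k.lft u p' chart' ≫ (RelProj.domQ u p' chart').ι) := by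
    rw [lft_ι]; infer_instance
  exact IsOpenImmersion.of_comp _ (RelProj.domQ u p' chart').ι

/-- The standard chart of `Proj 𝒮`. -/
noncomputable abbrev tgt : Spec (CommRingCat.of (Away (𝒮.deg k.U k.hU) k.f)) ⟶ P :=
  Proj.awayι (𝒮.deg k.U k.hU) k.f k.hf k.hd ≫ RelProj.emb p chart k.U k.hU

/-- The morphism `Proj(u)` on the standard chart. -/
noncomputable abbrev rho : Spec (CommRingCat.of (Away (𝒮'.deg k.U' k.hU') (k.psi u k.f))) ⟶ P :=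
  Spec.map (CommRingCat.ofHom (Away.map (k.psi u) k.f)) ≫ k.tgt p chart

theorem lft_apply (q : Spec (CommRingCat.of (Away (𝒮'.deg k.U' k.hU') (k.psi u k.f)))) :
    ((k.lft u p' chart').base q).1 = (RelProj.emb p' chart' k.U' k.hU').base
      ((Proj.awayι (𝒮'.deg k.U' k.hU') (k.psi u k.f) (Graded.map_mem (k.psi u) k.hf) k.hd).base q) := by
  have := congrArg (fun m => m.base q) (k.lft_ι u p' chart')
  exact this

end QIdx

/-- `IsProjQMapOn` on `G(u)`, in terms of the indexed charts. -/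
theorem isProjQMapOn_iff (v : ((RelProj.domQ u p' chart' : P'.Opens) : Scheme.{u}) ⟶ P) :
    RelProj.IsProjQMapOn u p chart p' chart' (RelProj.domQ u p' chart') v ↔
      ∀ k : QIdx g 𝒮, k.lft u p' chart' ≫ v = k.rho u p chart := by
  constructor
  · intro hv k
    exact hv k.U k.hU k.U' k.hU' k.hle k.d k.hd k.f k.hf _
  · intro hv U hU U' hU' hle d hd f hf hW
    exact hv ⟨U, hU, U', hU', hle, d, hd, f, hf⟩

/-- The standard charts cover `G(u)`. -/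
theorem exists_lft_eq (x : ((RelProj.domQ u p' chart' : P'.Opens) : Scheme.{u})) :
    ∃ (k : QIdx g 𝒮) (q : _), (k.lft u p' chart').base q = x := by
  have hx := x.2
  unfold RelProj.domQ at hx
  obtain ⟨V, w, hw, hwx⟩ := Opens.mem_iSup.mp hx
  obtain ⟨d, hd, f, hf, hwf⟩ := exists_mem_basicOpen_of_mem_domOpen _ w hw
  rw [← Proj.opensRange_awayι _ _ (Graded.map_mem _ hf) hd] at hwf
  obtain ⟨q, rfl⟩ := hwf
  refine ⟨⟨V.1.1.1, V.1.1.2, V.1.2.1, V.1.2.2, V.2, d, hd, f, hf⟩, q, Subtype.ext ?_⟩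
  rw [QIdx.lft_apply]
  exact hwx

/-- Naturality of the graded homomorphisms over affine pairs. -/
theorem res_gradedAt {U : Y.Opens} (hU : IsAffineOpen U) {U' : Y'.Opens} (hU' : IsAffineOpen U')
    (hle : U' ≤ g ⁻¹ᵁ U) {U₃ : Y.Opens} (hU₃ : IsAffineOpen U₃) {U₃' : Y'.Opens}
    (hU₃' : IsAffineOpen U₃') (hle₃ : U₃' ≤ g ⁻¹ᵁ U₃) (i : U₃ ≤ U) (i' : U₃' ≤ U')
    (x : 𝒮.presheaf.obj (op U)) :
    𝒮'.res hU' hU₃' i' (u.gradedAt U hU U' hU' hle x) =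
      u.gradedAt U₃ hU₃ U₃' hU₃' hle₃ (𝒮.res hU hU₃ i x) := by
  have h1 := congrArg (fun φ => φ.hom x) (u.toQHom.appLE_map hle i')
  have h2 := congrArg (fun φ => φ.hom x) (u.toQHom.map_appLE i hle₃)
  exact h1.trans h2.symm

/-- The order on the charts: `k₁ ≤ k₂` when the chart `k₁` factors through the chart `k₂`, compatibly
with the morphisms to `Proj 𝒮`. -/
def QLE (k₁ k₂ : QIdx g 𝒮) : Prop :=
  ∃ τ : Spec (CommRingCat.of (Away (𝒮'.deg k₁.U' k₁.hU') (k₁.psi u k₁.f))) ⟶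
      Spec (CommRingCat.of (Away (𝒮'.deg k₂.U' k₂.hU') (k₂.psi u k₂.f))),
    k₁.src u p' chart' = τ ≫ k₂.src u p' chart' ∧ k₁.rho u p chart = τ ≫ k₂.rho u p chart

theorem QLE.refl (k : QIdx g 𝒮) : QLE u p chart p' chart' k k :=
  ⟨𝟙 _, (Category.id_comp _).symm, (Category.id_comp _).symm⟩

theorem QLE.trans {k₁ k₂ k₃ : QIdx g 𝒮} (h₁ : QLE u p chart p' chart' k₁ k₂)
    (h₂ : QLE u p chart p' chart' k₂ k₃) : QLE u p chart p' chart' k₁ k₃ := by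
  obtain ⟨τ₁, h1, h1'⟩ := h₁
  obtain ⟨τ₂, h2, h2'⟩ := h₂
  exact ⟨τ₁ ≫ τ₂, by rw [h1, h2, Category.assoc], by rw [h1', h2', Category.assoc]⟩

variable {p chart p' chart'}

section refine

variable (hP : RelProj.IsRelProj 𝒮 p chart) (hP' : RelProj.IsRelProj 𝒮' p' chart')

include hP hP' in
theorem refine_explicit (k : QIdx g 𝒮) (a : Γ(Y, k.U)) (b : Γ(Y', k.U'))
    (hle₃ : Y'.basicOpen b ≤ g ⁻¹ᵁ Y.basicOpen a) (e : ℕ)
    (g₃ : 𝒮.presheaf.obj (op (Y.basicOpen a))) (hg₃ : g₃ ∈ 𝒮.deg (Y.basicOpen a) (k.hU.basicOpen a) e)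
    (hf₃ : 𝒮.res k.hU (k.hU.basicOpen a) (Y.basicOpen_le a) k.f * g₃ ∈
      𝒮.deg (Y.basicOpen a) (k.hU.basicOpen a) (k.d + e)) :
    QLE u p chart p' chart'
      ⟨Y.basicOpen a, k.hU.basicOpen a, Y'.basicOpen b, k.hU'.basicOpen b, hle₃, k.d + e,
        Nat.add_pos_left k.hd e, 𝒮.res k.hU (k.hU.basicOpen a) (Y.basicOpen_le a) k.f * g₃, hf₃⟩ k := by
  set ρ := 𝒮.res k.hU (k.hU.basicOpen a) (Y.basicOpen_le a) with hρ
  set ρ' := 𝒮'.res k.hU' (k.hU'.basicOpen b) (Y'.basicOpen_le b) with hρ'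
  set ψ₃ := u.gradedAt (Y.basicOpen a) (k.hU.basicOpen a) (Y'.basicOpen b) (k.hU'.basicOpen b) hle₃
    with hψ₃
  have hnat : ∀ x, ρ' (k.psi u x) = ψ₃ (ρ x) := fun x =>
    res_gradedAt u k.hU k.hU' k.hle (k.hU.basicOpen a) (k.hU'.basicOpen b) hle₃
      (Y.basicOpen_le a) (Y'.basicOpen_le b) x
  have hψ₃f₃ : ψ₃ (ρ k.f * g₃) = ρ' (k.psi u k.f) * ψ₃ g₃ := by
    rw [map_mul, hnat]
  obtain ⟨s, hs, hs'⟩ := exists_refine ρ (𝒮.irrelevant_le_map k.U k.hU a) k.hd k.hf hg₃ hf₃ rfl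
  obtain ⟨t, ht, ht'⟩ := exists_refine ρ' (𝒮'.irrelevant_le_map k.U' k.hU' b) k.hd
    (Graded.map_mem (k.psi u) k.hf) (Graded.map_mem ψ₃ hg₃) (Graded.map_mem ψ₃ hf₃) hψ₃f₃
  refine ⟨Spec.map (CommRingCat.ofHom t), ?_, ?_⟩
  · change Proj.awayι _ _ _ _ ≫ RelProj.emb p' chart' _ _ = _ ≫ Proj.awayι _ _ _ _ ≫ RelProj.emb p' chart' _ _
    rw [← RelProj.map_res_emb hP' k.U' k.hU' b, reassoc_of% ht']
  · change Spec.map _ ≫ Proj.awayι _ _ _ _ ≫ RelProj.emb p chart _ _ =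
      _ ≫ Spec.map _ ≫ Proj.awayι _ _ _ _ ≫ RelProj.emb p chart _ _
    rw [← RelProj.map_res_emb hP k.U k.hU a, reassoc_of% hs', ← Spec.map_comp_assoc,
      ← Spec.map_comp_assoc, ← CommRingCat.ofHom_comp, ← CommRingCat.ofHom_comp]
    congr 3
    ext x
    obtain ⟨n, c, hc, rfl⟩ := Away.mk_surjective (𝒮.deg k.U k.hU) k.hf x
    rw [RingHom.comp_apply, RingHom.comp_apply, hs, Away.map_mk, Away.map_mk, ht]
    rw [Away.val_mk, Away.val_mk]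
    congr 1
    rw [map_mul, map_pow, hnat]

include hP hP' in
/-- Flexible form of `refine_explicit`: the refined index is given up to propositional equalities. -/
theorem refine_le (k : QIdx g 𝒮) (a : Γ(Y, k.U)) (b : Γ(Y', k.U')) (e : ℕ)
    (U₃ : Y.Opens) (hU₃ : IsAffineOpen U₃) (U₃' : Y'.Opens) (hU₃' : IsAffineOpen U₃')
    (hle₃ : U₃' ≤ g ⁻¹ᵁ U₃) (d₃ : ℕ) (hd₃ : 0 < d₃) (f₃ : 𝒮.presheaf.obj (op U₃))
    (hf₃ : f₃ ∈ 𝒮.deg U₃ hU₃ d₃)
    (ha : U₃ = Y.basicOpen a) (hb : U₃' = Y'.basicOpen b) (hde : d₃ = k.d + e)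
    (i : U₃ ≤ k.U) (g₃ : 𝒮.presheaf.obj (op U₃)) (hg₃ : g₃ ∈ 𝒮.deg U₃ hU₃ e)
    (hf₃eq : f₃ = 𝒮.res k.hU hU₃ i k.f * g₃) :
    QLE u p chart p' chart' ⟨U₃, hU₃, U₃', hU₃', hle₃, d₃, hd₃, f₃, hf₃⟩ k := by
  subst ha hb hde hf₃eq
  exact refine_explicit u hP hP' k a b hle₃ e g₃ hg₃ hf₃

include hP' in
/-- A point of the chart `k` lying over a basic open `D(b) ⊆ U'` with `D(b) ⊆ g⁻¹(U₃)`, `U₃ ⊆ U`:
its preimage in `Proj 𝒮'(D(b))` lies in `D₊(u(f|U₃))`. -/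
theorem mem_basicOpen_of_refine (k : QIdx g 𝒮) (b : Γ(Y', k.U'))
    (U₃ : Y.Opens) (hU₃ : IsAffineOpen U₃) (U₃' : Y'.Opens) (hU₃' : IsAffineOpen U₃')
    (hle₃ : U₃' ≤ g ⁻¹ᵁ U₃) (hb : U₃' = Y'.basicOpen b) (i : U₃ ≤ k.U)
    (q : Spec (CommRingCat.of (Away (𝒮'.deg k.U' k.hU') (k.psi u k.f))))
    (w₃ : Proj (𝒮'.deg U₃' hU₃'))
    (hw : (RelProj.emb p' chart' U₃' hU₃').base w₃ = ((k.lft u p' chart').base q).1) :
    w₃ ∈ Proj.basicOpen (𝒮'.deg U₃' hU₃')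
      (u.gradedAt U₃ hU₃ U₃' hU₃' hle₃ (𝒮.res k.hU hU₃ i k.f)) := by
  subst hb
  rw [QIdx.lft_apply] at hw
  have h1 := congrArg (fun m => m.base w₃) (RelProj.map_res_emb hP' k.U' k.hU' b)
  have h2 : (RelProj.emb p' chart' k.U' k.hU').base
      ((Proj.map (𝒮'.res k.hU' (k.hU'.basicOpen b) (Y'.basicOpen_le b))
        (𝒮'.irrelevant_le_map k.U' k.hU' b)).base w₃) =
      (RelProj.emb p' chart' (Y'.basicOpen b) (k.hU'.basicOpen b)).base w₃ := h1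
  have h3 : (RelProj.emb p' chart' (Y'.basicOpen b) hU₃').base w₃ =
      (RelProj.emb p' chart' (Y'.basicOpen b) (k.hU'.basicOpen b)).base w₃ := rfl
  rw [h3, ← h2] at hw
  have h4 := (RelProj.emb p' chart' k.U' k.hU').isOpenEmbedding.injective hw
  have h5 : (Proj.map (𝒮'.res k.hU' (k.hU'.basicOpen b) (Y'.basicOpen_le b))
      (𝒮'.irrelevant_le_map k.U' k.hU' b)).base w₃ ∈
      Proj.basicOpen (𝒮'.deg k.U' k.hU') (k.psi u k.f) := by
    rw [h4, ← Proj.opensRange_awayι _ _ (Graded.map_mem (k.psi u) k.hf) k.hd]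
    exact ⟨q, rfl⟩
  have h6 : w₃ ∈ Proj.basicOpen (𝒮'.deg (Y'.basicOpen b) (k.hU'.basicOpen b))
      (𝒮'.res k.hU' (k.hU'.basicOpen b) (Y'.basicOpen_le b) (k.psi u k.f)) := h5
  rw [res_gradedAt u k.hU k.hU' k.hle hU₃ (k.hU'.basicOpen b) hle₃ i (Y'.basicOpen_le b)] at h6
  exact h6

include hP hP' in
/-- Two charts containing a point have a common refinement containing it. -/
theorem exists_common_refinement (k₁ k₂ : QIdx g 𝒮)
    (x : ((RelProj.domQ u p' chart' : P'.Opens) : Scheme.{u}))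
    (q₁ : Spec (CommRingCat.of (Away (𝒮'.deg k₁.U' k₁.hU') (k₁.psi u k₁.f))))
    (hq₁ : (k₁.lft u p' chart').base q₁ = x)
    (q₂ : Spec (CommRingCat.of (Away (𝒮'.deg k₂.U' k₂.hU') (k₂.psi u k₂.f))))
    (hq₂ : (k₂.lft u p' chart').base q₂ = x) :
    ∃ k₃ : QIdx g 𝒮, QLE u p chart p' chart' k₃ k₁ ∧ QLE u p chart p' chart' k₃ k₂ ∧
      ∃ q₃, (k₃.lft u p' chart').base q₃ = x := by
  -- the point lies over `U₁' ∩ U₂'`
  have hy1 : p'.base x.1 ∈ k₁.U' := by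
    have : x.1 ∈ p' ⁻¹ᵁ k₁.U' := by
      rw [← opensRange_emb 𝒮' p' chart' k₁.U' k₁.hU', ← hq₁, QIdx.lft_apply]
      exact ⟨_, rfl⟩
    exact this
  have hy2 : p'.base x.1 ∈ k₂.U' := by
    have : x.1 ∈ p' ⁻¹ᵁ k₂.U' := by
      rw [← opensRange_emb 𝒮' p' chart' k₂.U' k₂.hU', ← hq₂, QIdx.lft_apply]
      exact ⟨_, rfl⟩
    exact this
  have hgy1 : g.base (p'.base x.1) ∈ k₁.U := k₁.hle hy1
  have hgy2 : g.base (p'.base x.1) ∈ k₂.U := k₂.hle hy2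
  obtain ⟨a₁, a₂, ha, hya⟩ := exists_basicOpen_le_affine_inter k₁.hU k₂.hU
    (g.base (p'.base x.1)) ⟨hgy1, hgy2⟩
  obtain ⟨b₁, b₂, hb, hyb⟩ := exists_basicOpen_le_affine_inter k₁.hU' k₂.hU'
    (p'.base x.1) ⟨hy1, hy2⟩
  set c₁ : Γ(Y', k₁.U') := b₁ * (g.appLE k₁.U k₁.U' k₁.hle).hom a₁ with hc₁def
  set c₂ : Γ(Y', k₂.U') := b₂ * (g.appLE k₂.U k₂.U' k₂.hle).hom a₂ with hc₂def
  have hc₁ : Y'.basicOpen c₁ = Y'.basicOpen b₁ ⊓ g ⁻¹ᵁ Y.basicOpen a₁ := by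
    rw [hc₁def, Scheme.basicOpen_mul, Scheme.basicOpen_appLE, ← inf_assoc,
      inf_eq_left.mpr (Y'.basicOpen_le b₁)]
  have hc₂ : Y'.basicOpen c₂ = Y'.basicOpen b₂ ⊓ g ⁻¹ᵁ Y.basicOpen a₂ := by
    rw [hc₂def, Scheme.basicOpen_mul, Scheme.basicOpen_appLE, ← inf_assoc,
      inf_eq_left.mpr (Y'.basicOpen_le b₂)]
  have hc : Y'.basicOpen c₁ = Y'.basicOpen c₂ := by rw [hc₁, hc₂, hb, ha]
  have hle₃ : Y'.basicOpen c₁ ≤ g ⁻¹ᵁ Y.basicOpen a₁ := by rw [hc₁]; exact inf_le_right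
  have hyc : p'.base x.1 ∈ Y'.basicOpen c₁ := by rw [hc₁]; exact ⟨hyb, hya⟩
  have i₁ : Y.basicOpen a₁ ≤ k₁.U := Y.basicOpen_le a₁
  have i₂ : Y.basicOpen a₁ ≤ k₂.U := ha ▸ Y.basicOpen_le a₂
  have hU₃ : IsAffineOpen (Y.basicOpen a₁) := k₁.hU.basicOpen a₁
  have hU₃' : IsAffineOpen (Y'.basicOpen c₁) := k₁.hU'.basicOpen c₁
  have hm₁ : 𝒮.res k₁.hU hU₃ i₁ k₁.f ∈ 𝒮.deg _ hU₃ k₁.d := Graded.map_mem _ k₁.hf
  have hm₂ : 𝒮.res k₂.hU hU₃ i₂ k₂.f ∈ 𝒮.deg _ hU₃ k₂.d := Graded.map_mem _ k₂.hf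
  have hm₃ : 𝒮.res k₁.hU hU₃ i₁ k₁.f * 𝒮.res k₂.hU hU₃ i₂ k₂.f ∈ 𝒮.deg _ hU₃ (k₁.d + k₂.d) :=
    SetLike.mul_mem_graded hm₁ hm₂
  refine ⟨⟨Y.basicOpen a₁, hU₃, Y'.basicOpen c₁, hU₃', hle₃, k₁.d + k₂.d, Nat.add_pos_left k₁.hd _,
    𝒮.res k₁.hU hU₃ i₁ k₁.f * 𝒮.res k₂.hU hU₃ i₂ k₂.f, hm₃⟩, ?_, ?_, ?_⟩
  · exact refine_le u hP hP' k₁ a₁ c₁ k₂.d _ hU₃ _ hU₃' hle₃ _ _ _ hm₃ rfl rfl rfl i₁ _ hm₂ rfl
  · exact refine_le u hP hP' k₂ a₂ c₂ k₁.d _ hU₃ _ hU₃' hle₃ _ _ _ hm₃ ha hc (add_comm _ _) i₂ _ hm₁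
      (mul_comm _ _)
  · -- the point in the refined chart
    have hx₃ : x.1 ∈ p' ⁻¹ᵁ Y'.basicOpen c₁ := hyc
    rw [← opensRange_emb 𝒮' p' chart' _ hU₃'] at hx₃
    obtain ⟨w₃, hw₃⟩ := hx₃
    have hw₃' : (RelProj.emb p' chart' (Y'.basicOpen c₁) hU₃').base w₃ = x.1 := hw₃
    have h1 := mem_basicOpen_of_refine u hP' k₁ c₁ _ hU₃ _ hU₃' hle₃ rfl i₁ q₁ w₃
      (by rw [hq₁]; exact hw₃')
    have h2 := mem_basicOpen_of_refine u hP' k₂ c₂ _ hU₃ _ hU₃' hle₃ hc i₂ q₂ w₃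
      (by rw [hq₂]; exact hw₃')
    have h3 : w₃ ∈ Proj.basicOpen (𝒮'.deg _ hU₃') (u.gradedAt _ hU₃ _ hU₃' hle₃
        (𝒮.res k₁.hU hU₃ i₁ k₁.f * 𝒮.res k₂.hU hU₃ i₂ k₂.f)) := by
      rw [map_mul, Proj.basicOpen_mul]
      exact ⟨h1, h2⟩
    rw [← Proj.opensRange_awayι _ _ (Graded.map_mem _ hm₃) (Nat.add_pos_left k₁.hd _)] at h3
    obtain ⟨q₃, hq₃⟩ := h3
    refine ⟨q₃, Subtype.ext ?_⟩
    rw [QIdx.lft_apply, ← hw₃']
    exact congrArg _ hq₃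

end refine

section glue

variable (hP : RelProj.IsRelProj 𝒮 p chart) (hP' : RelProj.IsRelProj 𝒮' p' chart')

variable (p chart p' chart') in
/-- The preorder on the charts. -/
@[reducible] def qPreorder : Preorder (QIdx g 𝒮) where
  le := QLE u p chart p' chart'
  le_refl := QLE.refl u p chart p' chart'
  le_trans _ _ _ := QLE.trans u p chart p' chart'

theorem lft_eq_of_le {k₁ k₂ : QIdx g 𝒮} (h : QLE u p chart p' chart' k₁ k₂) :
    ∃ τ : Spec (CommRingCat.of (Away (𝒮'.deg k₁.U' k₁.hU') (k₁.psi u k₁.f))) ⟶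
        Spec (CommRingCat.of (Away (𝒮'.deg k₂.U' k₂.hU') (k₂.psi u k₂.f))),
      k₁.lft u p' chart' = τ ≫ k₂.lft u p' chart' ∧ k₁.rho u p chart = τ ≫ k₂.rho u p chart := by
  obtain ⟨τ, h1, h2⟩ := h
  refine ⟨τ, ?_, h2⟩
  rw [← cancel_mono (RelProj.domQ u p' chart').ι, Category.assoc, QIdx.lft_ι, QIdx.lft_ι, h1]

theorem opensRange_le_of_le {k₁ k₂ : QIdx g 𝒮} (h : QLE u p chart p' chart' k₁ k₂) :
    (k₁.lft u p' chart').opensRange ≤ (k₂.lft u p' chart').opensRange := by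
  obtain ⟨τ, h1, -⟩ := lft_eq_of_le u h
  rintro _ ⟨q, rfl⟩
  exact ⟨τ.base q, by rw [h1]; rfl⟩

/-- The locally directed family of standard charts of `G(u)`. -/
noncomputable def chartOpens :
    DirectedOpens ((RelProj.domQ u p' chart' : P'.Opens) : Scheme.{u}) where
  I := QIdx g 𝒮
  preorder := qPreorder u p chart p' chart'
  W k := (k.lft u p' chart').opensRange
  mono h := opensRange_le_of_le u h
  covers x := by
    obtain ⟨k, q, hq⟩ := exists_lft_eq u p' chart' x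
    exact ⟨k, q, hq⟩
  directed k₁ k₂ x hx₁ hx₂ := by
    obtain ⟨q₁, hq₁⟩ := hx₁
    obtain ⟨q₂, hq₂⟩ := hx₂
    obtain ⟨k₃, h1, h2, q₃, hq₃⟩ := exists_common_refinement u hP hP' k₁ k₂ x q₁ hq₁ q₂ hq₂
    exact ⟨k₃, h1, h2, q₃, hq₃⟩

include hP hP' in
/-- Existence and uniqueness of `Proj(u) : G(u) ⟶ Proj 𝒮`. -/
theorem existsUnique_isProjQMapOn :
    ∃! v : ((RelProj.domQ u p' chart' : P'.Opens) : Scheme.{u}) ⟶ P,
      RelProj.IsProjQMapOn u p chart p' chart' (RelProj.domQ u p' chart') v := by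
  obtain ⟨v, hv, huniq⟩ := (chartOpens u hP hP').existsUnique_glue (Z := P)
    (fun k : QIdx g 𝒮 => (k.lft u p' chart').isoOpensRange.inv ≫ k.rho u p chart) (by
      intro k₁ k₂ h
      obtain ⟨τ, h1, h2⟩ := lft_eq_of_le u h
      have key : Scheme.homOfLE _ (opensRange_le_of_le u h) ≫ (k₂.lft u p' chart').isoOpensRange.inv =
          (k₁.lft u p' chart').isoOpensRange.inv ≫ τ := by
        rw [← cancel_mono (k₂.lft u p' chart'), Category.assoc, Category.assoc,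
          Scheme.Hom.isoOpensRange_inv_comp, Scheme.homOfLE_ι, ← h1, Scheme.Hom.isoOpensRange_inv_comp]
      change Scheme.homOfLE _ _ ≫ (k₂.lft u p' chart').isoOpensRange.inv ≫ k₂.rho u p chart =
        (k₁.lft u p' chart').isoOpensRange.inv ≫ k₁.rho u p chart
      rw [reassoc_of% key, h2])
  refine ⟨v, ?_, ?_⟩
  · refine (isProjQMapOn_iff u p chart p' chart' v).mpr ?_
    intro k
    have h2 : (k.lft u p' chart').opensRange.ι ≫ v =
        (k.lft u p' chart').isoOpensRange.inv ≫ k.rho u p chart := hv k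
    have h3 : k.lft u p' chart' ≫ v =
        (k.lft u p' chart').isoOpensRange.hom ≫ ((k.lft u p' chart').opensRange.ι ≫ v) := by
      rw [← Category.assoc, Scheme.Hom.isoOpensRange_hom_ι]
    rw [h3, h2, Iso.hom_inv_id_assoc]
  · intro v' hv'
    rw [isProjQMapOn_iff] at hv'
    apply huniq
    intro k
    have h4 : (QIdx.lft u p' chart' k).opensRange.ι ≫ v' =
        (QIdx.lft u p' chart' k).isoOpensRange.inv ≫ QIdx.rho u p chart k := by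
      rw [← Scheme.Hom.isoOpensRange_inv_comp (QIdx.lft u p' chart' k), Category.assoc, hv' k]
    exact h4

/-- The degree-zero compatibility of the graded homomorphism over a pair with the structure maps. -/
theorem strZero_comp_zeroHom_gradedAt (k : QIdx g 𝒮) :
    𝒮.strZero k.U k.hU ≫ CommRingCat.ofHom (zeroHom (k.psi u)) =
      g.appLE k.U k.U' k.hle ≫ 𝒮'.strZero k.U' k.hU' := by
  ext r
  have h := congrArg (fun m => m.hom r) (u.toQHom.str_appLE k.U k.U' k.hle)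
  exact h

include hP hP' in
/-- On a standard chart, `Proj(u)` lies over `g`. -/
theorem src_comp_eq_rho_comp (k : QIdx g 𝒮) :
    k.src u p' chart' ≫ p' ≫ g = k.rho u p chart ≫ p := by
  have h1 : k.src u p' chart' ≫ p' =
      Spec.map (CommRingCat.ofHom (fromZeroRingHom (𝒮'.deg k.U' k.hU') (Submonoid.powers (k.psi u k.f)))) ≫
        Spec.map (𝒮'.strZero k.U' k.hU') ≫ k.hU'.fromSpec := by
    have := awayι_emb_comp_p hP' k.U' k.hU' k.hd (k.psi u k.f) (Graded.map_mem (k.psi u) k.hf)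
    rw [← this]
    simp only [QIdx.src, RelProj.awayEmb, Category.assoc]
  have h2 := awayι_emb_comp_p hP k.U k.hU k.hd k.f k.hf
  have h3 : Spec.map (g.appLE k.U k.U' k.hle) ≫ k.hU.fromSpec = k.hU'.fromSpec ≫ g :=
    IsAffineOpen.SpecMap_appLE_fromSpec g k.hU k.hU' k.hle
  have h4 : CommRingCat.ofHom (fromZeroRingHom (𝒮.deg k.U k.hU) (Submonoid.powers k.f)) ≫
      CommRingCat.ofHom (Away.map (k.psi u) k.f) =
      CommRingCat.ofHom (zeroHom (k.psi u)) ≫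
        CommRingCat.ofHom (fromZeroRingHom (𝒮'.deg k.U' k.hU') (Submonoid.powers (k.psi u k.f))) := by
    rw [← CommRingCat.ofHom_comp, ← CommRingCat.ofHom_comp, away_map_comp_fromZeroRingHom]
  rw [← Category.assoc, h1, Category.assoc, Category.assoc, ← h3]
  simp only [QIdx.rho, Category.assoc]
  rw [h2]
  rw [← Spec.map_comp_assoc, ← Spec.map_comp_assoc, ← Spec.map_comp_assoc, ← Spec.map_comp_assoc]
  congr 2
  rw [h4, ← Category.assoc, ← Category.assoc, strZero_comp_zeroHom_gradedAt]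

include hP hP' in
/-- `Proj(u)` lies over `g`. -/
theorem isProjQMapOn_comp_p (v : ((RelProj.domQ u p' chart' : P'.Opens) : Scheme.{u}) ⟶ P)
    (hv : RelProj.IsProjQMapOn u p chart p' chart' (RelProj.domQ u p' chart') v) :
    v ≫ p = (RelProj.domQ u p' chart').ι ≫ p' ≫ g := by
  rw [isProjQMapOn_iff] at hv
  apply (chartOpens u hP hP').hom_ext
  intro k
  change (k.lft u p' chart').opensRange.ι ≫ v ≫ p = (k.lft u p' chart').opensRange.ι ≫ _ ≫ p' ≫ g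
  rw [← cancel_epi (k.lft u p' chart').isoOpensRange.hom]
  rw [Scheme.Hom.isoOpensRange_hom_ι_assoc, Scheme.Hom.isoOpensRange_hom_ι_assoc,
    ← Category.assoc, hv k, QIdx.lft_ι_assoc, src_comp_eq_rho_comp u hP hP' k]

end glue

end Groth.Agent.Lib.Helper42
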