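import Groth.Agent.Lib.Helper42.ConeRetraction
import Groth.Agent.Lib.Helper42.ConeInfinity
import Groth.Agent.Lib.Helper42.ProjQGlue

/-!
# The canonical retraction `Ê ⟶ Proj(𝒮)` of the pointed projective cone
-/

set_option autoImplicit false
universe u

open CategoryTheory CategoryTheory.Limits AlgebraicGeometry TopologicalSpace Opposite
open HomogeneousLocalization Polynomial
open scoped HomogeneousIdeal

namespace Groth.Agent.Lib.Helper42

section general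

variable {Y : Scheme.{u}} {PA PB : Scheme.{u}} {𝒜 ℬ : RelProj.QCGrAlg Y}
  (φ : 𝒜.toQCAlg ⟶ ℬ.toQCAlg) (hφ : RelProj.IsGradedHom φ)
  {pA : PA ⟶ Y} {pB : PB ⟶ Y}
  {chartA : ∀ (U : Y.Opens) (hU : IsAffineOpen U), (((pA ⁻¹ᵁ U : PA.Opens) : Scheme.{u}) ≅ Proj (𝒜.deg U hU))}
  {chartB : ∀ (U : Y.Opens) (hU : IsAffineOpen U), (((pB ⁻¹ᵁ U : PB.Opens) : Scheme.{u}) ≅ Proj (ℬ.deg U hU))}
  (ψ : ∀ (U : Y.Opens) (hU : IsAffineOpen U), 𝒜.deg U hU →+*ᵍ ℬ.deg U hU)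
  (hψ : ∀ (U : Y.Opens) (hU : IsAffineOpen U), ψ U hU = RelProj.gradedHomAt φ hφ U hU)
  (W : PB.Opens) (hW : W = RelProj.domQ (RelProj.QGrHom.ofHom φ hφ) pB chartB)

include hψ hW in
/-- Existence and uniqueness of the morphism pinned on the standard charts over the pairs `(U, U)`. -/
theorem existsUnique_pinnedOn (hA : RelProj.IsRelProj 𝒜 pA chartA) (hB : RelProj.IsRelProj ℬ pB chartB) :
    ∃! r : (W : Scheme.{u}) ⟶ PA, PinnedOn ψ W pA chartA pB chartB r := by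
  obtain rfl := ψ_eq_psi φ hφ ψ hψ
  subst hW
  obtain ⟨v, hv, -⟩ := existsUnique_isProjQMapOn (RelProj.QGrHom.ofHom φ hφ) hA hB
  refine ⟨v, ?_, ?_⟩
  · intro i g hg
    have hgl : g = liftChart φ hφ pB chartB i := by
      rw [← cancel_mono (RelProj.domQ (RelProj.QGrHom.ofHom φ hφ) pB chartB).ι, hg, liftChart_ι]
      rfl
    subst hgl
    exact liftChart_comp φ hφ hv i
  · intro r' hr'
    apply (stdCover φ hφ hB).hom_ext
    intro i
    change liftChart φ hφ pB chartB i ≫ r' = liftChart φ hφ pB chartB i ≫ v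
    rw [liftChart_comp φ hφ hv i]
    exact hr' i _ (liftChart_ι φ hφ i)

end general

section away

variable {A B σ τ : Type u} [CommRing A] [CommRing B]
  [SetLike σ A] [AddSubgroupClass σ A] [SetLike τ B] [AddSubgroupClass τ B]
  {𝒜 : ℕ → σ} {ℬ : ℕ → τ} [GradedRing 𝒜] [GradedRing ℬ]

/-- A retraction `θ` of `ψ` induces, on the standard charts, a retraction of `Away.map ψ f`;
stated with a free `f'` equal to `θ (ψ f)`. -/
theorem exists_away_retraction (ψ : 𝒜 →+*ᵍ ℬ) (θ : ℬ →+*ᵍ 𝒜) (hirr : 𝒜₊ ≤ ℬ₊.map θ)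
    {d : ℕ} (hd : 0 < d) (f : A) (hf : f ∈ 𝒜 d) (hθψ : ∀ a, θ (ψ a) = a) :
    ∃ β : Away ℬ (ψ f) →+* Away 𝒜 f,
      Spec.map (CommRingCat.ofHom β) ≫ Proj.awayι ℬ (ψ f) (Graded.map_mem ψ hf) hd =
          Proj.awayι 𝒜 f hf hd ≫ Proj.map θ hirr ∧
        β.comp (Away.map ψ f) = RingHom.id _ := by
  have key : ∀ (f' : A) (hf' : θ (ψ f) = f') (hf'm : f' ∈ 𝒜 d),
      ∃ β : Away ℬ (ψ f) →+* Away 𝒜 f',
        Spec.map (CommRingCat.ofHom β) ≫ Proj.awayι ℬ (ψ f) (Graded.map_mem ψ hf) hd =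
            Proj.awayι 𝒜 f' hf'm hd ≫ Proj.map θ hirr ∧
          ∀ (n : ℕ) (a : B) (ha : a ∈ ℬ (n • d)),
            β (Away.mk ℬ (Graded.map_mem ψ hf) n a ha) = Away.mk 𝒜 hf'm n (θ a) (Graded.map_mem θ ha) := by
    intro f' hf' hf'm
    subst hf'
    refine ⟨Away.map θ (ψ f), ?_, ?_⟩
    · exact (Proj.awayι_comp_map θ hirr hd (ψ f) (Graded.map_mem ψ hf)).symm
    · intro n a ha
      exact Away.map_mk θ (ψ f) (Graded.map_mem ψ hf) n a ha
  obtain ⟨β, h1, h2⟩ := key f (hθψ f) hf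
  refine ⟨β, h1, ?_⟩
  ext x
  obtain ⟨n, a, ha, rfl⟩ := Away.mk_surjective 𝒜 hf x
  rw [RingHom.comp_apply, Away.map_mk, h2, RingHom.id_apply]
  simp only [hθψ a]

end away

variable {Y : Scheme.{u}} {𝒮 𝒮h : RelProj.QCGrAlg Y} {ι : 𝒮.toQCAlg ⟶ 𝒮h.toQCAlg}
  {z : 𝒮h.presheaf.obj (op ⊤)} (h : RelCone.IsPolyOver 𝒮 𝒮h ι z)
  {PC P : Scheme.{u}} {pC : PC ⟶ Y}
  {chartC : ∀ (U : Y.Opens) (hU : IsAffineOpen U), (((pC ⁻¹ᵁ U : PC.Opens) : Scheme.{u}) ≅ Proj (𝒮h.deg U hU))}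
  (hPC : RelProj.IsRelProj 𝒮h pC chartC)
  {p : P ⟶ Y}
  {chart : ∀ (U : Y.Opens) (hU : IsAffineOpen U), (((p ⁻¹ᵁ U : P.Opens) : Scheme.{u}) ≅ Proj (𝒮.deg U hU))}
  (hP : RelProj.IsRelProj 𝒮 p chart)

include hPC hP in
/-- Existence and uniqueness of the canonical retraction of the pointed projective cone. -/
theorem existsUnique_retraction :
    ∃! r : ((RelCone.pointedProjCone 𝒮 h pC chartC : PC.Opens) : Scheme.{u}) ⟶ P,
      PinnedOn (fun U hU => RelProj.gradedHomAt ι h.graded U hU)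
        (RelCone.pointedProjCone 𝒮 h pC chartC) p chart pC chartC r :=
  existsUnique_pinnedOn ι h.graded _ (fun _ _ => rfl) _ (pointedProjCone_eq_domQ h) hP hPC

variable {r : ((RelCone.pointedProjCone 𝒮 h pC chartC : PC.Opens) : Scheme.{u}) ⟶ P}
  (hr : PinnedOn (fun U hU => RelProj.gradedHomAt ι h.graded U hU)
    (RelCone.pointedProjCone 𝒮 h pC chartC) p chart pC chartC r)

include hPC hP hr in
theorem retraction_isAffineHom : IsAffineHom r := by
  rw [pinned_iff ι h.graded (fun U hU => RelProj.gradedHomAt ι h.graded U hU) (fun _ _ => rfl) _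
    (pointedProjCone_eq_domQ h) hr @IsAffineHom hP hPC]
  intro i
  infer_instance

include hPC hP hr in
theorem retraction_comp_p : r ≫ p = (RelCone.pointedProjCone 𝒮 h pC chartC).ι ≫ pC :=
  pinned_comp_p ι h.graded (fun U hU => RelProj.gradedHomAt ι h.graded U hU) (fun _ _ => rfl) _
    (pointedProjCone_eq_domQ h) hr hP hPC

include hr in
theorem retraction_surjective : Function.Surjective r.base := by
  intro t
  obtain ⟨U, hU, htU⟩ := exists_affineOpen_mem (p.base t)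
  have ht : t ∈ p ⁻¹ᵁ U := htU
  rw [← opensRange_emb 𝒮 p chart U hU] at ht
  obtain ⟨x, rfl⟩ := ht
  let x' : Spec (𝒮.presheaf.obj (op U)) := ⟨x.asHomogeneousIdeal.toIdeal, x.isPrime⟩
  have hex : ∃ (d : ℕ) (f : 𝒮.presheaf.obj (op U)), 0 < d ∧ f ∈ 𝒮.deg U hU d ∧
      f ∉ x.asHomogeneousIdeal := by
    by_contra hcon
    push Not at hcon
    apply x.not_irrelevant_le
    rw [HomogeneousIdeal.irrelevant_le]
    intro j hj b hb
    exact hcon j b hj hb
  obtain ⟨d, f, hd, hf, hfx⟩ := hex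
  have hfx' : f ∉ x'.asIdeal := hfx
  let k : StdIdx 𝒮 := ⟨U, hU, d, hd, f, hf⟩
  have h0 := (awayι_azb_mem_basicOpen_iff h U hU hd f hf x').mpr hfx'
  rw [← Proj.opensRange_awayι _ _ (Graded.map_mem (RelProj.gradedHomAt ι h.graded U hU) hf) hd] at h0
  obtain ⟨q', hq'⟩ := h0
  refine ⟨(liftSrc h pC chartC k).base q', ?_⟩
  have h1 := congrArg (fun m => m.base q') (hr k (liftSrc h pC chartC k) (liftSrc_ι h k))
  have h2 : r.base ((liftSrc h pC chartC k).base q') = (RelProj.emb p chart U hU).base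
      ((Proj.awayι (𝒮.deg U hU) f hf hd).base ((Spec.map (CommRingCat.ofHom
        (Away.map (RelProj.gradedHomAt ι h.graded U hU) f))).base q')) := h1
  rw [h2]
  congr 1
  apply proj_ext_of_pos
  intro e' he' g hg
  rw [← not_iff_not]
  have h8 := awayι_mem_basicOpen_iff (RelProj.gradedHomAt ι h.graded U hU) hd he' hf hg q'
  have h9 := awayι_azb_mem_basicOpen_iff h U hU he' g hg x'
  rw [hq'] at h8
  exact ((ProjectiveSpectrum.mem_basicOpen _ _ _).symm.trans h8).trans h9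

include hPC hP hr in
/-- `r` is a retraction of the immersion at infinity. -/
theorem retraction_infinity (θ : 𝒮h.toQCAlg ⟶ 𝒮.toQCAlg) (hθ : RelProj.IsGradedHom θ)
    (hιθ : ι ≫ θ = 𝟙 _)
    (hirr : ∀ (U : Y.Opens) (hU : IsAffineOpen U),
      (𝒮.deg U hU)₊ ≤ ((𝒮h.deg U hU)₊).map (RelProj.gradedHomAt θ hθ U hU))
    (j : P ⟶ PC) (hj : RelProj.IsRelProjMap θ hθ hirr chartC chart j)
    (j' : P ⟶ ((RelCone.pointedProjCone 𝒮 h pC chartC : PC.Opens) : Scheme.{u}))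
    (hj' : j' ≫ (RelCone.pointedProjCone 𝒮 h pC chartC).ι = j) : j' ≫ r = 𝟙 P := by
  let 𝒰 : Scheme.OpenCover.{u} P := Scheme.Cover.mkOfCovers (StdIdx 𝒮) _ (tgtChart p chart) (by
    intro x
    have hx : x ∈ (⨆ i : StdIdx 𝒮, (tgtChart p chart i).opensRange) := by
      rw [iSup_opensRange_tgtChart]; trivial
    obtain ⟨i, w, hw⟩ := Opens.mem_iSup.mp hx
    exact ⟨i, w, hw⟩)
  apply 𝒰.hom_ext
  intro (k : StdIdx 𝒮)
  change tgtChart p chart k ≫ j' ≫ r = tgtChart p chart k ≫ 𝟙 P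
  obtain ⟨β, hβ1, hβ2⟩ := exists_away_retraction (RelProj.gradedHomAt ι h.graded k.U k.hU)
    (RelProj.gradedHomAt θ hθ k.U k.hU) (hirr k.U k.hU) k.hd k.f k.hf
    (fun a => θ_ι_apply θ hιθ k.U a)
  have h1 : tgtChart p chart k ≫ j' = Spec.map (CommRingCat.ofHom β) ≫ liftSrc h pC chartC k := by
    rw [← cancel_mono (RelCone.pointedProjCone 𝒮 h pC chartC).ι, Category.assoc, Category.assoc, hj',
      Category.assoc, liftSrc_ι, emb_comp_relProjMap θ hθ hirr j hj k.U k.hU, ← Category.assoc, ← hβ1,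
      Category.assoc]
  rw [← Category.assoc, h1, Category.assoc, hr k (liftSrc h pC chartC k) (liftSrc_ι h k),
    ← Spec.map_comp_assoc, ← CommRingCat.ofHom_comp, hβ2, Category.comp_id]
  simp

end Groth.Agent.Lib.Helper42
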