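import Groth.Agent.Lib.Helper42.DomQPair
import Groth.Agent.Lib.Helper42.ConeRetractionProj

/-!
# Functoriality of the projective cone over a morphism of bases
-/

set_option autoImplicit false
universe u

open CategoryTheory CategoryTheory.Limits AlgebraicGeometry TopologicalSpace Opposite
open HomogeneousLocalization
open scoped HomogeneousIdeal

namespace Groth.Agent.Lib.Helper42

variable {Y Y' : Scheme.{u}} {q : Y' ⟶ Y}
  {𝒮 : RelProj.QCGrAlg Y} {𝒮' : RelProj.QCGrAlg Y'} (u : RelProj.QGrHom q 𝒮 𝒮')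
  {𝒮h : RelProj.QCGrAlg Y} {ι : 𝒮.toQCAlg ⟶ 𝒮h.toQCAlg} {z : 𝒮h.presheaf.obj (op ⊤)}
  (hz : RelCone.IsPolyOver 𝒮 𝒮h ι z)
  {𝒮h' : RelProj.QCGrAlg Y'} {ι' : 𝒮'.toQCAlg ⟶ 𝒮h'.toQCAlg} {z' : 𝒮h'.presheaf.obj (op ⊤)}
  (hz' : RelCone.IsPolyOver 𝒮' 𝒮h' ι' z')
  (uh : RelProj.QGrHom q 𝒮h 𝒮h')
  (huh : ∀ U : Y.Opens, ι.hom.app (op U) ≫ uh.app U = u.app U ≫ ι'.hom.app (op (q ⁻¹ᵁ U)))
  (huhz : (uh.app ⊤).hom z = RelCone.restrictTop 𝒮h' z' (q ⁻¹ᵁ ⊤))

include huh in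
/-- `φ̂ ∘ ι = ι' ∘ φ` over affine pairs. -/
theorem uh_ι (U : Y.Opens) (hU : IsAffineOpen U) (U' : Y'.Opens) (hU' : IsAffineOpen U')
    (hle : U' ≤ q ⁻¹ᵁ U) (a : 𝒮.presheaf.obj (op U)) :
    uh.gradedAt U hU U' hU' hle (RelProj.gradedHomAt ι hz.graded U hU a) =
      RelProj.gradedHomAt ι' hz'.graded U' hU' (u.gradedAt U hU U' hU' hle a) := by
  change (𝒮h'.presheaf.map (homOfLE hle).op).hom ((uh.app U).hom ((ι.hom.app (op U)).hom a)) =
    (ι'.hom.app (op U')).hom ((𝒮'.presheaf.map (homOfLE hle).op).hom ((u.app U).hom a))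
  have h1 := congrArg (fun m => m.hom a) (huh U)
  have h1' : (uh.app U).hom ((ι.hom.app (op U)).hom a) =
      (ι'.hom.app (op (q ⁻¹ᵁ U))).hom ((u.app U).hom a) := h1
  rw [h1']
  have h2 := congrArg (fun m => m.hom ((u.app U).hom a)) (ι'.hom.naturality (homOfLE hle).op)
  exact h2.symm

include huhz in
/-- `φ̂(z) = z'` over affine pairs. -/
theorem uh_z (U : Y.Opens) (hU : IsAffineOpen U) (U' : Y'.Opens) (hU' : IsAffineOpen U')
    (hle : U' ≤ q ⁻¹ᵁ U) :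
    uh.gradedAt U hU U' hU' hle (RelCone.restrictTop 𝒮h z U) = RelCone.restrictTop 𝒮h' z' U' := by
  change (𝒮h'.presheaf.map (homOfLE hle).op).hom
    ((uh.app U).hom ((𝒮h.presheaf.map (homOfLE (le_top : U ≤ ⊤)).op).hom z)) =
      (𝒮h'.presheaf.map (homOfLE (le_top : U' ≤ ⊤)).op).hom z'
  have h1 := congrArg (fun m => m.hom z) (uh.naturality (le_top : U ≤ ⊤))
  have h1' : (uh.app U).hom ((𝒮h.presheaf.map (homOfLE (le_top : U ≤ ⊤)).op).hom z) =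
      (𝒮h'.presheaf.map (homOfLE (q.preimage_mono (le_top : U ≤ ⊤))).op).hom ((uh.app ⊤).hom z) :=
    h1.symm
  rw [h1', huhz]
  unfold RelCone.restrictTop
  rw [← CommRingCat.comp_apply, ← CommRingCat.comp_apply, ← Functor.map_comp, ← Functor.map_comp]
  rfl

variable {PC PC' : Scheme.{u}} {pC : PC ⟶ Y}
  {chartC : ∀ (U : Y.Opens) (hU : IsAffineOpen U), (((pC ⁻¹ᵁ U : PC.Opens) : Scheme.{u}) ≅ Proj (𝒮h.deg U hU))}
  (hC : RelProj.IsRelProj 𝒮h pC chartC)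
  {pC' : PC' ⟶ Y'}
  {chartC' : ∀ (U : Y'.Opens) (hU : IsAffineOpen U), (((pC' ⁻¹ᵁ U : PC'.Opens) : Scheme.{u}) ≅ Proj (𝒮h'.deg U hU))}
  (hC' : RelProj.IsRelProj 𝒮h' pC' chartC')
  {Φh : ((RelProj.domQ uh pC' chartC' : PC'.Opens) : Scheme.{u}) ⟶ PC}
  (hΦh : RelProj.IsProjQMapOn uh pC chartC pC' chartC' (RelProj.domQ uh pC' chartC') Φh)

include hΦh in
/-- The value of `Φ̂` at a point of a standard chart. -/
theorem Φh_lft_apply (k : QIdx q 𝒮h)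
    (q₀ : Spec (CommRingCat.of (Away (𝒮h'.deg k.U' k.hU') (k.psi uh k.f)))) :
    Φh.base ((k.lft uh pC' chartC').base q₀) = (RelProj.emb pC chartC k.U k.hU).base
      ((Proj.awayι (𝒮h.deg k.U k.hU) k.f k.hf k.hd).base
        ((Spec.map (CommRingCat.ofHom (Away.map (k.psi uh) k.f))).base q₀)) := by
  have hΦ := (isProjQMapOn_iff uh pC chartC pC' chartC' Φh).mp hΦh k
  have h1 := congrArg (fun m => m.base q₀) hΦ
  exact h1

include huh hC hC' hΦh in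
/-- `Φ̂⁻¹(Ê) ⊆ Ê'`. -/
theorem preimage_pointed_le (x : ((RelProj.domQ uh pC' chartC' : PC'.Opens) : Scheme.{u}))
    (hx : Φh.base x ∈ RelCone.pointedProjCone 𝒮 hz pC chartC) :
    x.1 ∈ RelCone.pointedProjCone 𝒮' hz' pC' chartC' := by
  obtain ⟨k, q₀, rfl⟩ := exists_lft_eq uh pC' chartC' x
  rw [Φh_lft_apply uh hΦh k q₀, emb_mem_pointedProjCone_iff hz hC k.U k.hU] at hx
  obtain ⟨e, he, g, hg, hgx⟩ := exists_mem_basicOpen_of_mem_domOpen _ _ hx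
  rw [awayι_mem_basicOpen_iff (k.psi uh) k.hd he k.hf
    (Graded.map_mem (RelProj.gradedHomAt ι hz.graded k.U k.hU) hg) q₀] at hgx
  rw [QIdx.lft_apply, emb_mem_pointedProjCone_iff hz' hC' k.U' k.hU', RelCone.mem_domOpen]
  refine ⟨u.gradedAt k.U k.hU k.U' k.hU' k.hle g,
    HomogeneousIdeal.mem_irrelevant_of_mem _ he (Graded.map_mem _ hg), ?_⟩
  rw [← uh_ι u hz hz' uh huh]
  exact (ProjectiveSpectrum.mem_basicOpen _ _ _).mp hgx

variable {P' : Scheme.{u}} {p' : P' ⟶ Y'}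
  {chart' : ∀ (U : Y'.Opens) (hU : IsAffineOpen U), (((p' ⁻¹ᵁ U : P'.Opens) : Scheme.{u}) ≅ Proj (𝒮'.deg U hU))}
  (hP' : RelProj.IsRelProj 𝒮' p' chart')

/-- The point of `Proj 𝒮'(U')` under a point of the pointed cone of `Proj 𝒮h'(U')`. -/
def comapPoint (U' : Y'.Opens) (hU' : IsAffineOpen U') (w : Proj (𝒮h'.deg U' hU'))
    (hw : w ∈ RelCone.domOpen (RelProj.gradedHomAt ι' hz'.graded U' hU')) :
    ProjectiveSpectrum (𝒮'.deg U' hU') :=
  { asHomogeneousIdeal := w.asHomogeneousIdeal.comap (RelProj.gradedHomAt ι' hz'.graded U' hU')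
    isPrime := w.isPrime.comap _
    not_irrelevant_le := fun hle' => by
      obtain ⟨g', hg', hg'w⟩ := (RelCone.mem_domOpen _ _).mp hw
      exact hg'w (hle' hg') }

theorem mem_comapPoint_iff (U' : Y'.Opens) (hU' : IsAffineOpen U') (w : Proj (𝒮h'.deg U' hU'))
    (hw : w ∈ RelCone.domOpen (RelProj.gradedHomAt ι' hz'.graded U' hU'))
    (a : 𝒮'.presheaf.obj (op U')) :
    a ∈ (comapPoint hz' U' hU' w hw).asHomogeneousIdeal ↔
      RelProj.gradedHomAt ι' hz'.graded U' hU' a ∈ w.asHomogeneousIdeal := Iff.rfl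

include hz hz' huh huhz hP' in
/-- If `Proj(φ)` is everywhere defined, so is `Proj(φ̂)`. -/
theorem domQ_uh_eq_top (htop : RelProj.domQ u p' chart' = ⊤) :
    RelProj.domQ uh pC' chartC' = ⊤ := by
  rw [eq_top_iff]
  intro x _
  obtain ⟨U, hU, U', hU', hle, hy⟩ := exists_affine_pair q (pC'.base x)
  have hx : x ∈ pC' ⁻¹ᵁ U' := hy
  rw [← opensRange_emb 𝒮h' pC' chartC' U' hU'] at hx
  obtain ⟨w, rfl⟩ := hx
  apply emb_mem_domQ_of_mem_domOpen uh U hU U' hU' hle w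
  by_cases hw : w ∈ RelCone.domOpen (RelProj.gradedHomAt ι' hz'.graded U' hU')
  · have hv : (RelProj.emb p' chart' U' hU').base (comapPoint hz' U' hU' w hw) ∈
        RelProj.domQ u p' chart' := by rw [htop]; trivial
    have hv' := mem_domOpen_of_emb_mem_domQ u hP' U hU U' hU' hle _ hv
    obtain ⟨g, hg, hgv⟩ := (RelCone.mem_domOpen _ _).mp hv'
    rw [RelCone.mem_domOpen]
    refine ⟨RelProj.gradedHomAt ι hz.graded U hU g, map_mem_irrelevant _ hg, ?_⟩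
    rw [uh_ι u hz hz' uh huh]
    exact hgv
  · have h1 := z_not_mem_of_not_mem_domOpen hz' U' hU' w hw
    rw [RelCone.mem_domOpen]
    refine ⟨RelCone.restrictTop 𝒮h z U,
      HomogeneousIdeal.mem_irrelevant_of_mem _ one_pos (hz.deg_z U hU), ?_⟩
    rw [uh_z uh huhz]
    exact (ProjectiveSpectrum.mem_basicOpen _ _ _).mp h1

include huh hC hC' hΦh hP' in
/-- If `Proj(φ)` is everywhere defined, `Ê' ⊆ Φ̂⁻¹(Ê)`. -/
theorem pointed_le_preimage (htop : RelProj.domQ u p' chart' = ⊤)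
    (x : ((RelProj.domQ uh pC' chartC' : PC'.Opens) : Scheme.{u}))
    (hx : x.1 ∈ RelCone.pointedProjCone 𝒮' hz' pC' chartC') :
    Φh.base x ∈ RelCone.pointedProjCone 𝒮 hz pC chartC := by
  obtain ⟨U, hU, U', hU', hle, hy⟩ := exists_affine_pair q (pC'.base x.1)
  have hx' : x.1 ∈ pC' ⁻¹ᵁ U' := hy
  rw [← opensRange_emb 𝒮h' pC' chartC' U' hU'] at hx'
  obtain ⟨w, hw⟩ := hx'
  have hw' : (RelProj.emb pC' chartC' U' hU').base w = x.1 := hw
  rw [← hw', emb_mem_pointedProjCone_iff hz' hC' U' hU'] at hx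
  have hv : (RelProj.emb p' chart' U' hU').base (comapPoint hz' U' hU' w hx) ∈
      RelProj.domQ u p' chart' := by rw [htop]; trivial
  have hv' := mem_domOpen_of_emb_mem_domQ u hP' U hU U' hU' hle _ hv
  obtain ⟨e, he, g, hg, hgv⟩ := exists_mem_basicOpen_of_mem_domOpen _ _ hv'
  have hwg : w ∈ Proj.basicOpen (𝒮h'.deg U' hU')
      (uh.gradedAt U hU U' hU' hle (RelProj.gradedHomAt ι hz.graded U hU g)) := by
    rw [uh_ι u hz hz' uh huh]
    exact (ProjectiveSpectrum.mem_basicOpen _ _ _).mpr ((ProjectiveSpectrum.mem_basicOpen _ _ _).mp hgv)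
  let k : QIdx q 𝒮h := ⟨U, hU, U', hU', hle, e, he, RelProj.gradedHomAt ι hz.graded U hU g,
    Graded.map_mem (RelProj.gradedHomAt ι hz.graded U hU) hg⟩
  have hwg' : w ∈ Proj.basicOpen (𝒮h'.deg k.U' k.hU') (k.psi uh k.f) := hwg
  rw [← Proj.opensRange_awayι _ _ (Graded.map_mem (k.psi uh) k.hf) k.hd] at hwg'
  obtain ⟨q₀, hq₀⟩ := hwg'
  have hxk : (k.lft uh pC' chartC').base q₀ = x := by
    apply Subtype.ext
    rw [QIdx.lft_apply, ← hw']
    exact congrArg _ hq₀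
  rw [← hxk, Φh_lft_apply uh hΦh k q₀, emb_mem_pointedProjCone_iff hz hC k.U k.hU, RelCone.mem_domOpen]
  refine ⟨g, HomogeneousIdeal.mem_irrelevant_of_mem _ he hg, ?_⟩
  have h3 : (Proj.awayι (𝒮h.deg k.U k.hU) k.f k.hf k.hd).base
      ((Spec.map (CommRingCat.ofHom (Away.map (k.psi uh) k.f))).base q₀) ∈
      Proj.basicOpen (𝒮h.deg k.U k.hU) k.f := by
    rw [← Proj.opensRange_awayι _ _ k.hf k.hd]
    exact ⟨_, rfl⟩
  exact (ProjectiveSpectrum.mem_basicOpen _ _ _).mp h3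

end Groth.Agent.Lib.Helper42
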