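import Groth.Agent.Lib.Helper42.ConeQMapRetraction

/-!
# Functoriality of the projective cone: compatibility with the cone immersions
-/

set_option autoImplicit false
universe u

open CategoryTheory CategoryTheory.Limits AlgebraicGeometry TopologicalSpace Opposite
open HomogeneousLocalization Polynomial
open scoped HomogeneousIdeal

namespace Groth.Agent.Lib.Helper42

section transport

variable {D ω : Type u} [CommRing D] [SetLike ω D] [AddSubgroupClass ω D] {𝒟 : ℕ → ω} [GradedRing 𝒟]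

/-- Transport of the standard chart along an equality of elements. -/
theorem exists_away_eq_transport {d : ℕ} (hd : 0 < d) (f f' : D) (hf : f ∈ 𝒟 d) (hf' : f' ∈ 𝒟 d)
    (hff' : f = f') :
    ∃ e₁ : Away 𝒟 f →+* Away 𝒟 f',
      Spec.map (CommRingCat.ofHom e₁) ≫ Proj.awayι 𝒟 f hf hd = Proj.awayι 𝒟 f' hf' hd ∧
        ∀ (n : ℕ) (a : D) (ha : a ∈ 𝒟 (n • d)), e₁ (Away.mk 𝒟 hf n a ha) = Away.mk 𝒟 hf' n a ha := by
  subst hff'
  refine ⟨RingHom.id _, ?_, fun n a ha => rfl⟩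
  change Spec.map (𝟙 _) ≫ _ = _
  rw [Spec.map_id, Category.id_comp]

end transport

section cover

variable {Y Y' : Scheme.{u}}

/-- Two morphisms out of a relative spectrum over `Y'` agreeing on the charts over the affine opens
belonging to affine pairs are equal. -/
theorem spec_hom_ext_pairs (q : Y' ⟶ Y) (A' : RelSpec.QCAlg Y') {Z : Scheme.{u}} (f f' : A'.spec ⟶ Z)
    (H : ∀ (U : Y.Opens) (_ : IsAffineOpen U) (U' : Y'.Opens) (hU' : IsAffineOpen U')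
      (_ : U' ≤ q ⁻¹ᵁ U), A'.ι U' hU' ≫ f = A'.ι U' hU' ≫ f') : f = f' := by
  let 𝒰 : Scheme.OpenCover.{u} A'.spec := Scheme.Cover.mkOfCovers (AffPair q)
    (fun V => Spec (A'.presheaf.obj (op V.U'))) (fun V => A'.ι V.U' V.hU') (by
      intro c
      obtain ⟨U, hU, U', hU', hle, hy⟩ := exists_affine_pair q (A'.π.base c)
      have hc : c ∈ A'.π ⁻¹ᵁ U' := hy
      rw [A'.π_preimage U' hU'] at hc
      obtain ⟨x, hx⟩ := hc
      exact ⟨⟨U, hU, U', hU', hle⟩, x, hx⟩)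
  apply 𝒰.hom_ext
  intro (V : AffPair q)
  exact H V.U V.hU V.U' V.hU' V.hle

end cover

variable {Y Y' : Scheme.{u}} {q : Y' ⟶ Y}
  {𝒮 : RelProj.QCGrAlg Y} {𝒮' : RelProj.QCGrAlg Y'} (u : RelProj.QGrHom q 𝒮 𝒮')
  {𝒮h : RelProj.QCGrAlg Y} {ι : 𝒮.toQCAlg ⟶ 𝒮h.toQCAlg} {z : 𝒮h.presheaf.obj (op ⊤)}
  (hz : RelCone.IsPolyOver 𝒮 𝒮h ι z)
  {𝒮h' : RelProj.QCGrAlg Y'} {ι' : 𝒮'.toQCAlg ⟶ 𝒮h'.toQCAlg} {z' : 𝒮h'.presheaf.obj (op ⊤)}
  (hz' : RelCone.IsPolyOver 𝒮' 𝒮h' ι' z')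
  (uh : RelProj.QGrHom q 𝒮h 𝒮h')
  (huh : ∀ U : Y.Opens, ι.hom.app (op U) ≫ uh.app U = u.app U ≫ ι'.hom.app (op (q ⁻¹ᵁ U)))
  (huhz : (uh.app ⊤).hom z = RelCone.restrictTop 𝒮h' z' (q ⁻¹ᵁ ⊤))

include huh huhz in
/-- "Setting `z = 1`" commutes with `φ̂` and `φ`. -/
theorem evalOne_comm (U : Y.Opens) (hU : IsAffineOpen U) (U' : Y'.Opens) (hU' : IsAffineOpen U')
    (hle : U' ≤ q ⁻¹ᵁ U) (a : 𝒮h.presheaf.obj (op U)) :
    hz'.evalOne U' hU' (uh.gradedAt U hU U' hU' hle a) =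
      u.gradedAt U hU U' hU' hle (hz.evalOne U hU a) := by
  obtain ⟨p, rfl⟩ := (hz.polyEquiv U hU).surjective a
  have key : ((hz'.evalOne U' hU').comp (uh.gradedAt U hU U' hU' hle).toRingHom).comp
      (hz.polyEquiv U hU).toRingHom =
      ((u.gradedAt U hU U' hU' hle).toRingHom.comp (hz.evalOne U hU)).comp
        (hz.polyEquiv U hU).toRingHom := by
    apply Polynomial.ringHom_ext
    · intro a
      change hz'.evalOne U' hU' (uh.gradedAt U hU U' hU' hle (hz.polyEquiv U hU (C a))) =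
        u.gradedAt U hU U' hU' hle (hz.evalOne U hU (hz.polyEquiv U hU (C a)))
      rw [hz.polyEquiv_apply, eval₂_C]
      have h1 := uh_ι u hz hz' uh huh U hU U' hU' hle a
      have h1' : uh.gradedAt U hU U' hU' hle ((ι.hom.app (op U)).hom a) =
          (ι'.hom.app (op U')).hom (u.gradedAt U hU U' hU' hle a) := h1
      rw [h1', hz'.evalOne_ι, hz.evalOne_ι]
    · change hz'.evalOne U' hU' (uh.gradedAt U hU U' hU' hle (hz.polyEquiv U hU X)) =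
        u.gradedAt U hU U' hU' hle (hz.evalOne U hU (hz.polyEquiv U hU X))
      rw [hz.polyEquiv_apply, eval₂_X, uh_z uh huhz, hz'.evalOne_z, hz.evalOne_z, map_one]
  exact congrArg (fun φ => φ p) key

variable {PC PC' : Scheme.{u}} {pC : PC ⟶ Y}
  {chartC : ∀ (U : Y.Opens) (hU : IsAffineOpen U), (((pC ⁻¹ᵁ U : PC.Opens) : Scheme.{u}) ≅ Proj (𝒮h.deg U hU))}
  {pC' : PC' ⟶ Y'}
  {chartC' : ∀ (U : Y'.Opens) (hU : IsAffineOpen U), (((pC' ⁻¹ᵁ U : PC'.Opens) : Scheme.{u}) ≅ Proj (𝒮h'.deg U hU))}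
  {Φh : ((RelProj.domQ uh pC' chartC' : PC'.Opens) : Scheme.{u}) ⟶ PC}
  (hΦh : RelProj.IsProjQMapOn uh pC chartC pC' chartC' (RelProj.domQ uh pC' chartC') Φh)
  {i : 𝒮.toQCAlg.spec ⟶ PC} (hi : RelCone.IsConeImm 𝒮 hz pC chartC i)
  {i' : 𝒮'.toQCAlg.spec ⟶ PC'} (hi' : RelCone.IsConeImm 𝒮' hz' pC' chartC' i')

/-- The index of the chart of `G(φ̂)` at `z`. -/
noncomputable abbrev kz (U : Y.Opens) (hU : IsAffineOpen U) (U' : Y'.Opens) (hU' : IsAffineOpen U')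
    (hle : U' ≤ q ⁻¹ᵁ U) : QIdx q 𝒮h :=
  ⟨U, hU, U', hU', hle, 1, one_pos, RelCone.restrictTop 𝒮h z U, hz.deg_z U hU⟩

include hz huhz hi' in
/-- The image of the affine cone lies in `G(φ̂)`. -/
theorem range_coneImm_subset_domQ :
    Set.range i'.base ⊆ ((RelProj.domQ uh pC' chartC' : PC'.Opens) : Set PC') := by
  rintro _ ⟨c, rfl⟩
  obtain ⟨U, hU, U', hU', hle, hy⟩ := exists_affine_pair q (𝒮'.toQCAlg.π.base c)
  have hc : c ∈ 𝒮'.toQCAlg.π ⁻¹ᵁ U' := hy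
  rw [𝒮'.toQCAlg.π_preimage U' hU'] at hc
  obtain ⟨x, rfl⟩ := hc
  change i'.base ((𝒮'.toQCAlg.ι U' hU').base x) ∈ RelProj.domQ uh pC' chartC'
  rw [coneImm_ι_apply hz' hi' U' hU' x]
  apply emb_mem_domQ_of_mem_domOpen uh U hU U' hU' hle
  rw [RelCone.mem_domOpen]
  refine ⟨RelCone.restrictTop 𝒮h z U,
    HomogeneousIdeal.mem_irrelevant_of_mem _ one_pos (hz.deg_z U hU), ?_⟩
  rw [uh_z uh huhz]
  have h1 : (Proj.awayι (𝒮h'.deg U' hU') (RelCone.restrictTop 𝒮h' z' U') (hz'.deg_z U' hU') one_pos).base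
      ((Spec.map (CommRingCat.ofHom (hz'.awayZToBase U' hU'))).base x) ∈
      Proj.basicOpen (𝒮h'.deg U' hU') (RelCone.restrictTop 𝒮h' z' U') := by
    rw [← Proj.opensRange_awayι _ _ (hz'.deg_z U' hU') one_pos]
    exact ⟨_, rfl⟩
  exact (ProjectiveSpectrum.mem_basicOpen _ _ _).mp h1

include huh huhz hΦh hi hi' in
/-- The square formed by `Spec(φ)`, the cone immersions and `Φ̂` commutes. -/
theorem coneImm_comm {Φc : 𝒮'.toQCAlg.spec ⟶ 𝒮.toQCAlg.spec} (hΦc : RelSpec.IsSpecQMap u.toQHom Φc)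
    (i'' : 𝒮'.toQCAlg.spec ⟶ ((RelProj.domQ uh pC' chartC' : PC'.Opens) : Scheme.{u}))
    (hi'' : i'' ≫ (RelProj.domQ uh pC' chartC').ι = i') : i'' ≫ Φh = Φc ≫ i := by
  apply spec_hom_ext_pairs q
  intro U hU U' hU' hle
  obtain ⟨e₁, he1, he2⟩ := exists_away_eq_transport (𝒟 := 𝒮h'.deg U' hU') one_pos
    ((kz hz U hU U' hU' hle).psi uh (kz hz U hU U' hU' hle).f) (RelCone.restrictTop 𝒮h' z' U')
    (Graded.map_mem ((kz hz U hU U' hU' hle).psi uh) (kz hz U hU U' hU' hle).hf) (hz'.deg_z U' hU')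
    (uh_z uh huhz U hU U' hU' hle)
  have h1 : 𝒮'.toQCAlg.ι U' hU' ≫ i'' = Spec.map (CommRingCat.ofHom (hz'.awayZToBase U' hU')) ≫
      Spec.map (CommRingCat.ofHom e₁) ≫ (kz hz U hU U' hU' hle).lft uh pC' chartC' := by
    rw [← cancel_mono (RelProj.domQ uh pC' chartC').ι, Category.assoc, hi'', hi' U' hU',
      Category.assoc, Category.assoc, QIdx.lft_ι]
    change _ = Spec.map _ ≫ Spec.map _ ≫ Proj.awayι _ _ _ _ ≫ RelProj.emb pC' chartC' _ _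
    rw [reassoc_of% he1]
  rw [← Category.assoc, h1, Category.assoc, Category.assoc,
    (isProjQMapOn_iff uh pC chartC pC' chartC' Φh).mp hΦh, ← Category.assoc (𝒮'.toQCAlg.ι U' hU'),
    hΦc U hU U' hU' hle, Category.assoc, hi U hU]
  change Spec.map _ ≫ Spec.map _ ≫ Spec.map _ ≫ Proj.awayι _ _ _ _ ≫ RelProj.emb pC chartC _ _ =
    Spec.map _ ≫ Spec.map _ ≫ Proj.awayι _ _ _ _ ≫ RelProj.emb pC chartC _ _
  rw [← Spec.map_comp_assoc, ← Spec.map_comp_assoc, ← Spec.map_comp_assoc]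
  congr 1
  congr 1
  ext x
  obtain ⟨n, a, ha, rfl⟩ := Away.mk_surjective (𝒮h.deg U hU) (hz.deg_z U hU) x
  change hz'.awayZToBase U' hU' (e₁ (Away.map ((kz hz U hU U' hU' hle).psi uh) _ (Away.mk _ _ n a ha))) =
    (u.toQHom.appLE U U' hle).hom (hz.awayZToBase U hU (Away.mk _ _ n a ha))
  rw [Away.map_mk ((kz hz U hU U' hU' hle).psi uh) _ (hz.deg_z U hU) n a ha, he2,
    awayZToBase_mk, awayZToBase_mk]
  exact evalOne_comm u hz hz' uh huh huhz U hU U' hU' hle a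

end Groth.Agent.Lib.Helper42
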