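import Groth.Agent.Lib.Helper42.ConeQMapImm

/-!
# Functoriality of the projective cone: compatibility with the immersions at infinity
-/

set_option autoImplicit false
universe u

open CategoryTheory CategoryTheory.Limits AlgebraicGeometry TopologicalSpace Opposite
open HomogeneousLocalization Polynomial
open scoped HomogeneousIdeal

namespace Groth.Agent.Lib.Helper42

section onebase

variable {Y : Scheme.{u}} {𝒮 𝒮h : RelProj.QCGrAlg Y} {ι : 𝒮.toQCAlg ⟶ 𝒮h.toQCAlg}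
  {z : 𝒮h.presheaf.obj (op ⊤)} (hz : RelCone.IsPolyOver 𝒮 𝒮h ι z)
  (θ : 𝒮h.toQCAlg ⟶ 𝒮.toQCAlg) (hθ : RelProj.IsGradedHom θ) (hιθ : ι ≫ θ = 𝟙 _)
  {PC P : Scheme.{u}} {pC : PC ⟶ Y}
  {chartC : ∀ (U : Y.Opens) (hU : IsAffineOpen U), (((pC ⁻¹ᵁ U : PC.Opens) : Scheme.{u}) ≅ Proj (𝒮h.deg U hU))}
  {p : P ⟶ Y}
  {chart : ∀ (U : Y.Opens) (hU : IsAffineOpen U), (((p ⁻¹ᵁ U : P.Opens) : Scheme.{u}) ≅ Proj (𝒮.deg U hU))}
  {jX : P ⟶ PC} (hjX : RelProj.IsProjQMap (RelProj.QGrHom.ofHom θ hθ) pC chartC p chart jX)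

include hιθ hjX in
/-- The immersion at infinity on the standard chart at `f`: it is `Spec` of `a / (ι f)^n ↦ θ a / f^n`. -/
theorem exists_infinity_chart (k : StdIdx 𝒮) :
    ∃ β : Away (𝒮h.deg k.U k.hU) (RelProj.gradedHomAt ι hz.graded k.U k.hU k.f) →+*
        Away (𝒮.deg k.U k.hU) k.f,
      tgtChart p chart k ≫ jX = Spec.map (CommRingCat.ofHom β) ≫
          srcChart (fun U hU => RelProj.gradedHomAt ι hz.graded U hU) pC chartC k ∧
        ∀ (n : ℕ) (a : 𝒮h.presheaf.obj (op k.U)) (ha : a ∈ 𝒮h.deg k.U k.hU (n • k.d)),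
          β (Away.mk _ (Graded.map_mem (RelProj.gradedHomAt ι hz.graded k.U k.hU) k.hf) n a ha) =
            Away.mk _ k.hf n ((θ.hom.app (op k.U)).hom a) (hθ k.U k.hU _ _ ha) := by
  have hle : k.U ≤ (𝟙 Y) ⁻¹ᵁ k.U := le_rfl
  have hψ := ofHom_gradedAt_self θ hθ k.U k.hU hle
  have hb : (RelProj.QGrHom.ofHom θ hθ).gradedAt k.U k.hU k.U k.hU hle
      (RelProj.gradedHomAt ι hz.graded k.U k.hU k.f) = k.f := by
    rw [hψ]
    exact θ_ι_apply θ hιθ k.U k.f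
  obtain ⟨e₁, he1, he2⟩ := exists_away_eq_transport (𝒟 := 𝒮.deg k.U k.hU) k.hd _ k.f
    (Graded.map_mem ((RelProj.QGrHom.ofHom θ hθ).gradedAt k.U k.hU k.U k.hU hle)
      (Graded.map_mem (RelProj.gradedHomAt ι hz.graded k.U k.hU) k.hf)) k.hf hb
  refine ⟨e₁.comp (Away.map ((RelProj.QGrHom.ofHom θ hθ).gradedAt k.U k.hU k.U k.hU hle)
    (RelProj.gradedHomAt ι hz.graded k.U k.hU k.f)), ?_, ?_⟩
  · have h1 := hjX.2 k.U k.hU k.U k.hU hle k.d k.hd (RelProj.gradedHomAt ι hz.graded k.U k.hU k.f)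
      (Graded.map_mem (RelProj.gradedHomAt ι hz.graded k.U k.hU) k.hf)
    have h2 : Proj.awayι (𝒮.deg k.U k.hU) ((RelProj.QGrHom.ofHom θ hθ).gradedAt k.U k.hU k.U k.hU hle
        (RelProj.gradedHomAt ι hz.graded k.U k.hU k.f))
        (Graded.map_mem ((RelProj.QGrHom.ofHom θ hθ).gradedAt k.U k.hU k.U k.hU hle)
          (Graded.map_mem (RelProj.gradedHomAt ι hz.graded k.U k.hU) k.hf)) k.hd ≫
        RelProj.emb p chart k.U k.hU ≫ jX =
      Spec.map (CommRingCat.ofHom (Away.map ((RelProj.QGrHom.ofHom θ hθ).gradedAt k.U k.hU k.U k.hU hle)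
        (RelProj.gradedHomAt ι hz.graded k.U k.hU k.f))) ≫
        srcChart (fun U hU => RelProj.gradedHomAt ι hz.graded U hU) pC chartC k := by
      rw [← Category.assoc]
      exact h1
    change (Proj.awayι _ _ _ _ ≫ RelProj.emb p chart _ _) ≫ jX = _
    rw [← he1, Category.assoc, Category.assoc, h2, CommRingCat.ofHom_comp, Spec.map_comp,
      Category.assoc]
  · intro n a ha
    rw [RingHom.comp_apply, Away.map_mk _ _ (Graded.map_mem (RelProj.gradedHomAt ι hz.graded k.U k.hU) k.hf) n a ha,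
      he2]
    have h3 : (RelProj.QGrHom.ofHom θ hθ).gradedAt k.U k.hU k.U k.hU hle a =
        (θ.hom.app (op k.U)).hom a := by
      rw [hψ]; rfl
    simp only [h3]

end onebase

variable {Y Y' : Scheme.{u}} {q : Y' ⟶ Y}
  {𝒮 : RelProj.QCGrAlg Y} {𝒮' : RelProj.QCGrAlg Y'} (u : RelProj.QGrHom q 𝒮 𝒮')
  {𝒮h : RelProj.QCGrAlg Y} {ι : 𝒮.toQCAlg ⟶ 𝒮h.toQCAlg} {z : 𝒮h.presheaf.obj (op ⊤)}
  (hz : RelCone.IsPolyOver 𝒮 𝒮h ι z)
  {𝒮h' : RelProj.QCGrAlg Y'} {ι' : 𝒮'.toQCAlg ⟶ 𝒮h'.toQCAlg} {z' : 𝒮h'.presheaf.obj (op ⊤)}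
  (hz' : RelCone.IsPolyOver 𝒮' 𝒮h' ι' z')
  (uh : RelProj.QGrHom q 𝒮h 𝒮h')
  (huh : ∀ U : Y.Opens, ι.hom.app (op U) ≫ uh.app U = u.app U ≫ ι'.hom.app (op (q ⁻¹ᵁ U)))
  (huhz : (uh.app ⊤).hom z = RelCone.restrictTop 𝒮h' z' (q ⁻¹ᵁ ⊤))
  (θ : 𝒮h.toQCAlg ⟶ 𝒮.toQCAlg) (hθ : RelProj.IsGradedHom θ) (hιθ : ι ≫ θ = 𝟙 _)
  (hθz : (θ.hom.app (op ⊤)).hom z = 0)
  (θ' : 𝒮h'.toQCAlg ⟶ 𝒮'.toQCAlg) (hθ' : RelProj.IsGradedHom θ') (hιθ' : ι' ≫ θ' = 𝟙 _)
  (hθz' : (θ'.hom.app (op ⊤)).hom z' = 0)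

include hz hz' huh huhz hιθ hθz hιθ' hθz' in
/-- The retractions killing `z` commute with `φ̂` and `φ`. -/
theorem θ_comm (U : Y.Opens) (hU : IsAffineOpen U) (U' : Y'.Opens) (hU' : IsAffineOpen U')
    (hle : U' ≤ q ⁻¹ᵁ U) (a : 𝒮h.presheaf.obj (op U)) :
    (θ'.hom.app (op U')).hom (uh.gradedAt U hU U' hU' hle a) =
      u.gradedAt U hU U' hU' hle ((θ.hom.app (op U)).hom a) := by
  obtain ⟨p, rfl⟩ := (hz.polyEquiv U hU).surjective a
  have key : (((θ'.hom.app (op U')).hom).comp (uh.gradedAt U hU U' hU' hle).toRingHom).comp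
      (hz.polyEquiv U hU).toRingHom =
      ((u.gradedAt U hU U' hU' hle).toRingHom.comp (θ.hom.app (op U)).hom).comp
        (hz.polyEquiv U hU).toRingHom := by
    apply Polynomial.ringHom_ext
    · intro a
      change (θ'.hom.app (op U')).hom (uh.gradedAt U hU U' hU' hle (hz.polyEquiv U hU (C a))) =
        u.gradedAt U hU U' hU' hle ((θ.hom.app (op U)).hom (hz.polyEquiv U hU (C a)))
      rw [hz.polyEquiv_apply, eval₂_C]
      have h1 := uh_ι u hz hz' uh huh U hU U' hU' hle a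
      have h1' : uh.gradedAt U hU U' hU' hle ((ι.hom.app (op U)).hom a) =
          (ι'.hom.app (op U')).hom (u.gradedAt U hU U' hU' hle a) := h1
      rw [h1', θ_ι_apply θ' hιθ', θ_ι_apply θ hιθ]
    · change (θ'.hom.app (op U')).hom (uh.gradedAt U hU U' hU' hle (hz.polyEquiv U hU X)) =
        u.gradedAt U hU U' hU' hle ((θ.hom.app (op U)).hom (hz.polyEquiv U hU X))
      rw [hz.polyEquiv_apply, eval₂_X, uh_z uh huhz, θ_z θ' hθz', θ_z θ hθz, map_zero]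
  exact congrArg (fun φ => φ p) key

variable {PC PC' : Scheme.{u}} {pC : PC ⟶ Y}
  {chartC : ∀ (U : Y.Opens) (hU : IsAffineOpen U), (((pC ⁻¹ᵁ U : PC.Opens) : Scheme.{u}) ≅ Proj (𝒮h.deg U hU))}
  {pC' : PC' ⟶ Y'}
  {chartC' : ∀ (U : Y'.Opens) (hU : IsAffineOpen U), (((pC' ⁻¹ᵁ U : PC'.Opens) : Scheme.{u}) ≅ Proj (𝒮h'.deg U hU))}
  {Φh : ((RelProj.domQ uh pC' chartC' : PC'.Opens) : Scheme.{u}) ⟶ PC}
  (hΦh : RelProj.IsProjQMapOn uh pC chartC pC' chartC' (RelProj.domQ uh pC' chartC') Φh)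
  {P P' : Scheme.{u}} {p : P ⟶ Y}
  {chart : ∀ (U : Y.Opens) (hU : IsAffineOpen U), (((p ⁻¹ᵁ U : P.Opens) : Scheme.{u}) ≅ Proj (𝒮.deg U hU))}
  {p' : P' ⟶ Y'}
  {chart' : ∀ (U : Y'.Opens) (hU : IsAffineOpen U), (((p' ⁻¹ᵁ U : P'.Opens) : Scheme.{u}) ≅ Proj (𝒮'.deg U hU))}
  {Φ : ((RelProj.domQ u p' chart' : P'.Opens) : Scheme.{u}) ⟶ P}
  (hΦ : RelProj.IsProjQMapOn u p chart p' chart' (RelProj.domQ u p' chart') Φ)
  {jX : P ⟶ PC} (hjX : RelProj.IsProjQMap (RelProj.QGrHom.ofHom θ hθ) pC chartC p chart jX)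
  {jX' : P' ⟶ PC'} (hjX' : RelProj.IsProjQMap (RelProj.QGrHom.ofHom θ' hθ') pC' chartC' p' chart' jX')

include hz hz' huh huhz hιθ hθz hιθ' hθz' hjX hjX' in
/-- The local form of the compatibility with the immersions at infinity. -/
theorem local_infinity_square (k₀ : QIdx q 𝒮) :
    ∃ ρ : Spec (CommRingCat.of (Away (𝒮'.deg k₀.U' k₀.hU') (k₀.psi u k₀.f))) ⟶
        Spec (CommRingCat.of (Away (𝒮h'.deg (khat hz k₀).U' (khat hz k₀).hU')
          ((khat hz k₀).psi uh (khat hz k₀).f))),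
      k₀.src u p' chart' ≫ jX' = ρ ≫ (khat hz k₀).src uh pC' chartC' ∧
        k₀.rho u p chart ≫ jX = ρ ≫ (khat hz k₀).rho uh pC chartC := by
  obtain ⟨β, hβ1, hβ2⟩ := exists_infinity_chart hz θ hθ hιθ hjX (kS k₀)
  obtain ⟨β', hβ1', hβ2'⟩ := exists_infinity_chart hz' θ' hθ' hιθ' hjX' (kS' u k₀)
  obtain ⟨e₁, he1, he2⟩ := exists_away_eq_transport (𝒟 := 𝒮h'.deg k₀.U' k₀.hU') k₀.hd
    ((khat hz k₀).psi uh (khat hz k₀).f)
    (RelProj.gradedHomAt ι' hz'.graded k₀.U' k₀.hU' (k₀.psi u k₀.f))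
    (Graded.map_mem ((khat hz k₀).psi uh) (khat hz k₀).hf)
    (Graded.map_mem (RelProj.gradedHomAt ι' hz'.graded k₀.U' k₀.hU') (Graded.map_mem (k₀.psi u) k₀.hf))
    (uh_ι u hz hz' uh huh k₀.U k₀.hU k₀.U' k₀.hU' k₀.hle k₀.f)
  refine ⟨Spec.map (CommRingCat.ofHom β') ≫ Spec.map (CommRingCat.ofHom e₁), ?_, ?_⟩
  · change tgtChart p' chart' (kS' u k₀) ≫ jX' = _
    rw [hβ1', Category.assoc]
    change Spec.map _ ≫ Proj.awayι _ _ _ _ ≫ RelProj.emb pC' chartC' _ _ =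
      Spec.map _ ≫ Spec.map _ ≫ Proj.awayι _ _ _ _ ≫ RelProj.emb pC' chartC' _ _
    rw [reassoc_of% he1]
  · change (Spec.map _ ≫ tgtChart p chart (kS k₀)) ≫ jX = _
    rw [Category.assoc, hβ1, Category.assoc]
    change Spec.map _ ≫ Spec.map _ ≫ Proj.awayι _ _ _ _ ≫ RelProj.emb pC chartC _ _ =
      Spec.map _ ≫ Spec.map _ ≫ Spec.map _ ≫ Proj.awayι _ _ _ _ ≫ RelProj.emb pC chartC _ _
    rw [← Spec.map_comp_assoc, ← Spec.map_comp_assoc, ← Spec.map_comp_assoc]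
    congr 1
    congr 1
    ext x
    obtain ⟨n, a, ha, rfl⟩ := Away.mk_surjective (𝒮h.deg k₀.U k₀.hU)
      (Graded.map_mem (RelProj.gradedHomAt ι hz.graded k₀.U k₀.hU) k₀.hf) x
    refine congrArg val ?_
    change Away.map (k₀.psi u) k₀.f (β (Away.mk _ _ n a ha)) =
      β' (e₁ (Away.map ((khat hz k₀).psi uh) (khat hz k₀).f (Away.mk _ _ n a ha)))
    rw [hβ2 n a ha, Away.map_mk (k₀.psi u) k₀.f k₀.hf,
      Away.map_mk ((khat hz k₀).psi uh) (khat hz k₀).f (khat hz k₀).hf n a ha, he2, hβ2']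
    have h4 := θ_comm u hz hz' uh huh huhz θ hιθ hθz θ' hιθ' hθz' k₀.U k₀.hU k₀.U' k₀.hU' k₀.hle a
    simp only [h4]

include hz hz' huh huhz hιθ hθz hιθ' hθz' hjX hjX' hΦh hΦ in
/-- The compatibility of `Φ̂`, `Proj(φ)` and the immersions at infinity. -/
theorem qMap_infinity_comm {T : Scheme.{u}}
    (d : T ⟶ ((RelProj.domQ u p' chart' : P'.Opens) : Scheme.{u}))
    (e : T ⟶ ((RelProj.domQ uh pC' chartC' : PC'.Opens) : Scheme.{u}))
    (hde : d ≫ (RelProj.domQ u p' chart').ι ≫ jX' = e ≫ (RelProj.domQ uh pC' chartC').ι) :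
    jX'.base '' ((RelProj.domQ u p' chart' : P'.Opens) : Set P') ⊆
        ((RelProj.domQ uh pC' chartC' : PC'.Opens) : Set PC') ∧
      e ≫ Φh = d ≫ Φ ≫ jX := by
  have hloc := local_infinity_square u hz hz' uh huh huhz θ hθ hιθ hθz θ' hθ' hιθ' hθz'
    (pC := pC) (chartC := chartC) (pC' := pC') (chartC' := chartC') (p := p) (chart := chart)
    (p' := p') (chart' := chart') hjX hjX'
  choose ρ hρ1 hρ2 using hloc
  constructor
  · rintro _ ⟨x, hx, rfl⟩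
    obtain ⟨k₀, q₀, hq₀⟩ := exists_lft_eq u p' chart' ⟨x, hx⟩
    have h1 : x = ((k₀.src u p' chart').base q₀) := by
      have := congrArg Subtype.val hq₀
      rw [QIdx.lft_apply] at this
      exact this.symm
    have h2 := congrArg (fun m => m.base q₀) (hρ1 k₀)
    have h3 : jX'.base ((k₀.src u p' chart').base q₀) =
        ((khat hz k₀).src uh pC' chartC').base ((ρ k₀).base q₀) := h2
    rw [h1, h3, ← QIdx.lft_ι]
    exact (((khat hz k₀).lft uh pC' chartC').base _).2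
  · have hchart : ∀ t : T, ∃ (k₀ : QIdx q 𝒮) (q₀ : _), (k₀.lft u p' chart').base q₀ = d.base t :=
      fun t => exists_lft_eq u p' chart' (d.base t)
    choose k₀ q₀ hq₀ using hchart
    let Tt : T → T.Opens := fun t => d ⁻¹ᵁ ((k₀ t).lft u p' chart').opensRange
    have htT : ∀ t, t ∈ Tt t := fun t => ⟨q₀ t, hq₀ t⟩
    have hrange : ∀ t, Set.range ((Tt t).ι ≫ d).base ⊆ Set.range ((k₀ t).lft u p' chart').base := by
      rintro t _ ⟨s, rfl⟩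
      exact s.2
    let δ := fun t => IsOpenImmersion.lift ((k₀ t).lft u p' chart') ((Tt t).ι ≫ d) (hrange t)
    have hδ : ∀ t, δ t ≫ (k₀ t).lft u p' chart' = (Tt t).ι ≫ d :=
      fun t => IsOpenImmersion.lift_fac _ _ _
    let 𝒰 : Scheme.OpenCover.{u} T := Scheme.Cover.mkOfCovers T
      (fun t => ((Tt t : T.Opens) : Scheme.{u})) (fun t => (Tt t).ι) (fun t => ⟨t, ⟨t, htT t⟩, rfl⟩)
    apply 𝒰.hom_ext
    intro (t : T)
    change (Tt t).ι ≫ e ≫ Φh = (Tt t).ι ≫ d ≫ Φ ≫ jX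
    have h1 : (Tt t).ι ≫ e = δ t ≫ ρ (k₀ t) ≫ (khat hz (k₀ t)).lft uh pC' chartC' := by
      rw [← cancel_mono (RelProj.domQ uh pC' chartC').ι, Category.assoc, ← hde, ← Category.assoc,
        ← hδ t, Category.assoc, Category.assoc, Category.assoc, QIdx.lft_ι, QIdx.lft_ι_assoc, hρ1]
    have h2 : (Tt t).ι ≫ e ≫ Φh = δ t ≫ ρ (k₀ t) ≫ (khat hz (k₀ t)).rho uh pC chartC := by
      rw [← Category.assoc, h1, Category.assoc, Category.assoc,
        (isProjQMapOn_iff uh pC chartC pC' chartC' Φh).mp hΦh]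
    have h3 : (Tt t).ι ≫ d ≫ Φ ≫ jX = δ t ≫ (k₀ t).rho u p chart ≫ jX := by
      rw [← Category.assoc, ← hδ t, Category.assoc, ← Category.assoc _ Φ,
        (isProjQMapOn_iff u p chart p' chart' Φ).mp hΦ]
    rw [h2, h3, hρ2]

end Groth.Agent.Lib.Helper42
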