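import Groth.Agent.Lib.Helper42.ConeQMap

/-!
# Functoriality of the projective cone: compatibility with the retractions
-/

set_option autoImplicit false
universe u

open CategoryTheory CategoryTheory.Limits AlgebraicGeometry TopologicalSpace Opposite
open HomogeneousLocalization
open scoped HomogeneousIdeal

namespace Groth.Agent.Lib.Helper42

section general

variable {Y : Scheme.{u}} {PA PB : Scheme.{u}} {𝒜 ℬ : RelProj.QCGrAlg Y}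
  (φ : 𝒜.toQCAlg ⟶ ℬ.toQCAlg) (hφ : RelProj.IsGradedHom φ)
  {pA : PA ⟶ Y} {pB : PB ⟶ Y}
  {chartA : ∀ (U : Y.Opens) (hU : IsAffineOpen U), (((pA ⁻¹ᵁ U : PA.Opens) : Scheme.{u}) ≅ Proj (𝒜.deg U hU))}
  {chartB : ∀ (U : Y.Opens) (hU : IsAffineOpen U), (((pB ⁻¹ᵁ U : PB.Opens) : Scheme.{u}) ≅ Proj (ℬ.deg U hU))}
  (ψ : ∀ (U : Y.Opens) (hU : IsAffineOpen U), 𝒜.deg U hU →+*ᵍ ℬ.deg U hU)
  (hψ : ∀ (U : Y.Opens) (hU : IsAffineOpen U), ψ U hU = RelProj.gradedHomAt φ hφ U hU)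
  (W : PB.Opens) (hW : W = RelProj.domQ (RelProj.QGrHom.ofHom φ hφ) pB chartB)

include hψ hW in
/-- `IsProjQMapOn` for a homomorphism over one base gives the pinning on the charts over the pairs `(U, U)`. -/
theorem pinnedOn_of_isProjQMapOn {r : (W : Scheme.{u}) ⟶ PA}
    (hr : RelProj.IsProjQMapOn (RelProj.QGrHom.ofHom φ hφ) pA chartA pB chartB W r) :
    PinnedOn ψ W pA chartA pB chartB r := by
  obtain rfl := ψ_eq_psi φ hφ ψ hψ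
  subst hW
  intro i g hg
  have hgl : g = liftChart φ hφ pB chartB i := by
    rw [← cancel_mono (RelProj.domQ (RelProj.QGrHom.ofHom φ hφ) pB chartB).ι, hg, liftChart_ι]
    rfl
  subst hgl
  exact liftChart_comp φ hφ hr i

end general

section transport

variable {A B C D σ τ υ ω : Type u} [CommRing A] [CommRing B] [CommRing C] [CommRing D]
  [SetLike σ A] [AddSubgroupClass σ A] [SetLike τ B] [AddSubgroupClass τ B]
  [SetLike υ C] [AddSubgroupClass υ C] [SetLike ω D] [AddSubgroupClass ω D]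
  {𝒜 : ℕ → σ} {ℬ : ℕ → τ} {𝒞 : ℕ → υ} {𝒟 : ℕ → ω}
  [GradedRing 𝒜] [GradedRing ℬ] [GradedRing 𝒞] [GradedRing 𝒟]

/-- A commutative square of graded homomorphisms induces a commutative square on the standard
charts, up to the transport along `ψ₂ (ψ₁ f) = ψ₄ (ψ₃ f)`. -/
theorem exists_away_transport (ψ₁ : 𝒜 →+*ᵍ ℬ) (ψ₂ : ℬ →+*ᵍ 𝒟) (ψ₃ : 𝒜 →+*ᵍ 𝒞) (ψ₄ : 𝒞 →+*ᵍ 𝒟)
    (hcomm : ∀ a, ψ₂ (ψ₁ a) = ψ₄ (ψ₃ a)) {d : ℕ} (hd : 0 < d) (f : A) (hf : f ∈ 𝒜 d) :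
    ∃ e₁ : Away 𝒟 (ψ₄ (ψ₃ f)) →+* Away 𝒟 (ψ₂ (ψ₁ f)),
      Spec.map (CommRingCat.ofHom e₁) ≫
          Proj.awayι 𝒟 (ψ₄ (ψ₃ f)) (Graded.map_mem ψ₄ (Graded.map_mem ψ₃ hf)) hd =
        Proj.awayι 𝒟 (ψ₂ (ψ₁ f)) (Graded.map_mem ψ₂ (Graded.map_mem ψ₁ hf)) hd ∧
      (e₁.comp (Away.map ψ₄ (ψ₃ f))).comp (Away.map ψ₃ f) =
        (Away.map ψ₂ (ψ₁ f)).comp (Away.map ψ₁ f) := by
  have key : ∀ (f' : D) (hf' : ψ₂ (ψ₁ f) = f') (hm : f' ∈ 𝒟 d),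
      ∃ e₁ : Away 𝒟 f' →+* Away 𝒟 (ψ₂ (ψ₁ f)),
        Spec.map (CommRingCat.ofHom e₁) ≫ Proj.awayι 𝒟 f' hm hd =
          Proj.awayι 𝒟 (ψ₂ (ψ₁ f)) (Graded.map_mem ψ₂ (Graded.map_mem ψ₁ hf)) hd ∧
        ∀ (n : ℕ) (a : D) (ha : a ∈ 𝒟 (n • d)),
          e₁ (Away.mk 𝒟 hm n a ha) =
            Away.mk 𝒟 (Graded.map_mem ψ₂ (Graded.map_mem ψ₁ hf)) n a ha := by
    intro f' hf' hm
    subst hf'
    refine ⟨RingHom.id _, ?_, fun n a ha => rfl⟩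
    change Spec.map (𝟙 _) ≫ _ = _
    rw [Spec.map_id, Category.id_comp]
  obtain ⟨e₁, h1, h2⟩ := key _ (hcomm f) (Graded.map_mem ψ₄ (Graded.map_mem ψ₃ hf))
  refine ⟨e₁, h1, ?_⟩
  ext x
  obtain ⟨n, a, ha, rfl⟩ := Away.mk_surjective 𝒜 hf x
  simp only [RingHom.comp_apply]
  rw [Away.map_mk ψ₃ f hf n a ha, Away.map_mk ψ₄ (ψ₃ f) (Graded.map_mem ψ₃ hf), h2,
    Away.map_mk ψ₁ f hf n a ha, Away.map_mk ψ₂ (ψ₁ f) (Graded.map_mem ψ₁ hf)]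
  simp only [hcomm a]

end transport

variable {Y Y' : Scheme.{u}} {q : Y' ⟶ Y}
  {𝒮 : RelProj.QCGrAlg Y} {𝒮' : RelProj.QCGrAlg Y'} (u : RelProj.QGrHom q 𝒮 𝒮')
  {𝒮h : RelProj.QCGrAlg Y} {ι : 𝒮.toQCAlg ⟶ 𝒮h.toQCAlg} {z : 𝒮h.presheaf.obj (op ⊤)}
  (hz : RelCone.IsPolyOver 𝒮 𝒮h ι z)
  {𝒮h' : RelProj.QCGrAlg Y'} {ι' : 𝒮'.toQCAlg ⟶ 𝒮h'.toQCAlg} {z' : 𝒮h'.presheaf.obj (op ⊤)}
  (hz' : RelCone.IsPolyOver 𝒮' 𝒮h' ι' z')
  (uh : RelProj.QGrHom q 𝒮h 𝒮h')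
  (huh : ∀ U : Y.Opens, ι.hom.app (op U) ≫ uh.app U = u.app U ≫ ι'.hom.app (op (q ⁻¹ᵁ U)))

/-- The index of the chart of `G(φ̂)` at `ι f`. -/
noncomputable abbrev khat (k₀ : QIdx q 𝒮) : QIdx q 𝒮h :=
  ⟨k₀.U, k₀.hU, k₀.U', k₀.hU', k₀.hle, k₀.d, k₀.hd, RelProj.gradedHomAt ι hz.graded k₀.U k₀.hU k₀.f,
    Graded.map_mem (RelProj.gradedHomAt ι hz.graded k₀.U k₀.hU) k₀.hf⟩

/-- The index of the chart of `Proj 𝒮` at `f`. -/
abbrev kS (k₀ : QIdx q 𝒮) : StdIdx 𝒮 := ⟨k₀.U, k₀.hU, k₀.d, k₀.hd, k₀.f, k₀.hf⟩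

/-- The index of the chart of `Proj 𝒮'` at `φ f`. -/
noncomputable abbrev kS' (k₀ : QIdx q 𝒮) : StdIdx 𝒮' :=
  ⟨k₀.U', k₀.hU', k₀.d, k₀.hd, k₀.psi u k₀.f, Graded.map_mem (k₀.psi u) k₀.hf⟩

variable {PC PC' : Scheme.{u}} {pC : PC ⟶ Y}
  {chartC : ∀ (U : Y.Opens) (hU : IsAffineOpen U), (((pC ⁻¹ᵁ U : PC.Opens) : Scheme.{u}) ≅ Proj (𝒮h.deg U hU))}
  (hC : RelProj.IsRelProj 𝒮h pC chartC)
  {pC' : PC' ⟶ Y'}
  {chartC' : ∀ (U : Y'.Opens) (hU : IsAffineOpen U), (((pC' ⁻¹ᵁ U : PC'.Opens) : Scheme.{u}) ≅ Proj (𝒮h'.deg U hU))}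
  (hC' : RelProj.IsRelProj 𝒮h' pC' chartC')
  {Φh : ((RelProj.domQ uh pC' chartC' : PC'.Opens) : Scheme.{u}) ⟶ PC}
  (hΦh : RelProj.IsProjQMapOn uh pC chartC pC' chartC' (RelProj.domQ uh pC' chartC') Φh)

include hC hΦh in
/-- A point of `Φ̂⁻¹(Ê)` lies in a chart of `G(φ̂)` at an element `ι f`. -/
theorem exists_khat_chart (x : ((RelProj.domQ uh pC' chartC' : PC'.Opens) : Scheme.{u}))
    (hx : Φh.base x ∈ RelCone.pointedProjCone 𝒮 hz pC chartC) :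
    ∃ (k₀ : QIdx q 𝒮) (q₂ : _), ((khat hz k₀).lft uh pC' chartC').base q₂ = x := by
  obtain ⟨k, q₀, rfl⟩ := exists_lft_eq uh pC' chartC' x
  rw [Φh_lft_apply uh hΦh k q₀, emb_mem_pointedProjCone_iff hz hC k.U k.hU] at hx
  obtain ⟨e, he, g, hg, hgx⟩ := exists_mem_basicOpen_of_mem_domOpen _ _ hx
  rw [awayι_mem_basicOpen_iff (k.psi uh) k.hd he k.hf
    (Graded.map_mem (RelProj.gradedHomAt ι hz.graded k.U k.hU) hg) q₀] at hgx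
  let k₀ : QIdx q 𝒮 := ⟨k.U, k.hU, k.U', k.hU', k.hle, e, he, g, hg⟩
  have hgx' : (Proj.awayι (𝒮h'.deg k.U' k.hU') (k.psi uh k.f) (Graded.map_mem (k.psi uh) k.hf) k.hd).base q₀ ∈
      Proj.basicOpen (𝒮h'.deg (khat hz k₀).U' (khat hz k₀).hU') ((khat hz k₀).psi uh (khat hz k₀).f) := hgx
  rw [← Proj.opensRange_awayι _ _ (Graded.map_mem ((khat hz k₀).psi uh) (khat hz k₀).hf) (khat hz k₀).hd] at hgx'
  obtain ⟨q₂, hq₂⟩ := hgx'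
  refine ⟨k₀, q₂, Subtype.ext ?_⟩
  rw [QIdx.lft_apply, QIdx.lft_apply]
  exact congrArg _ hq₂

variable {P P' : Scheme.{u}} {p : P ⟶ Y}
  {chart : ∀ (U : Y.Opens) (hU : IsAffineOpen U), (((p ⁻¹ᵁ U : P.Opens) : Scheme.{u}) ≅ Proj (𝒮.deg U hU))}
  {p' : P' ⟶ Y'}
  {chart' : ∀ (U : Y'.Opens) (hU : IsAffineOpen U), (((p' ⁻¹ᵁ U : P'.Opens) : Scheme.{u}) ≅ Proj (𝒮'.deg U hU))}
  {r : ((RelCone.pointedProjCone 𝒮 hz pC chartC : PC.Opens) : Scheme.{u}) ⟶ P}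
  (hr : PinnedOn (fun U hU => RelProj.gradedHomAt ι hz.graded U hU)
    (RelCone.pointedProjCone 𝒮 hz pC chartC) p chart pC chartC r)
  {r' : ((RelCone.pointedProjCone 𝒮' hz' pC' chartC' : PC'.Opens) : Scheme.{u}) ⟶ P'}
  (hr' : PinnedOn (fun U hU => RelProj.gradedHomAt ι' hz'.graded U hU)
    (RelCone.pointedProjCone 𝒮' hz' pC' chartC') p' chart' pC' chartC' r')

include huh hr hr' in
/-- The local form of the compatibility of `Φ̂`, `Proj(φ)` and the retractions. -/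
theorem local_square (k₀ : QIdx q 𝒮) {T₀ : Scheme.{u}}
    (β : T₀ ⟶ Spec (CommRingCat.of (Away (𝒮h'.deg (khat hz k₀).U' (khat hz k₀).hU')
      ((khat hz k₀).psi uh (khat hz k₀).f))))
    (a₀ : T₀ ⟶ ((RelCone.pointedProjCone 𝒮' hz' pC' chartC' : PC'.Opens) : Scheme.{u}))
    (c₀ : T₀ ⟶ ((RelCone.pointedProjCone 𝒮 hz pC chartC : PC.Opens) : Scheme.{u}))
    (ha₀ : a₀ ≫ (RelCone.pointedProjCone 𝒮' hz' pC' chartC').ι = β ≫ (khat hz k₀).src uh pC' chartC')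
    (hc₀ : c₀ ≫ (RelCone.pointedProjCone 𝒮 hz pC chartC).ι = β ≫ (khat hz k₀).rho uh pC chartC) :
    ∃ γ : T₀ ⟶ Spec (CommRingCat.of (Away (𝒮'.deg k₀.U' k₀.hU') (k₀.psi u k₀.f))),
      a₀ ≫ r' = γ ≫ k₀.src u p' chart' ∧ c₀ ≫ r = γ ≫ k₀.rho u p chart := by
  obtain ⟨e₁, he1, he2⟩ := exists_away_transport (RelProj.gradedHomAt ι hz.graded k₀.U k₀.hU)
    ((khat hz k₀).psi uh) (k₀.psi u) (RelProj.gradedHomAt ι' hz'.graded k₀.U' k₀.hU')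
    (fun a => uh_ι u hz hz' uh huh k₀.U k₀.hU k₀.U' k₀.hU' k₀.hle a) k₀.hd k₀.f k₀.hf
  refine ⟨β ≫ Spec.map (CommRingCat.ofHom e₁) ≫ Spec.map (CommRingCat.ofHom
    (Away.map (RelProj.gradedHomAt ι' hz'.graded k₀.U' k₀.hU') (k₀.psi u k₀.f))), ?_, ?_⟩
  · have h1 : a₀ = β ≫ Spec.map (CommRingCat.ofHom e₁) ≫ liftSrc hz' pC' chartC' (kS' u k₀) := by
      rw [← cancel_mono (RelCone.pointedProjCone 𝒮' hz' pC' chartC').ι, ha₀, Category.assoc,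
        Category.assoc, liftSrc_ι]
      change β ≫ Proj.awayι _ _ _ _ ≫ RelProj.emb pC' chartC' _ _ =
        β ≫ Spec.map (CommRingCat.ofHom e₁) ≫ Proj.awayι _ _ _ _ ≫ RelProj.emb pC' chartC' _ _
      rw [← reassoc_of% he1]
    rw [h1, Category.assoc, Category.assoc,
      hr' (kS' u k₀) (liftSrc hz' pC' chartC' _) (liftSrc_ι hz' _)]
    simp only [Category.assoc]
    rfl
  · have h1 : c₀ = β ≫ Spec.map (CommRingCat.ofHom (Away.map ((khat hz k₀).psi uh) (khat hz k₀).f)) ≫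
        liftSrc hz pC chartC (kS k₀) := by
      rw [← cancel_mono (RelCone.pointedProjCone 𝒮 hz pC chartC).ι, hc₀, Category.assoc,
        Category.assoc, liftSrc_ι]
    rw [h1, Category.assoc, Category.assoc, hr (kS k₀) (liftSrc hz pC chartC _) (liftSrc_ι hz _)]
    simp only [Category.assoc]
    change β ≫ Spec.map _ ≫ Spec.map _ ≫ tgtChart p chart (kS k₀) =
      β ≫ Spec.map _ ≫ Spec.map _ ≫ Spec.map _ ≫ tgtChart p chart (kS k₀)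
    rw [← Spec.map_comp_assoc, ← Spec.map_comp_assoc, ← Spec.map_comp_assoc,
      ← CommRingCat.ofHom_comp, ← CommRingCat.ofHom_comp, ← CommRingCat.ofHom_comp]
    congr 3
    exact congrArg CommRingCat.ofHom he2.symm

include huh hC hΦh hr hr' in
/-- The compatibility of `Φ̂`, `Proj(φ)` and the retractions, on `T`-valued points. -/
theorem qMap_retraction_comm
    {Φ : ((RelProj.domQ u p' chart' : P'.Opens) : Scheme.{u}) ⟶ P}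
    (hΦ : RelProj.IsProjQMapOn u p chart p' chart' (RelProj.domQ u p' chart') Φ)
    {T : Scheme.{u}} (a : T ⟶ ((RelCone.pointedProjCone 𝒮' hz' pC' chartC' : PC'.Opens) : Scheme.{u}))
    (b : T ⟶ ((RelProj.domQ uh pC' chartC' : PC'.Opens) : Scheme.{u}))
    (c : T ⟶ ((RelCone.pointedProjCone 𝒮 hz pC chartC : PC.Opens) : Scheme.{u}))
    (hab : a ≫ (RelCone.pointedProjCone 𝒮' hz' pC' chartC').ι = b ≫ (RelProj.domQ uh pC' chartC').ι)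
    (hbc : b ≫ Φh = c ≫ (RelCone.pointedProjCone 𝒮 hz pC chartC).ι) :
    Set.range (a ≫ r').base ⊆ ((RelProj.domQ u p' chart' : P'.Opens) : Set P') ∧
      ∀ d : T ⟶ ((RelProj.domQ u p' chart' : P'.Opens) : Scheme.{u}),
        a ≫ r' = d ≫ (RelProj.domQ u p' chart').ι → c ≫ r = d ≫ Φ := by
  have hchart : ∀ t : T, ∃ (k₀ : QIdx q 𝒮) (q₂ : _),
      ((khat hz k₀).lft uh pC' chartC').base q₂ = b.base t := by
    intro t
    apply exists_khat_chart hz uh hC hΦh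
    have h1 := congrArg (fun m => m.base t) hbc
    have h' : Φh.base (b.base t) = (c.base t).1 := h1
    rw [h']
    exact (c.base t).2
  choose k₀ q₂ hq₂ using hchart
  let Tt : T → T.Opens := fun t => b ⁻¹ᵁ ((khat hz (k₀ t)).lft uh pC' chartC').opensRange
  have htT : ∀ t, t ∈ Tt t := fun t => ⟨q₂ t, hq₂ t⟩
  have hrange : ∀ t, Set.range ((Tt t).ι ≫ b).base ⊆
      Set.range ((khat hz (k₀ t)).lft uh pC' chartC').base := by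
    rintro t _ ⟨s, rfl⟩
    exact s.2
  let β := fun t => IsOpenImmersion.lift ((khat hz (k₀ t)).lft uh pC' chartC') ((Tt t).ι ≫ b) (hrange t)
  have hβ : ∀ t, β t ≫ (khat hz (k₀ t)).lft uh pC' chartC' = (Tt t).ι ≫ b :=
    fun t => IsOpenImmersion.lift_fac _ _ _
  have hloc : ∀ t, ∃ γ, ((Tt t).ι ≫ a) ≫ r' = γ ≫ (k₀ t).src u p' chart' ∧
      ((Tt t).ι ≫ c) ≫ r = γ ≫ (k₀ t).rho u p chart := by
    intro t
    apply local_square u hz hz' uh huh hr hr' (k₀ t) (β t)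
    · rw [Category.assoc, hab, ← Category.assoc, ← hβ t, Category.assoc, QIdx.lft_ι]
    · rw [Category.assoc, ← hbc, ← Category.assoc, ← hβ t, Category.assoc,
        (isProjQMapOn_iff uh pC chartC pC' chartC' Φh).mp hΦh]
  choose γ hγ1 hγ2 using hloc
  constructor
  · rintro _ ⟨t, rfl⟩
    have h1 := congrArg (fun m => m.base (⟨t, htT t⟩ : ((Tt t : T.Opens) : Scheme.{u}))) (hγ1 t)
    have h2 : (a ≫ r').base t = ((k₀ t).src u p' chart').base ((γ t).base ⟨t, htT t⟩) := h1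
    rw [h2, ← QIdx.lft_ι]
    exact (((k₀ t).lft u p' chart').base _).2
  · intro d hd
    let 𝒰 : Scheme.OpenCover.{u} T := Scheme.Cover.mkOfCovers T
      (fun t => ((Tt t : T.Opens) : Scheme.{u})) (fun t => (Tt t).ι) (fun t => ⟨t, ⟨t, htT t⟩, rfl⟩)
    apply 𝒰.hom_ext
    intro (t : T)
    change (Tt t).ι ≫ c ≫ r = (Tt t).ι ≫ d ≫ Φ
    have h3 : (Tt t).ι ≫ d = γ t ≫ (k₀ t).lft u p' chart' := by
      rw [← cancel_mono (RelProj.domQ u p' chart').ι, Category.assoc, ← hd, Category.assoc,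
        QIdx.lft_ι, ← hγ1 t, Category.assoc]
    have h4 : (Tt t).ι ≫ d ≫ Φ = γ t ≫ (k₀ t).rho u p chart := by
      rw [← Category.assoc, h3, Category.assoc, (isProjQMapOn_iff u p chart p' chart' Φ).mp hΦ]
    have h5 : (Tt t).ι ≫ c ≫ r = γ t ≫ (k₀ t).rho u p chart := by
      rw [← Category.assoc, hγ2 t]
    rw [h4, h5]

end Groth.Agent.Lib.Helper42
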