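import Groth.Agent.Lib.Helper42.ProjQMapOn

/-!
# `Proj(φ)` over one base, pinned only on the standard charts over the pairs `(U, U)`,
on an open `W` equal to `G(φ)`
-/

set_option autoImplicit false
universe u

open CategoryTheory CategoryTheory.Limits AlgebraicGeometry TopologicalSpace Opposite
open HomogeneousLocalization
open scoped HomogeneousIdeal

namespace Groth.Agent.Lib.Helper42

variable {Y : Scheme.{u}} {PA PB : Scheme.{u}} {𝒜 ℬ : RelProj.QCGrAlg Y}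
  (φ : 𝒜.toQCAlg ⟶ ℬ.toQCAlg) (hφ : RelProj.IsGradedHom φ)
  {pA : PA ⟶ Y} {pB : PB ⟶ Y}
  {chartA : ∀ (U : Y.Opens) (hU : IsAffineOpen U), (((pA ⁻¹ᵁ U : PA.Opens) : Scheme.{u}) ≅ Proj (𝒜.deg U hU))}
  {chartB : ∀ (U : Y.Opens) (hU : IsAffineOpen U), (((pB ⁻¹ᵁ U : PB.Opens) : Scheme.{u}) ≅ Proj (ℬ.deg U hU))}

section weak

variable {r : ((RelProj.domQ (RelProj.QGrHom.ofHom φ hφ) pB chartB : PB.Opens) : Scheme.{u}) ⟶ PA}
  (hr : ∀ i : StdIdx 𝒜, liftChart φ hφ pB chartB i ≫ r =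
      Spec.map (CommRingCat.ofHom (Away.map (psi φ hφ i.U i.hU) i.f)) ≫ tgtChart pA chartA i)

include hr in
theorem weak_comp_p (hA : RelProj.IsRelProj 𝒜 pA chartA) (hB : RelProj.IsRelProj ℬ pB chartB) :
    r ≫ pA = (RelProj.domQ (RelProj.QGrHom.ofHom φ hφ) pB chartB).ι ≫ pB := by
  apply (stdCover φ hφ hB).hom_ext
  intro i
  change liftChart φ hφ pB chartB i ≫ r ≫ pA = liftChart φ hφ pB chartB i ≫ _ ≫ pB
  rw [← Category.assoc, hr i, Category.assoc, Category.assoc,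
    away_chart_compat φ hφ hA hB, liftChart_ι_assoc]

include hr in
theorem weak_opensRange_liftChart (hA : RelProj.IsRelProj 𝒜 pA chartA) (hB : RelProj.IsRelProj ℬ pB chartB)
    (i : StdIdx 𝒜) :
    (liftChart φ hφ pB chartB i).opensRange = r ⁻¹ᵁ (tgtChart pA chartA i).opensRange := by
  ext x
  constructor
  · rintro ⟨w, rfl⟩
    have := congrArg (fun m => m.base w) (hr i)
    exact ⟨_, this.symm⟩
  · rintro ⟨v, hv⟩
    have h1 : (RelProj.emb pA chartA i.U i.hU).base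
        ((Proj.awayι (𝒜.deg i.U i.hU) i.f i.hf i.hd).base v) ∈ pA ⁻¹ᵁ i.U := by
      rw [← opensRange_emb 𝒜 pA chartA i.U i.hU]
      exact ⟨_, rfl⟩
    have h2 : pB.base x.1 ∈ i.U := by
      have e := congrArg (fun m => m.base x) (weak_comp_p φ hφ hr hA hB)
      have e' : pA.base (r.base x) = pB.base x.1 := e
      rw [← e', ← hv]
      exact h1
    obtain ⟨d₂, hd₂, f₂, hf₂, w, hw⟩ := exists_liftChart_eq φ hφ hB x i.U i.hU h2
    have h3 := congrArg (fun m => m.base w) (hr ⟨i.U, i.hU, d₂, hd₂, f₂, hf₂⟩)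
    have h3' : r.base ((liftChart φ hφ pB chartB ⟨i.U, i.hU, d₂, hd₂, f₂, hf₂⟩).base w) =
        (RelProj.emb pA chartA i.U i.hU).base ((Proj.awayι (𝒜.deg i.U i.hU) f₂ hf₂ hd₂).base
          ((Spec.map (CommRingCat.ofHom (Away.map (psi φ hφ i.U i.hU) f₂))).base w)) := h3
    rw [hw, ← hv] at h3'
    have h4 : (Proj.awayι (𝒜.deg i.U i.hU) i.f i.hf i.hd).base v =
        (Proj.awayι (𝒜.deg i.U i.hU) f₂ hf₂ hd₂).base
          ((Spec.map (CommRingCat.ofHom (Away.map (psi φ hφ i.U i.hU) f₂))).base w) :=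
      (RelProj.emb pA chartA i.U i.hU).isOpenEmbedding.injective h3'
    have h5 : (Proj.awayι (𝒜.deg i.U i.hU) f₂ hf₂ hd₂).base
          ((Spec.map (CommRingCat.ofHom (Away.map (psi φ hφ i.U i.hU) f₂))).base w) ∈
        Proj.basicOpen (𝒜.deg i.U i.hU) i.f := by
      rw [← h4, ← Proj.opensRange_awayι _ _ i.hf i.hd]
      exact ⟨v, rfl⟩
    rw [awayι_mem_basicOpen_iff (psi φ hφ i.U i.hU) hd₂ i.hd hf₂ i.hf w] at h5
    refine exists_liftChart_eq_of_mem φ hφ i x _ h5 ?_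
    rw [← hw]
    exact (liftChart_apply φ hφ ⟨i.U, i.hU, d₂, hd₂, f₂, hf₂⟩ w).symm

include hr in
theorem weak_iff (P : MorphismProperty Scheme.{u}) [IsZariskiLocalAtTarget P]
    (hA : RelProj.IsRelProj 𝒜 pA chartA) (hB : RelProj.IsRelProj ℬ pB chartB) :
    P r ↔ ∀ i : StdIdx 𝒜, P (Spec.map (CommRingCat.ofHom (Away.map (psi φ hφ i.U i.hU) i.f))) :=
  iff_of_charts P r (fun i : StdIdx 𝒜 => (tgtChart pA chartA i).opensRange)
    iSup_opensRange_tgtChart (liftChart φ hφ pB chartB) (tgtChart pA chartA)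
    (weak_opensRange_liftChart φ hφ hr hA hB) (fun _ => rfl)
    (fun i => Spec.map (CommRingCat.ofHom (Away.map (psi φ hφ i.U i.hU) i.f)))
    hr

end weak

/-! ### General form: any family `ψ` equal to `gradedHomAt`, any open `W` equal to `G(φ)` -/

section general

variable (ψ : ∀ (U : Y.Opens) (hU : IsAffineOpen U), 𝒜.deg U hU →+*ᵍ ℬ.deg U hU)
  (hψ : ∀ (U : Y.Opens) (hU : IsAffineOpen U), ψ U hU = RelProj.gradedHomAt φ hφ U hU)
  (W : PB.Opens) (hW : W = RelProj.domQ (RelProj.QGrHom.ofHom φ hφ) pB chartB)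

/-- The standard chart of `G(φ)` at the index `i`, as a morphism to `Proj ℬ`. -/
noncomputable abbrev srcChart (pB : PB ⟶ Y)
    (chartB : ∀ (U : Y.Opens) (hU : IsAffineOpen U), (((pB ⁻¹ᵁ U : PB.Opens) : Scheme.{u}) ≅ Proj (ℬ.deg U hU)))
    (i : StdIdx 𝒜) : Spec (CommRingCat.of (Away (ℬ.deg i.U i.hU) (ψ i.U i.hU i.f))) ⟶ PB :=
  Proj.awayι (ℬ.deg i.U i.hU) (ψ i.U i.hU i.f) (Graded.map_mem (ψ i.U i.hU) i.hf) i.hd ≫
    RelProj.emb pB chartB i.U i.hU

include hψ in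
theorem ψ_eq_psi : ψ = fun U hU => psi φ hφ U hU :=
  funext₂ fun U hU => (hψ U hU).trans (psi_eq φ hφ U hU).symm

include hψ hW in
theorem range_srcChart_subset (i : StdIdx 𝒜) :
    Set.range (srcChart ψ pB chartB i).base ⊆ Set.range W.ι.base := by
  obtain rfl := ψ_eq_psi φ hφ ψ hψ
  subst hW
  exact RelProj.range_awayEmb_subset_domQ _ pB chartB i.U i.hU i.U i.hU le_rfl i.hd i.f i.hf

/-- The pinning hypothesis: every lift of a standard chart into `W`, followed by `r`, is the standard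
morphism. -/
def PinnedOn (pA : PA ⟶ Y)
    (chartA : ∀ (U : Y.Opens) (hU : IsAffineOpen U), (((pA ⁻¹ᵁ U : PA.Opens) : Scheme.{u}) ≅ Proj (𝒜.deg U hU)))
    (pB : PB ⟶ Y)
    (chartB : ∀ (U : Y.Opens) (hU : IsAffineOpen U), (((pB ⁻¹ᵁ U : PB.Opens) : Scheme.{u}) ≅ Proj (ℬ.deg U hU)))
    (r : (W : Scheme.{u}) ⟶ PA) : Prop :=
  ∀ (i : StdIdx 𝒜) (g : Spec (CommRingCat.of (Away (ℬ.deg i.U i.hU) (ψ i.U i.hU i.f))) ⟶ (W : Scheme.{u})),
    g ≫ W.ι = srcChart ψ pB chartB i →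
      g ≫ r = Spec.map (CommRingCat.ofHom (Away.map (ψ i.U i.hU) i.f)) ≫ tgtChart pA chartA i

variable {r : (W : Scheme.{u}) ⟶ PA} (hr : PinnedOn ψ W pA chartA pB chartB r)

include hψ hW hr in
theorem pinned_comp_p (hA : RelProj.IsRelProj 𝒜 pA chartA) (hB : RelProj.IsRelProj ℬ pB chartB) :
    r ≫ pA = W.ι ≫ pB := by
  obtain rfl := ψ_eq_psi φ hφ ψ hψ
  subst hW
  exact weak_comp_p φ hφ (fun i => hr i _ (liftChart_ι φ hφ i)) hA hB

include hψ hW hr in
theorem pinned_iff (P : MorphismProperty Scheme.{u}) [IsZariskiLocalAtTarget P]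
    (hA : RelProj.IsRelProj 𝒜 pA chartA) (hB : RelProj.IsRelProj ℬ pB chartB) :
    P r ↔ ∀ i : StdIdx 𝒜, P (Spec.map (CommRingCat.ofHom (Away.map (ψ i.U i.hU) i.f))) := by
  obtain rfl := ψ_eq_psi φ hφ ψ hψ
  subst hW
  exact weak_iff φ hφ (fun i => hr i _ (liftChart_ι φ hφ i)) P hA hB

include hψ hW hr in
/-- Preimage of a standard chart of `Proj 𝒜`: for any lift `g` of the source chart. -/
theorem pinned_opensRange (hA : RelProj.IsRelProj 𝒜 pA chartA) (hB : RelProj.IsRelProj ℬ pB chartB)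
    (i : StdIdx 𝒜) (g : Spec (CommRingCat.of (Away (ℬ.deg i.U i.hU) (ψ i.U i.hU i.f))) ⟶ (W : Scheme.{u}))
    (hg : g ≫ W.ι = srcChart ψ pB chartB i) :
    Set.range g.base = r.base ⁻¹' (Set.range (tgtChart pA chartA i).base) := by
  obtain rfl := ψ_eq_psi φ hφ ψ hψ
  subst hW
  have hgl : g = liftChart φ hφ pB chartB i := by
    rw [← cancel_mono (RelProj.domQ (RelProj.QGrHom.ofHom φ hφ) pB chartB).ι, hg, liftChart_ι]
    rfl
  subst hgl
  have := weak_opensRange_liftChart φ hφ (fun i => hr i _ (liftChart_ι φ hφ i)) hA hB i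
  exact Set.ext fun x => SetLike.ext_iff.mp this x

end general

end Groth.Agent.Lib.Helper42
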