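import Groth.Agent.Lib.Helper42.ConeVertex
import Groth.Agent.Lib.Helper42.ProjQMapSame

/-!
# The retraction of the pointed cones onto `Proj(𝒮)`
-/

set_option autoImplicit false
universe u

open CategoryTheory CategoryTheory.Limits AlgebraicGeometry TopologicalSpace Opposite
open HomogeneousLocalization Polynomial
open scoped HomogeneousIdeal

namespace Groth.Agent.Lib.Helper42

section projext

variable {A σ : Type u} [CommRing A] [SetLike σ A] [AddSubgroupClass σ A] {𝒜 : ℕ → σ} [GradedRing 𝒜]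

/-- A point of `Proj` is determined by the homogeneous elements of positive degree it contains. -/
theorem proj_ext_of_pos (x x' : Proj 𝒜)
    (H : ∀ (e : ℕ), 0 < e → ∀ g ∈ 𝒜 e, g ∈ x.asHomogeneousIdeal ↔ g ∈ x'.asHomogeneousIdeal) :
    x = x' := by
  classical
  -- a homogeneous element of positive degree outside `x`
  have hex : ∃ (e : ℕ) (b : A), 0 < e ∧ b ∈ 𝒜 e ∧ b ∉ x.asHomogeneousIdeal := by
    by_contra hcon
    push Not at hcon
    apply x.not_irrelevant_le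
    rw [HomogeneousIdeal.irrelevant_le]
    intro i hi b hb
    exact hcon i b hi hb
  obtain ⟨e, f, he, hf, hfx⟩ := hex
  have hfx' : f ∉ x'.asHomogeneousIdeal := fun h' => hfx ((H e he f hf).mpr h')
  apply ProjectiveSpectrum.ext
  apply HomogeneousIdeal.ext'
  intro i a ha
  rcases Nat.eq_zero_or_pos i with rfl | hi
  · have haf : a * f ∈ 𝒜 (0 + e) := SetLike.mul_mem_graded ha hf
    rw [zero_add] at haf
    have := H e he (a * f) haf
    constructor
    · intro h1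
      have h2 : a * f ∈ x'.asHomogeneousIdeal.toIdeal := this.mp (Ideal.mul_mem_right _ _ h1)
      exact (x'.isPrime.mem_or_mem h2).resolve_right hfx'
    · intro h1
      have h2 : a * f ∈ x.asHomogeneousIdeal.toIdeal := this.mpr (Ideal.mul_mem_right _ _ h1)
      exact (x.isPrime.mem_or_mem h2).resolve_right hfx
  · exact H i hi a ha

end projext

variable {Y : Scheme.{u}} {𝒮 𝒮h : RelProj.QCGrAlg Y} {ι : 𝒮.toQCAlg ⟶ 𝒮h.toQCAlg}
  {z : 𝒮h.presheaf.obj (op ⊤)} (h : RelCone.IsPolyOver 𝒮 𝒮h ι z)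

/-- A point of the pointed cone of `Spec 𝒮(U)` misses a homogeneous element of positive degree. -/
theorem exists_homogeneous_not_mem (U : Y.Opens) (hU : IsAffineOpen U)
    (x : Spec (𝒮.presheaf.obj (op U))) (hx : x ∈ RelCone.vertexCompl (𝒮.deg U hU)) :
    ∃ (d : ℕ) (_ : 0 < d) (f : 𝒮.presheaf.obj (op U)) (_ : f ∈ 𝒮.deg U hU d), f ∉ x.asIdeal := by
  classical
  obtain ⟨a, ha, hax⟩ := (mem_vertexCompl _ x).mp hx
  by_contra hcon
  push Not at hcon
  apply hax
  rw [← DirectSum.sum_support_decompose (𝒮.deg U hU) a]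
  refine Ideal.sum_mem _ fun j _ => ?_
  rcases Nat.eq_zero_or_pos j with rfl | hj
  · have : (DirectSum.decompose (𝒮.deg U hU) a 0 : 𝒮.presheaf.obj (op U)) = 0 :=
      (HomogeneousIdeal.mem_irrelevant_iff _ a).mp ha
    rw [this]
    exact zero_mem _
  · exact hcon j hj _ (SetLike.coe_mem _)

variable {PC P : Scheme.{u}} {pC : PC ⟶ Y}
  {chartC : ∀ (U : Y.Opens) (hU : IsAffineOpen U), (((pC ⁻¹ᵁ U : PC.Opens) : Scheme.{u}) ≅ Proj (𝒮h.deg U hU))}
  (hPC : RelProj.IsRelProj 𝒮h pC chartC)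
  {i : 𝒮.toQCAlg.spec ⟶ PC} (hi : RelCone.IsConeImm 𝒮 h pC chartC i)

include hPC hi in
/-- A point `ι_U x` with `f ∉ x` is sent by `i` into the image of `D₊(ι f)`. -/
theorem coneImm_ι_mem (U : Y.Opens) (hU : IsAffineOpen U) {d : ℕ} (hd : 0 < d)
    (f : 𝒮.presheaf.obj (op U)) (hf : f ∈ 𝒮.deg U hU d) (x : Spec (𝒮.presheaf.obj (op U)))
    (hfx : f ∉ x.asIdeal) :
    ∃ q' : Spec (CommRingCat.of (Away (𝒮h.deg U hU) (RelProj.gradedHomAt ι h.graded U hU f))),
      i.base ((𝒮.toQCAlg.ι U hU).base x) = (RelProj.emb pC chartC U hU).base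
        ((Proj.awayι (𝒮h.deg U hU) (RelProj.gradedHomAt ι h.graded U hU f)
          (Graded.map_mem (RelProj.gradedHomAt ι h.graded U hU) hf) hd).base q') := by
  have h1 := (awayι_azb_mem_basicOpen_iff h U hU hd f hf x).mpr hfx
  rw [← Proj.opensRange_awayι _ _ (Graded.map_mem (RelProj.gradedHomAt ι h.graded U hU) hf) hd] at h1
  obtain ⟨q', hq'⟩ := h1
  refine ⟨q', ?_⟩
  rw [coneImm_ι_apply h hi U hU x]
  exact congrArg _ hq'.symm

include hPC hi in
theorem pointedCone_le_preimage :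
    RelCone.pointedCone 𝒮 ≤ i ⁻¹ᵁ RelCone.pointedProjCone 𝒮 h pC chartC := by
  intro c hc
  obtain ⟨U, hU, hcU⟩ := exists_affineOpen_mem ((𝒮.toQCAlg.π).base c)
  have hc' : c ∈ 𝒮.toQCAlg.π ⁻¹ᵁ U := hcU
  rw [𝒮.toQCAlg.π_preimage U hU] at hc'
  obtain ⟨x, rfl⟩ := hc'
  have hx : x ∈ RelCone.vertexCompl (𝒮.deg U hU) := (ι_mem_pointedCone_iff 𝒮 U hU x).mp hc
  obtain ⟨d, hd, f, hf, hfx⟩ := exists_homogeneous_not_mem U hU x hx
  change i.base ((𝒮.toQCAlg.ι U hU).base x) ∈ RelCone.pointedProjCone 𝒮 h pC chartC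
  rw [coneImm_ι_apply h hi U hU x, emb_mem_pointedProjCone_iff h hPC U hU]
  exact (RelCone.mem_domOpen _ _).mpr ⟨f, HomogeneousIdeal.mem_irrelevant_of_mem _ hd hf,
    (ProjectiveSpectrum.mem_basicOpen _ _ _).mp ((awayι_azb_mem_basicOpen_iff h U hU hd f hf x).mpr hfx)⟩

section retraction

variable {p : P ⟶ Y}
  {chart : ∀ (U : Y.Opens) (hU : IsAffineOpen U), (((p ⁻¹ᵁ U : P.Opens) : Scheme.{u}) ≅ Proj (𝒮.deg U hU))}
  (hP : RelProj.IsRelProj 𝒮 p chart)

/-- The standard chart of the pointed projective cone, lifted into it. -/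
noncomputable def liftSrc (pC : PC ⟶ Y)
    (chartC : ∀ (U : Y.Opens) (hU : IsAffineOpen U), (((pC ⁻¹ᵁ U : PC.Opens) : Scheme.{u}) ≅ Proj (𝒮h.deg U hU)))
    (k : StdIdx 𝒮) :
    Spec (CommRingCat.of (Away (𝒮h.deg k.U k.hU) (RelProj.gradedHomAt ι h.graded k.U k.hU k.f))) ⟶
      ((RelCone.pointedProjCone 𝒮 h pC chartC : PC.Opens) : Scheme.{u}) :=
  IsOpenImmersion.lift (RelCone.pointedProjCone 𝒮 h pC chartC).ι
    (srcChart (fun U hU => RelProj.gradedHomAt ι h.graded U hU) pC chartC k)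
    (range_srcChart_subset ι h.graded (fun U hU => RelProj.gradedHomAt ι h.graded U hU)
      (fun _ _ => rfl) _ (pointedProjCone_eq_domQ h) k)

@[reassoc]
theorem liftSrc_ι (k : StdIdx 𝒮) :
    liftSrc h pC chartC k ≫ (RelCone.pointedProjCone 𝒮 h pC chartC).ι =
      srcChart (fun U hU => RelProj.gradedHomAt ι h.graded U hU) pC chartC k :=
  IsOpenImmersion.lift_fac _ _ _

instance (k : StdIdx 𝒮) : IsOpenImmersion (liftSrc h pC chartC k) := by
  have : IsOpenImmersion (liftSrc h pC chartC k ≫ (RelCone.pointedProjCone 𝒮 h pC chartC).ι) := by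
    rw [liftSrc_ι]; infer_instance
  exact IsOpenImmersion.of_comp _ (RelCone.pointedProjCone 𝒮 h pC chartC).ι

/-- The chart `Spec 𝒮(U)_f ⟶ C`. -/
noncomputable abbrev locSpec (k : StdIdx 𝒮) :
    Spec (CommRingCat.of (Localization.Away k.f)) ⟶ 𝒮.toQCAlg.spec :=
  Spec.map (CommRingCat.ofHom (algebraMap (𝒮.presheaf.obj (op k.U)) (Localization.Away k.f))) ≫
    𝒮.toQCAlg.ι k.U k.hU

theorem locSpec_apply_not_mem (k : StdIdx 𝒮) (s : Spec (CommRingCat.of (Localization.Away k.f))) :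
    k.f ∉ ((Spec.map (CommRingCat.ofHom (algebraMap (𝒮.presheaf.obj (op k.U))
      (Localization.Away k.f)))).base s).asIdeal := by
  have h1 : (Spec.map (CommRingCat.ofHom (algebraMap (𝒮.presheaf.obj (op k.U))
      (Localization.Away k.f)))).base s ∈
      (Spec.map (CommRingCat.ofHom (algebraMap (𝒮.presheaf.obj (op k.U))
      (Localization.Away k.f)))).opensRange := ⟨s, rfl⟩
  rw [Scheme.Hom.opensRange_localizationAway] at h1
  exact h1

theorem range_locSpec_subset (k : StdIdx 𝒮) :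
    Set.range (locSpec k).base ⊆ Set.range (RelCone.pointedCone 𝒮).ι.base := by
  rw [Scheme.Opens.range_ι]
  rintro _ ⟨s, rfl⟩
  change (𝒮.toQCAlg.ι k.U k.hU).base _ ∈ RelCone.pointedCone 𝒮
  rw [ι_mem_pointedCone_iff 𝒮 k.U k.hU]
  exact (mem_vertexCompl _ _).mpr ⟨k.f, HomogeneousIdeal.mem_irrelevant_of_mem _ k.hd k.hf,
    locSpec_apply_not_mem k s⟩

/-- The chart `Spec 𝒮(U)_f ⟶ E` of the pointed affine cone. -/
noncomputable def liftLoc (k : StdIdx 𝒮) :
    Spec (CommRingCat.of (Localization.Away k.f)) ⟶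
      ((RelCone.pointedCone 𝒮 : 𝒮.toQCAlg.spec.Opens) : Scheme.{u}) :=
  IsOpenImmersion.lift (RelCone.pointedCone 𝒮).ι (locSpec k) (range_locSpec_subset k)

@[reassoc]
theorem liftLoc_ι (k : StdIdx 𝒮) : liftLoc k ≫ (RelCone.pointedCone 𝒮).ι = locSpec k :=
  IsOpenImmersion.lift_fac _ _ _

instance (k : StdIdx 𝒮) : IsOpenImmersion (liftLoc k) := by
  have : IsOpenImmersion (liftLoc k ≫ (RelCone.pointedCone 𝒮).ι) := by
    rw [liftLoc_ι]; infer_instance
  exact IsOpenImmersion.of_comp _ (RelCone.pointedCone 𝒮).ι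

variable
  {i' : ((RelCone.pointedCone 𝒮 : 𝒮.toQCAlg.spec.Opens) : Scheme.{u}) ⟶
    ((RelCone.pointedProjCone 𝒮 h pC chartC : PC.Opens) : Scheme.{u})}
  (hi' : i' ≫ (RelCone.pointedProjCone 𝒮 h pC chartC).ι = (RelCone.pointedCone 𝒮).ι ≫ i)

include hPC hi hi' in
/-- A point `e` of `E` with `E.ι e = ι_U x`, `f ∉ x`, is sent by `i'` into the chart at `(U, f)`. -/
theorem i'_mem_range_liftSrc (k : StdIdx 𝒮)
    (e : ((RelCone.pointedCone 𝒮 : 𝒮.toQCAlg.spec.Opens) : Scheme.{u}))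
    (x : Spec (𝒮.presheaf.obj (op k.U))) (hx : (𝒮.toQCAlg.ι k.U k.hU).base x = e.1)
    (hfx : k.f ∉ x.asIdeal) :
    ∃ q', (liftSrc h pC chartC k).base q' = i'.base e := by
  obtain ⟨q', hq'⟩ := coneImm_ι_mem h hPC hi k.U k.hU k.hd k.f k.hf x hfx
  refine ⟨q', Subtype.ext ?_⟩
  have h1 := congrArg (fun m => m.base q') (liftSrc_ι h (pC := pC) (chartC := chartC) k)
  have h2 : ((liftSrc h pC chartC k).base q').1 = (RelProj.emb pC chartC k.U k.hU).base
      ((Proj.awayι (𝒮h.deg k.U k.hU) (RelProj.gradedHomAt ι h.graded k.U k.hU k.f)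
        (Graded.map_mem (RelProj.gradedHomAt ι h.graded k.U k.hU) k.hf) k.hd).base q') := h1
  have h3 := congrArg (fun m => m.base e) hi'
  have h4 : (i'.base e).1 = i.base e.1 := h3
  rw [h2, h4, ← hx, hq']

include hPC hi hi' in
theorem range_liftLoc_i'_subset (k : StdIdx 𝒮) :
    Set.range (liftLoc k ≫ i').base ⊆ Set.range (liftSrc h pC chartC k).base := by
  rintro _ ⟨s, rfl⟩
  have h1 := congrArg (fun m => m.base s) (liftLoc_ι (𝒮 := 𝒮) k)
  have h2 : (𝒮.toQCAlg.ι k.U k.hU).base ((Spec.map (CommRingCat.ofHom (algebraMap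
      (𝒮.presheaf.obj (op k.U)) (Localization.Away k.f)))).base s) = ((liftLoc k).base s).1 := h1.symm
  obtain ⟨q', hq'⟩ := i'_mem_range_liftSrc h hPC hi hi' k _ _ h2 (locSpec_apply_not_mem k s)
  exact ⟨q', hq'⟩

/-- The morphism `Spec 𝒮(U)_f ⟶ Spec 𝒮h(U)_(ι f)` induced by `i'`. -/
noncomputable def chartLift (hPC : RelProj.IsRelProj 𝒮h pC chartC)
    (hi : RelCone.IsConeImm 𝒮 h pC chartC i)
    (hi' : i' ≫ (RelCone.pointedProjCone 𝒮 h pC chartC).ι = (RelCone.pointedCone 𝒮).ι ≫ i)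
    (k : StdIdx 𝒮) :
    Spec (CommRingCat.of (Localization.Away k.f)) ⟶
      Spec (CommRingCat.of (Away (𝒮h.deg k.U k.hU) (RelProj.gradedHomAt ι h.graded k.U k.hU k.f))) :=
  IsOpenImmersion.lift (liftSrc h pC chartC k) (liftLoc k ≫ i')
    (range_liftLoc_i'_subset h hPC hi hi' k)

@[reassoc]
theorem chartLift_fac (k : StdIdx 𝒮) :
    chartLift h hPC hi hi' k ≫ liftSrc h pC chartC k = liftLoc k ≫ i' :=
  IsOpenImmersion.lift_fac _ _ _

variable {r : ((RelCone.pointedProjCone 𝒮 h pC chartC : PC.Opens) : Scheme.{u}) ⟶ P}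
  (hr : PinnedOn (fun U hU => RelProj.gradedHomAt ι h.graded U hU)
    (RelCone.pointedProjCone 𝒮 h pC chartC) p chart pC chartC r)

include hr in
theorem liftLoc_i'_r (k : StdIdx 𝒮) :
    liftLoc k ≫ i' ≫ r =
      (chartLift h hPC hi hi' k ≫ Spec.map (CommRingCat.ofHom
        (Away.map (RelProj.gradedHomAt ι h.graded k.U k.hU) k.f))) ≫ tgtChart p chart k := by
  rw [← chartLift_fac_assoc h hPC hi hi' k, hr k (liftSrc h pC chartC k) (liftSrc_ι h k),
    Category.assoc]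

include hPC hP hi hi' hr in
theorem opensRange_liftLoc (k : StdIdx 𝒮) :
    (liftLoc k).opensRange = (i' ≫ r) ⁻¹ᵁ (tgtChart p chart k).opensRange := by
  ext e
  constructor
  · rintro ⟨s, rfl⟩
    have h1 := congrArg (fun m => m.base s) (liftLoc_i'_r h hPC hi hi' hr k)
    exact ⟨_, h1.symm⟩
  · intro he
    have he' : r.base (i'.base e) ∈ Set.range (tgtChart p chart k).base := he
    have h1 := pinned_opensRange ι h.graded (fun U hU => RelProj.gradedHomAt ι h.graded U hU)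
      (fun _ _ => rfl) _ (pointedProjCone_eq_domQ h) hr hP hPC k (liftSrc h pC chartC k) (liftSrc_ι h k)
    have h2 : i'.base e ∈ Set.range (liftSrc h pC chartC k).base := by
      rw [h1]; exact he'
    obtain ⟨q', hq'⟩ := h2
    -- `i (E.ι e) = emb (awayι q')`
    have h3 := congrArg (fun m => m.base q') (liftSrc_ι h (pC := pC) (chartC := chartC) k)
    have h4 : ((liftSrc h pC chartC k).base q').1 = (RelProj.emb pC chartC k.U k.hU).base
        ((Proj.awayι (𝒮h.deg k.U k.hU) (RelProj.gradedHomAt ι h.graded k.U k.hU k.f)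
          (Graded.map_mem (RelProj.gradedHomAt ι h.graded k.U k.hU) k.hf) k.hd).base q') := h3
    have h5 := congrArg (fun m => m.base e) hi'
    have h6 : (i'.base e).1 = i.base e.1 := h5
    rw [hq', h6] at h4
    obtain ⟨x, hx, hxw⟩ := exists_of_emb_eq_coneImm h hPC hi k.U k.hU _ e.1 h4
    have hfx : k.f ∉ x.asIdeal := by
      rw [← awayι_azb_mem_basicOpen_iff h k.U k.hU k.hd k.f k.hf x, hxw,
        ← Proj.opensRange_awayι _ _ (Graded.map_mem (RelProj.gradedHomAt ι h.graded k.U k.hU) k.hf) k.hd]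
      exact ⟨q', rfl⟩
    have hx' : x ∈ (Spec.map (CommRingCat.ofHom (algebraMap (𝒮.presheaf.obj (op k.U))
        (Localization.Away k.f)))).opensRange := by
      rw [Scheme.Hom.opensRange_localizationAway]
      exact hfx
    obtain ⟨s, rfl⟩ := hx'
    refine ⟨s, Subtype.ext ?_⟩
    have h7 := congrArg (fun m => m.base s) (liftLoc_ι (𝒮 := 𝒮) k)
    exact h7.trans hx

include hPC hP hi hi' hr in
theorem isAffineHom_i'_r : IsAffineHom (i' ≫ r) := by
  rw [iff_of_charts @IsAffineHom (i' ≫ r) (fun k : StdIdx 𝒮 => (tgtChart p chart k).opensRange)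
    iSup_opensRange_tgtChart (fun k => liftLoc k) (tgtChart p chart)
    (opensRange_liftLoc h hPC hi hP hi' hr) (fun _ => rfl)
    (fun k => chartLift h hPC hi hi' k ≫ Spec.map (CommRingCat.ofHom
        (Away.map (RelProj.gradedHomAt ι h.graded k.U k.hU) k.f)))
    (fun k => by rw [Category.assoc]; exact liftLoc_i'_r h hPC hi hi' hr k)]
  intro k
  infer_instance

include hPC hP hi hi' hr in
theorem surjective_i'_r : Function.Surjective (i' ≫ r).base := by
  intro t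
  obtain ⟨U, hU, htU⟩ := exists_affineOpen_mem (p.base t)
  have ht : t ∈ p ⁻¹ᵁ U := htU
  rw [← opensRange_emb 𝒮 p chart U hU] at ht
  obtain ⟨x, rfl⟩ := ht
  let x' : Spec (𝒮.presheaf.obj (op U)) := ⟨x.asHomogeneousIdeal.toIdeal, x.isPrime⟩
  have hex : ∃ (d : ℕ) (f : 𝒮.presheaf.obj (op U)), 0 < d ∧ f ∈ 𝒮.deg U hU d ∧
      f ∉ x.asHomogeneousIdeal := by
    by_contra hcon
    push Not at hcon
    apply x.not_irrelevant_le
    rw [HomogeneousIdeal.irrelevant_le]
    intro j hj b hb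
    exact hcon j b hj hb
  obtain ⟨d, f, hd, hf, hfx⟩ := hex
  have hfx' : f ∉ x'.asIdeal := hfx
  let k : StdIdx 𝒮 := ⟨U, hU, d, hd, f, hf⟩
  have hxE : (𝒮.toQCAlg.ι U hU).base x' ∈ RelCone.pointedCone 𝒮 :=
    (ι_mem_pointedCone_iff 𝒮 U hU x').mpr ((mem_vertexCompl _ _).mpr
      ⟨f, HomogeneousIdeal.mem_irrelevant_of_mem _ hd hf, hfx'⟩)
  let e : ((RelCone.pointedCone 𝒮 : 𝒮.toQCAlg.spec.Opens) : Scheme.{u}) := ⟨_, hxE⟩
  obtain ⟨q', hq'⟩ := i'_mem_range_liftSrc h hPC hi hi' k e x' rfl hfx'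
  refine ⟨e, ?_⟩
  have h1 := congrArg (fun m => m.base q') (hr k (liftSrc h pC chartC k) (liftSrc_ι h k))
  have h2 : r.base ((liftSrc h pC chartC k).base q') = (RelProj.emb p chart U hU).base
      ((Proj.awayι (𝒮.deg U hU) f hf hd).base ((Spec.map (CommRingCat.ofHom
        (Away.map (RelProj.gradedHomAt ι h.graded U hU) f))).base q')) := h1
  change r.base (i'.base e) = _
  rw [← hq', h2]
  congr 1
  -- `awayι_{ψ f} q' = awayι_z (Spec(azb) x')`
  have h3 := congrArg (fun m => m.base q') (liftSrc_ι h (pC := pC) (chartC := chartC) k)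
  have h4 : ((liftSrc h pC chartC k).base q').1 = (RelProj.emb pC chartC U hU).base
      ((Proj.awayι (𝒮h.deg U hU) (RelProj.gradedHomAt ι h.graded U hU f)
        (Graded.map_mem (RelProj.gradedHomAt ι h.graded U hU) hf) hd).base q') := h3
  have h5 := congrArg (fun m => m.base e) hi'
  have h6 : (i'.base e).1 = i.base ((𝒮.toQCAlg.ι U hU).base x') := h5
  rw [hq', h6, coneImm_ι_apply h hi U hU x'] at h4
  have h7 := (RelProj.emb pC chartC U hU).isOpenEmbedding.injective h4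
  apply proj_ext_of_pos
  intro e' he' g hg
  rw [← not_iff_not]
  have h8 := awayι_mem_basicOpen_iff (RelProj.gradedHomAt ι h.graded U hU) hd he' hf hg q'
  have h9 := awayι_azb_mem_basicOpen_iff h U hU he' g hg x'
  rw [← h7] at h8
  exact ((ProjectiveSpectrum.mem_basicOpen _ _ _).symm.trans h8).trans h9

end retraction

end Groth.Agent.Lib.Helper42
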