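import Groth.Agent.Lib.Helper42.PolyAway
import Mathlib.AlgebraicGeometry.ProjectiveSpectrum.Basic

/-!
# Maps `B_(g) → A_f` induced by a retraction `ε : B → A` of a graded homomorphism `ψ : A → B`
-/

set_option autoImplicit false
universe u

open CategoryTheory AlgebraicGeometry HomogeneousLocalization

namespace Groth.Agent.Lib.Helper42

namespace EvalOneAway

variable {A B τ : Type u} [CommRing A] [CommRing B]
  [SetLike τ B] [AddSubgroupClass τ B] {ℬ : ℕ → τ} [GradedRing ℬ]
  (ε : B →+* A) (f : A)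

/-- `B_(g) → A_f`, `b / g^n ↦ ε b / (ε g)^n`, when `ε g` is a unit in `A_f`. -/
noncomputable def mu (g : B) (hg : IsUnit ((algebraMap A (Localization.Away f)).comp ε g)) :
    Away ℬ g →+* Localization.Away f :=
  (IsLocalization.Away.lift g hg).comp (algebraMap (Away ℬ g) (Localization.Away g))

theorem mu_apply (g : B) (hg : IsUnit ((algebraMap A (Localization.Away f)).comp ε g)) (c : Away ℬ g) :
    mu (ℬ := ℬ) ε f g hg c = IsLocalization.Away.lift g hg c.val := rfl

/-- Compatibility with the maps `B_(g) → B_(g g')`. -/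
theorem mu_comp_awayMap {e' : ℕ} {g g' x : B} (hg' : g' ∈ ℬ e') (hx : x = g * g')
    (hgu : IsUnit ((algebraMap A (Localization.Away f)).comp ε g))
    (hxu : IsUnit ((algebraMap A (Localization.Away f)).comp ε x)) :
    (mu (ℬ := ℬ) ε f x hxu).comp (awayMap ℬ hg' hx) = mu ε f g hgu := by
  ext c
  change IsLocalization.Away.lift x hxu (awayMap ℬ hg' hx c).val = IsLocalization.Away.lift g hgu c.val
  rw [val_awayMap]
  have h : (IsLocalization.Away.lift (S := Localization.Away x) x hxu).comp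
      (Localization.awayLift (algebraMap B (Localization.Away x)) g
        (isUnit_of_dvd_unit (map_dvd _ ⟨_, hx⟩) (IsLocalization.Away.algebraMap_isUnit x))) =
      IsLocalization.Away.lift (S := Localization.Away g) g hgu := by
    apply IsLocalization.ringHom_ext (Submonoid.powers g)
    ext b
    simp only [RingHom.comp_apply]
    rw [Localization.awayLift, IsLocalization.Away.lift_eq, IsLocalization.Away.lift_eq,
      IsLocalization.Away.lift_eq]
  exact DFunLike.congr_fun h c.val

theorem awayι_congr_deg {m₁ m₂ : ℕ} (h : m₁ = m₂) {g : B} (hg₁ : g ∈ ℬ m₁) (hm₁ : 0 < m₁)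
    (hg₂ : g ∈ ℬ m₂) (hm₂ : 0 < m₂) : Proj.awayι ℬ g hg₁ hm₁ = Proj.awayι ℬ g hg₂ hm₂ := by
  subst h
  rfl

/-- All the `Spec A_f ⟶ Spec B_(g) ⟶ Proj B` agree. -/
theorem specMap_mu_awayι {e e' : ℕ} {g g' : B} (hg : g ∈ ℬ e) (he : 0 < e) (hg' : g' ∈ ℬ e') (he' : 0 < e')
    (hgu : IsUnit ((algebraMap A (Localization.Away f)).comp ε g))
    (hgu' : IsUnit ((algebraMap A (Localization.Away f)).comp ε g')) :
    Spec.map (CommRingCat.ofHom (mu (ℬ := ℬ) ε f g hgu)) ≫ Proj.awayι ℬ g hg he =
      Spec.map (CommRingCat.ofHom (mu (ℬ := ℬ) ε f g' hgu')) ≫ Proj.awayι ℬ g' hg' he' := by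
  have hxu : IsUnit ((algebraMap A (Localization.Away f)).comp ε (g * g')) := by
    rw [map_mul]
    exact hgu.mul hgu'
  have h1 : Spec.map (CommRingCat.ofHom (mu (ℬ := ℬ) ε f g hgu)) ≫ Proj.awayι ℬ g hg he =
      Spec.map (CommRingCat.ofHom (mu (ℬ := ℬ) ε f (g * g') hxu)) ≫
        Proj.awayι ℬ (g * g') (SetLike.mul_mem_graded hg hg') (he.trans_le (e.le_add_right e')) := by
    rw [← mu_comp_awayMap ε f hg' rfl hgu hxu, CommRingCat.ofHom_comp, Spec.map_comp, Category.assoc,
      Proj.SpecMap_awayMap_awayι ℬ hg he hg' rfl]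
  have h2 : Spec.map (CommRingCat.ofHom (mu (ℬ := ℬ) ε f g' hgu')) ≫ Proj.awayι ℬ g' hg' he' =
      Spec.map (CommRingCat.ofHom (mu (ℬ := ℬ) ε f (g * g') hxu)) ≫
        Proj.awayι ℬ (g * g') (SetLike.mul_mem_graded hg hg') (he.trans_le (e.le_add_right e')) := by
    rw [← mu_comp_awayMap ε f hg (mul_comm g g') hgu' hxu, CommRingCat.ofHom_comp, Spec.map_comp,
      Category.assoc, Proj.SpecMap_awayMap_awayι ℬ hg' he' hg (mul_comm g g')]
    congr 1
  rw [h1, h2]

/-- The map `B_(z) → A → A_f` for a unit `ε z`. -/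
theorem algebraMap_comp_lift {z : B} (hz : IsUnit (ε z)) :
    (algebraMap A (Localization.Away f)).comp
        ((IsLocalization.Away.lift z hz).comp (algebraMap (Away ℬ z) (Localization.Away z))) =
      mu (ℬ := ℬ) ε f z (hz.map (algebraMap A (Localization.Away f))) := by
  unfold mu
  rw [← RingHom.comp_assoc]
  congr 1
  apply IsLocalization.ringHom_ext (Submonoid.powers z)
  ext b
  simp only [RingHom.comp_apply]
  rw [IsLocalization.Away.lift_eq, IsLocalization.Away.lift_eq]
  rfl

variable {σ : Type u} [SetLike σ A] [AddSubgroupClass σ A] {𝒜 : ℕ → σ} [GradedRing 𝒜]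
  (ψ : 𝒜 →+*ᵍ ℬ) (hεψ : ∀ a, ε (ψ a) = a)

include hεψ in
theorem isUnit_of_retract : IsUnit ((algebraMap A (Localization.Away f)).comp ε (ψ f)) := by
  rw [RingHom.comp_apply, hεψ]
  exact IsLocalization.Away.algebraMap_isUnit f

include hεψ in
/-- `A_(f) → B_(ψ f) → A_f` is the canonical map. -/
theorem mu_comp_map {d : ℕ} (hf : f ∈ 𝒜 d) :
    (mu (ℬ := ℬ) ε f (ψ f) (isUnit_of_retract ε f ψ hεψ)).comp (Away.map ψ f) =
      algebraMap (Away 𝒜 f) (Localization.Away f) := by
  ext c
  change IsLocalization.Away.lift (ψ f) (isUnit_of_retract ε f ψ hεψ) (Away.map ψ f c).val = c.val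
  rw [PolyAway.val_map ψ hf]
  have h : (IsLocalization.Away.lift (S := Localization.Away (ψ f)) (ψ f)
      (isUnit_of_retract ε f ψ hεψ)).comp (Localization.awayMap (ψ : A →+* B) f) =
      RingHom.id (Localization.Away f) := by
    apply IsLocalization.ringHom_ext (Submonoid.powers f)
    ext a
    have e1 : Localization.awayMap (ψ : A →+* B) f (algebraMap A (Localization.Away f) a) =
        algebraMap B (Localization.Away (ψ f)) (ψ a) := AwayBaseChange.awayMap_algebraMap ψ f a
    have e2 := IsLocalization.Away.lift_eq (S := Localization.Away (ψ f)) (ψ f)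
      (isUnit_of_retract ε f ψ hεψ) (ψ a)
    rw [RingHom.comp_apply, hεψ] at e2
    exact (congrArg (IsLocalization.Away.lift (S := Localization.Away (ψ f)) (ψ f)
      (isUnit_of_retract ε f ψ hεψ)) e1).trans e2
  exact DFunLike.congr_fun h c.val

end EvalOneAway

end Groth.Agent.Lib.Helper42
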