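import Groth.Agent.Lib.Helper42.ConeRetraction
import Groth.Agent.Lib.Helper42.GenDegOneIrr
import Groth.Agent.Lib.Helper42.EvalOneAway
import Groth.Agent.Lib.Helper42.LaurentAway
import Groth.Agent.Lib.Helper42.FibreChart
import Groth.Agent.Lib.Helper42.LaurentPushout

/-!
# Fibres of the retractions of the pointed cones onto `Proj(𝒮)` (general base)
-/

set_option autoImplicit false
universe u

open CategoryTheory CategoryTheory.Limits AlgebraicGeometry TopologicalSpace Opposite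
open HomogeneousLocalization Polynomial
open scoped HomogeneousIdeal

namespace Groth.Agent.Lib.Helper42

namespace ConeFibre

variable {Y : Scheme.{u}} {𝒮 𝒮h : RelProj.QCGrAlg Y} {ι : 𝒮.toQCAlg ⟶ 𝒮h.toQCAlg}
  {z : 𝒮h.presheaf.obj (op ⊤)} (h : RelCone.IsPolyOver 𝒮 𝒮h ι z)

/-- Indices of degree one. -/
abbrev DegOneIdx (𝒮 : RelProj.QCGrAlg Y) := {k : StdIdx 𝒮 // k.d = 1}

theorem DegOneIdx.hf (k : DegOneIdx 𝒮) : k.1.f ∈ 𝒮.deg k.1.U k.1.hU 1 := by
  have := k.1.hf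
  rwa [k.2] at this

variable {P : Scheme.{u}} {p : P ⟶ Y}
  {chart : ∀ (U : Y.Opens) (hU : IsAffineOpen U), (((p ⁻¹ᵁ U : P.Opens) : Scheme.{u}) ≅ Proj (𝒮.deg U hU))}

/-- The standard charts at elements of degree one cover `Proj(𝒮)` when `𝒮` is generated in degree one. -/
theorem iSup_opensRange_tgtChart_degOne (hgen : 𝒮.IsGenDegOne) :
    (⨆ k : DegOneIdx 𝒮, (tgtChart p chart k.1).opensRange) = ⊤ := by
  rw [eq_top_iff]
  intro x _
  obtain ⟨U, hU, hxU⟩ := exists_affineOpen_mem (p.base x)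
  have hx : x ∈ p ⁻¹ᵁ U := hxU
  rw [← opensRange_emb 𝒮 p chart U hU] at hx
  obtain ⟨w, rfl⟩ := hx
  have hw : w ∈ (⊤ : (Proj (𝒮.deg U hU)).Opens) := trivial
  rw [← Proj.iSup_basicOpen_eq_top (𝒮.deg U hU)
    (fun f : {f : 𝒮.presheaf.obj (op U) // f ∈ 𝒮.deg U hU 1} => f.1)
    ((irrelevant_le_span_degOne (hgen U hU)).trans (Ideal.span_mono fun a ha => ⟨⟨a, ha⟩, rfl⟩))] at hw
  obtain ⟨f, hwf⟩ := Opens.mem_iSup.mp hw
  rw [← Proj.opensRange_awayι (𝒮.deg U hU) f.1 f.2 one_pos] at hwf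
  obtain ⟨v, rfl⟩ := hwf
  refine Opens.mem_iSup.mpr ⟨⟨⟨U, hU, 1, one_pos, f.1, f.2⟩, rfl⟩, ?_⟩
  exact ⟨v, rfl⟩

section r

variable {PC : Scheme.{u}} {pC : PC ⟶ Y}
  {chartC : ∀ (U : Y.Opens) (hU : IsAffineOpen U), (((pC ⁻¹ᵁ U : PC.Opens) : Scheme.{u}) ≅ Proj (𝒮h.deg U hU))}
  (hPC : RelProj.IsRelProj 𝒮h pC chartC) (hP : RelProj.IsRelProj 𝒮 p chart)
  {r : ((RelCone.pointedProjCone 𝒮 h pC chartC : PC.Opens) : Scheme.{u}) ⟶ P}
  (hr : PinnedOn (fun U hU => RelProj.gradedHomAt ι h.graded U hU)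
    (RelCone.pointedProjCone 𝒮 h pC chartC) p chart pC chartC r)

include hr in
theorem liftSrc_r (k : StdIdx 𝒮) :
    liftSrc h pC chartC k ≫ r =
      Spec.map (CommRingCat.ofHom (Away.map (RelProj.gradedHomAt ι h.graded k.U k.hU) k.f)) ≫
        tgtChart p chart k :=
  hr k (liftSrc h pC chartC k) (liftSrc_ι h k)

include hPC hP hr in
theorem opensRange_liftSrc (k : StdIdx 𝒮) :
    (liftSrc h pC chartC k).opensRange = r ⁻¹ᵁ (tgtChart p chart k).opensRange := by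
  have h1 := pinned_opensRange ι h.graded (fun U hU => RelProj.gradedHomAt ι h.graded U hU)
    (fun _ _ => rfl) _ (pointedProjCone_eq_domQ h) hr hP hPC k (liftSrc h pC chartC k) (liftSrc_ι h k)
  ext x
  exact Set.ext_iff.mp h1 x

include hPC hP hr in
theorem r_iff_degOne (hgen : 𝒮.IsGenDegOne) (Q : MorphismProperty Scheme.{u}) [IsZariskiLocalAtTarget Q] :
    Q r ↔ ∀ k : DegOneIdx 𝒮,
      Q (Spec.map (CommRingCat.ofHom (Away.map (RelProj.gradedHomAt ι h.graded k.1.U k.1.hU) k.1.f))) :=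
  iff_of_charts Q r (fun k : DegOneIdx 𝒮 => (tgtChart p chart k.1).opensRange)
    (iSup_opensRange_tgtChart_degOne hgen) (fun k => liftSrc h pC chartC k.1)
    (fun k => tgtChart p chart k.1)
    (fun k => opensRange_liftSrc h hPC hP hr k.1) (fun _ => rfl)
    (fun k => Spec.map (CommRingCat.ofHom (Away.map (RelProj.gradedHomAt ι h.graded k.1.U k.1.hU) k.1.f)))
    (fun k => liftSrc_r h hr k.1)

include hPC hP hr in
theorem r_locallyOfFiniteType (hgen : 𝒮.IsGenDegOne) : LocallyOfFiniteType r := by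
  rw [r_iff_degOne h hPC hP hr hgen @LocallyOfFiniteType]
  intro k
  rw [HasRingHomProperty.Spec_iff (P := @LocallyOfFiniteType)]
  exact PolyAway.finiteType (RelProj.gradedHomAt ι h.graded k.1.U k.1.hU) (h.deg_z k.1.U k.1.hU) k.hf
    (h.bij k.1.U k.1.hU)

include hPC hP hr in
theorem r_quasiCompact (hgen : 𝒮.IsGenDegOne) : QuasiCompact r := by
  rw [r_iff_degOne h hPC hP hr hgen @QuasiCompact]
  intro k
  infer_instance

include hPC hP hr in
theorem r_exists_fibre_iso (hgen : 𝒮.IsGenDegOne) (x : P) :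
    ∃ e : pullback r (P.fromSpecResidueField x) ≅
        Spec (CommRingCat.of (Polynomial (P.residueField x))),
      e.hom ≫ Spec.map (CommRingCat.ofHom (algebraMap (P.residueField x)
        (Polynomial (P.residueField x)))) = pullback.snd r (P.fromSpecResidueField x) := by
  have hx : x ∈ (⊤ : P.Opens) := trivial
  rw [← iSup_opensRange_tgtChart_degOne (p := p) (chart := chart) hgen] at hx
  obtain ⟨k, hxk⟩ := Opens.mem_iSup.mp hx
  obtain ⟨χ, hχ⟩ := exists_residue_hom_of_mem_range x (tgtChart p chart k.1) hxk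
  letI := (Away.map (RelProj.gradedHomAt ι h.graded k.1.U k.1.hU) k.1.f).toAlgebra
  obtain ⟨ξ, hpo⟩ := exists_isPushout_polynomial
    (PolyAway.equiv (RelProj.gradedHomAt ι h.graded k.1.U k.1.hU) (h.deg_z k.1.U k.1.hU) k.hf
      (h.bij k.1.U k.1.hU)) (P.residueField x) χ.hom
  exact exists_fibre_iso_of_chart r x (tgtChart p chart k.1) (liftSrc h pC chartC k.1)
    (CommRingCat.ofHom (Away.map (RelProj.gradedHomAt ι h.graded k.1.U k.1.hU) k.1.f))
    (liftSrc_r h hr k.1) (opensRange_liftSrc h hPC hP hr k.1).symm χ hχ _ (CommRingCat.ofHom ξ) hpo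

end r

section pi

variable {PC : Scheme.{u}} {pC : PC ⟶ Y}
  {chartC : ∀ (U : Y.Opens) (hU : IsAffineOpen U), (((pC ⁻¹ᵁ U : PC.Opens) : Scheme.{u}) ≅ Proj (𝒮h.deg U hU))}
  (hPC : RelProj.IsRelProj 𝒮h pC chartC) (hP : RelProj.IsRelProj 𝒮 p chart)
  {i : 𝒮.toQCAlg.spec ⟶ PC} (hi : RelCone.IsConeImm 𝒮 h pC chartC i)
  {i' : ((RelCone.pointedCone 𝒮 : 𝒮.toQCAlg.spec.Opens) : Scheme.{u}) ⟶
    ((RelCone.pointedProjCone 𝒮 h pC chartC : PC.Opens) : Scheme.{u})}
  (hi' : i' ≫ (RelCone.pointedProjCone 𝒮 h pC chartC).ι = (RelCone.pointedCone 𝒮).ι ≫ i)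

/-- `ε (ι f)` is a unit in `𝒮(U)_f`. -/
theorem isUnit_evalOne (k : StdIdx 𝒮) :
    IsUnit ((algebraMap (𝒮.presheaf.obj (op k.U)) (Localization.Away k.f)).comp (h.evalOne k.U k.hU)
      (RelProj.gradedHomAt ι h.graded k.U k.hU k.f)) :=
  EvalOneAway.isUnit_of_retract (h.evalOne k.U k.hU) k.f (RelProj.gradedHomAt ι h.graded k.U k.hU)
    (fun a => h.evalOne_ι k.U k.hU a)

include hPC hi hi' in
/-- The morphism `Spec 𝒮(U)_f ⟶ Spec 𝒮h(U)_(ι f)` induced by `i'` is `Spec` of `b/(ι f)ⁿ ↦ ε b / fⁿ`. -/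
theorem chartLift_eq (k : StdIdx 𝒮) :
    chartLift h hPC hi hi' k =
      Spec.map (CommRingCat.ofHom (EvalOneAway.mu (ℬ := 𝒮h.deg k.U k.hU) (h.evalOne k.U k.hU) k.f
        (RelProj.gradedHomAt ι h.graded k.U k.hU k.f) (isUnit_evalOne h k))) := by
  rw [← cancel_mono (liftSrc h pC chartC k), ← cancel_mono (RelCone.pointedProjCone 𝒮 h pC chartC).ι]
  rw [Category.assoc, Category.assoc, chartLift_fac_assoc, hi', liftLoc_ι_assoc, liftSrc_ι]
  change (Spec.map (CommRingCat.ofHom (algebraMap (𝒮.presheaf.obj (op k.U)) (Localization.Away k.f))) ≫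
      𝒮.toQCAlg.ι k.U k.hU) ≫ i =
    Spec.map _ ≫ Proj.awayι (𝒮h.deg k.U k.hU) (RelProj.gradedHomAt ι h.graded k.U k.hU k.f)
      (Graded.map_mem (RelProj.gradedHomAt ι h.graded k.U k.hU) k.hf) k.hd ≫
        RelProj.emb pC chartC k.U k.hU
  rw [Category.assoc, hi k.U k.hU]
  have hzu : IsUnit (h.evalOne k.U k.hU (RelCone.restrictTop 𝒮h z k.U)) := by
    rw [h.evalOne_z]; exact isUnit_one
  have h1 := EvalOneAway.specMap_mu_awayι (ℬ := 𝒮h.deg k.U k.hU) (h.evalOne k.U k.hU) k.f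
    (Graded.map_mem (RelProj.gradedHomAt ι h.graded k.U k.hU) k.hf) k.hd (h.deg_z k.U k.hU) one_pos
    (isUnit_evalOne h k) (hzu.map (algebraMap (𝒮.presheaf.obj (op k.U)) (Localization.Away k.f)))
  have h2 : Spec.map (CommRingCat.ofHom (EvalOneAway.mu (ℬ := 𝒮h.deg k.U k.hU) (h.evalOne k.U k.hU) k.f
      (RelCone.restrictTop 𝒮h z k.U)
      (hzu.map (algebraMap (𝒮.presheaf.obj (op k.U)) (Localization.Away k.f))))) =
      Spec.map (CommRingCat.ofHom (algebraMap (𝒮.presheaf.obj (op k.U)) (Localization.Away k.f))) ≫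
        Spec.map (CommRingCat.ofHom (h.awayZToBase k.U k.hU)) := by
    rw [← Spec.map_comp, ← CommRingCat.ofHom_comp]
    congr 2
    exact (EvalOneAway.algebraMap_comp_lift (ℬ := 𝒮h.deg k.U k.hU) (h.evalOne k.U k.hU) k.f hzu).symm
  rw [reassoc_of% h1, h2, Category.assoc]

include hPC hi hi' in
theorem chartLift_comp_map (k : StdIdx 𝒮) :
    chartLift h hPC hi hi' k ≫
      Spec.map (CommRingCat.ofHom (Away.map (RelProj.gradedHomAt ι h.graded k.U k.hU) k.f)) =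
        Spec.map (CommRingCat.ofHom (algebraMap (Away (𝒮.deg k.U k.hU) k.f) (Localization.Away k.f))) := by
  rw [chartLift_eq h hPC hi hi' k, ← Spec.map_comp, ← CommRingCat.ofHom_comp,
    EvalOneAway.mu_comp_map (h.evalOne k.U k.hU) k.f (RelProj.gradedHomAt ι h.graded k.U k.hU)
      (fun a => h.evalOne_ι k.U k.hU a) k.hf]

end pi

section pi2

variable {PC : Scheme.{u}} {pC : PC ⟶ Y}
  {chartC : ∀ (U : Y.Opens) (hU : IsAffineOpen U), (((pC ⁻¹ᵁ U : PC.Opens) : Scheme.{u}) ≅ Proj (𝒮h.deg U hU))}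
  (hPC : RelProj.IsRelProj 𝒮h pC chartC) (hP : RelProj.IsRelProj 𝒮 p chart)
  {i : 𝒮.toQCAlg.spec ⟶ PC} (hi : RelCone.IsConeImm 𝒮 h pC chartC i)
  {i' : ((RelCone.pointedCone 𝒮 : 𝒮.toQCAlg.spec.Opens) : Scheme.{u}) ⟶
    ((RelCone.pointedProjCone 𝒮 h pC chartC : PC.Opens) : Scheme.{u})}
  (hi' : i' ≫ (RelCone.pointedProjCone 𝒮 h pC chartC).ι = (RelCone.pointedCone 𝒮).ι ≫ i)
  {r : ((RelCone.pointedProjCone 𝒮 h pC chartC : PC.Opens) : Scheme.{u}) ⟶ P}
  (hr : PinnedOn (fun U hU => RelProj.gradedHomAt ι h.graded U hU)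
    (RelCone.pointedProjCone 𝒮 h pC chartC) p chart pC chartC r)

include hPC hi hi' hr in
theorem liftLoc_pi (k : StdIdx 𝒮) :
    liftLoc k ≫ (i' ≫ r) =
      Spec.map (CommRingCat.ofHom (algebraMap (Away (𝒮.deg k.U k.hU) k.f) (Localization.Away k.f))) ≫
        tgtChart p chart k := by
  rw [liftLoc_i'_r h hPC hi hi' hr k, chartLift_comp_map h hPC hi hi' k]

include hPC hP hi hi' hr in
theorem pi_iff_degOne (hgen : 𝒮.IsGenDegOne) (Q : MorphismProperty Scheme.{u}) [IsZariskiLocalAtTarget Q] :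
    Q (i' ≫ r) ↔ ∀ k : DegOneIdx 𝒮,
      Q (Spec.map (CommRingCat.ofHom
        (algebraMap (Away (𝒮.deg k.1.U k.1.hU) k.1.f) (Localization.Away k.1.f)))) :=
  iff_of_charts Q (i' ≫ r) (fun k : DegOneIdx 𝒮 => (tgtChart p chart k.1).opensRange)
    (iSup_opensRange_tgtChart_degOne hgen) (fun k => liftLoc k.1)
    (fun k => tgtChart p chart k.1)
    (fun k => opensRange_liftLoc h hPC hi hP hi' hr k.1) (fun _ => rfl)
    (fun k => Spec.map (CommRingCat.ofHom
        (algebraMap (Away (𝒮.deg k.1.U k.1.hU) k.1.f) (Localization.Away k.1.f))))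
    (fun k => liftLoc_pi h hPC hi hi' hr k.1)

include hPC hP hi hi' hr in
theorem pi_locallyOfFiniteType (hgen : 𝒮.IsGenDegOne) : LocallyOfFiniteType (i' ≫ r) := by
  rw [pi_iff_degOne h hPC hP hi hi' hr hgen @LocallyOfFiniteType]
  intro k
  rw [HasRingHomProperty.Spec_iff (P := @LocallyOfFiniteType)]
  exact LaurentAway.finiteType k.hf

include hPC hP hi hi' hr in
theorem pi_quasiCompact (hgen : 𝒮.IsGenDegOne) : QuasiCompact (i' ≫ r) := by
  rw [pi_iff_degOne h hPC hP hi hi' hr hgen @QuasiCompact]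
  intro k
  infer_instance

include hPC hP hi hi' hr in
theorem pi_exists_fibre_iso (hgen : 𝒮.IsGenDegOne) (x : P) :
    ∃ e : pullback (i' ≫ r) (P.fromSpecResidueField x) ≅
        Spec (CommRingCat.of (LaurentPolynomial (P.residueField x))),
      e.hom ≫ Spec.map (CommRingCat.ofHom (algebraMap (P.residueField x)
        (LaurentPolynomial (P.residueField x)))) = pullback.snd (i' ≫ r) (P.fromSpecResidueField x) := by
  have hx : x ∈ (⊤ : P.Opens) := trivial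
  rw [← iSup_opensRange_tgtChart_degOne (p := p) (chart := chart) hgen] at hx
  obtain ⟨k, hxk⟩ := Opens.mem_iSup.mp hx
  obtain ⟨χ, hχ⟩ := exists_residue_hom_of_mem_range x (tgtChart p chart k.1) hxk
  obtain ⟨ξ, hpo⟩ := exists_isPushout_laurent (LaurentAway.equiv k.hf) (P.residueField x) χ.hom
  exact exists_fibre_iso_of_chart (i' ≫ r) x (tgtChart p chart k.1) (liftLoc k.1)
    (CommRingCat.ofHom (algebraMap (Away (𝒮.deg k.1.U k.1.hU) k.1.f) (Localization.Away k.1.f)))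
    (liftLoc_pi h hPC hi hi' hr k.1) (opensRange_liftLoc h hPC hi hP hi' hr k.1).symm χ hχ _
    (CommRingCat.ofHom ξ) hpo

end pi2

end ConeFibre

end Groth.Agent.Lib.Helper42
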