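import Groth.Prelude.Def_RelSpec2
import Groth.Agent.Lib.Helper42.RelSpecMap
import Groth.Agent.Lib.Helper42.DomOpen

/-!
# The pointed affine cone, chart by chart
-/

set_option autoImplicit false
universe u

open CategoryTheory CategoryTheory.Limits AlgebraicGeometry TopologicalSpace Opposite
open scoped HomogeneousIdeal

namespace Groth.Agent.Lib.Helper42

theorem mem_vertexCompl {R : CommRingCat.{u}} (𝒜 : ℕ → AddSubgroup R) [GradedRing 𝒜] (x : Spec R) :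
    x ∈ RelCone.vertexCompl 𝒜 ↔ ∃ a ∈ (𝒜₊).toIdeal, a ∉ x.asIdeal := by
  have e : x ∈ RelCone.vertexCompl 𝒜 ↔
      ¬ (((𝒜₊).toIdeal : Set R) ⊆ (x.asIdeal : Set R)) := Iff.rfl
  rw [e, Set.not_subset]
  simp only [SetLike.mem_coe]

/-- Under a graded ring homomorphism `ψ` with `ℬ₊ ≤ 𝒜₊.map ψ`, the pointed cone pulls back to the
pointed cone. -/
theorem preimage_vertexCompl {R R' : CommRingCat.{u}} (𝒜 : ℕ → AddSubgroup R) [GradedRing 𝒜]
    (ℬ : ℕ → AddSubgroup R') [GradedRing ℬ] (ψ : 𝒜 →+*ᵍ ℬ) (ψ' : R ⟶ R') (hψ : ∀ x, ψ'.hom x = ψ x)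
    (hirr : ℬ₊ ≤ 𝒜₊.map ψ) :
    Spec.map ψ' ⁻¹ᵁ RelCone.vertexCompl 𝒜 = RelCone.vertexCompl ℬ := by
  ext x
  change (Spec.map ψ').base x ∈ RelCone.vertexCompl 𝒜 ↔ x ∈ RelCone.vertexCompl ℬ
  rw [mem_vertexCompl, mem_vertexCompl]
  constructor
  · rintro ⟨a, ha, hax⟩
    refine ⟨ψ a, map_mem_irrelevant ψ ha, ?_⟩
    rw [← hψ]
    exact hax
  · rintro ⟨b, hb, hbx⟩
    by_contra hcon
    push Not at hcon
    apply hbx
    have h1 : (𝒜₊.map ψ).toIdeal ≤ x.asIdeal := by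
      change Ideal.map ψ (𝒜₊).toIdeal ≤ x.asIdeal
      rw [Ideal.map_le_iff_le_comap]
      intro a ha
      have := hcon a ha
      rw [Ideal.mem_comap, ← hψ]
      exact this
    exact h1 (hirr hb)

variable {S : Scheme.{u}} (𝒮 : RelProj.QCGrAlg S)

/-- The piece of the pointed cone over the affine open `U`. -/
noncomputable def conePiece (U : S.Opens) (hU : IsAffineOpen U) : 𝒮.toQCAlg.spec.Opens :=
  (𝒮.toQCAlg.ι U hU) ''ᵁ RelCone.vertexCompl (𝒮.deg U hU)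

theorem conePiece_le (U : S.Opens) (hU : IsAffineOpen U) :
    conePiece 𝒮 U hU ≤ 𝒮.toQCAlg.π ⁻¹ᵁ U := by
  rw [𝒮.toQCAlg.π_preimage U hU]
  rintro _ ⟨x, -, rfl⟩
  exact ⟨x, rfl⟩

theorem conePiece_basicOpen (U : S.Opens) (hU : IsAffineOpen U) (r : Γ(S, U)) :
    conePiece 𝒮 (S.basicOpen r) (hU.basicOpen r) =
      conePiece 𝒮 U hU ⊓ 𝒮.toQCAlg.π ⁻¹ᵁ (S.basicOpen r) := by
  have hres := ι_res_basicOpen 𝒮.toQCAlg U hU r
  set ψ := Spec.map (𝒮.presheaf.map (homOfLE (S.basicOpen_le r)).op) with hψ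
  set eU := 𝒮.toQCAlg.ι U hU with heU
  have hinj : Function.Injective eU.base := eU.isOpenEmbedding.injective
  have hD : RelCone.vertexCompl (𝒮.deg (S.basicOpen r) (hU.basicOpen r)) =
      ψ ⁻¹ᵁ RelCone.vertexCompl (𝒮.deg U hU) :=
    (preimage_vertexCompl (𝒮.deg U hU) (𝒮.deg (S.basicOpen r) (hU.basicOpen r))
      (𝒮.res hU (hU.basicOpen r) (S.basicOpen_le r)) _ (fun _ => rfl)
      (𝒮.irrelevant_le_map U hU r)).symm
  have hb : ∀ y, (𝒮.toQCAlg.ι (S.basicOpen r) (hU.basicOpen r)) y = eU (ψ y) := by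
    intro y
    rw [← hres, Scheme.Hom.comp_apply]
  have hrange : ((𝒮.toQCAlg.π ⁻¹ᵁ (S.basicOpen r) : 𝒮.toQCAlg.spec.Opens) : Set 𝒮.toQCAlg.spec) =
      eU '' Set.range ψ := by
    have h1 := congrArg (fun V : 𝒮.toQCAlg.spec.Opens => (V : Set 𝒮.toQCAlg.spec))
      (𝒮.toQCAlg.π_preimage _ (hU.basicOpen r))
    simp only [Scheme.Hom.coe_opensRange] at h1
    rw [h1, ← Set.range_comp]
    exact congrArg Set.range (funext hb)
  apply Opens.ext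
  rw [Opens.coe_inf, hrange]
  unfold conePiece
  rw [hD]
  simp only [Scheme.Hom.coe_image, Scheme.Hom.coe_preimage]
  rw [← Set.image_inter hinj, ← Set.image_preimage_eq_inter_range, ← Set.image_comp]
  exact congrArg (fun g => g '' _) (funext hb)

theorem conePiece_congr {U U' : S.Opens} (hU : IsAffineOpen U) (hU' : IsAffineOpen U') (e : U = U') :
    conePiece 𝒮 U hU = conePiece 𝒮 U' hU' := by
  subst e; rfl

theorem pointedCone_inf_preimage (U : S.Opens) (hU : IsAffineOpen U) :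
    RelCone.pointedCone 𝒮 ⊓ 𝒮.toQCAlg.π ⁻¹ᵁ U = conePiece 𝒮 U hU := by
  apply le_antisymm
  · rintro x ⟨hx, hxU⟩
    obtain ⟨V, hV⟩ := Opens.mem_iSup.mp hx
    have hV' : x ∈ conePiece 𝒮 V.1 V.2 := hV
    have hxV : x ∈ 𝒮.toQCAlg.π ⁻¹ᵁ V.1 := conePiece_le 𝒮 V.1 V.2 hV'
    obtain ⟨r, s, e, hxr⟩ := exists_basicOpen_le_affine_inter hU V.2 (𝒮.toQCAlg.π.base x) ⟨hxU, hxV⟩
    have h1 : x ∈ conePiece 𝒮 (S.basicOpen s) (V.2.basicOpen s) := by
      rw [conePiece_basicOpen 𝒮 V.1 V.2 s]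
      exact ⟨hV', e ▸ hxr⟩
    rw [← conePiece_congr 𝒮 (hU.basicOpen r) (V.2.basicOpen s) e, conePiece_basicOpen 𝒮 U hU r] at h1
    exact h1.1
  · exact le_inf (le_iSup (fun U : S.affineOpens => (𝒮.toQCAlg.ι U.1 U.2) ''ᵁ
      RelCone.vertexCompl (𝒮.deg U.1 U.2)) ⟨U, hU⟩) (conePiece_le 𝒮 U hU)

/-- Membership in the pointed cone for a point in the chart over `U`. -/
theorem ι_mem_pointedCone_iff (U : S.Opens) (hU : IsAffineOpen U) (x : Spec (𝒮.presheaf.obj (op U))) :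
    (𝒮.toQCAlg.ι U hU).base x ∈ RelCone.pointedCone 𝒮 ↔ x ∈ RelCone.vertexCompl (𝒮.deg U hU) := by
  have hxU : (𝒮.toQCAlg.ι U hU).base x ∈ 𝒮.toQCAlg.π ⁻¹ᵁ U := by
    rw [𝒮.toQCAlg.π_preimage U hU]; exact ⟨x, rfl⟩
  constructor
  · intro h
    have : (𝒮.toQCAlg.ι U hU).base x ∈ RelCone.pointedCone 𝒮 ⊓ 𝒮.toQCAlg.π ⁻¹ᵁ U := ⟨h, hxU⟩
    rw [pointedCone_inf_preimage 𝒮 U hU] at this
    obtain ⟨y, hy, hyx⟩ := this
    rwa [← (𝒮.toQCAlg.ι U hU).isOpenEmbedding.injective hyx]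
  · intro h
    have : (𝒮.toQCAlg.ι U hU).base x ∈ conePiece 𝒮 U hU := ⟨x, h, rfl⟩
    rw [← pointedCone_inf_preimage 𝒮 U hU] at this
    exact this.1

end Groth.Agent.Lib.Helper42

namespace Groth.Agent.Lib.Helper42

section ringlevel

variable {R R' : CommRingCat.{u}} (𝒜 : ℕ → AddSubgroup R) [GradedRing 𝒜]
    (ℬ : ℕ → AddSubgroup R') [GradedRing ℬ] (ψ : 𝒜 →+*ᵍ ℬ)

theorem vertexCompl_of_map_mem (ψ' : R ⟶ R') (hψ : ∀ x, ψ'.hom x = ψ x) (x : Spec R')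
    (h : (Spec.map ψ').base x ∈ RelCone.vertexCompl 𝒜) : x ∈ RelCone.vertexCompl ℬ := by
  rw [mem_vertexCompl] at h ⊢
  obtain ⟨a, ha, hax⟩ := h
  refine ⟨ψ a, map_mem_irrelevant ψ ha, ?_⟩
  rw [← hψ]
  exact hax

theorem map_mem_vertexCompl_of_domOpen_eq_top (ψ' : R ⟶ R') (hψ : ∀ x, ψ'.hom x = ψ x)
    (hdom : RelCone.domOpen ψ = ⊤) (x : Spec R') (hx : x ∈ RelCone.vertexCompl ℬ) :
    (Spec.map ψ').base x ∈ RelCone.vertexCompl 𝒜 := by
  classical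
  rw [mem_vertexCompl] at hx ⊢
  obtain ⟨b, hb, hbx⟩ := hx
  have hprime : (x.asIdeal.homogeneousCore ℬ).toIdeal.IsPrime := x.isPrime.homogeneousCore
  have hnot : ¬ ℬ₊ ≤ x.asIdeal.homogeneousCore ℬ := by
    intro hle
    exact hbx (Ideal.toIdeal_homogeneousCore_le ℬ x.asIdeal (hle hb))
  let z : Proj ℬ := ⟨x.asIdeal.homogeneousCore ℬ, hprime, hnot⟩
  have hz : z ∈ RelCone.domOpen ψ := by rw [hdom]; trivial
  rw [RelCone.mem_domOpen] at hz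
  obtain ⟨f, hf, hfz⟩ := hz
  have hex : ∃ i, ψ (DirectSum.decompose 𝒜 f i : R) ∉ (x.asIdeal.homogeneousCore ℬ).toIdeal := by
    by_contra hcon
    push Not at hcon
    apply hfz
    rw [← DirectSum.sum_support_decompose 𝒜 f, map_sum]
    exact Ideal.sum_mem _ fun i _ => hcon i
  obtain ⟨i, hi⟩ := hex
  have hi0 : i ≠ 0 := by
    rintro rfl
    apply hi
    have : (DirectSum.decompose 𝒜 f 0 : R) = 0 := (HomogeneousIdeal.mem_irrelevant_iff 𝒜 f).mp hf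
    rw [this, map_zero]
    exact zero_mem _
  refine ⟨(DirectSum.decompose 𝒜 f i : R),
    HomogeneousIdeal.mem_irrelevant_of_mem 𝒜 (Nat.pos_of_ne_zero hi0) (SetLike.coe_mem _), ?_⟩
  intro hmem
  apply hi
  have hmem' : ψ (DirectSum.decompose 𝒜 f i : R) ∈ x.asIdeal := by
    rw [← hψ]; exact hmem
  exact Ideal.mem_homogeneousCore_of_homogeneous_of_mem
    ⟨i, ψ.map_mem (SetLike.coe_mem _)⟩ hmem'

theorem domOpen_eq_top_of_forall (ψ' : R ⟶ R') (hψ : ∀ x, ψ'.hom x = ψ x)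
    (h : ∀ x : Spec R', x ∈ RelCone.vertexCompl ℬ → (Spec.map ψ').base x ∈ RelCone.vertexCompl 𝒜) :
    RelCone.domOpen ψ = ⊤ := by
  rw [eq_top_iff]
  intro z _
  let x : Spec R' := ⟨z.asHomogeneousIdeal.toIdeal, z.isPrime⟩
  have hx : x ∈ RelCone.vertexCompl ℬ := by
    rw [mem_vertexCompl]
    by_contra hcon
    push Not at hcon
    exact z.not_irrelevant_le fun b hb => hcon b hb
  have := h x hx
  rw [mem_vertexCompl] at this
  obtain ⟨a, ha, hax⟩ := this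
  rw [RelCone.mem_domOpen]
  refine ⟨a, ha, ?_⟩
  rw [← hψ]
  exact hax

end ringlevel

end Groth.Agent.Lib.Helper42

namespace Groth.Agent.Lib.Helper42

/-- Every point of a relative spectrum over `S'` lies in the chart of an affine pair for `q : S' ⟶ S`. -/
theorem exists_chart_pair {S S' : Scheme.{u}} (q : S' ⟶ S) (B' : RelSpec.QCAlg S') (x : B'.spec) :
    ∃ (V : AffPair q) (x'' : Spec (B'.presheaf.obj (op V.U'))), (B'.ι V.U' V.hU').base x'' = x := by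
  obtain ⟨V, hV⟩ := (pairOpens B'.π q).covers x
  change x ∈ B'.π ⁻¹ᵁ V.U' at hV
  rw [B'.π_preimage V.U' V.hU'] at hV
  obtain ⟨x'', hx''⟩ := hV
  exact ⟨V, x'', hx''⟩

end Groth.Agent.Lib.Helper42
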