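import Groth.Agent.Lib.Helper42.Vertex
import Groth.Agent.Lib.Helper42.PointedCone

/-!
# The pointed affine cone is the complement of the vertex section
-/

set_option autoImplicit false
universe u

open CategoryTheory CategoryTheory.Limits AlgebraicGeometry TopologicalSpace Opposite
open scoped HomogeneousIdeal

namespace Groth.Agent.Lib.Helper42

theorem exists_affineOpen_mem' {Y : Scheme.{u}} (y : Y) : ∃ (U : Y.Opens) (_ : IsAffineOpen U), y ∈ U := by
  obtain ⟨U, hU, hyU, -⟩ := Opens.isBasis_iff_nbhd.mp Y.isBasis_affineOpens (Opens.mem_top y)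
  exact ⟨U, hU, hyU⟩

variable {Y : Scheme.{u}} (𝒮 : RelProj.QCGrAlg Y) (aug : 𝒮.toQCAlg ⟶ RelSpec.QCAlg.unit Y)

theorem irrelevant_le_ker_augAt (haug : RelCone.IsAugmentation 𝒮 aug) (U : Y.Opens) (hU : IsAffineOpen U) :
    (𝒮.deg U hU)₊.toIdeal ≤ RingHom.ker (augAt 𝒮.toQCAlg aug U).hom := by
  classical
  intro x hx
  rw [RingHom.mem_ker, ← DirectSum.sum_support_decompose (𝒮.deg U hU) x, map_sum]
  refine Finset.sum_eq_zero fun i _ => ?_
  rcases Nat.eq_zero_or_pos i with rfl | hi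
  · have : (DirectSum.decompose (𝒮.deg U hU) x 0 : 𝒮.presheaf.obj (op U)) = 0 :=
      (HomogeneousIdeal.mem_irrelevant_iff _ x).mp hx
    rw [this, map_zero]
  · obtain ⟨d, rfl⟩ : ∃ d, i = d + 1 := ⟨i - 1, by omega⟩
    exact haug U hU d _ (SetLike.coe_mem _)

theorem ker_augAt_eq_irrelevant (h0 : RelCone.StrZeroBij 𝒮) (haug : RelCone.IsAugmentation 𝒮 aug)
    (U : Y.Opens) (hU : IsAffineOpen U) :
    RingHom.ker (augAt 𝒮.toQCAlg aug U).hom = (𝒮.deg U hU)₊.toIdeal := by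
  classical
  apply le_antisymm _ (irrelevant_le_ker_augAt 𝒮 aug haug U hU)
  intro x hx
  rw [RingHom.mem_ker] at hx
  change x ∈ (𝒮.deg U hU)₊
  rw [HomogeneousIdeal.mem_irrelevant_iff]
  change (DirectSum.decompose (𝒮.deg U hU) x 0 : 𝒮.presheaf.obj (op U)) = 0
  set x₀ := DirectSum.decompose (𝒮.deg U hU) x 0 with hx₀
  obtain ⟨r, hr⟩ := (h0 U hU).2 x₀
  have hr' : (𝒮.str.app (op U)).hom r = (x₀ : 𝒮.presheaf.obj (op U)) := by
    rw [← hr]; rfl
  have hdiff : x - (x₀ : 𝒮.presheaf.obj (op U)) ∈ (𝒮.deg U hU)₊.toIdeal := by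
    change x - (x₀ : 𝒮.presheaf.obj (op U)) ∈ (𝒮.deg U hU)₊
    rw [HomogeneousIdeal.mem_irrelevant_iff]
    change (DirectSum.decompose (𝒮.deg U hU) (x - (x₀ : 𝒮.presheaf.obj (op U))) 0 :
      𝒮.presheaf.obj (op U)) = 0
    rw [DirectSum.decompose_sub, DirectSum.sub_apply, DirectSum.decompose_coe,
      DirectSum.of_eq_same, sub_self]
    rfl
  have h1 := irrelevant_le_ker_augAt 𝒮 aug haug U hU hdiff
  rw [RingHom.mem_ker, map_sub, hx, zero_sub, neg_eq_zero, ← hr'] at h1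
  have h2 := congrArg (fun ψ => ψ.hom r) (str_comp_augAt 𝒮.toQCAlg aug U)
  have h3 : (augAt 𝒮.toQCAlg aug U).hom ((𝒮.str.app (op U)).hom r) = r := h2
  rw [h3] at h1
  rw [← hr', h1, map_zero]

section

variable {𝒮 aug}
variable {ε : Y ⟶ 𝒮.toQCAlg.spec} (hε : ∀ (U : Y.Opens) (hU : IsAffineOpen U),
      hU.fromSpec ≫ ε = Spec.map (augAt 𝒮.toQCAlg aug U) ≫ 𝒮.toQCAlg.ι U hU)

include hε in
theorem ι_mem_range_section_iff (U : Y.Opens) (hU : IsAffineOpen U)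
    (x : Spec (𝒮.presheaf.obj (op U))) :
    (𝒮.toQCAlg.ι U hU).base x ∈ Set.range ε.base ↔
      RingHom.ker (augAt 𝒮.toQCAlg aug U).hom ≤ x.asIdeal := by
  have hsec := section_comp_π hε
  constructor
  · rintro ⟨y, hy⟩
    have hyU : y ∈ U := by
      have h1 : (𝒮.toQCAlg.π).base (ε.base y) = y := by
        have := congrArg (fun m => m.base y) hsec
        exact this
      have h2 : (𝒮.toQCAlg.ι U hU).base x ∈ 𝒮.toQCAlg.π ⁻¹ᵁ U := by
        rw [𝒮.toQCAlg.π_preimage U hU]; exact ⟨x, rfl⟩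
      rw [← hy] at h2
      change (𝒮.toQCAlg.π).base (ε.base y) ∈ U at h2
      rwa [h1] at h2
    rw [← hU.opensRange_fromSpec] at hyU
    obtain ⟨y', rfl⟩ := hyU
    have h3 := congrArg (fun m => m.base y') (hε U hU)
    have h4 : ε.base (hU.fromSpec.base y') =
        (𝒮.toQCAlg.ι U hU).base ((Spec.map (augAt 𝒮.toQCAlg aug U)).base y') := h3
    rw [h4] at hy
    have h5 := (𝒮.toQCAlg.ι U hU).isOpenEmbedding.injective hy
    rw [← h5]
    intro a ha
    rw [RingHom.mem_ker] at ha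
    change (augAt 𝒮.toQCAlg aug U).hom a ∈ y'.asIdeal
    rw [ha]
    exact zero_mem _
  · intro hle
    have hx : x ∈ Set.range (PrimeSpectrum.comap (augAt 𝒮.toQCAlg aug U).hom) := by
      rw [range_comap_of_surjective _ _ (augAt_surjective 𝒮.toQCAlg aug U)]
      exact hle
    obtain ⟨y', rfl⟩ := hx
    refine ⟨hU.fromSpec.base y', ?_⟩
    have h3 := congrArg (fun m => m.base y') (hε U hU)
    exact h3

include hε in
theorem pointedCone_eq_compl_range_section (h0 : RelCone.StrZeroBij 𝒮)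
    (haug : RelCone.IsAugmentation 𝒮 aug) :
    ((RelCone.pointedCone 𝒮 : 𝒮.toQCAlg.spec.Opens) : Set 𝒮.toQCAlg.spec) = (Set.range ε.base)ᶜ := by
  ext c
  obtain ⟨U, hU, hcU⟩ := exists_affineOpen_mem' ((𝒮.toQCAlg.π).base c)
  have hc : c ∈ 𝒮.toQCAlg.π ⁻¹ᵁ U := hcU
  rw [𝒮.toQCAlg.π_preimage U hU] at hc
  obtain ⟨x, rfl⟩ := hc
  rw [Set.mem_compl_iff, ι_mem_range_section_iff hε U hU x, ker_augAt_eq_irrelevant 𝒮 aug h0 haug U hU]
  change (𝒮.toQCAlg.ι U hU).base x ∈ RelCone.pointedCone 𝒮 ↔ _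
  rw [ι_mem_pointedCone_iff 𝒮 U hU x]
  rfl

end

end Groth.Agent.Lib.Helper42
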