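import Groth.Agent.Lib.Helper42.ConeImm
import Groth.Agent.Lib.Helper42.VertexCompl

/-!
# The pointed projective cone is the complement of the vertex
-/

set_option autoImplicit false
universe u

open CategoryTheory CategoryTheory.Limits AlgebraicGeometry TopologicalSpace Opposite
open HomogeneousLocalization Polynomial
open scoped HomogeneousIdeal

namespace Groth.Agent.Lib.Helper42

variable {Y : Scheme.{u}} {𝒮 𝒮h : RelProj.QCGrAlg Y} {ι : 𝒮.toQCAlg ⟶ 𝒮h.toQCAlg}
  {z : 𝒮h.presheaf.obj (op ⊤)} (h : RelCone.IsPolyOver 𝒮 𝒮h ι z)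

section ringlevel

variable (U : Y.Opens) (hU : IsAffineOpen U)

/-- `azb (ψ f / z^d) = f`. -/
theorem awayZToBase_isLocalizationElem {d : ℕ} (f : 𝒮.presheaf.obj (op U)) (hf : f ∈ 𝒮.deg U hU d) :
    h.awayZToBase U hU (Away.isLocalizationElem (h.deg_z U hU)
      (Graded.map_mem (RelProj.gradedHomAt ι h.graded U hU) hf)) = f := by
  unfold Away.isLocalizationElem
  rw [awayZToBase_mk, pow_one]
  exact h.evalOne_ι U hU f

/-- The point `awayι_z (Spec(azb) x)` lies in `D₊(ψ f)` iff `f ∉ x`. -/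
theorem awayι_azb_mem_basicOpen_iff {d : ℕ} (hd : 0 < d) (f : 𝒮.presheaf.obj (op U))
    (hf : f ∈ 𝒮.deg U hU d) (x : Spec (𝒮.presheaf.obj (op U))) :
    (Proj.awayι (𝒮h.deg U hU) (RelCone.restrictTop 𝒮h z U) (h.deg_z U hU) one_pos).base
        ((Spec.map (CommRingCat.ofHom (h.awayZToBase U hU))).base x) ∈
      Proj.basicOpen (𝒮h.deg U hU) (RelProj.gradedHomAt ι h.graded U hU f) ↔ f ∉ x.asIdeal := by
  have h1 : (Proj.awayι (𝒮h.deg U hU) (RelCone.restrictTop 𝒮h z U) (h.deg_z U hU) one_pos).base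
        ((Spec.map (CommRingCat.ofHom (h.awayZToBase U hU))).base x) ∈
      Proj.basicOpen (𝒮h.deg U hU) (RelProj.gradedHomAt ι h.graded U hU f) ↔
      (Spec.map (CommRingCat.ofHom (h.awayZToBase U hU))).base x ∈
        Proj.awayι (𝒮h.deg U hU) (RelCone.restrictTop 𝒮h z U) (h.deg_z U hU) one_pos ⁻¹ᵁ
          Proj.basicOpen (𝒮h.deg U hU) (RelProj.gradedHomAt ι h.graded U hU f) := Iff.rfl
  rw [h1, Proj.awayι_preimage_basicOpen (𝒮h.deg U hU) (h.deg_z U hU) one_pos
    (Graded.map_mem (RelProj.gradedHomAt ι h.graded U hU) hf) hd]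
  change h.awayZToBase U hU (Away.isLocalizationElem (h.deg_z U hU)
      (Graded.map_mem (RelProj.gradedHomAt ι h.graded U hU) hf)) ∉ x.asIdeal ↔ _
  rw [awayZToBase_isLocalizationElem h U hU f hf]

/-- If the irrelevant ideal of `𝒮(U)` maps into a point `w` of `Proj 𝒮h(U)`, then `z ∉ w`. -/
theorem z_not_mem_of_not_mem_domOpen (w : Proj (𝒮h.deg U hU))
    (hw : w ∉ RelCone.domOpen (RelProj.gradedHomAt ι h.graded U hU)) :
    w ∈ Proj.basicOpen (𝒮h.deg U hU) (RelCone.restrictTop 𝒮h z U) := by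
  rw [RelCone.mem_domOpen] at hw
  push Not at hw
  refine (ProjectiveSpectrum.mem_basicOpen _ _ _).mpr ?_
  intro hz
  apply w.not_irrelevant_le
  rw [HomogeneousIdeal.irrelevant_le]
  intro k hk G hG
  -- `G = Σ ψ(p_m) z^m`
  set p := (h.polyEquiv U hU).symm G with hp
  have hpG : eval₂ ((RelProj.gradedHomAt ι h.graded U hU : 𝒮.deg U hU →+*ᵍ 𝒮h.deg U hU) :
      𝒮.presheaf.obj (op U) →+* 𝒮h.presheaf.obj (op U)) (RelCone.restrictTop 𝒮h z U) p = G := by
    have : eval₂ (ι.hom.app (op U)).hom (RelCone.restrictTop 𝒮h z U) p = G := by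
      rw [← h.polyEquiv_apply U hU, hp, RingEquiv.apply_symm_apply]
    exact this
  have hc := coeff_mem_of_mem (RelProj.gradedHomAt ι h.graded U hU)
    (RelCone.restrictTop 𝒮h z U) (h.deg_z U hU) (polyGraded_inj h U hU) k p (by rw [hpG]; exact hG)
  rw [← hpG, eval₂_eq_sum_range]
  refine Ideal.sum_mem _ fun m _ => ?_
  rcases Nat.eq_zero_or_pos m with rfl | hm
  · rw [pow_zero, mul_one]
    apply hw
    have := (hc 0).1
    rw [Nat.sub_zero] at this
    exact HomogeneousIdeal.mem_irrelevant_of_mem _ hk this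
  · apply Ideal.mul_mem_left
    obtain ⟨m', rfl⟩ : ∃ m', m = m' + 1 := ⟨m - 1, by omega⟩
    rw [pow_succ]
    exact Ideal.mul_mem_left _ _ hz

end ringlevel

section

variable {PC : Scheme.{u}} {pC : PC ⟶ Y}
  {chartC : ∀ (U : Y.Opens) (hU : IsAffineOpen U), (((pC ⁻¹ᵁ U : PC.Opens) : Scheme.{u}) ≅ Proj (𝒮h.deg U hU))}

theorem pointedProjCone_eq_domQ :
    RelCone.pointedProjCone 𝒮 h pC chartC =
      RelProj.domQ (RelProj.QGrHom.ofHom ι h.graded) pC chartC :=
  (domQ_eq_iSup_domPiece ι h.graded pC chartC).symm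

variable (hPC : RelProj.IsRelProj 𝒮h pC chartC)

include hPC in
theorem emb_mem_pointedProjCone_iff (U : Y.Opens) (hU : IsAffineOpen U) (w : Proj (𝒮h.deg U hU)) :
    (RelProj.emb pC chartC U hU).base w ∈ RelCone.pointedProjCone 𝒮 h pC chartC ↔
      w ∈ RelCone.domOpen (RelProj.gradedHomAt ι h.graded U hU) := by
  have hwU : (RelProj.emb pC chartC U hU).base w ∈ pC ⁻¹ᵁ U := by
    rw [← opensRange_emb 𝒮h pC chartC U hU]; exact ⟨w, rfl⟩
  rw [pointedProjCone_eq_domQ]
  constructor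
  · intro hw
    have : (RelProj.emb pC chartC U hU).base w ∈
        RelProj.domQ (RelProj.QGrHom.ofHom ι h.graded) pC chartC ⊓ pC ⁻¹ᵁ U := ⟨hw, hwU⟩
    rw [domQ_inf_preimage ι h.graded hPC U hU] at this
    obtain ⟨w', hw', hww'⟩ := this
    rwa [← (RelProj.emb pC chartC U hU).isOpenEmbedding.injective hww']
  · intro hw
    have : (RelProj.emb pC chartC U hU).base w ∈ domPiece ι h.graded pC chartC U hU := ⟨w, hw, rfl⟩
    rw [← domQ_inf_preimage ι h.graded hPC U hU] at this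
    exact this.1

variable {i : 𝒮.toQCAlg.spec ⟶ PC} (hi : RelCone.IsConeImm 𝒮 h pC chartC i)

include hi in
theorem coneImm_ι_apply (U : Y.Opens) (hU : IsAffineOpen U) (x : Spec (𝒮.presheaf.obj (op U))) :
    i.base ((𝒮.toQCAlg.ι U hU).base x) = (RelProj.emb pC chartC U hU).base
      ((Proj.awayι (𝒮h.deg U hU) (RelCone.restrictTop 𝒮h z U) (h.deg_z U hU) one_pos).base
        ((Spec.map (CommRingCat.ofHom (h.awayZToBase U hU))).base x)) := by
  have := congrArg (fun m => m.base x) (hi U hU)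
  exact this

include hPC hi in
/-- A point `emb_U w` is in the image of the cone iff `w ∈ D₊(z)`. -/
theorem emb_mem_range_coneImm_iff (U : Y.Opens) (hU : IsAffineOpen U) (w : Proj (𝒮h.deg U hU)) :
    (RelProj.emb pC chartC U hU).base w ∈ Set.range i.base ↔
      w ∈ Proj.basicOpen (𝒮h.deg U hU) (RelCone.restrictTop 𝒮h z U) := by
  constructor
  · rintro ⟨c, hc⟩
    -- `c` lies over `U`
    have hcU : (𝒮.toQCAlg.π).base c ∈ U := by
      have h1 := congrArg (fun m => m.base c) (coneImm_comp_p h hPC hi)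
      have h2 : pC.base (i.base c) = (𝒮.toQCAlg.π).base c := h1
      rw [← h2, hc]
      have : (RelProj.emb pC chartC U hU).base w ∈ pC ⁻¹ᵁ U := by
        rw [← opensRange_emb 𝒮h pC chartC U hU]; exact ⟨w, rfl⟩
      exact this
    have hc' : c ∈ 𝒮.toQCAlg.π ⁻¹ᵁ U := hcU
    rw [𝒮.toQCAlg.π_preimage U hU] at hc'
    obtain ⟨x, rfl⟩ := hc'
    rw [coneImm_ι_apply h hi U hU x] at hc
    have := (RelProj.emb pC chartC U hU).isOpenEmbedding.injective hc
    rw [← this, ← Proj.opensRange_awayι _ _ (h.deg_z U hU) one_pos]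
    exact ⟨_, rfl⟩
  · intro hw
    rw [← Proj.opensRange_awayι _ _ (h.deg_z U hU) one_pos] at hw
    obtain ⟨q, rfl⟩ := hw
    -- `q` comes from a point of `Spec 𝒮(U)`
    have hiso : IsIso (CommRingCat.ofHom (h.awayZToBase U hU)) := by
      rw [ConcreteCategory.isIso_iff_bijective]
      exact awayZToBase_bijective h U hU
    have hsurj : Function.Surjective (Spec.map (CommRingCat.ofHom (h.awayZToBase U hU))).base :=
      (Spec.map (CommRingCat.ofHom (h.awayZToBase U hU))).homeomorph.surjective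
    obtain ⟨x, rfl⟩ := hsurj q
    exact ⟨(𝒮.toQCAlg.ι U hU).base x, coneImm_ι_apply h hi U hU x⟩

include hPC hi in
theorem exists_of_emb_eq_coneImm (U : Y.Opens) (hU : IsAffineOpen U) (w : Proj (𝒮h.deg U hU))
    (c : 𝒮.toQCAlg.spec) (hc : i.base c = (RelProj.emb pC chartC U hU).base w) :
    ∃ x : Spec (𝒮.presheaf.obj (op U)), (𝒮.toQCAlg.ι U hU).base x = c ∧
      (Proj.awayι (𝒮h.deg U hU) (RelCone.restrictTop 𝒮h z U) (h.deg_z U hU) one_pos).base
        ((Spec.map (CommRingCat.ofHom (h.awayZToBase U hU))).base x) = w := by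
  have hcU : (𝒮.toQCAlg.π).base c ∈ U := by
    have h1 := congrArg (fun m => m.base c) (coneImm_comp_p h hPC hi)
    have h2 : pC.base (i.base c) = (𝒮.toQCAlg.π).base c := h1
    rw [← h2, hc]
    have : (RelProj.emb pC chartC U hU).base w ∈ pC ⁻¹ᵁ U := by
      rw [← opensRange_emb 𝒮h pC chartC U hU]; exact ⟨w, rfl⟩
    exact this
  have hc' : c ∈ 𝒮.toQCAlg.π ⁻¹ᵁ U := hcU
  rw [𝒮.toQCAlg.π_preimage U hU] at hc'
  obtain ⟨x, rfl⟩ := hc'
  rw [coneImm_ι_apply h hi U hU x] at hc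
  exact ⟨x, rfl, (RelProj.emb pC chartC U hU).isOpenEmbedding.injective hc⟩

theorem exists_of_mem_basicOpen_z (U : Y.Opens) (hU : IsAffineOpen U) (w : Proj (𝒮h.deg U hU))
    (hw : w ∈ Proj.basicOpen (𝒮h.deg U hU) (RelCone.restrictTop 𝒮h z U)) :
    ∃ x : Spec (𝒮.presheaf.obj (op U)),
      (Proj.awayι (𝒮h.deg U hU) (RelCone.restrictTop 𝒮h z U) (h.deg_z U hU) one_pos).base
        ((Spec.map (CommRingCat.ofHom (h.awayZToBase U hU))).base x) = w := by
  rw [← Proj.opensRange_awayι _ _ (h.deg_z U hU) one_pos] at hw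
  obtain ⟨q, rfl⟩ := hw
  have hiso : IsIso (CommRingCat.ofHom (h.awayZToBase U hU)) := by
    rw [ConcreteCategory.isIso_iff_bijective]
    exact awayZToBase_bijective h U hU
  have hsurj : Function.Surjective (Spec.map (CommRingCat.ofHom (h.awayZToBase U hU))).base :=
    (Spec.map (CommRingCat.ofHom (h.awayZToBase U hU))).homeomorph.surjective
  obtain ⟨x, rfl⟩ := hsurj q
  exact ⟨x, rfl⟩

include hPC hi in
/-- The pointed projective cone is the complement of the image of the vertex section. -/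
theorem pointedProjCone_eq_compl_range_vertex (h0 : RelCone.StrZeroBij 𝒮)
    {aug : 𝒮.toQCAlg ⟶ RelSpec.QCAlg.unit Y} (haug : RelCone.IsAugmentation 𝒮 aug)
    {ε : Y ⟶ 𝒮.toQCAlg.spec} (hε : RelCone.IsVertex 𝒮 aug ε) :
    ((RelCone.pointedProjCone 𝒮 h pC chartC : PC.Opens) : Set PC) = (Set.range (ε ≫ i).base)ᶜ := by
  classical
  have hε' : ∀ (U : Y.Opens) (hU : IsAffineOpen U),
      hU.fromSpec ≫ ε = Spec.map (augAt 𝒮.toQCAlg aug U) ≫ 𝒮.toQCAlg.ι U hU := fun U hU => hε.chart U hU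
  ext c
  obtain ⟨U, hU, hcU⟩ := exists_affineOpen_mem (pC.base c)
  have hc : c ∈ pC ⁻¹ᵁ U := hcU
  rw [← opensRange_emb 𝒮h pC chartC U hU] at hc
  obtain ⟨w, rfl⟩ := hc
  rw [Set.mem_compl_iff]
  change (RelProj.emb pC chartC U hU).base w ∈ RelCone.pointedProjCone 𝒮 h pC chartC ↔ _
  rw [emb_mem_pointedProjCone_iff h hPC U hU w]
  constructor
  · rintro hw ⟨y, hy⟩
    have hy' : i.base (ε.base y) = (RelProj.emb pC chartC U hU).base w := hy
    obtain ⟨x, hx, hxw⟩ := exists_of_emb_eq_coneImm h hPC hi U hU w _ hy'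
    have hker : RingHom.ker (augAt 𝒮.toQCAlg aug U).hom ≤ x.asIdeal :=
      (ι_mem_range_section_iff hε' U hU x).mp ⟨y, hx.symm⟩
    obtain ⟨d, hd, f, hf, hwf⟩ := exists_mem_basicOpen_of_mem_domOpen
      (RelProj.gradedHomAt ι h.graded U hU) w hw
    rw [← hxw, awayι_azb_mem_basicOpen_iff h U hU hd f hf x] at hwf
    exact hwf (hker (irrelevant_le_ker_augAt 𝒮 aug haug U hU
      (HomogeneousIdeal.mem_irrelevant_of_mem _ hd hf)))
  · intro hnot
    by_contra hw
    apply hnot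
    obtain ⟨x, hxw⟩ := exists_of_mem_basicOpen_z h U hU w (z_not_mem_of_not_mem_domOpen h U hU w hw)
    have hker : RingHom.ker (augAt 𝒮.toQCAlg aug U).hom ≤ x.asIdeal := by
      rw [ker_augAt_eq_irrelevant 𝒮 aug h0 haug U hU]
      intro f hf
      rw [← DirectSum.sum_support_decompose (𝒮.deg U hU) f]
      refine Ideal.sum_mem _ fun j _ => ?_
      rcases Nat.eq_zero_or_pos j with rfl | hj
      · have : (DirectSum.decompose (𝒮.deg U hU) f 0 : 𝒮.presheaf.obj (op U)) = 0 :=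
          (HomogeneousIdeal.mem_irrelevant_iff _ f).mp hf
        rw [this]
        exact zero_mem _
      · by_contra hfx
        apply hw
        rw [← awayι_azb_mem_basicOpen_iff h U hU hj _ (SetLike.coe_mem _) x, hxw] at hfx
        exact (RelCone.mem_domOpen _ _).mpr ⟨_, HomogeneousIdeal.mem_irrelevant_of_mem _ hj
          (SetLike.coe_mem _), (ProjectiveSpectrum.mem_basicOpen _ _ _).mp hfx⟩
    obtain ⟨y, hy⟩ := (ι_mem_range_section_iff hε' U hU x).mpr hker
    refine ⟨y, ?_⟩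
    change i.base (ε.base y) = _
    rw [hy, coneImm_ι_apply h hi U hU x, hxw]

end

end Groth.Agent.Lib.Helper42
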