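import Groth.Statements.S9118
import Mathlib.CategoryTheory.Linear.FunctorCategory
import Mathlib.Algebra.Homology.ShortComplex.ModuleCat
import Mathlib.Algebra.Homology.ShortComplex.ExactFunctor
import Mathlib.RingTheory.Flat.Basic
import Mathlib.RingTheory.Flat.Tensor
import Mathlib.LinearAlgebra.TensorProduct.RightExactness

/-!
# Sections of constant sheaves of modules (helper42)

`T J Λ U : ModuleCat Λ ⥤ ModuleCat Λ`, `M ↦ M̲(U)` (sections over `U` of the constant sheaf).
* `T` is additive, `Λ`-linear on morphisms (`T_map_smul`), left exact (instance) and preserves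
  surjections (`T_map_surjective`; set-theoretic section trick through `constantCommuteCompose`),
  hence exact (`T_exact`).
* `phi M Q : M̲(U) ⊗ Q → (M ⊗ Q)̲(U)` natural in `Q`, bijective for `Q` finitely presented
  (`phi_bijective`).
* `flat_T`: over a coherent ring, `M̲(U)` is flat for `M` flat.
-/

set_option autoImplicit false
universe u
open CategoryTheory Opposite Limits TensorProduct

namespace Groth.Agent.Lib.Helper42.ConstSect

variable {C : Type u} [SmallCategory C] (J : GrothendieckTopology C)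
    (Λ : Type u) [CommRing Λ] (U : C)

/-- `M ↦ M̲(U)`. -/
noncomputable abbrev T : ModuleCat.{u} Λ ⥤ ModuleCat.{u} Λ :=
  constantSheaf J (ModuleCat.{u} Λ) ⋙ sheafToPresheaf J (ModuleCat.{u} Λ) ⋙ (evaluation _ _).obj (op U)

instance : (T J Λ U).Additive := by
  unfold T
  infer_instance

instance : PreservesFiniteLimits (constantSheaf J (ModuleCat.{u} Λ)) := by
  unfold constantSheaf
  infer_instance

instance : PreservesFiniteLimits (T J Λ U) := by
  unfold T
  infer_instance

/-- comparison of the underlying sheaf of sets with the constant sheaf of sets -/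
noncomputable def α := constantCommuteCompose J (forget (ModuleCat.{u} Λ))

section
variable {M N : ModuleCat.{u} Λ} (f : M ⟶ N)

theorem T_map_surjective (hf : Function.Surjective f.hom) :
    Function.Surjective ((T J Λ U).map f).hom := by
  intro t
  obtain ⟨σ, hσ⟩ := hf.hasRightInverse
  let σ' : (forget _).obj N ⟶ (forget _).obj M := ↾σ
  have h1 : σ' ≫ (forget _).map f = 𝟙 _ := by
    ext x
    exact hσ x
  have nat := (α J Λ).hom.naturality f
  have nat' := congrArg (fun k => k.hom.app (op U)) nat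
  simp only [Functor.comp_map, ObjectProperty.FullSubcategory.comp_hom, NatTrans.comp_app] at nat'
  let A := ((α J Λ).hom.app N).hom.app (op U)
  let A' := ((α J Λ).inv.app M).hom.app (op U)
  let B := ((constantSheaf J (Type u)).map σ').hom.app (op U)
  refine ⟨A' (B (A t)), ?_⟩
  have hAinj : Function.Injective A := by
    have : IsIso A := by
      dsimp only [A]
      infer_instance
    exact ((isIso_iff_bijective A).mp this).1
  apply hAinj
  have e1 := ConcreteCategory.congr_hom nat' (A' (B (A t)))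
  have e2 : ((α J Λ).hom.app M).hom.app (op U) (A' (B (A t))) = B (A t) := by
    have := congrArg (fun k => k.hom.app (op U)) ((α J Λ).inv_hom_id_app M)
    simp only [ObjectProperty.FullSubcategory.comp_hom, NatTrans.comp_app] at this
    exact ConcreteCategory.congr_hom this (B (A t))
  have e3 : ((constantSheaf J (Type u)).map ((forget _).map f)).hom.app (op U) (B (A t)) = A t := by
    have h2 : (constantSheaf J (Type u)).map σ' ≫ (constantSheaf J (Type u)).map ((forget _).map f)
        = 𝟙 _ := by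
      rw [← CategoryTheory.Functor.map_comp, h1, CategoryTheory.Functor.map_id]
    have := congrArg (fun k => k.hom.app (op U)) h2
    simp only [ObjectProperty.FullSubcategory.comp_hom, NatTrans.comp_app] at this
    exact ConcreteCategory.congr_hom this (A t)
  simp only [ConcreteCategory.comp_apply] at e1
  rw [e2] at e1
  exact e1.trans e3

end

instance : PreservesFiniteColimits (T J Λ U) := by
  rw [Functor.preservesFiniteColimits_iff_forall_exact_map_and_epi]
  intro S hS
  refine ⟨((Functor.preservesFiniteLimits_iff_forall_exact_map_and_mono (T J Λ U)).mp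
    inferInstance S hS).1, ?_⟩
  rw [ModuleCat.epi_iff_surjective]
  exact T_map_surjective J Λ U S.g ((ModuleCat.epi_iff_surjective _).mp hS.epi_g)

theorem T_exact {A B D : ModuleCat.{u} Λ} (f : A ⟶ B) (g : B ⟶ D)
    (h : Function.Exact f.hom g.hom) :
    Function.Exact ((T J Λ U).map f).hom ((T J Λ U).map g).hom := by
  have w : f ≫ g = 0 := by
    ext x
    exact h.apply_apply_eq_zero x
  let S : ShortComplex (ModuleCat.{u} Λ) := ShortComplex.mk f g w
  have hS : S.Exact := (ShortComplex.ShortExact.moduleCat_exact_iff_function_exact S).mpr h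
  have := hS.map (T J Λ U)
  exact (ShortComplex.ShortExact.moduleCat_exact_iff_function_exact _).mp this

theorem T_map_injective {A B : ModuleCat.{u} Λ} (f : A ⟶ B) (h : Function.Injective f.hom) :
    Function.Injective ((T J Λ U).map f).hom := by
  have : Mono f := (ModuleCat.mono_iff_injective f).mpr h
  exact (ModuleCat.mono_iff_injective _).mp (inferInstance : Mono ((T J Λ U).map f))

theorem sheafifyMap_smul_id (a : Λ) (P : Cᵒᵖ ⥤ ModuleCat.{u} Λ) :
    sheafifyMap J (a • 𝟙 P) = a • 𝟙 (sheafify J P) := by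
  apply sheafify_hom_ext J _ _ ((presheafToSheaf J _).obj P).property
  rw [← toSheafify_naturality, Linear.smul_comp, Linear.comp_smul, Category.id_comp, Category.comp_id]

theorem T_map_smul_id (a : Λ) (M : ModuleCat.{u} Λ) :
    (T J Λ U).map (a • 𝟙 M) = a • 𝟙 ((T J Λ U).obj M) := by
  have h1 : (Functor.const Cᵒᵖ).map (a • 𝟙 M) = a • 𝟙 ((Functor.const Cᵒᵖ).obj M) := by
    ext V
    rfl
  have h2 : ((constantSheaf J (ModuleCat.{u} Λ)).map (a • 𝟙 M)).hom =
      a • 𝟙 (sheafify J ((Functor.const Cᵒᵖ).obj M)) := by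
    have := sheafifyMap_smul_id J Λ a ((Functor.const Cᵒᵖ).obj M)
    rw [← h1] at this
    exact this
  show ((constantSheaf J (ModuleCat.{u} Λ)).map (a • 𝟙 M)).hom.app (op U) = _
  rw [h2]
  rfl

theorem T_map_smul (a : Λ) {M N : ModuleCat.{u} Λ} (f : M ⟶ N) :
    (T J Λ U).map (a • f) = a • (T J Λ U).map f := by
  have : a • f = (a • 𝟙 M) ≫ f := by
    rw [Linear.smul_comp, Category.id_comp]
  rw [this, CategoryTheory.Functor.map_comp, T_map_smul_id, Linear.smul_comp, Category.id_comp]

/-! ### Linear-map level interface -/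

section Lin

variable {A B D : Type u} [AddCommGroup A] [Module Λ A] [AddCommGroup B] [Module Λ B]
  [AddCommGroup D] [Module Λ D]

/-- `T` on linear maps. -/
noncomputable def Tm (f : A →ₗ[Λ] B) :
    (T J Λ U).obj (ModuleCat.of Λ A) →ₗ[Λ] (T J Λ U).obj (ModuleCat.of Λ B) :=
  ((T J Λ U).map (ModuleCat.ofHom f)).hom

theorem Tm_id : Tm J Λ U (LinearMap.id : A →ₗ[Λ] A) = LinearMap.id := by
  unfold Tm
  rw [ModuleCat.ofHom_id, CategoryTheory.Functor.map_id]
  rfl

theorem Tm_comp (f : A →ₗ[Λ] B) (g : B →ₗ[Λ] D) :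
    Tm J Λ U (g ∘ₗ f) = Tm J Λ U g ∘ₗ Tm J Λ U f := by
  unfold Tm
  rw [ModuleCat.ofHom_comp, CategoryTheory.Functor.map_comp]
  rfl

theorem Tm_comp_apply (f : A →ₗ[Λ] B) (g : B →ₗ[Λ] D) (x) :
    Tm J Λ U g (Tm J Λ U f x) = Tm J Λ U (g ∘ₗ f) x := by
  rw [Tm_comp]
  rfl

theorem Tm_add (f g : A →ₗ[Λ] B) : Tm J Λ U (f + g) = Tm J Λ U f + Tm J Λ U g := by
  unfold Tm
  have : ModuleCat.ofHom (f + g) = ModuleCat.ofHom f + ModuleCat.ofHom g := rfl
  rw [this, Functor.map_add]
  rfl

theorem Tm_zero : Tm J Λ U (0 : A →ₗ[Λ] B) = 0 := by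
  unfold Tm
  have : ModuleCat.ofHom (0 : A →ₗ[Λ] B) = 0 := rfl
  rw [this, Functor.map_zero]
  rfl

theorem Tm_smul (a : Λ) (f : A →ₗ[Λ] B) : Tm J Λ U (a • f) = a • Tm J Λ U f := by
  unfold Tm
  have : ModuleCat.ofHom (a • f) = a • ModuleCat.ofHom f := rfl
  rw [this, T_map_smul]
  rfl

theorem Tm_sum {ι : Type*} (s : Finset ι) (f : ι → (A →ₗ[Λ] B)) :
    Tm J Λ U (∑ i ∈ s, f i) = ∑ i ∈ s, Tm J Λ U (f i) := by
  classical
  induction s using Finset.induction_on with
  | empty => simp [Tm_zero]
  | insert i s hi ih => rw [Finset.sum_insert hi, Finset.sum_insert hi, Tm_add, ih]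

theorem Tm_surjective (f : A →ₗ[Λ] B) (hf : Function.Surjective f) :
    Function.Surjective (Tm J Λ U f) :=
  T_map_surjective J Λ U (ModuleCat.ofHom f) hf

theorem Tm_injective (f : A →ₗ[Λ] B) (hf : Function.Injective f) :
    Function.Injective (Tm J Λ U f) :=
  T_map_injective J Λ U (ModuleCat.ofHom f) hf

theorem Tm_exact (f : A →ₗ[Λ] B) (g : B →ₗ[Λ] D) (h : Function.Exact f g) :
    Function.Exact (Tm J Λ U f) (Tm J Λ U g) :=
  T_exact J Λ U (ModuleCat.ofHom f) (ModuleCat.ofHom g) h

theorem Tm_bijective (e : A ≃ₗ[Λ] B) : Function.Bijective (Tm J Λ U e.toLinearMap) :=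
  ⟨Tm_injective J Λ U _ e.injective, Tm_surjective J Λ U _ e.surjective⟩

end Lin

/-! ### The comparison map `M̲(U) ⊗ Q → (M ⊗ Q)̲(U)` -/

section Phi

variable (M : Type u) [AddCommGroup M] [Module Λ M]
variable (Q : Type u) [AddCommGroup Q] [Module Λ Q]
variable {Q' : Type u} [AddCommGroup Q'] [Module Λ Q']

/-- the comparison map -/
noncomputable def phi :
    ((T J Λ U).obj (ModuleCat.of Λ M)) ⊗[Λ] Q →ₗ[Λ] (T J Λ U).obj (ModuleCat.of Λ (M ⊗[Λ] Q)) :=
  TensorProduct.lift
    (LinearMap.mk₂ Λ (fun s q => Tm J Λ U ((TensorProduct.mk Λ M Q).flip q) s)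
      (fun s s' q => map_add _ s s')
      (fun a s q => map_smul _ a s)
      (fun s q q' => by
        rw [map_add, Tm_add]
        rfl)
      (fun a s q => by
        rw [map_smul, Tm_smul]
        rfl))

@[simp]
theorem phi_tmul (s : (T J Λ U).obj (ModuleCat.of Λ M)) (q : Q) :
    phi J Λ U M Q (s ⊗ₜ q) = Tm J Λ U ((TensorProduct.mk Λ M Q).flip q) s := by
  unfold phi
  rw [TensorProduct.lift.tmul]
  rfl

variable {Q}

theorem phi_natural (h : Q →ₗ[Λ] Q') (x) :
    Tm J Λ U (LinearMap.lTensor M h) (phi J Λ U M Q x) =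
      phi J Λ U M Q' (LinearMap.lTensor _ h x) := by
  induction x using TensorProduct.induction_on with
  | zero => simp
  | add x y hx hy => rw [map_add, map_add, hx, hy, map_add, map_add]
  | tmul s q =>
    rw [phi_tmul, LinearMap.lTensor_tmul, phi_tmul, Tm_comp_apply]
    congr 2

end Phi

section Bij

variable (M : Type u) [AddCommGroup M] [Module Λ M]

theorem phi_self_bijective : Function.Bijective (phi J Λ U M Λ) := by
  have key : ∀ x, Tm J Λ U (TensorProduct.rid Λ M).toLinearMap (phi J Λ U M Λ x) =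
      TensorProduct.rid Λ _ x := by
    intro x
    induction x using TensorProduct.induction_on with
    | zero => simp
    | add x y hx hy => rw [map_add, map_add, hx, hy, map_add]
    | tmul s a =>
      rw [phi_tmul, Tm_comp_apply, TensorProduct.rid_tmul]
      have : (TensorProduct.rid Λ M).toLinearMap ∘ₗ (TensorProduct.mk Λ M Λ).flip a =
          a • LinearMap.id := by
        ext m
        simp
      rw [this, Tm_smul, Tm_id]
      rfl
  have hb := Tm_bijective J Λ U (TensorProduct.rid Λ M)
  have h2 : Function.Bijective (fun x => Tm J Λ U (TensorProduct.rid Λ M).toLinearMap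
      (phi J Λ U M Λ x)) := by
    have : (fun x => Tm J Λ U (TensorProduct.rid Λ M).toLinearMap (phi J Λ U M Λ x)) =
        fun x => TensorProduct.rid Λ _ x := funext key
    rw [this]
    exact (TensorProduct.rid Λ _).bijective
  exact (Function.Bijective.of_comp_iff' hb _).mp h2

theorem phi_pi_bijective (ι : Type) [Fintype ι] [DecidableEq ι] :
    Function.Bijective (phi J Λ U M (ι → Λ)) := by
  have hsum : ∑ i : ι, (LinearMap.single Λ (fun _ : ι => Λ) i) ∘ₗ (LinearMap.proj i) =
      (LinearMap.id : (ι → Λ) →ₗ[Λ] (ι → Λ)) := by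
    ext j k
    simp [Finset.sum_apply, Pi.single_apply]
  constructor
  · intro x y hxy
    rw [← sub_eq_zero]
    have hz : phi J Λ U M (ι → Λ) (x - y) = 0 := by rw [map_sub, hxy, sub_self]
    generalize x - y = z at hz
    have h1 : ∀ i, LinearMap.lTensor _ (LinearMap.proj i : (ι → Λ) →ₗ[Λ] Λ) z = 0 := by
      intro i
      apply (phi_self_bijective J Λ U M).1
      rw [← phi_natural, hz, map_zero, map_zero]
    have h2 : z = ∑ i : ι, LinearMap.lTensor _ (LinearMap.single Λ (fun _ : ι => Λ) i)
        (LinearMap.lTensor _ (LinearMap.proj i : (ι → Λ) →ₗ[Λ] Λ) z) := by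
      have : ∀ i : ι, LinearMap.lTensor ((T J Λ U).obj (ModuleCat.of Λ M))
          (LinearMap.single Λ (fun _ : ι => Λ) i)
          (LinearMap.lTensor _ (LinearMap.proj i : (ι → Λ) →ₗ[Λ] Λ) z) =
          LinearMap.lTensorHom ((T J Λ U).obj (ModuleCat.of Λ M))
            ((LinearMap.single Λ (fun _ : ι => Λ) i) ∘ₗ (LinearMap.proj i)) z := by
        intro i
        rw [LinearMap.coe_lTensorHom, LinearMap.lTensor_comp]
        rfl
      simp_rw [this]
      rw [← LinearMap.sum_apply, ← map_sum, hsum, LinearMap.coe_lTensorHom, LinearMap.lTensor_id]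
      rfl
    rw [h2]
    refine Finset.sum_eq_zero (fun i _ => ?_)
    rw [h1, map_zero]
  · intro y
    have hy : y = ∑ i : ι, Tm J Λ U (LinearMap.lTensor M (LinearMap.single Λ (fun _ : ι => Λ) i))
        (Tm J Λ U (LinearMap.lTensor M (LinearMap.proj i : (ι → Λ) →ₗ[Λ] Λ)) y) := by
      have : ∀ i : ι, Tm J Λ U (LinearMap.lTensor M (LinearMap.single Λ (fun _ : ι => Λ) i))
          (Tm J Λ U (LinearMap.lTensor M (LinearMap.proj i : (ι → Λ) →ₗ[Λ] Λ)) y) =
          Tm J Λ U (LinearMap.lTensorHom M
            ((LinearMap.single Λ (fun _ : ι => Λ) i) ∘ₗ (LinearMap.proj i))) y := by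
        intro i
        rw [Tm_comp_apply, LinearMap.coe_lTensorHom, LinearMap.lTensor_comp]
      simp_rw [this]
      rw [← LinearMap.sum_apply, ← Tm_sum, ← map_sum, hsum, LinearMap.coe_lTensorHom,
        LinearMap.lTensor_id, Tm_id]
      rfl
    choose x hx using fun i => (phi_self_bijective J Λ U M).2
      (Tm J Λ U (LinearMap.lTensor M (LinearMap.proj i : (ι → Λ) →ₗ[Λ] Λ)) y)
    refine ⟨∑ i : ι, LinearMap.lTensor _ (LinearMap.single Λ (fun _ : ι => Λ) i) (x i), ?_⟩
    rw [map_sum, hy]
    refine Finset.sum_congr rfl (fun i _ => ?_)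
    rw [← phi_natural, hx]

variable {P1 P0 Q : Type u} [AddCommGroup P1] [Module Λ P1] [AddCommGroup P0] [Module Λ P0]
  [AddCommGroup Q] [Module Λ Q]

theorem phi_bijective_of_exact (f : P1 →ₗ[Λ] P0) (g : P0 →ₗ[Λ] Q) (hfg : Function.Exact f g)
    (hg : Function.Surjective g) (h1 : Function.Surjective (phi J Λ U M P1))
    (h0 : Function.Bijective (phi J Λ U M P0)) : Function.Bijective (phi J Λ U M Q) := by
  constructor
  · intro x y hxy
    rw [← sub_eq_zero]
    have hz : phi J Λ U M Q (x - y) = 0 := by rw [map_sub, hxy, sub_self]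
    generalize x - y = z at hz
    obtain ⟨z0, rfl⟩ := LinearMap.lTensor_surjective ((T J Λ U).obj (ModuleCat.of Λ M)) hg z
    rw [← phi_natural] at hz
    have hex := Tm_exact J Λ U (LinearMap.lTensor M f) (LinearMap.lTensor M g)
      (lTensor_exact M hfg hg)
    obtain ⟨y1, hy1⟩ := (hex _).mp hz
    obtain ⟨x1, rfl⟩ := h1 y1
    rw [phi_natural] at hy1
    have := h0.1 hy1
    rw [← this, ← LinearMap.comp_apply, ← LinearMap.lTensor_comp]
    have hgf : g ∘ₗ f = 0 := by
      ext p
      exact hfg.apply_apply_eq_zero p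
    rw [hgf, LinearMap.lTensor_zero]
    rfl
  · intro y
    obtain ⟨y0, rfl⟩ := Tm_surjective J Λ U (LinearMap.lTensor M g)
      (LinearMap.lTensor_surjective M hg) y
    obtain ⟨x0, rfl⟩ := h0.2 y0
    exact ⟨_, (phi_natural J Λ U M g x0).symm⟩

theorem phi_bijective (Q : Type u) [AddCommGroup Q] [Module Λ Q] [Module.FinitePresentation Λ Q] :
    Function.Bijective (phi J Λ U M Q) := by
  classical
  obtain ⟨n, m, f, g, hf, hgf⟩ := Module.FinitePresentation.exists_fin' Λ Q
  exact phi_bijective_of_exact J Λ U M g f hgf hf (phi_pi_bijective J Λ U M (Fin m)).2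
    (phi_pi_bijective J Λ U M (Fin n))

end Bij

/-- Over a coherent ring, sections of the constant sheaf on a flat module are flat. -/
theorem flat_T (hΛ : ∀ I : Ideal Λ, I.FG → Module.FinitePresentation Λ I)
    (M : Type u) [AddCommGroup M] [Module Λ M] [Module.Flat Λ M] :
    Module.Flat Λ ((T J Λ U).obj (ModuleCat.of Λ M)) := by
  rw [Module.Flat.iff_lTensor_injective]
  intro I hI
  haveI := hΛ I hI
  have hb := phi_bijective J Λ U M I
  have hinj : Function.Injective (Tm J Λ U (LinearMap.lTensor M I.subtype)) :=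
    Tm_injective J Λ U _
      (Module.Flat.lTensor_preserves_injective_linearMap _ Subtype.val_injective)
  intro x y hxy
  apply hb.1
  apply hinj
  rw [phi_natural, phi_natural, hxy]

end Groth.Agent.Lib.Helper42.ConstSect
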