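import Groth.Agent.Lib.Helper42.DirImgFull
import Groth.Agent.Lib.Helper42.FTLocal
import Groth.Agent.Lib.Helper49.FiniteTypeAffine

/-!
# Finite type and the direct image along an affine morphism
-/

set_option autoImplicit false
universe u
open CategoryTheory CategoryTheory.Limits AlgebraicGeometry TopologicalSpace Opposite

namespace Groth.Agent.Lib.Helper42
namespace DirImgFT

open Groth.Agent.Lib.Helper49 Groth.Agent.Lib.Helper49.ModGlue Groth.Agent.Lib.Helper45
  Groth.Agent.Lib.Helper42.DirImgFull Groth.Agent.Lib.Helper42.FTLocal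

variable {X : Scheme.{u}}

/-- a section over a basic open of an affine open is, on any smaller open, a multiple of the
restriction of a section over the affine open -/
lemma exists_eq_smul_res (F : X.Modules) [F.IsQuasicoherent] {U : X.Opens} (hU : IsAffineOpen U)
    (g : Γ(X, U)) (m : Γ(F, X.basicOpen g)) :
    ∃ (t : Γ(F, U)), ∀ {W : X.Opens} (hW : W ≤ X.basicOpen g), ∃ (r : Γ(X, W)),
      res F hW m = r • res F (hW.trans (X.basicOpen_le g)) t := by
  obtain ⟨k, t, ht⟩ := exists_restrict_eq_pow_smul hU F g m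
  have ht' : res F (X.basicOpen_le g) t = (resO (X.basicOpen_le g) g) ^ k • m := ht
  refine ⟨t, fun {W} hW => ?_⟩
  obtain ⟨u, hu⟩ := isUnit_resO_of_le_basicOpen g hW
  refine ⟨((u⁻¹ : Γ(X, W)ˣ) : Γ(X, W)) ^ k, ?_⟩
  have h1 := congrArg (res F hW) ht'
  rw [res_res, res_smul, map_pow] at h1
  have h2 : resO hW (resO (X.basicOpen_le g) g) = (u : Γ(X, W)) := by
    rw [hu]; exact resO_resO _ _ _
  rw [h1, h2, smul_smul, ← mul_pow, Units.inv_mul, one_pow, one_smul]

attribute [local instance] instCategoryAMod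

variable {S : Scheme.{u}} (f : X ⟶ S) [IsAffineHom f] (F : X.Modules) [F.IsQuasicoherent]

/-- the direct image of a quasi-coherent module of finite type along an affine morphism is of
finite type over the direct image algebra -/
theorem isFiniteType_dirImg (hF : SheafOfModules.IsFiniteType.{u} (R := X.ringCatSheaf) F) :
    SheafOfModules.IsFiniteType.{u} (R := AMod.ringSheaf (RelSpec.QCAlg.directImage f))
      ((AMod.dirImg f).obj F) := by
  refine (isFiniteType_iff (X := S.toTopCat)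
    (R := AMod.ringSheaf (RelSpec.QCAlg.directImage f)) ((AMod.dirImg f).obj F)).mpr (fun y => ?_)
  obtain ⟨V, hV, hyV, -⟩ := Opens.isBasis_iff_nbhd.mp S.isBasis_affineOpens
    (show y ∈ (⊤ : S.Opens) from trivial)
  have hV' : IsAffineOpen (f ⁻¹ᵁ V) := IsAffineOpen.preimage hV f
  have hfin : Module.Finite Γ(X, f ⁻¹ᵁ V) Γ(F, f ⁻¹ᵁ V) :=
    Groth.Agent.Lib.Helper49.finite_sections_of_isFiniteType F hF hV'
  obtain ⟨n, s, hs⟩ := Module.Finite.exists_fin (R := Γ(X, f ⁻¹ᵁ V)) (M := Γ(F, f ⁻¹ᵁ V))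
  refine ⟨V, hyV, ULift.{u} (Fin n), inferInstance, fun i => s i.down, ?_⟩
  intro V' hV'V m y' hy'
  change Γ(F, f ⁻¹ᵁ V') at m
  obtain ⟨a, ha, hy'a⟩ := hV.exists_basicOpen_le ⟨y', hy'⟩ (hV'V hy')
  have e : f ⁻¹ᵁ S.basicOpen a = X.basicOpen (f.app V a) := Scheme.preimage_basicOpen f a
  have hle1 : X.basicOpen (f.app V a) ≤ f ⁻¹ᵁ V' := e ▸ f.preimage_mono ha
  have hle2 : f ⁻¹ᵁ S.basicOpen a ≤ X.basicOpen (f.app V a) := e.le
  obtain ⟨t, ht0⟩ := exists_eq_smul_res F hV' (f.app V a) (res F hle1 m)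
  obtain ⟨r, htr⟩ := ht0 hle2
  have ht : t ∈ Submodule.span Γ(X, f ⁻¹ᵁ V) (Set.range s) := by rw [hs]; trivial
  obtain ⟨c, hc⟩ := (Submodule.mem_span_range_iff_exists_fun _).mp ht
  refine ⟨S.basicOpen a, ha, hy'a, fun i => r * resO (hle2.trans (X.basicOpen_le _)) (c i.down), ?_⟩
  change res F (f.preimage_mono ha) m = ∑ i : ULift.{u} (Fin n),
    (r * resO (hle2.trans (X.basicOpen_le _)) (c i.down)) •
      res F (f.preimage_mono (ha.trans hV'V)) (s i.down)
  rw [res_res] at htr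
  rw [htr, ← hc, map_sum, Finset.smul_sum,
    ← Equiv.ulift.{u}.sum_comp (fun j : Fin n =>
      r • res F (hle2.trans (X.basicOpen_le _)) (c j • s j))]
  refine Finset.sum_congr rfl (fun i _ => ?_)
  rw [res_smul, smul_smul]
  rfl

/-- a quasi-coherent module whose direct image along an affine morphism is of finite type over the
direct image algebra is of finite type -/
theorem isFiniteType_of_dirImg
    (h : SheafOfModules.IsFiniteType.{u} (R := AMod.ringSheaf (RelSpec.QCAlg.directImage f))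
      ((AMod.dirImg f).obj F)) :
    SheafOfModules.IsFiniteType.{u} (R := X.ringCatSheaf) F := by
  refine (isFiniteType_iff (X := X.toTopCat) (R := X.ringCatSheaf) F).mpr (fun x => ?_)
  obtain ⟨U, hyU, I, hI, s, hs⟩ := (isFiniteType_iff (X := S.toTopCat)
    (R := AMod.ringSheaf (RelSpec.QCAlg.directImage f)) ((AMod.dirImg f).obj F)).mp h (f x)
  refine ⟨f ⁻¹ᵁ U, hyU, I, hI, s, ?_⟩
  let s' : I → Γ(F, f ⁻¹ᵁ U) := s
  intro V' hV'U m x' hx'
  change Γ(F, V') at m
  obtain ⟨V, hV, hfxV, hVU⟩ := Opens.isBasis_iff_nbhd.mp S.isBasis_affineOpens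
    (show f x' ∈ U from hV'U hx')
  have hV' : IsAffineOpen (f ⁻¹ᵁ V) := IsAffineOpen.preimage hV f
  obtain ⟨g, hg, hxg⟩ := hV'.exists_basicOpen_le (V := V' ⊓ f ⁻¹ᵁ V)
    ⟨x', ⟨hx', hfxV⟩⟩ hfxV
  have hgV' : X.basicOpen g ≤ V' := hg.trans inf_le_left
  obtain ⟨t, ht0⟩ := exists_eq_smul_res F hV' g (res F hgV' m)
  obtain ⟨W, hW, hfxW, c, hc⟩ := hs V hVU t (f x') hfxV
  let c' : I → Γ(X, f ⁻¹ᵁ W) := c
  have hc' : res F (f.preimage_mono hW) t =
      ∑ i, c' i • res F (f.preimage_mono (hW.trans hVU)) (s' i) := hc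
  obtain ⟨r, hr⟩ := ht0 (W := X.basicOpen g ⊓ f ⁻¹ᵁ W) inf_le_left
  refine ⟨X.basicOpen g ⊓ f ⁻¹ᵁ W, inf_le_left.trans hgV', ⟨hxg, hfxW⟩,
    (fun i => r * resO inf_le_right (c' i) : I → Γ(X, X.basicOpen g ⊓ f ⁻¹ᵁ W)), ?_⟩
  change res F (inf_le_left.trans hgV') m = ∑ i, (r * resO inf_le_right (c' i)) •
    res F ((inf_le_left.trans hgV').trans hV'U) (s' i)
  rw [res_res] at hr
  have e1 : res F (inf_le_left.trans (X.basicOpen_le g)) t =
      res F (inf_le_right : X.basicOpen g ⊓ f ⁻¹ᵁ W ≤ f ⁻¹ᵁ W) (res F (f.preimage_mono hW) t) :=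
    (res_res F _ _ t).symm
  rw [hr, e1, hc', map_sum, Finset.smul_sum]
  refine Finset.sum_congr rfl (fun i _ => ?_)
  rw [res_smul, smul_smul, res_res]

end DirImgFT
end Groth.Agent.Lib.Helper42
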