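import Groth.Prelude.Def_RelSpec2
import Groth.Agent.Lib.Helper49.ModGlue
import Groth.Agent.Lib.Helper45.FiniteType

/-!
# The direct image along an affine morphism is fully faithful on quasi-coherent modules
-/

set_option autoImplicit false
universe u

open CategoryTheory CategoryTheory.Limits AlgebraicGeometry TopologicalSpace Opposite

namespace Groth.Agent.Lib.Helper42

namespace DirImgFull

open Groth.Agent.Lib.Helper49 Groth.Agent.Lib.Helper49.ModGlue Groth.Agent.Lib.Helper45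

variable {X : Scheme.{u}}

/-- restriction of functions -/
noncomputable abbrev resO {U V : X.Opens} (h : V ≤ U) : Γ(X, U) →+* Γ(X, V) :=
  (X.presheaf.map (homOfLE h).op).hom

lemma resO_resO {U V W : X.Opens} (h : V ≤ U) (h' : W ≤ V) (r : Γ(X, U)) :
    resO h' (resO h r) = resO (h'.trans h) r := by
  simp only [resO]
  rw [← CommRingCat.comp_apply, ← Functor.map_comp]
  rfl

lemma isUnit_resO_of_le_basicOpen {U : X.Opens} (g : Γ(X, U)) {W : X.Opens}
    (hW : W ≤ X.basicOpen g) : IsUnit (resO (hW.trans (X.basicOpen_le g)) g) := by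
  have h1 : IsUnit (resO (X.basicOpen_le g) g) := RingedSpace.isUnit_res_basicOpen X.toRingedSpace g
  have h2 := h1.map (resO hW)
  rwa [resO_resO] at h2

/-- Master lemma: two semilinear additive maps out of the sections over a basic open of an affine
open, which agree on restrictions of sections over the affine open, are equal. -/
lemma master (F G : X.Modules) [F.IsQuasicoherent] {U : X.Opens} (hU : IsAffineOpen U)
    (g : Γ(X, U)) {W' : X.Opens} (hW' : W' ≤ X.basicOpen g)
    (α β : Γ(F, X.basicOpen g) →+ Γ(G, W'))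
    (hα : ∀ (r : Γ(X, X.basicOpen g)) (s : Γ(F, X.basicOpen g)), α (r • s) = resO hW' r • α s)
    (hβ : ∀ (r : Γ(X, X.basicOpen g)) (s : Γ(F, X.basicOpen g)), β (r • s) = resO hW' r • β s)
    (h : ∀ t : Γ(F, U), α (res F (X.basicOpen_le g) t) = β (res F (X.basicOpen_le g) t)) :
    α = β := by
  ext s
  obtain ⟨n, t, ht⟩ := exists_restrict_eq_pow_smul hU F g s
  have ht' : res F (X.basicOpen_le g) t = (resO (X.basicOpen_le g) g) ^ n • s := ht
  have hu : IsUnit (resO hW' ((resO (X.basicOpen_le g) g) ^ n)) := by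
    rw [map_pow, resO_resO]
    exact (isUnit_resO_of_le_basicOpen g hW').pow n
  have h1 := h t
  rw [ht', hα, hβ] at h1
  exact (hu.smul_left_cancel).mp h1

section LocMap

attribute [local instance] sectionsBasicOpenModule

/-- An additive map `Γ(F, U) → Γ(G, U)` linear over `Γ(X, U)` (`U` affine) induces a map on sections
over every basic open of `U`. -/
lemma exists_locMap (F G : X.Modules) [F.IsQuasicoherent] [G.IsQuasicoherent] {U : X.Opens}
    (hU : IsAffineOpen U) (g : Γ(X, U)) (ψ : Γ(F, U) →+ Γ(G, U))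
    (hψ : ∀ (r : Γ(X, U)) (s : Γ(F, U)), ψ (r • s) = r • ψ s) :
    ∃ φ : Γ(F, X.basicOpen g) →+ Γ(G, X.basicOpen g),
      (∀ (r : Γ(X, X.basicOpen g)) (s : Γ(F, X.basicOpen g)), φ (r • s) = r • φ s) ∧
      ∀ t : Γ(F, U), φ (res F (X.basicOpen_le g) t) = res G (X.basicOpen_le g) (ψ t) := by
  let ψₗ : Γ(F, U) →ₗ[Γ(X, U)] Γ(G, U) :=
    { toFun := ψ
      map_add' := map_add ψ
      map_smul' := hψ }
  haveI hF : IsLocalizedModule (Submonoid.powers g) (restrictBasicOpenₗ F g) :=
    isLocalizedModule_restrictBasicOpenₗ hU F g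
  haveI hG : IsLocalizedModule (Submonoid.powers g) (restrictBasicOpenₗ G g) :=
    isLocalizedModule_restrictBasicOpenₗ hU G g
  haveI : IsLocalization (Submonoid.powers g) Γ(X, X.basicOpen g) := hU.isLocalization_basicOpen g
  let φ₀ : Γ(F, X.basicOpen g) →ₗ[Γ(X, U)] Γ(G, X.basicOpen g) :=
    IsLocalizedModule.map (Submonoid.powers g) (restrictBasicOpenₗ F g) (restrictBasicOpenₗ G g) ψₗ
  haveI : LinearMap.CompatibleSMul Γ(F, X.basicOpen g) Γ(G, X.basicOpen g)
      Γ(X, X.basicOpen g) Γ(X, U) :=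
    IsLocalization.linearMap_compatibleSMul (Submonoid.powers g) Γ(X, X.basicOpen g) _ _
  refine ⟨φ₀.toAddMonoidHom, fun r s => ?_, fun t => ?_⟩
  · exact φ₀.map_smul_of_tower r s
  · exact IsLocalizedModule.map_apply (Submonoid.powers g) (restrictBasicOpenₗ F g)
      (restrictBasicOpenₗ G g) ψₗ t

end LocMap

lemma res_self (M : X.Modules) {U : X.Opens} (t : Γ(M, U)) : res M (le_refl U) t = t := by
  simp only [res]
  have : (homOfLE (le_refl U)).op = 𝟙 (op U) := rfl
  rw [this, M.presheaf.map_id]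
  rfl

lemma resO_self {U : X.Opens} (r : Γ(X, U)) : resO (le_refl U) r = r := by
  simp only [resO]
  have : (homOfLE (le_refl U)).op = 𝟙 (op U) := rfl
  rw [this, X.presheaf.map_id]
  rfl

/-- two sections agreeing locally are equal -/
lemma eq_of_locally (N : X.Modules) {U : X.Opens} (s t : Γ(N, U))
    (h : ∀ x ∈ U, ∃ (W : X.Opens) (hW : W ≤ U), x ∈ W ∧ res N hW s = res N hW t) : s = t := by
  choose W hW hxW hst using h
  refine TopCat.Sheaf.eq_of_locally_eq' ⟨N.presheaf, N.isSheaf⟩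
    (fun x : U => W x.1 x.2) U (fun x => homOfLE (hW x.1 x.2)) ?_ s t (fun x => hst x.1 x.2)
  intro y hy
  exact Opens.mem_iSup.mpr ⟨⟨y, hy⟩, hxW y hy⟩

section Push

variable {S : Scheme.{u}} (f : X ⟶ S)

/-- A homomorphism between direct images, linear over the direct image of the structure sheaf,
spelled out. -/
structure PushHom (F G : X.Modules) where
  /-- the components -/
  app : ∀ V : S.Opens, Γ(F, f ⁻¹ᵁ V) →+ Γ(G, f ⁻¹ᵁ V)
  smul : ∀ (V : S.Opens) (r : Γ(X, f ⁻¹ᵁ V)) (s : Γ(F, f ⁻¹ᵁ V)), app V (r • s) = r • app V s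
  nat : ∀ {V V' : S.Opens} (h : V' ≤ V) (s : Γ(F, f ⁻¹ᵁ V)),
    app V' (res F (f.preimage_mono h) s) = res G (f.preimage_mono h) (app V s)

/-- the basis of basic opens of preimages of affine opens -/
def basis : Set X.Opens :=
  {W | ∃ (V : S.Opens) (_ : IsAffineOpen V) (g : Γ(X, f ⁻¹ᵁ V)), W = X.basicOpen g}

lemma isBasis_basis [IsAffineHom f] : Opens.IsBasis (basis f) := by
  rw [Opens.isBasis_iff_nbhd]
  intro U x hx
  obtain ⟨V, hV, hfx, -⟩ := Opens.isBasis_iff_nbhd.mp S.isBasis_affineOpens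
    (show f x ∈ (⊤ : S.Opens) from trivial)
  have hV' : IsAffineOpen (f ⁻¹ᵁ V) := IsAffineOpen.preimage hV f
  obtain ⟨g, hg, hxg⟩ := hV'.exists_basicOpen_le ⟨x, hx⟩ hfx
  exact ⟨X.basicOpen g, ⟨V, hV, g, rfl⟩, hxg, hg⟩

lemma preimage_mem_basis {V : S.Opens} (hV : IsAffineOpen V) : f ⁻¹ᵁ V ∈ basis f :=
  ⟨V, hV, 1, (X.basicOpen_of_isUnit isUnit_one).symm⟩

variable {f} {F G : X.Modules}

/-- `φ` on `W` is compatible with `w` -/
def IsGood (w : PushHom f F G) (W : X.Opens) (φ : Γ(F, W) →+ Γ(G, W)) : Prop :=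
  (∀ (r : Γ(X, W)) (s : Γ(F, W)), φ (r • s) = r • φ s) ∧
  ∀ (V : S.Opens) (_ : IsAffineOpen V) (hle : W ≤ f ⁻¹ᵁ V) (m : Γ(F, f ⁻¹ᵁ V)),
    φ (res F hle m) = res G hle (w.app V m)

/-- compatibility of localized maps -/
lemma compat_aux [IsAffineHom f] [F.IsQuasicoherent] (w : PushHom f F G)
    {V : S.Opens} (hV : IsAffineOpen V) (g : Γ(X, f ⁻¹ᵁ V))
    (φ : Γ(F, X.basicOpen g) →+ Γ(G, X.basicOpen g))
    (hφ : ∀ (r : Γ(X, X.basicOpen g)) (s : Γ(F, X.basicOpen g)), φ (r • s) = r • φ s)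
    (hφ' : ∀ t : Γ(F, f ⁻¹ᵁ V), φ (res F (X.basicOpen_le g) t) =
      res G (X.basicOpen_le g) (w.app V t))
    {V' : S.Opens} (hVV' : V' ≤ V) {W' : X.Opens} (hW' : W' ≤ X.basicOpen g)
    (hW'V' : W' ≤ f ⁻¹ᵁ V')
    (φ' : Γ(F, W') →+ Γ(G, W'))
    (hφ'1 : ∀ (r : Γ(X, W')) (s : Γ(F, W')), φ' (r • s) = r • φ' s)
    (hφ'2 : ∀ t : Γ(F, f ⁻¹ᵁ V'), φ' (res F hW'V' t) = res G hW'V' (w.app V' t))
    (s : Γ(F, X.basicOpen g)) :
    res G hW' (φ s) = φ' (res F hW' s) := by
  have key : (res G hW').comp φ = φ'.comp (res F hW') := by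
    refine master F G (IsAffineOpen.preimage hV f) g hW' _ _ (fun r s => ?_) (fun r s => ?_)
      (fun t => ?_)
    · simp only [AddMonoidHom.comp_apply]
      rw [hφ, res_smul]
    · simp only [AddMonoidHom.comp_apply]
      rw [res_smul, hφ'1]
    · simp only [AddMonoidHom.comp_apply]
      rw [hφ', res_res, res_res]
      have e1 : res F (hW'.trans (X.basicOpen_le g)) t =
          res F hW'V' (res F (f.preimage_mono hVV') t) := (res_res F _ _ t).symm
      rw [e1, hφ'2, w.nat hVV', res_res]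
  exact DFunLike.congr_fun key s

/-- existence of good maps on the members of the basis -/
lemma exists_isGood_basicOpen [IsAffineHom f] [F.IsQuasicoherent] [G.IsQuasicoherent]
    (w : PushHom f F G) {V : S.Opens} (hV : IsAffineOpen V) (g : Γ(X, f ⁻¹ᵁ V)) :
    ∃ φ, IsGood w (X.basicOpen g) φ := by
  obtain ⟨φ, hφ1, hφ2⟩ := exists_locMap F G (IsAffineOpen.preimage hV f) g (w.app V) (w.smul V)
  refine ⟨φ, hφ1, fun V₁ hV₁ hle m => ?_⟩
  refine eq_of_locally G _ _ (fun x hx => ?_)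
  have hfx : f x ∈ V ⊓ V₁ := ⟨X.basicOpen_le g hx, hle hx⟩
  obtain ⟨V₂, hV₂, hfx₂, hV₂le⟩ := Opens.isBasis_iff_nbhd.mp S.isBasis_affineOpens hfx
  have hV₂' : IsAffineOpen (f ⁻¹ᵁ V₂) := IsAffineOpen.preimage hV₂ f
  obtain ⟨h, hh, hxh⟩ := hV₂'.exists_basicOpen_le ⟨x, hx⟩ hfx₂
  obtain ⟨φ₂, hφ₂1, hφ₂2⟩ := exists_locMap F G hV₂' h (w.app V₂) (w.smul V₂)
  have hVV₂ : V₂ ≤ V := hV₂le.trans inf_le_left
  have hV₁V₂ : V₂ ≤ V₁ := hV₂le.trans inf_le_right
  refine ⟨X.basicOpen h, hh, hxh, ?_⟩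
  rw [compat_aux w hV g φ hφ1 hφ2 hVV₂ hh (X.basicOpen_le h) φ₂ hφ₂1 hφ₂2, res_res, res_res]
  have e1 : res F (hh.trans hle) m =
      res F (X.basicOpen_le h) (res F (f.preimage_mono hV₁V₂) m) := (res_res F _ _ m).symm
  rw [e1, hφ₂2, w.nat hV₁V₂, res_res]

/-- good maps are compatible with restriction -/
lemma isGood_compat [IsAffineHom f] [F.IsQuasicoherent] (w : PushHom f F G)
    {W W' : X.Opens} (hW : W ∈ basis f) (hW' : W' ≤ W)
    {φ : Γ(F, W) →+ Γ(G, W)} (hφ : IsGood w W φ)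
    {φ' : Γ(F, W') →+ Γ(G, W')} (hφ' : IsGood w W' φ') (s : Γ(F, W)) :
    res G hW' (φ s) = φ' (res F hW' s) := by
  obtain ⟨V, hV, g, rfl⟩ := hW
  exact compat_aux w hV g φ hφ.1 (hφ.2 V hV (X.basicOpen_le g)) le_rfl hW'
    (hW'.trans (X.basicOpen_le g)) φ' hφ'.1 (hφ'.2 V hV _) s

lemma exists_isGood [IsAffineHom f] [F.IsQuasicoherent] [G.IsQuasicoherent]
    (w : PushHom f F G) (W : basis f) : ∃ φ, IsGood w W.1 φ := by
  obtain ⟨W, V, hV, g, rfl⟩ := W
  exact exists_isGood_basicOpen w hV g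

/-- the local homomorphisms on the basis -/
noncomputable def localHom [IsAffineHom f] [F.IsQuasicoherent] [G.IsQuasicoherent]
    (w : PushHom f F G) : LocalHom F G (basis f) where
  φ W := (exists_isGood w W).choose
  smul W := (exists_isGood w W).choose_spec.1
  compat W W' h s := isGood_compat w W.2 h (exists_isGood w W).choose_spec
    (exists_isGood w W').choose_spec s

/-- the glued homomorphism -/
noncomputable def glueHom [IsAffineHom f] [F.IsQuasicoherent] [G.IsQuasicoherent]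
    (w : PushHom f F G) : F ⟶ G :=
  (localHom w).glue (isBasis_basis f)

lemma glueHom_app_of_isAffineOpen [IsAffineHom f] [F.IsQuasicoherent] [G.IsQuasicoherent]
    (w : PushHom f F G) {V : S.Opens} (hV : IsAffineOpen V) (s : Γ(F, f ⁻¹ᵁ V)) :
    (glueHom w).app (f ⁻¹ᵁ V) s = w.app V s := by
  have h1 := (localHom w).glue_app (isBasis_basis f) ⟨f ⁻¹ᵁ V, preimage_mem_basis f hV⟩ s
  have h2 := (exists_isGood w ⟨f ⁻¹ᵁ V, preimage_mem_basis f hV⟩).choose_spec.2 V hV le_rfl s
  rw [res_self, res_self] at h2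
  exact h1.trans h2

lemma glueHom_app [IsAffineHom f] [F.IsQuasicoherent] [G.IsQuasicoherent]
    (w : PushHom f F G) (V : S.Opens) (s : Γ(F, f ⁻¹ᵁ V)) :
    (glueHom w).app (f ⁻¹ᵁ V) s = w.app V s := by
  refine eq_of_locally G _ _ (fun x hx => ?_)
  obtain ⟨V₁, hV₁, hfx, hle⟩ := Opens.isBasis_iff_nbhd.mp S.isBasis_affineOpens
    (show f x ∈ V from hx)
  refine ⟨f ⁻¹ᵁ V₁, f.preimage_mono hle, hfx, ?_⟩
  rw [← w.nat hle, ← glueHom_app_of_isAffineOpen w hV₁]
  exact ((localHom w).glueAdd_res (isBasis_basis f) (f.preimage_mono hle) s).symm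

lemma app_res (u : F ⟶ G) {U W : X.Opens} (h : W ≤ U) (t : Γ(F, U)) :
    u.app W (res F h t) = res G h (u.app U t) := by
  have := u.mapPresheaf.naturality (homOfLE h).op
  exact congr($this t)

/-- a homomorphism of quasi-coherent modules is determined by its direct image -/
lemma hom_eq_of_app_preimage [IsAffineHom f] [F.IsQuasicoherent] (u u' : F ⟶ G)
    (h : ∀ (V : S.Opens) (s : Γ(F, f ⁻¹ᵁ V)), u.app (f ⁻¹ᵁ V) s = u'.app (f ⁻¹ᵁ V) s) :
    u = u' := by
  have hB : ∀ W : basis f, ∀ s : Γ(F, W.1), u.app W.1 s = u'.app W.1 s := by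
    rintro ⟨W, V, hV, g, rfl⟩ s
    have key : (u.app (X.basicOpen g)).hom = (u'.app (X.basicOpen g)).hom := by
      refine master F G (IsAffineOpen.preimage hV f) g le_rfl _ _ (fun r s => ?_) (fun r s => ?_)
        (fun t => ?_)
      · rw [resO_self]
        exact Scheme.Modules.Hom.app_smul u r s
      · rw [resO_self]
        exact Scheme.Modules.Hom.app_smul u' r s
      · exact (app_res u _ t).trans ((congrArg _ (h V t)).trans (app_res u' _ t).symm)
    exact DFunLike.congr_fun key s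
  refine Scheme.Modules.hom_ext _ _ (fun U => ?_)
  ext s
  refine eq_of_basis (isBasis_basis f) G _ _ (fun W hW => ?_)
  rw [← app_res u, ← app_res u', hB]

end Push

section AModHom

/-- the category structure on `AMod B` (spelled out to help universe unification) -/
@[reducible] def instCategoryAMod {S : Scheme.{u}} (B : RelSpec.QCAlg S) :
    Category.{u, u + 1} (AMod B) :=
  SheafOfModules.instCategory

attribute [local instance] instCategoryAMod

variable {S : Scheme.{u}} (f : X ⟶ S) [IsAffineHom f] (F G : X.Modules)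

/-- a homomorphism of `f_* O_X`-modules between direct images, spelled out -/
noncomputable def toPushHom (w : (AMod.dirImg f).obj F ⟶ (AMod.dirImg f).obj G) :
    PushHom f F G where
  app V := (w.val.app (op V)).hom.toAddMonoidHom
  smul V r s := (w.val.app (op V)).hom.map_smul r s
  nat h s := PresheafOfModules.naturality_apply w.val (homOfLE h).op s

lemma toPushHom_map (u : F ⟶ G) (V : S.Opens) (s : Γ(F, f ⁻¹ᵁ V)) :
    (toPushHom f F G ((AMod.dirImg f).map u)).app V s = u.app (f ⁻¹ᵁ V) s := rfl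

lemma hom_ext_of_toPushHom (w w' : (AMod.dirImg f).obj F ⟶ (AMod.dirImg f).obj G)
    (h : ∀ V s, (toPushHom f F G w).app V s = (toPushHom f F G w').app V s) : w = w' := by
  apply SheafOfModules.hom_ext
  ext V s
  exact h V.unop s

/-- The direct image along an affine morphism is fully faithful on quasi-coherent modules, as a
functor to modules over the direct image algebra. -/
theorem dirImg_map_bijective [F.IsQuasicoherent] [G.IsQuasicoherent] :
    Function.Bijective
      ((AMod.dirImg f).map : (F ⟶ G) → ((AMod.dirImg f).obj F ⟶ (AMod.dirImg f).obj G)) := by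
  constructor
  · intro u u' h
    refine hom_eq_of_app_preimage (f := f) u u' (fun V s => ?_)
    have := congrArg (fun w => (toPushHom f F G w).app V s) h
    exact this
  · intro w
    refine ⟨glueHom (toPushHom f F G w), ?_⟩
    refine hom_ext_of_toPushHom f F G _ _ (fun V s => ?_)
    rw [toPushHom_map]
    exact glueHom_app _ V s

end AModHom

end DirImgFull

end Groth.Agent.Lib.Helper42
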