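import Mathlib.AlgebraicGeometry.AffineScheme
import Mathlib.AlgebraicGeometry.Restrict

/-!
# Opens of a scheme over `Y` defined piecewise over the affine opens of `Y`
-/

set_option autoImplicit false
universe u

open CategoryTheory CategoryTheory.Limits AlgebraicGeometry TopologicalSpace Opposite

namespace Groth.Agent.Lib.Helper42

/-- If `e' = m ≫ e` with `e`, `e'` open immersions, then `e' '' (m⁻¹ G) = e '' G ∩ range e'`. -/
theorem image_preimage_of_comp {X X' P : Scheme.{u}} (e : X ⟶ P) [IsOpenImmersion e] (m : X' ⟶ X)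
    (e' : X' ⟶ P) [IsOpenImmersion e'] (h : m ≫ e = e') (G : X.Opens) :
    e' ''ᵁ (m ⁻¹ᵁ G) = e ''ᵁ G ⊓ e'.opensRange := by
  have hinj : Function.Injective e.base := e.isOpenEmbedding.injective
  have hb : ∀ y, e' y = e (m y) := by
    intro y
    rw [← h, Scheme.Hom.comp_apply]
  apply Opens.ext
  rw [Opens.coe_inf]
  simp only [Scheme.Hom.coe_image, Scheme.Hom.coe_preimage, Scheme.Hom.coe_opensRange]
  have hr : Set.range e' = e '' Set.range m := by
    rw [← Set.range_comp]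
    exact congrArg Set.range (funext hb)
  rw [hr, ← Set.image_inter hinj, ← Set.image_preimage_eq_inter_range, ← Set.image_comp]
  exact congrArg (fun g => g '' _) (funext hb)

/-- A family of opens `E U ⊆ p⁻¹(U)` compatible with restriction to basic opens is recovered from its
union. -/
theorem iSup_pieces_inf_preimage {Y P : Scheme.{u}} (p : P ⟶ Y)
    (E : ∀ (U : Y.Opens), IsAffineOpen U → P.Opens)
    (hle : ∀ (U : Y.Opens) (hU : IsAffineOpen U), E U hU ≤ p ⁻¹ᵁ U)
    (hbasic : ∀ (U : Y.Opens) (hU : IsAffineOpen U) (r : Γ(Y, U)),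
      E (Y.basicOpen r) (hU.basicOpen r) = E U hU ⊓ p ⁻¹ᵁ (Y.basicOpen r))
    (U : Y.Opens) (hU : IsAffineOpen U) :
    (⨆ V : Y.affineOpens, E V.1 V.2) ⊓ p ⁻¹ᵁ U = E U hU := by
  have hcongr : ∀ {U U' : Y.Opens} (hU : IsAffineOpen U) (hU' : IsAffineOpen U'), U = U' →
      E U hU = E U' hU' := by
    rintro U _ hU hU' rfl; rfl
  apply le_antisymm
  · rintro x ⟨hx, hxU⟩
    obtain ⟨V, hV⟩ := Opens.mem_iSup.mp hx
    have hxV : x ∈ p ⁻¹ᵁ V.1 := hle V.1 V.2 hV
    obtain ⟨r, s, e, hxr⟩ := exists_basicOpen_le_affine_inter hU V.2 (p.base x) ⟨hxU, hxV⟩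
    have h1 : x ∈ E (Y.basicOpen s) (V.2.basicOpen s) := by
      rw [hbasic V.1 V.2 s]
      exact ⟨hV, e ▸ hxr⟩
    rw [← hcongr (hU.basicOpen r) (V.2.basicOpen s) e, hbasic U hU r] at h1
    exact h1.1
  · exact le_inf (le_iSup (fun V : Y.affineOpens => E V.1 V.2) ⟨U, hU⟩) (hle U hU)

end Groth.Agent.Lib.Helper42
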