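import Groth.Agent.Lib.Helper42.DomOpen
import Groth.Agent.Lib.Helper42.Pieces
import Groth.Agent.Lib.Helper42.RelProjBasicOpen
import Groth.Agent.Lib.Helper42.PairGlue

/-!
# The open of definition `G(φ)` for a graded homomorphism over one base, chart by chart
-/

set_option autoImplicit false
universe u

open CategoryTheory CategoryTheory.Limits AlgebraicGeometry TopologicalSpace Opposite
open scoped HomogeneousIdeal

namespace Groth.Agent.Lib.Helper42

variable {Y PB : Scheme.{u}} {𝒜 ℬ : RelProj.QCGrAlg Y}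
  (φ : 𝒜.toQCAlg ⟶ ℬ.toQCAlg) (hφ : RelProj.IsGradedHom φ) (pB : PB ⟶ Y)
  (chartB : ∀ (U : Y.Opens) (hU : IsAffineOpen U), (((pB ⁻¹ᵁ U : PB.Opens) : Scheme.{u}) ≅ Proj (ℬ.deg U hU)))

/-- The piece of `G(φ)` over the affine open `U`. -/
noncomputable def domPiece (U : Y.Opens) (hU : IsAffineOpen U) : PB.Opens :=
  RelProj.emb pB chartB U hU ''ᵁ RelCone.domOpen (RelProj.gradedHomAt φ hφ U hU)

theorem domPiece_le (U : Y.Opens) (hU : IsAffineOpen U) :
    domPiece φ hφ pB chartB U hU ≤ pB ⁻¹ᵁ U := by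
  rw [← opensRange_emb ℬ pB chartB U hU]
  rintro _ ⟨x, -, rfl⟩
  exact ⟨x, rfl⟩

theorem gradedAt_eq_comp (V : AffPair (𝟙 Y)) (x : 𝒜.presheaf.obj (op V.U)) :
    (RelProj.QGrHom.ofHom φ hφ).gradedAt V.U V.hU V.U' V.hU' V.hle x =
      RelProj.gradedHomAt φ hφ V.U' V.hU' (𝒜.res V.hU V.hU' V.hle x) := by
  change ((RelProj.QGrHom.ofHom φ hφ).toQHom.appLE V.U V.U' V.hle).hom x =
    (φ.hom.app (op V.U')).hom ((𝒜.presheaf.map (homOfLE V.hle).op).hom x)
  rw [RelSpec.QHom.appLE_eq]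
  have := congrArg (fun ψ => ψ.hom x) (φ.hom.naturality (homOfLE V.hle).op)
  simp only [CommRingCat.hom_comp, RingHom.comp_apply] at this
  exact this.symm

theorem domQ_eq_iSup_domPiece :
    RelProj.domQ (RelProj.QGrHom.ofHom φ hφ) pB chartB =
      ⨆ U : Y.affineOpens, domPiece φ hφ pB chartB U.1 U.2 := by
  apply le_antisymm
  · unfold RelProj.domQ
    refine iSup_le fun V => ?_
    refine le_trans ?_ (le_iSup (fun U : Y.affineOpens => domPiece φ hφ pB chartB U.1 U.2) V.1.2)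
    refine Scheme.Hom.image_mono _ ?_
    exact domOpen_le_of_comp (𝒜.res V.1.1.2 V.1.2.2 V.2) (RelProj.gradedHomAt φ hφ V.1.2.1 V.1.2.2) _
      (gradedAt_eq_comp φ hφ ⟨V.1.1.1, V.1.1.2, V.1.2.1, V.1.2.2, V.2⟩)
  · refine iSup_le fun U => ?_
    unfold RelProj.domQ domPiece
    refine le_trans ?_ (le_iSup _ ⟨(U, U), (le_rfl : U.1 ≤ (𝟙 Y) ⁻¹ᵁ U.1)⟩)
    rw [ofHom_gradedAt_self]

variable {pB chartB}

theorem domOpen_basicOpen (U : Y.Opens) (hU : IsAffineOpen U) (r : Γ(Y, U)) :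
    RelCone.domOpen (RelProj.gradedHomAt φ hφ (Y.basicOpen r) (hU.basicOpen r)) =
      Proj.map (ℬ.res hU (hU.basicOpen r) (Y.basicOpen_le r)) (ℬ.irrelevant_le_map U hU r) ⁻¹ᵁ
        RelCone.domOpen (RelProj.gradedHomAt φ hφ U hU) := by
  ext x
  change x ∈ RelCone.domOpen _ ↔
    (Proj.map (ℬ.res hU (hU.basicOpen r) (Y.basicOpen_le r)) (ℬ.irrelevant_le_map U hU r)).base x ∈
      RelCone.domOpen _
  rw [RelCone.mem_domOpen, RelCone.mem_domOpen]
  have hnat : ∀ a : 𝒜.presheaf.obj (op U),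
      ℬ.res hU (hU.basicOpen r) (Y.basicOpen_le r) (RelProj.gradedHomAt φ hφ U hU a) =
        RelProj.gradedHomAt φ hφ (Y.basicOpen r) (hU.basicOpen r)
          (𝒜.res hU (hU.basicOpen r) (Y.basicOpen_le r) a) := by
    intro a
    have := congrArg (fun ψ => ψ.hom a) (φ.hom.naturality (homOfLE (Y.basicOpen_le r)).op)
    simp only [CommRingCat.hom_comp, RingHom.comp_apply] at this
    exact this.symm
  constructor
  · rintro ⟨b, hb, hbx⟩
    by_contra hcon
    push Not at hcon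
    apply hbx
    have h1 : ((𝒜.deg U hU)₊.map (𝒜.res hU (hU.basicOpen r) (Y.basicOpen_le r))) ≤
        x.asHomogeneousIdeal.comap (RelProj.gradedHomAt φ hφ (Y.basicOpen r) (hU.basicOpen r)) := by
      rw [HomogeneousIdeal.map_le_iff_le_comap]
      intro a ha
      have := hcon a ha
      change _ ∈ x.asHomogeneousIdeal
      rw [← hnat]
      exact this
    exact h1 (𝒜.irrelevant_le_map U hU r hb)
  · rintro ⟨a, ha, hax⟩
    refine ⟨𝒜.res hU (hU.basicOpen r) (Y.basicOpen_le r) a, map_mem_irrelevant _ ha, ?_⟩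
    rw [← hnat]
    exact hax

theorem domPiece_basicOpen (hB : RelProj.IsRelProj ℬ pB chartB) (U : Y.Opens) (hU : IsAffineOpen U)
    (r : Γ(Y, U)) :
    domPiece φ hφ pB chartB (Y.basicOpen r) (hU.basicOpen r) =
      domPiece φ hφ pB chartB U hU ⊓ pB ⁻¹ᵁ (Y.basicOpen r) := by
  unfold domPiece
  rw [domOpen_basicOpen φ hφ U hU r, ← opensRange_emb ℬ pB chartB _ (hU.basicOpen r)]
  exact image_preimage_of_comp _ _ _ (RelProj.map_res_emb hB U hU r) _

theorem domQ_inf_preimage (hB : RelProj.IsRelProj ℬ pB chartB) (U : Y.Opens) (hU : IsAffineOpen U) :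
    RelProj.domQ (RelProj.QGrHom.ofHom φ hφ) pB chartB ⊓ pB ⁻¹ᵁ U = domPiece φ hφ pB chartB U hU := by
  rw [domQ_eq_iSup_domPiece]
  exact iSup_pieces_inf_preimage pB (domPiece φ hφ pB chartB) (domPiece_le φ hφ pB chartB)
    (domPiece_basicOpen φ hφ hB) U hU

end Groth.Agent.Lib.Helper42
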