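import Groth.Agent.Lib.Helper42.ProjQGlue

/-!
# The open of definition `G(u)` of a graded morphism over a morphism of bases, pair by pair
-/

set_option autoImplicit false
universe u

open CategoryTheory CategoryTheory.Limits AlgebraicGeometry TopologicalSpace Opposite
open HomogeneousLocalization
open scoped HomogeneousIdeal

namespace Groth.Agent.Lib.Helper42

variable {Y Y' : Scheme.{u}} {P' : Scheme.{u}} {g : Y' ⟶ Y} {𝒮 : RelProj.QCGrAlg Y} {𝒮' : RelProj.QCGrAlg Y'}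
  (u : RelProj.QGrHom g 𝒮 𝒮')
  {p' : P' ⟶ Y'}
  {chart' : ∀ (U : Y'.Opens) (hU : IsAffineOpen U), (((p' ⁻¹ᵁ U : P'.Opens) : Scheme.{u}) ≅ Proj (𝒮'.deg U hU))}
  (hP' : RelProj.IsRelProj 𝒮' p' chart')

/-- The chart immersion of an open of definition lies in `G(u)`. -/
theorem emb_mem_domQ_of_mem_domOpen (U : Y.Opens) (hU : IsAffineOpen U) (U' : Y'.Opens)
    (hU' : IsAffineOpen U') (hle : U' ≤ g ⁻¹ᵁ U) (w : Proj (𝒮'.deg U' hU'))
    (hw : w ∈ RelCone.domOpen (u.gradedAt U hU U' hU' hle)) :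
    (RelProj.emb p' chart' U' hU').base w ∈ RelProj.domQ u p' chart' := by
  unfold RelProj.domQ
  refine Opens.mem_iSup.mpr ⟨⟨(⟨U, hU⟩, ⟨U', hU'⟩), hle⟩, ?_⟩
  exact ⟨w, hw, rfl⟩

include hP' in
/-- Independence of the pair: a point of `G(u)` lying over `U' ⊆ g⁻¹(U)` comes from the open of
definition of `u_{U,U'}`. -/
theorem mem_domOpen_of_emb_mem_domQ (U : Y.Opens) (hU : IsAffineOpen U) (U' : Y'.Opens)
    (hU' : IsAffineOpen U') (hle : U' ≤ g ⁻¹ᵁ U) (w : Proj (𝒮'.deg U' hU'))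
    (hw : (RelProj.emb p' chart' U' hU').base w ∈ RelProj.domQ u p' chart') :
    w ∈ RelCone.domOpen (u.gradedAt U hU U' hU' hle) := by
  set x : ((RelProj.domQ u p' chart' : P'.Opens) : Scheme.{u}) := ⟨_, hw⟩ with hx
  obtain ⟨k, q, hq⟩ := exists_lft_eq u p' chart' x
  have hy1 : p'.base x.1 ∈ U' := by
    have : x.1 ∈ p' ⁻¹ᵁ U' := by
      rw [← opensRange_emb 𝒮' p' chart' U' hU']
      exact ⟨w, rfl⟩
    exact this
  have hy2 : p'.base x.1 ∈ k.U' := by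
    have : x.1 ∈ p' ⁻¹ᵁ k.U' := by
      rw [← opensRange_emb 𝒮' p' chart' k.U' k.hU', ← hq, QIdx.lft_apply]
      exact ⟨_, rfl⟩
    exact this
  have hgy1 : g.base (p'.base x.1) ∈ U := hle hy1
  have hgy2 : g.base (p'.base x.1) ∈ k.U := k.hle hy2
  obtain ⟨a₁, a₂, ha, hya⟩ := exists_basicOpen_le_affine_inter hU k.hU
    (g.base (p'.base x.1)) ⟨hgy1, hgy2⟩
  obtain ⟨b₁, b₂, hb, hyb⟩ := exists_basicOpen_le_affine_inter hU' k.hU'
    (p'.base x.1) ⟨hy1, hy2⟩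
  set c₁ : Γ(Y', U') := b₁ * (g.appLE U U' hle).hom a₁ with hc₁def
  set c₂ : Γ(Y', k.U') := b₂ * (g.appLE k.U k.U' k.hle).hom a₂ with hc₂def
  have hc₁ : Y'.basicOpen c₁ = Y'.basicOpen b₁ ⊓ g ⁻¹ᵁ Y.basicOpen a₁ := by
    rw [hc₁def, Scheme.basicOpen_mul, Scheme.basicOpen_appLE, ← inf_assoc,
      inf_eq_left.mpr (Y'.basicOpen_le b₁)]
  have hc₂ : Y'.basicOpen c₂ = Y'.basicOpen b₂ ⊓ g ⁻¹ᵁ Y.basicOpen a₂ := by
    rw [hc₂def, Scheme.basicOpen_mul, Scheme.basicOpen_appLE, ← inf_assoc,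
      inf_eq_left.mpr (Y'.basicOpen_le b₂)]
  have hc : Y'.basicOpen c₁ = Y'.basicOpen c₂ := by rw [hc₁, hc₂, hb, ha]
  have hle₃ : Y'.basicOpen c₁ ≤ g ⁻¹ᵁ Y.basicOpen a₁ := by rw [hc₁]; exact inf_le_right
  have hyc : p'.base x.1 ∈ Y'.basicOpen c₁ := by rw [hc₁]; exact ⟨hyb, hya⟩
  have i₁ : Y.basicOpen a₁ ≤ U := Y.basicOpen_le a₁
  have i₂ : Y.basicOpen a₁ ≤ k.U := ha ▸ Y.basicOpen_le a₂
  have hU₃ : IsAffineOpen (Y.basicOpen a₁) := hU.basicOpen a₁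
  have hU₃' : IsAffineOpen (Y'.basicOpen c₁) := hU'.basicOpen c₁
  have hx₃ : x.1 ∈ p' ⁻¹ᵁ Y'.basicOpen c₁ := hyc
  rw [← opensRange_emb 𝒮' p' chart' _ hU₃'] at hx₃
  obtain ⟨w₃, hw₃⟩ := hx₃
  have hw₃' : (RelProj.emb p' chart' (Y'.basicOpen c₁) hU₃').base w₃ = x.1 := hw₃
  have h2 := mem_basicOpen_of_refine u hP' k c₂ _ hU₃ _ hU₃' hle₃ hc i₂ q w₃
    (by rw [hq]; exact hw₃')
  -- `w` is the image of `w₃`
  have h3 := congrArg (fun m => m.base w₃) (RelProj.map_res_emb hP' U' hU' c₁)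
  have h4 : (RelProj.emb p' chart' U' hU').base
      ((Proj.map (𝒮'.res hU' (hU'.basicOpen c₁) (Y'.basicOpen_le c₁))
        (𝒮'.irrelevant_le_map U' hU' c₁)).base w₃) =
      (RelProj.emb p' chart' (Y'.basicOpen c₁) (hU'.basicOpen c₁)).base w₃ := h3
  have h5 : (RelProj.emb p' chart' (Y'.basicOpen c₁) hU₃').base w₃ =
      (RelProj.emb p' chart' U' hU').base w := hw₃'
  have h6 : (Proj.map (𝒮'.res hU' (hU'.basicOpen c₁) (Y'.basicOpen_le c₁))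
        (𝒮'.irrelevant_le_map U' hU' c₁)).base w₃ = w :=
    (RelProj.emb p' chart' U' hU').isOpenEmbedding.injective (h4.trans h5)
  rw [RelCone.mem_domOpen]
  by_contra hcon
  push Not at hcon
  apply (ProjectiveSpectrum.mem_basicOpen _ _ _).mp h2
  have hnat : ∀ a : 𝒮.presheaf.obj (op U),
      𝒮'.res hU' hU₃' (Y'.basicOpen_le c₁) (u.gradedAt U hU U' hU' hle a) =
        u.gradedAt _ hU₃ _ hU₃' hle₃ (𝒮.res hU hU₃ i₁ a) := fun a =>
    res_gradedAt u hU hU' hle hU₃ hU₃' hle₃ i₁ (Y'.basicOpen_le c₁) a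
  have h7 : ((𝒮.deg U hU)₊.map (𝒮.res hU hU₃ i₁)) ≤
      w₃.asHomogeneousIdeal.comap (u.gradedAt _ hU₃ _ hU₃' hle₃) := by
    rw [HomogeneousIdeal.map_le_iff_le_comap]
    intro a ha'
    have h8 := hcon a ha'
    rw [← h6] at h8
    change _ ∈ w₃.asHomogeneousIdeal
    rw [← hnat]
    exact h8
  have h9 : 𝒮.res k.hU hU₃ i₂ k.f ∈ (𝒮.deg _ hU₃)₊ :=
    HomogeneousIdeal.mem_irrelevant_of_mem _ k.hd (Graded.map_mem _ k.hf)
  exact h7 (𝒮.irrelevant_le_map U hU a₁ h9)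

include hP' in
/-- `G(u)` over an affine pair. -/
theorem emb_mem_domQ_iff (U : Y.Opens) (hU : IsAffineOpen U) (U' : Y'.Opens)
    (hU' : IsAffineOpen U') (hle : U' ≤ g ⁻¹ᵁ U) (w : Proj (𝒮'.deg U' hU')) :
    (RelProj.emb p' chart' U' hU').base w ∈ RelProj.domQ u p' chart' ↔
      w ∈ RelCone.domOpen (u.gradedAt U hU U' hU' hle) :=
  ⟨mem_domOpen_of_emb_mem_domQ u hP' U hU U' hU' hle w,
    emb_mem_domQ_of_mem_domOpen u U hU U' hU' hle w⟩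

/-- Every point of `Y'` lies in an affine pair. -/
theorem exists_affine_pair (g : Y' ⟶ Y) (y' : Y') :
    ∃ (U : Y.Opens) (_ : IsAffineOpen U) (U' : Y'.Opens) (_ : IsAffineOpen U'),
      U' ≤ g ⁻¹ᵁ U ∧ y' ∈ U' := by
  obtain ⟨U, hU, hyU⟩ := exists_affineOpen_mem (g.base y')
  have hy' : y' ∈ g ⁻¹ᵁ U := hyU
  obtain ⟨U', hU', hyU', hle⟩ := Opens.isBasis_iff_nbhd.mp Y'.isBasis_affineOpens hy'
  exact ⟨U, hU, U', hU', hle, hyU'⟩

end Groth.Agent.Lib.Helper42
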