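import Groth.Agent.Lib.Helper42.FlatStalk

/-!
# Equational criterion of flatness on a ringed site

* `exists_of_sum_tmul_eq_zero`: general equational criterion for the vanishing of a tensor.
* `MatTriv F m`: any `m` simultaneous relations between sections of `F` are locally trivial;
  `matTriv_of_one`: the case `m = 1` implies all cases.
* `isFlat_of_matTriv_one`: if every relation between sections of `F` is locally trivial then `F` is flat.
-/

set_option autoImplicit false
universe u
open CategoryTheory CategoryTheory.Limits Opposite MonoidalCategory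

namespace Groth.Agent.Lib.Helper42
namespace EqCrit

section Algebra
open TensorProduct

/-- general equational criterion for the vanishing of a tensor: no generation or flatness
hypothesis, at the price of finitely many extra elements `q s` of `M` -/
lemma exists_of_sum_tmul_eq_zero {R M N : Type u} [CommRing R] [AddCommGroup M] [Module R M]
    [AddCommGroup N] [Module R N] {l : ℕ} (m : Fin l → M) (n : Fin l → N)
    (h : ∑ i, m i ⊗ₜ[R] n i = 0) :
    ∃ (r k : ℕ) (q : Fin r → M) (a : Fin l → Fin k → R) (a' : Fin r → Fin k → R) (y : Fin k → N),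
      (∀ i, n i = ∑ j, a i j • y j) ∧ (∀ s, ∑ j, a' s j • y j = 0) ∧
      (∀ j, ∑ i, a i j • m i + ∑ s, a' s j • q s = 0) := by
  classical
  let P : Submodule R M := Submodule.span R (Set.range m)
  have hP : P.FG := Submodule.fg_span (Set.finite_range m)
  let m' : Fin l → P := fun i => ⟨m i, Submodule.subset_span ⟨i, rfl⟩⟩
  let t : P ⊗[R] N := ∑ i, m' i ⊗ₜ[R] n i
  have h' : LinearMap.rTensor N P.subtype t = 0 := by
    simp only [t, map_sum, LinearMap.rTensor_tmul, Submodule.coe_subtype, m']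
    exact h
  obtain ⟨Q, hPQ, hQ, hQ0⟩ := TensorProduct.eq_zero_of_fg_of_subtype_eq_zero hP h'
  obtain ⟨s, hs⟩ := hQ
  let r := s.card
  let e : Fin r ≃ s := s.equivFin.symm
  let q : Fin r → M := fun x => (e x : M)
  have hqQ : ∀ x, q x ∈ Q := fun x => hs ▸ Submodule.subset_span (e x).2
  let g : Fin l ⊕ Fin r → Q := Sum.elim (fun i => ⟨m i, hPQ (m' i).2⟩) (fun x => ⟨q x, hqQ x⟩)
  let n' : Fin l ⊕ Fin r → N := Sum.elim n (fun _ => 0)
  have hspan : Submodule.span R (Set.range g) = ⊤ := by
    rw [eq_top_iff]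
    rintro ⟨x, hx⟩ -
    rw [← hs] at hx
    refine Submodule.span_induction (p := fun x hx => (⟨x, hs ▸ hx⟩ : Q) ∈
      Submodule.span R (Set.range g)) ?_ ?_ ?_ ?_ hx
    · intro x hx
      refine Submodule.subset_span ⟨Sum.inr (e.symm ⟨x, hx⟩), ?_⟩
      apply Subtype.ext
      simp [g, q]
    · exact Submodule.zero_mem _
    · intro x y hx hy h1 h2
      exact Submodule.add_mem _ h1 h2
    · intro c x hx h1
      exact Submodule.smul_mem _ c h1
  have hsum : ∑ z, g z ⊗ₜ[R] n' z = (0 : Q ⊗[R] N) := by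
    rw [Fintype.sum_sum_type]
    simp only [g, n', Sum.elim_inl, Sum.elim_inr, tmul_zero, Finset.sum_const_zero, add_zero]
    rw [← hQ0]
    simp only [t, map_sum, LinearMap.rTensor_tmul]
    rfl
  obtain ⟨k, a, y, hy, ha⟩ := TensorProduct.vanishesTrivially_of_sum_tmul_eq_zero R hspan hsum
  refine ⟨r, k, q, fun i j => a (Sum.inl i) j, fun x j => a (Sum.inr x) j, y,
    fun i => hy (Sum.inl i), fun x => (hy (Sum.inr x)).symm, fun j => ?_⟩
  have h1 := congrArg Q.subtype (ha j)
  rw [map_sum, Fintype.sum_sum_type, map_zero] at h1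
  simpa [g] using h1

end Algebra

open PointGerm

variable {C : Type u} [SmallCategory C] {J : GrothendieckTopology C} {O : Sheaf J CommRingCat.{u}}

/-- restriction of sections of a sheaf of modules, with plain types -/
noncomputable def rs (X : ModSite.Mod O) {U V : C} (g : V ⟶ U) : X.val.obj (op U) →+ X.val.obj (op V) :=
  AddMonoidHom.mk' (fun x => X.val.map g.op x) (fun x y => map_add (X.val.map g.op).hom x y)

variable (O) in
/-- restriction of sections of the structure sheaf -/
noncomputable def rr {U V : C} (g : V ⟶ U) : O.obj.obj (op U) →+* O.obj.obj (op V) := (O.obj.map g.op).hom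

lemma rs_smul (X : ModSite.Mod O) {U V : C} (g : V ⟶ U) (r : O.obj.obj (op U))
    (x : X.val.obj (op U)) : rs X g (r • x) = rr O g r • rs X g x :=
  X.val.map_smul g.op r x

lemma rs_sum_smul (X : ModSite.Mod O) {U V : C} (g : V ⟶ U) {ι : Type*} (t : Finset ι)
    (r : ι → O.obj.obj (op U)) (x : ι → X.val.obj (op U)) :
    rs X g (∑ i ∈ t, r i • x i) = ∑ i ∈ t, rr O g (r i) • rs X g (x i) := by
  rw [map_sum]
  exact Finset.sum_congr rfl (fun i _ => rs_smul X g (r i) (x i))

lemma rs_comp (X : ModSite.Mod O) {U V W : C} (g : V ⟶ U) (h : W ⟶ V) (x : X.val.obj (op U)) :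
    rs X (h ≫ g) x = rs X h (rs X g x) :=
  PresheafOfModules.map_comp_apply X.val g.op h.op x

lemma rr_comp {U V W : C} (g : V ⟶ U) (h : W ⟶ V) (r : O.obj.obj (op U)) :
    rr O (h ≫ g) r = rr O h (rr O g r) :=
  ConcreteCategory.congr_hom (O.obj.map_comp g.op h.op) r

lemma rs_app {X Y : ModSite.Mod O} (φ : X ⟶ Y) {U V : C} (g : V ⟶ U) (x : X.val.obj (op U)) :
    rs Y g (φ.val.app (op U) x) = φ.val.app (op V) (rs X g x) :=
  (PresheafOfModules.naturality_apply φ.val g.op x).symm

/-- finitely many simultaneous relations between sections of `F` are locally trivial -/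
def MatTriv (F : ModSite.Mod O) (m : ℕ) : Prop :=
  ∀ (U : C) (n : ℕ) (A : Fin m → Fin n → O.obj.obj (op U)) (s : Fin n → F.val.obj (op U)),
    (∀ r, ∑ j, A r j • s j = 0) →
    ∃ S ∈ J U, ∀ ⦃V : C⦄ (g : V ⟶ U), S g →
      ∃ (l : ℕ) (t : Fin l → F.val.obj (op V)) (a : Fin n → Fin l → O.obj.obj (op V)),
        (∀ j, rs F g (s j) = ∑ k, a j k • t k) ∧
        (∀ r k, ∑ j, a j k * rr O g (A r j) = 0)

lemma matTriv_zero (F : ModSite.Mod O) : MatTriv F 0 := by
  classical
  intro U n A s _
  refine ⟨⊤, J.top_mem U, fun V g _ => ⟨n, fun k => rs F g (s k),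
    fun j k => if j = k then 1 else 0, fun j => ?_, fun r => r.elim0⟩⟩
  simp

lemma matTriv_succ (F : ModSite.Mod O) (m : ℕ) (h1 : MatTriv F 1) (hm : MatTriv F m) :
    MatTriv F (m + 1) := by
  intro U n A s hrel
  obtain ⟨S₀, hS₀, h₀⟩ := h1 U n (fun _ => A 0) s (fun _ => hrel 0)
  choose l₀ t₀ a₀ h₀a h₀b using h₀
  -- the remaining relations, on each member of `S₀`
  have hrel' : ∀ ⦃V : C⦄ (g : V ⟶ U) (hg : S₀ g) (r : Fin m),
      ∑ k, (∑ j, a₀ g hg j k * rr O g (A r.succ j)) • t₀ g hg k = 0 := by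
    intro V g hg r
    have e : rs F g (∑ j, A r.succ j • s j) = 0 := by
      rw [hrel r.succ, map_zero]
    rw [rs_sum_smul] at e
    rw [← e]
    simp only [Finset.sum_smul]
    rw [Finset.sum_comm]
    refine Finset.sum_congr rfl (fun j _ => ?_)
    rw [h₀a g hg j, Finset.smul_sum]
    refine Finset.sum_congr rfl (fun k _ => ?_)
    rw [smul_smul, mul_comm]
  choose S₁ hS₁ h₁ using fun ⦃V : C⦄ (g : V ⟶ U) (hg : S₀ g) =>
    hm V (l₀ g hg) (fun r k => ∑ j, a₀ g hg j k * rr O g (A r.succ j)) (t₀ g hg) (hrel' g hg)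
  refine ⟨Sieve.bind S₀ (fun V g hg => S₁ g hg), J.bind_covering hS₀ (fun V g hg => hS₁ g hg), ?_⟩
  rintro W _ ⟨V, h, g, hg, hh, rfl⟩
  obtain ⟨l₁, t₁, a₁, h₁a, h₁b⟩ := h₁ g hg h hh
  refine ⟨l₁, t₁, fun j p => ∑ k, rr O h (a₀ g hg j k) * a₁ k p, fun j => ?_, fun r p => ?_⟩
  · rw [rs_comp, h₀a g hg j, rs_sum_smul]
    simp only [Finset.sum_smul]
    rw [Finset.sum_comm]
    refine Finset.sum_congr rfl (fun k _ => ?_)
    rw [h₁a k, Finset.smul_sum]
    refine Finset.sum_congr rfl (fun p _ => ?_)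
    rw [smul_smul]
  · have key : ∑ j, (∑ k, rr O h (a₀ g hg j k) * a₁ k p) * rr O (h ≫ g) (A r j) =
        ∑ k, a₁ k p * rr O h (∑ j, a₀ g hg j k * rr O g (A r j)) := by
      simp only [rr_comp, Finset.sum_mul, map_sum, map_mul, Finset.mul_sum]
      rw [Finset.sum_comm]
      refine Finset.sum_congr rfl (fun k _ => Finset.sum_congr rfl (fun j _ => ?_))
      ring
    rw [key]
    induction r using Fin.cases with
    | zero =>
      refine Finset.sum_eq_zero (fun k _ => ?_)
      rw [h₀b g hg 0 k, map_zero, mul_zero]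
    | succ r' => exact h₁b r' p

lemma matTriv_of_one (F : ModSite.Mod O) (h1 : MatTriv F 1) : ∀ m, MatTriv F m := by
  intro m
  induction m with
  | zero => exact matTriv_zero F
  | succ m ih => exact matTriv_succ F m h1 ih

open Groth.Agent.Lib.Helper30.ModTensor Groth.Agent.Lib.Helper30.ModTensorAdj
  Groth.Agent.Lib.Helper30.EqFlat Groth.Agent.Lib.Helper30.ExtZero FlatStalk

open TensorProduct in
/-- a section of the presheaf tensor product `A ⊗ F` killed by `α ⊗ F`, `α` a monomorphism, is
locally zero when relations between sections of `F` are locally trivial -/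
lemma exists_sieve_map_eq_zero (F : ModSite.Mod O) (hF : ∀ m, MatTriv F m)
    {A B : ModSite.Mod O} (α : A ⟶ B) [Mono α] (U : C)
    (z : TensorProduct (O.obj.obj (op U)) ((valObj O A).obj (op U)) ((valObj O F).obj (op U)))
    (hz : (valHom O α ▷ valObj O F).app (op U) z = 0) :
    ∃ S ∈ J U, ∀ ⦃V : C⦄ (g : V ⟶ U), S g → (valObj O A ⊗ valObj O F).map g.op z = 0 := by
  obtain ⟨l, a, f, rfl⟩ := exists_fin_sum z
  have h0 : ∑ i, (α.val.app (op U) (a i)) ⊗ₜ[O.obj.obj (op U)] f i = 0 :=
    (map_sum ((valHom O α ▷ valObj O F).app (op U)).hom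
      (fun i => a i ⊗ₜ[O.obj.obj (op U)] f i) Finset.univ).symm.trans hz
  obtain ⟨r, k, q, c, c', y, hy, hy', hc⟩ :=
    exists_of_sum_tmul_eq_zero (R := O.obj.obj (op U)) (fun i => α.val.app (op U) (a i)) f h0
  obtain ⟨S, hS, hS'⟩ := hF r U k c' y hy'
  refine ⟨S, hS, fun V g hg => ?_⟩
  obtain ⟨l', t, d, hd, hd'⟩ := hS' g hg
  have e0 : (valObj O A ⊗ valObj O F).map g.op (∑ i, a i ⊗ₜ[O.obj.obj (op U)] f i) =
      ∑ i, rs A g (a i) ⊗ₜ[O.obj.obj (op V)] rs F g (f i) :=
    map_sum ((valObj O A ⊗ valObj O F).map g.op).hom _ _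
  refine e0.trans ?_
  apply TensorProduct.sum_tmul_eq_zero_of_vanishesTrivially
  refine ⟨l', fun i p => ∑ j, rr O g (c i j) * d j p, t, fun i => ?_, fun p => ?_⟩
  · show rs F g (f i) = ∑ p, (∑ j, rr O g (c i j) * d j p) • t p
    rw [hy i, rs_sum_smul]
    simp only [Finset.sum_smul]
    rw [Finset.sum_comm]
    refine Finset.sum_congr rfl (fun j _ => ?_)
    rw [hd j, Finset.smul_sum]
    refine Finset.sum_congr rfl (fun p _ => ?_)
    rw [smul_smul]
  · show ∑ i, (∑ j, rr O g (c i j) * d j p) • rs A g (a i) = 0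
    apply injective_of_mono α V
    have hα : ∀ i, α.val.app (op V) ((∑ j, rr O g (c i j) * d j p) • rs A g (a i)) =
        (∑ j, rr O g (c i j) * d j p) • rs B g (α.val.app (op U) (a i)) := by
      intro i
      rw [rs_app]
      exact map_smul (α.val.app (op V)).hom _ _
    rw [map_sum (α.val.app (op V)).hom, map_zero (α.val.app (op V)).hom]
    rw [Finset.sum_congr rfl (fun i _ => hα i)]
    -- restrict the relations `hc`
    have hc' : ∀ j, ∑ i, rr O g (c i j) • rs B g (α.val.app (op U) (a i)) +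
        ∑ s, rr O g (c' s j) • rs B g (q s) = 0 := by
      intro j
      have := congrArg (rs B g) (hc j)
      rw [map_add, rs_sum_smul, rs_sum_smul, map_zero] at this
      exact this
    have h2 : ∑ j, d j p • (∑ i, rr O g (c i j) • rs B g (α.val.app (op U) (a i)) +
        ∑ s, rr O g (c' s j) • rs B g (q s)) = 0 :=
      Finset.sum_eq_zero (fun j _ => by rw [hc' j, smul_zero])
    have h3 : ∑ j, d j p • ∑ s, rr O g (c' s j) • rs B g (q s) = 0 := by
      simp only [Finset.smul_sum, smul_smul]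
      rw [Finset.sum_comm]
      simp only [← Finset.sum_smul]
      refine Finset.sum_eq_zero (fun s _ => ?_)
      rw [hd' s p, zero_smul]
    simp only [smul_add, Finset.sum_add_distrib] at h2
    rw [h3, add_zero] at h2
    rw [← h2]
    simp only [Finset.sum_smul, Finset.smul_sum, smul_smul]
    rw [Finset.sum_comm]
    refine Finset.sum_congr rfl (fun j _ => Finset.sum_congr rfl (fun i _ => ?_))
    rw [mul_comm]

/-- tensoring a monomorphism with `F` gives a locally injective morphism of presheaves of modules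
when relations between sections of `F` are locally trivial -/
theorem isLocallyInjective_whiskerRight_of_matTriv (F : ModSite.Mod O) (hF : ∀ m, MatTriv F m)
    {A B : ModSite.Mod O} (α : A ⟶ B) [Mono α] :
    PresheafOfModules.IsLocallyInjective J (valHom O α ▷ valObj O F) := by
  constructor
  intro X x y h
  obtain ⟨U⟩ := X
  have hsub : (valHom O α ▷ valObj O F).app (op U) (x - y) = 0 :=
    (map_sub ((valHom O α ▷ valObj O F).app (op U)).hom x y).trans (sub_eq_zero.mpr h)
  obtain ⟨S, hS, hS0⟩ := exists_sieve_map_eq_zero F hF α U (x - y) hsub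
  refine J.superset_covering ?_ hS
  intro V g hg
  have h2 := map_sub ((valObj O A ⊗ valObj O F).map g.op).hom x y
  exact (equalizerSieve_iff (M₁ := valObj O A ⊗ valObj O F) x y g).mpr
    (sub_eq_zero.mp (h2.symm.trans (hS0 g hg)))

/-- if every relation between sections of `F` is locally trivial then `F` is flat -/
theorem isFlat_of_matTriv_one (F : ModSite.Mod O) (h1 : MatTriv F 1) : ModSite.IsFlat F := by
  apply isFlat_of_preservesMono
  constructor
  intro A B α hα
  show Mono ((shf O).map (valHom O α ▷ valObj O F))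
  exact mono_shf_map_of_isLocallyInjective _
    (isLocallyInjective_whiskerRight_of_matTriv F (matTriv_of_one F h1) α)

end EqCrit
end Groth.Agent.Lib.Helper42
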