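import Groth.Agent.Lib.Helper42.FTLocal

/-!
# Finite type sheaves of modules on a topological space: extensions, local lifting
-/

set_option autoImplicit false
universe u
open CategoryTheory Limits Opposite TopologicalSpace

namespace Groth.Agent.Lib.Helper42
namespace FTLocal

open Groth.Agent.Lib.Helper30 SheafOfModules

noncomputable section

section Exact

variable {C : Type u} [SmallCategory C] {J : GrothendieckTopology C} {R : Sheaf J RingCat.{u}}

/-- sections of the kernel: left exactness of sections -/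
lemma exists_preimage_of_shortExact (S : ShortComplex (SheafOfModules.{u} R)) (hS : S.ShortExact)
    (W : C) (n : S.X₂.val.obj (op W)) (hn : S.g.val.app (op W) n = 0) :
    ∃ n' : S.X₁.val.obj (op W), S.f.val.app (op W) n' = n := by
  have hm := hS.mono_f
  have : (SheafOfModules.evaluation R (op W)).PreservesZeroMorphisms := ⟨fun _ _ => rfl⟩
  have h := hS.exact.map_of_mono_of_preservesKernel (SheafOfModules.evaluation R (op W)) hm
    inferInstance
  exact (ShortComplex.moduleCat_exact_iff _).mp h n hn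

end Exact

section TopExact

variable {X : TopCat.{u}} {R : Sheaf (Opens.grothendieckTopology X) RingCat.{u}}

/-- finitely many sections lift locally along an epimorphism -/
lemma exists_local_lift {M N : SheafOfModules.{u} R} (g : M ⟶ N) [Epi g] {I : Type u} [Finite I]
    (U : Opens X) (s : I → N.val.obj (op U)) (y : X) (hy : y ∈ U) :
    ∃ (W : Opens X) (hW : W ≤ U), y ∈ W ∧ ∃ t : I → M.val.obj (op W),
      ∀ i, g.val.app (op W) (t i) = rs N (homOfLE hW) (s i) := by
  have h : ∀ i, ∃ (W : Opens X) (f : W ⟶ U), y ∈ W ∧ ∃ t : M.val.obj (op W),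
      g.val.app (op W) t = rs N f (s i) := fun i => by
    obtain ⟨W, f, ht, hyW⟩ := (ModEpi.isLocallySurjective_of_epi g).imageSieve_mem (s i) y hy
    exact ⟨W, f, hyW, ht⟩
  choose W f hyW t ht using h
  have hmem : y ∈ U ⊓ ⨅ i, W i := by
    refine ⟨hy, ?_⟩
    rw [SetLike.mem_coe, ← SetLike.mem_coe, Opens.coe_iInf]
    exact Set.mem_iInter.mpr hyW
  refine ⟨U ⊓ ⨅ i, W i, inf_le_left, hmem, fun i => rs M (homOfLE (inf_le_right.trans (iInf_le W i))) (t i), fun i => ?_⟩
  rw [← rs_app, ht, rs_comp]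
  rfl

/-- An extension of finite type sheaves of modules is of finite type. -/
theorem isFiniteType_of_shortExact (S : ShortComplex (SheafOfModules.{u} R)) (hS : S.ShortExact)
    (h1 : SheafOfModules.IsFiniteType.{u} S.X₁) (h3 : SheafOfModules.IsFiniteType.{u} S.X₃) :
    SheafOfModules.IsFiniteType.{u} S.X₂ := by
  refine (isFiniteType_iff S.X₂).mpr (fun y => ?_)
  obtain ⟨U₁, hy₁, I₁, _, s₁, hs₁⟩ := (isFiniteType_iff S.X₁).mp h1 y
  obtain ⟨U₃, hy₃, I₃, _, s₃, hs₃⟩ := (isFiniteType_iff S.X₃).mp h3 y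
  have := hS.epi_g
  obtain ⟨W, hW, hyW, t, ht⟩ := exists_local_lift S.g U₃ s₃ y hy₃
  refine ⟨W ⊓ U₁, ⟨hyW, hy₁⟩, I₁ ⊕ I₃, inferInstance,
    Sum.elim (fun i => S.f.val.app (op (W ⊓ U₁)) (rs S.X₁ (homOfLE inf_le_right) (s₁ i)))
      (fun i => rs S.X₂ (homOfLE inf_le_left) (t i)), ?_⟩
  intro V hV m y' hy'
  obtain ⟨W₁, hW₁, hy'W₁, c, hc⟩ :=
    hs₃ V (hV.trans (inf_le_left.trans hW)) (S.g.val.app (op V) m) y' hy'
  have hn : S.g.val.app (op W₁) (rs S.X₂ (homOfLE hW₁) m -
      ∑ i, c i • rs S.X₂ (homOfLE (hW₁.trans (hV.trans inf_le_left))) (t i)) = 0 := by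
    rw [map_sub, map_sum, ← rs_app, hc, sub_eq_zero]
    refine Finset.sum_congr rfl (fun i _ => ?_)
    rw [map_smul, ← rs_app, ht, rs_comp]
    rfl
  obtain ⟨n', hn'⟩ := exists_preimage_of_shortExact S hS W₁ _ hn
  obtain ⟨W₂, hW₂, hy'W₂, c', hc'⟩ := hs₁ W₁ (hW₁.trans (hV.trans inf_le_right)) n' y' hy'W₁
  refine ⟨W₂, hW₂.trans hW₁, hy'W₂, Sum.elim c' (fun i => rr R (homOfLE hW₂) (c i)), ?_⟩
  rw [Fintype.sum_sum_type]
  simp only [Sum.elim_inl, Sum.elim_inr]
  have e0 : rs S.X₂ (homOfLE hW₁) m = S.f.val.app (op W₁) n' +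
      ∑ i, c i • rs S.X₂ (homOfLE (hW₁.trans (hV.trans inf_le_left))) (t i) := by
    rw [hn']; abel
  have e := congrArg (rs S.X₂ (homOfLE hW₂)) e0
  rw [rs_comp] at e
  refine e.trans ?_
  rw [map_add, rs_app, hc', map_sum, map_sum]
  congr 1
  · refine Finset.sum_congr rfl (fun i _ => ?_)
    rw [map_smul, rs_app, rs_comp]
    rfl
  · refine Finset.sum_congr rfl (fun i _ => ?_)
    rw [rs_smul, rs_comp, rs_comp]
    rfl

end TopExact

end

end FTLocal
end Groth.Agent.Lib.Helper42
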