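import Groth.Agent.Lib.Helper42.PointGerm
import Groth.Agent.Lib.Helper30.EqFlat

/-!
# Flatness of a sheaf of modules on a ringed site and flatness of its stalks

* `flat_stalkMod_of_isFlat`: the stalk of a flat module at any point of the site is flat.
* `isFlat_of_flat_stalkMod`: if `P` is a conservative family of points and all stalks `F_p`, `p ∈ P`,
  are flat, then `F` is flat.
-/

set_option autoImplicit false
universe u
open CategoryTheory CategoryTheory.Limits Opposite MonoidalCategory

namespace Groth.Agent.Lib.Helper42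
namespace FlatStalk

open PointGerm Groth.Agent.Lib.Helper30.ModTensor Groth.Agent.Lib.Helper30.ModTensorAdj
  Groth.Agent.Lib.Helper30.EqFlat Groth.Agent.Lib.Helper30.ExtZero

noncomputable section

variable {C : Type u} [SmallCategory C] {J : GrothendieckTopology C} {O : Sheaf J CommRingCat.{u}}

/-- the stalk of a flat module at a point of the site is a flat module over the stalk of the
structure sheaf -/
theorem flat_stalkMod_of_isFlat (p : GrothendieckTopology.Point.{u} J) (F : ModSite.Mod O)
    (hF : ModSite.IsFlat F) : Module.Flat (ModSite.stalkRing p O) (ModSite.stalkMod p F) := by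
  apply Module.Flat.of_forall_isTrivialRelation
  intro l f x hfx
  obtain ⟨N₀⟩ : Nonempty p.fiber.Elements := IsCofiltered.nonempty
  obtain ⟨N₁, -, f', hf'⟩ := exists_rep_fin p O.obj f N₀
  obtain ⟨N₂, h₂, (x' : Fin l → F.val.obj (op N₂.1)), hx'⟩ :=
    exists_rep_fin p (ModSite.toAb F).obj x N₁
  -- the relation holds on a smaller neighbourhood
  have hgerm : gH p F N₂ (∑ i, (O.obj.map h₂.1.op).hom (f' i) • x' i) =
      gH p F N₂ 0 := by
    rw [gH_sum_smul, map_zero]
    refine Eq.trans (Finset.sum_congr rfl (fun i _ => ?_)) hfx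
    rw [gR_map, gR_eq_germ, hf' i]
    exact congrArg (fun t => f i • t) (hx' i)
  obtain ⟨N₃, g₃, hg₃⟩ := exists_eq_of_germ_eq p (ModSite.toAb F).obj _ _ hgerm
  have hrel : ∀ j : Fin 1, ∑ i, (fun i (_ : Fin 1) => (O.obj.map g₃.1.op).hom
      ((O.obj.map h₂.1.op).hom (f' i))) i j •
      (fun i => (show F.val.obj (op N₃.1) from F.val.map g₃.1.op (x' i))) i = 0 := by
    intro j
    have e1 := map_sum_smul F g₃.1 Finset.univ (fun i => (O.obj.map h₂.1.op).hom (f' i))
      (fun i => x' i)
    have e2 : F.val.map g₃.1.op (0 : F.val.obj (op N₂.1)) = 0 := map_zero (F.val.map g₃.1.op).hom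
    exact e1.symm.trans (hg₃.trans e2)
  obtain ⟨S, hS, hS'⟩ := eqFlat O F hF N₃.1 _ _ hrel
  obtain ⟨V, g, hg, v, hv⟩ := p.jointly_surjective S hS N₃.2
  obtain ⟨k, t, a, h1, h2⟩ := hS' g hg
  let N₄ : p.fiber.Elements := ⟨V, v⟩
  let g₄ : N₄ ⟶ N₃ := ⟨g, hv⟩
  refine ⟨k, fun i j => gR p O N₄ (a i j), fun j => gH p F N₄ (t j), fun i => ?_, fun j => ?_⟩
  · have e := congrArg (gH p F N₄) (h1 i)
    rw [gH_sum_smul] at e
    refine Eq.trans ?_ e
    have e3 : gH p F N₄ (F.val.map g₄.1.op (F.val.map g₃.1.op (x' i))) = x i := by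
      rw [gH_map, gH_map]
      exact hx' i
    exact e3.symm
  · have e := congrArg (gR p O N₄) (h2 0 j)
    rw [map_sum, map_zero] at e
    refine Eq.trans (Finset.sum_congr rfl (fun i _ => ?_)) e
    rw [map_mul, mul_comm]
    congr 1
    have e4 : gR p O N₄ ((O.obj.map g₄.1.op).hom ((O.obj.map g₃.1.op).hom
        ((O.obj.map h₂.1.op).hom (f' i)))) = f i := by
      rw [gR_map, gR_map, gR_map]
      exact hf' i
    exact e4.symm


/-- a monomorphism of sheaves of modules is injective on sections -/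
lemma injective_of_mono {M N : ModSite.Mod O} (f : M ⟶ N) [Mono f] (W : C) :
    Function.Injective (f.val.app (op W)) := by
  have h : Mono ((SheafOfModules.evaluation (ModSite.ringSh O) (op W)).map f) := inferInstance
  exact (ModuleCat.mono_iff_injective _).mp h

/-- the map induced on stalks by a monomorphism is injective -/
lemma stalkMap_injective (p : GrothendieckTopology.Point.{u} J) {A B : ModSite.Mod O} (α : A ⟶ B)
    [Mono α] : Function.Injective (ModSite.stalkMap p α).hom := by
  rw [injective_iff_map_eq_zero]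
  intro m hm
  obtain ⟨N, a, rfl⟩ := gH_surjective p A m
  rw [stalkMap_gH] at hm
  have h0 : gH p B N (α.val.app (op N.1) a) = gH p B N 0 := hm.trans (map_zero _).symm
  obtain ⟨W, g, hg⟩ := exists_eq_of_germ_eq p (ModSite.toAb B).obj _ _ h0
  have h1 : B.val.map g.1.op (α.val.app (op N.1) a) = 0 :=
    hg.trans (map_zero (B.val.map g.1.op).hom)
  have h2 : α.val.app (op W.1) (A.val.map g.1.op a) = B.val.map g.1.op (α.val.app (op N.1) a) :=
    PresheafOfModules.naturality_apply α.val g.1.op a
  have h3 : A.val.map g.1.op a = 0 :=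
    injective_of_mono α W.1 ((h2.trans h1).trans (map_zero (α.val.app (op W.1)).hom).symm)
  rw [← gH_map p A g a, h3]
  exact map_zero (gH p A W)

open TensorProduct in
/-- pushing a section of the presheaf tensor product to the tensor product of the stalks -/
def toStalkTensor (p : GrothendieckTopology.Point.{u} J) (A F : ModSite.Mod O)
    (N : p.fiber.Elements) :
    TensorProduct (O.obj.obj (op N.1)) ((valObj O A).obj (op N.1)) ((valObj O F).obj (op N.1)) →+
      TensorProduct (ModSite.stalkRing p O) (ModSite.stalkMod p A) (ModSite.stalkMod p F) :=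
  tmap (gR p O N) (gH p A N) (gH_smul p A N) (gH p F N) (gH_smul p F N)

open TensorProduct in
lemma toStalkTensor_tmul (p : GrothendieckTopology.Point.{u} J) (A F : ModSite.Mod O)
    (N : p.fiber.Elements) (a : (valObj O A).obj (op N.1)) (f : (valObj O F).obj (op N.1)) :
    toStalkTensor p A F N (a ⊗ₜ[O.obj.obj (op N.1)] f) =
      gH p A N a ⊗ₜ[ModSite.stalkRing p O] gH p F N f := rfl

open TensorProduct in
lemma toStalkTensor_whiskerRight (p : GrothendieckTopology.Point.{u} J) (F : ModSite.Mod O)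
    {A B : ModSite.Mod O} (α : A ⟶ B) (N : p.fiber.Elements)
    (z : TensorProduct (O.obj.obj (op N.1)) ((valObj O A).obj (op N.1)) ((valObj O F).obj (op N.1))) :
    toStalkTensor p B F N ((valHom O α ▷ valObj O F).app (op N.1) z) =
      LinearMap.rTensor (ModSite.stalkMod p F) (ModSite.stalkMap p α).hom
        (toStalkTensor p A F N z) := by
  induction z using TensorProduct.induction_on with
  | zero =>
    rw [map_zero, map_zero]
    exact (congrArg (toStalkTensor p B F N)
      (map_zero ((valHom O α ▷ valObj O F).app (op N.1)).hom)).trans (map_zero _)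
  | tmul a f =>
    rw [toStalkTensor_tmul, LinearMap.rTensor_tmul, stalkMap_gH]
    rfl
  | add x y hx hy =>
    rw [map_add, map_add, ← hx, ← hy]
    exact (congrArg (toStalkTensor p B F N)
      (map_add ((valHom O α ▷ valObj O F).app (op N.1)).hom x y)).trans (map_add _ _ _)

open TensorProduct in
/-- core of the converse: a section of the presheaf tensor product `A ⊗ F` killed by `α ⊗ F` for a
monomorphism `α` vanishes on a smaller neighbourhood of a point at which `F` has a flat stalk -/
lemma exists_map_eq_zero (p : GrothendieckTopology.Point.{u} J) (F : ModSite.Mod O)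
    (hFp : Module.Flat (ModSite.stalkRing p O) (ModSite.stalkMod p F))
    {A B : ModSite.Mod O} (α : A ⟶ B) [Mono α] (N : p.fiber.Elements)
    (z : TensorProduct (O.obj.obj (op N.1)) ((valObj O A).obj (op N.1)) ((valObj O F).obj (op N.1)))
    (hz : (valHom O α ▷ valObj O F).app (op N.1) z = 0) :
    ∃ (W : p.fiber.Elements) (g : W ⟶ N), (valObj O A ⊗ valObj O F).map g.1.op z = 0 := by
  -- the image of `z` in the tensor product of the stalks vanishes
  have h1 : toStalkTensor p A F N z = 0 := by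
    have hinj : Function.Injective
        (LinearMap.rTensor (ModSite.stalkMod p F) (ModSite.stalkMap p α).hom) :=
      Module.Flat.rTensor_preserves_injective_linearMap _ (stalkMap_injective p α)
    apply hinj
    rw [← toStalkTensor_whiskerRight, hz, map_zero]
    exact map_zero (toStalkTensor p B F N)
  obtain ⟨l, a, f, rfl⟩ := exists_fin_sum z
  have h2 : ∑ i, gH p A N (a i) ⊗ₜ[ModSite.stalkRing p O] gH p F N (f i) = 0 := by
    rw [map_sum] at h1
    exact h1
  have hm : Function.Injective (LinearMap.rTensor (ModSite.stalkMod p F)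
      (Submodule.span (ModSite.stalkRing p O) (Set.range (fun i => gH p A N (a i)))).subtype) :=
    Module.Flat.rTensor_preserves_injective_linearMap _ (Submodule.injective_subtype _)
  obtain ⟨k, c, y, hy, hc⟩ :=
    TensorProduct.vanishesTrivially_of_sum_tmul_eq_zero_of_rTensor_injective
      (ModSite.stalkRing p O) hm h2
  replace hy : ∀ i, gH p F N (f i) = ∑ j, c i j • y j := hy
  replace hc : ∀ j, ∑ i, c i j • gH p A N (a i) = 0 := hc
  -- spread out the coefficients and the `y j`
  obtain ⟨W₁, g₁, c', hc'⟩ := exists_rep_fin p O.obj (fun q : Fin l × Fin k => c q.1 q.2) N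
  obtain ⟨W₂, g₂, (y' : Fin k → F.val.obj (op W₂.1)), hy'⟩ :=
    exists_rep_fin p (ModSite.toAb F).obj y W₁
  let g₂₀ : W₂ ⟶ N := g₂ ≫ g₁
  let c₂ : Fin l → Fin k → O.obj.obj (op W₂.1) := fun i j => (O.obj.map g₂.1.op).hom (c' (i, j))
  let a₂ : Fin l → A.val.obj (op W₂.1) := fun i => A.val.map g₂₀.1.op (a i)
  let f₂ : Fin l → F.val.obj (op W₂.1) := fun i => F.val.map g₂₀.1.op (f i)
  have hc₂ : ∀ i j, gR p O W₂ (c₂ i j) = c i j := fun i j =>
    (gR_map p g₂ (c' (i, j))).trans (hc' (i, j))
  have ha₂ : ∀ i, gH p A W₂ (a₂ i) = gH p A N (a i) := fun i => gH_map p A g₂₀ (a i)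
  have hf₂ : ∀ i, gH p F W₂ (f₂ i) = gH p F N (f i) := fun i => gH_map p F g₂₀ (f i)
  -- first family of equalities
  have E1 : ∀ i, gH p F W₂ (f₂ i) = gH p F W₂ (∑ j, c₂ i j • y' j) := by
    intro i
    rw [hf₂, gH_sum_smul, hy i]
    refine Finset.sum_congr rfl (fun j _ => ?_)
    rw [hc₂]
    exact congrArg (fun t => c i j • t) (hy' j).symm
  let s₂ : Fin l → F.val.obj (op W₂.1) := fun i => ∑ j, c₂ i j • y' j
  obtain ⟨W₃, g₃, h3⟩ := exists_eq_fin p (ModSite.toAb F).obj (N := W₂) f₂ s₂ E1
  replace h3 : ∀ i, F.val.map g₃.1.op (f₂ i) = F.val.map g₃.1.op (s₂ i) := h3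
  -- second family of equalities
  let t₃ : Fin k → A.val.obj (op W₃.1) := fun j => A.val.map g₃.1.op (∑ i, c₂ i j • a₂ i)
  have E2 : ∀ j, gH p A W₃ (t₃ j) = gH p A W₃ 0 := by
    intro j
    rw [gH_map, gH_sum_smul, map_zero]
    refine Eq.trans (Finset.sum_congr rfl (fun i _ => ?_)) (hc j)
    rw [hc₂, ha₂]
  obtain ⟨W₄, g₄, h4⟩ := exists_eq_fin p (ModSite.toAb A).obj (N := W₃) t₃ (fun _ => 0) E2
  replace h4 : ∀ j, A.val.map g₄.1.op (t₃ j) = 0 := fun j =>
    (h4 j).trans (map_zero (A.val.map g₄.1.op).hom)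
  -- conclusion on `W₄`
  let h : W₄ ⟶ W₂ := g₄ ≫ g₃
  refine ⟨W₄, h ≫ g₂₀, ?_⟩
  let a₄ : Fin l → A.val.obj (op W₄.1) := fun i => A.val.map (h ≫ g₂₀).1.op (a i)
  let f₄ : Fin l → F.val.obj (op W₄.1) := fun i => F.val.map (h ≫ g₂₀).1.op (f i)
  have e0 : (valObj O A ⊗ valObj O F).map (h ≫ g₂₀).1.op (∑ i, a i ⊗ₜ[O.obj.obj (op N.1)] f i) =
      ∑ i, a₄ i ⊗ₜ[O.obj.obj (op W₄.1)] f₄ i :=
    map_sum ((valObj O A ⊗ valObj O F).map (h ≫ g₂₀).1.op).hom _ _
  refine e0.trans ?_
  apply TensorProduct.sum_tmul_eq_zero_of_vanishesTrivially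
  let c₄ : Fin l → Fin k → O.obj.obj (op W₄.1) := fun i j => (O.obj.map h.1.op).hom (c₂ i j)
  let y₄ : Fin k → F.val.obj (op W₄.1) := fun j => F.val.map h.1.op (y' j)
  refine ⟨k, c₄, y₄, fun i => ?_, fun j => ?_⟩
  · have e1 : f₄ i = F.val.map h.1.op (f₂ i) := map_comp' F g₂₀.1 h.1 (f i)
    have e2 : F.val.map h.1.op (f₂ i) = F.val.map g₄.1.op (F.val.map g₃.1.op (f₂ i)) :=
      map_comp' F g₃.1 g₄.1 (f₂ i)
    have e3 : F.val.map h.1.op (s₂ i) = F.val.map g₄.1.op (F.val.map g₃.1.op (s₂ i)) :=
      map_comp' F g₃.1 g₄.1 (s₂ i)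
    have e4 : F.val.map h.1.op (s₂ i) = ∑ j, c₄ i j • y₄ j :=
      map_sum_smul F h.1 Finset.univ (fun j => c₂ i j) y'
    rw [e1, e2, h3 i, ← e3, e4]
  · have e1 : ∀ i, a₄ i = A.val.map h.1.op (a₂ i) := fun i => map_comp' A g₂₀.1 h.1 (a i)
    have e2 : A.val.map h.1.op (∑ i, c₂ i j • a₂ i) = ∑ i, c₄ i j • a₄ i := by
      refine (map_sum_smul A h.1 Finset.univ (fun i => c₂ i j) a₂).trans ?_
      exact Finset.sum_congr rfl (fun i _ => by rw [e1 i])
    have e3 : A.val.map h.1.op (∑ i, c₂ i j • a₂ i) = A.val.map g₄.1.op (t₃ j) :=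
      map_comp' A g₃.1 g₄.1 _
    exact e2.symm.trans (e3.trans (h4 j))


/-- sheafification turns locally injective morphisms of presheaves of modules into
monomorphisms -/
lemma mono_shf_map_of_isLocallyInjective {M M' : PM O} (ψ : M ⟶ M')
    (h : PresheafOfModules.IsLocallyInjective J ψ) : Mono ((shf O).map ψ) := by
  have h1 : Mono ((presheafToSheaf J AddCommGrpCat.{u}).map
      ((PresheafOfModules.toPresheaf _).map ψ)) := by
    have : Sheaf.IsLocallyInjective ((presheafToSheaf J AddCommGrpCat.{u}).map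
        ((PresheafOfModules.toPresheaf _).map ψ)) :=
      (Presheaf.isLocallyInjective_presheafToSheaf_map_iff J _).mpr h
    exact Sheaf.mono_of_isLocallyInjective _
  have h2 : Mono ((SheafOfModules.toSheaf (RS O)).map ((shf O).map ψ)) :=
    ((MorphismProperty.monomorphisms _).arrow_mk_iso_iff
      (((Functor.mapArrowFunctor _ _).mapIso
        (PresheafOfModules.sheafificationCompToSheaf.{u} (𝟙 (RS O).obj))).app (Arrow.mk ψ))).mpr h1
  exact (SheafOfModules.toSheaf (RS O)).mono_of_mono_map h2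


/-- a sieve is covering as soon as every point of a conservative family lifts along it -/
lemma mem_of_forall_point {P : ObjectProperty (GrothendieckTopology.Point.{u} J)}
    (hP : P.IsConservativeFamilyOfPoints) {X : C} (S : Sieve X)
    (h : ∀ (p : GrothendieckTopology.Point.{u} J), P p → ∀ x : p.fiber.obj X,
      ∃ (Y : C) (g : Y ⟶ X) (_ : S g) (y : p.fiber.obj Y), p.fiber.map g y = x) : S ∈ J X := by
  let ι : Type u := Σ V : C, {g : V ⟶ X // S g}
  let U : ι → C := fun i => i.1
  let f : ∀ i : ι, U i ⟶ X := fun i => i.2.1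
  have h1 : Sieve.ofArrows U f ∈ J X := by
    rw [hP.jointly_reflect_ofArrows_mem f]
    intro Φ x
    obtain ⟨Y, g, hg, y, hy⟩ := h Φ.obj Φ.property x
    exact ⟨⟨Y, g, hg⟩, y, hy⟩
  refine J.superset_covering ?_ h1
  rw [Sieve.generate_le_iff, Presieve.ofArrows_le_iff]
  exact fun i => i.2.2

/-- if all stalks of `F` at the points of a conservative family are flat, then tensoring a
monomorphism with `F` gives a locally injective morphism of presheaves of modules -/
theorem isLocallyInjective_whiskerRight_of_flat_stalks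
    {P : ObjectProperty (GrothendieckTopology.Point.{u} J)}
    (hP : P.IsConservativeFamilyOfPoints) (F : ModSite.Mod O)
    (hF : ∀ p : GrothendieckTopology.Point.{u} J, P p →
      Module.Flat (ModSite.stalkRing p O) (ModSite.stalkMod p F))
    {A B : ModSite.Mod O} (α : A ⟶ B) [Mono α] :
    PresheafOfModules.IsLocallyInjective J (valHom O α ▷ valObj O F) := by
  constructor
  intro X x y h
  obtain ⟨U⟩ := X
  have hsub : (valHom O α ▷ valObj O F).app (op U) (x - y) = 0 :=
    (map_sub ((valHom O α ▷ valObj O F).app (op U)).hom x y).trans (sub_eq_zero.mpr h)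
  refine mem_of_forall_point hP _ (fun p hp u => ?_)
  obtain ⟨W, g, hg⟩ := exists_map_eq_zero p F (hF p hp) α ⟨U, u⟩ (x - y) hsub
  refine ⟨W.1, g.1, ?_, W.2, g.2⟩
  have h2 := map_sub ((valObj O A ⊗ valObj O F).map g.1.op).hom x y
  exact (equalizerSieve_iff (M₁ := valObj O A ⊗ valObj O F) x y g.1).mpr
    (sub_eq_zero.mp (h2.symm.trans hg))

/-- if `P` is a conservative family of points and all stalks `F_p`, `p ∈ P`, are flat, then `F`
is flat -/
theorem isFlat_of_flat_stalkMod {P : ObjectProperty (GrothendieckTopology.Point.{u} J)}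
    (hP : P.IsConservativeFamilyOfPoints) (F : ModSite.Mod O)
    (hF : ∀ p : GrothendieckTopology.Point.{u} J, P p →
      Module.Flat (ModSite.stalkRing p O) (ModSite.stalkMod p F)) : ModSite.IsFlat F := by
  apply isFlat_of_preservesMono
  constructor
  intro A B α hα
  show Mono ((shf O).map (valHom O α ▷ valObj O F))
  exact mono_shf_map_of_isLocallyInjective _
    (isLocallyInjective_whiskerRight_of_flat_stalks hP F hF α)

end

end FlatStalk
end Groth.Agent.Lib.Helper42
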