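import Groth.Agent.Lib.Helper42.StalkBasis

/-!
# Rank of a locally free module on a ringed space

* `prI j : free I ⟶ unit R` (coordinate projection, arbitrary index type), `prI_eF`.
* `isLocIndep_of_iso_free`: the sections corresponding to finitely many distinct basis elements under an
  isomorphism `M|_U ≅ free I` (arbitrary `I`) are locally independent.
* `card_le_of_iso_free`: if `F|_{U₁} ≅ free I₁` with `I₁` finite and `F|_{U₂} ≅ free I₂`, at a point of
  `U₁ ∩ U₂` with non-zero stalk of the structure sheaf, any finite set of indices of `I₂` has at most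
  `card I₁` elements.
* `enatCard_eq_of_iso_free`: the cardinality of the index set of a local trivialisation is determined
  by the point.
-/

set_option autoImplicit false
universe u
open CategoryTheory CategoryTheory.Limits TopologicalSpace Opposite

namespace Groth.Agent.Lib.Helper42
namespace FreeRank

open Groth.Agent.Lib.Helper30 Groth.Agent.Lib.Helper30.FreeTerminal SheafOfModules
open Groth.Agent.Lib.Helper42.FTLocal Groth.Agent.Lib.Helper42.FPLocal
  Groth.Agent.Lib.Helper42.StalkColim Groth.Agent.Lib.Helper42.StalkFree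
  Groth.Agent.Lib.Helper42.StalkBasis

noncomputable section

section Proj

variable {D : Type u} [SmallCategory D] {K : GrothendieckTopology D} {R : Sheaf K RingCat.{u}}
  {I : Type u} [DecidableEq I]

/-- the coordinate projections of a free module (arbitrary index type) -/
def prI (j : I) : free (R := R) I ⟶ unit R :=
  Cofan.IsColimit.desc (isColimitFreeCofan I) (fun i => if i = j then 𝟙 _ else 0)

lemma ιFree_prI (i j : I) : ιFree (R := R) i ≫ prI j = if i = j then 𝟙 _ else 0 :=
  Cofan.IsColimit.fac (isColimitFreeCofan I) _ i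

lemma prI_eF (i j : I) (V : D) :
    (prI (R := R) j).val.app (op V) (eF i V) = if i = j then (1 : R.obj.obj (op V)) else 0 := by
  have h := congrArg (fun v : unit R ⟶ unit R => v.val.app (op V) (1 : R.obj.obj (op V)))
    (ιFree_prI (R := R) i j)
  refine Eq.trans ?_ (h.trans ?_)
  · rfl
  · split_ifs
    · rfl
    · rfl

end Proj

section Indep

variable {X : TopCat.{u}} {R : Sheaf (Opens.grothendieckTopology X) RingCat.{u}}

/-- the sections of `M` over `U` corresponding to the basis of `free I` under `M|_U ≅ free I` -/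
def basisSec (M : SheafOfModules.{u} R) (U : Opens X) {I : Type u}
    (φ : M.over U ≅ SheafOfModules.free (R := R.over U) I) (i : I) : M.val.obj (op U) :=
  φ.inv.val.app (op (Over.mk (𝟙 U))) (eF i (Over.mk (𝟙 U)))

/-- finitely many distinct basis sections are locally independent -/
theorem isLocIndep_of_iso_free (M : SheafOfModules.{u} R) (U : Opens X) {I : Type u}
    (φ : M.over U ≅ SheafOfModules.free (R := R.over U) I) {Kt : Type u} [Fintype Kt]
    (j : Kt → I) (hj : Function.Injective j) :
    IsLocIndep M U (fun k => basisSec M U φ (j k)) := by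
  classical
  let hT := Over.mkIdTerminal (X := U)
  have hinv : φ.inv = freeDesc (R := R.over U) hT (M.over U) (basisSec M U φ) :=
    free_hom_ext hT _ _ (fun k => (freeDesc_eF hT (M.over U) (basisSec M U φ) k).symm)
  have hmono : Mono (freeDesc (R := R.over U) hT (M.over U) (basisSec M U φ)) := hinv ▸ inferInstance
  intro V hV a ha l
  let a' : Kt → (R.over U).obj.obj (op (Over.mk (homOfLE hV))) := a
  have h1 : (freeDesc (R := R.over U) hT (M.over U) (basisSec M U φ)).val.app
      (op (Over.mk (homOfLE hV))) (∑ k, a' k • eF (j k) (Over.mk (homOfLE hV))) = 0 := by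
    rw [map_sum]
    refine Eq.trans (Finset.sum_congr rfl (fun k _ => ?_)) ha
    rw [map_smul, freeDesc_eF']
    rfl
  have h3 : (∑ k, a' k • eF (R := R.over U) (j k) (Over.mk (homOfLE hV))) = 0 := by
    apply injective_of_mono (freeDesc (R := R.over U) hT (M.over U) (basisSec M U φ))
      (Over.mk (homOfLE hV))
    rw [h1, map_zero]
  have h4 := congrArg (fun τ => (prI (R := R.over U) (j l)).val.app (op (Over.mk (homOfLE hV))) τ) h3
  simp only [map_sum, map_smul, map_zero] at h4
  have h5 : ∀ k, (prI (R := R.over U) (j l)).val.app (op (Over.mk (homOfLE hV)))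
      (eF (j k) (Over.mk (homOfLE hV))) =
        if k = l then (1 : (R.over U).obj.obj (op (Over.mk (homOfLE hV)))) else 0 := by
    intro k
    rw [prI_eF]
    by_cases hkl : k = l
    · rw [if_pos hkl, if_pos (congrArg j hkl)]
    · rw [if_neg hkl, if_neg (fun h => hkl (hj h))]
  have h7 : ∑ k, a' k * (if k = l then (1 : (R.over U).obj.obj (op (Over.mk (homOfLE hV)))) else 0)
      = 0 := by
    refine Eq.trans (Finset.sum_congr rfl (fun k _ => ?_)) h4
    rw [← h5 k]
    rfl
  simp only [mul_ite, mul_one, mul_zero, Finset.sum_ite_eq', Finset.mem_univ, if_true] at h7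
  exact h7

end Indep

section Rank

variable {X : TopCat.{u}} {O : TopCat.Sheaf CommRingCat.{u} X} (x : X)

/-- at a point with non-zero stalk, finitely many distinct indices of a local trivialisation are at
most as many as the indices of a finite local trivialisation -/
theorem card_le_of_iso_free
    [Nontrivial (ModSite.stalkRing (Opens.pointGrothendieckTopology x) O)] (F : ModSite.Mod O)
    {U₁ U₂ : Opens X} (hx₁ : x ∈ U₁) (hx₂ : x ∈ U₂) {I₁ : Type u} [Fintype I₁]
    (φ₁ : (ModSite.restr O U₁).obj F ≅ SheafOfModules.free I₁) {I₂ : Type u}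
    (φ₂ : (ModSite.restr O U₂).obj F ≅ SheafOfModules.free I₂)
    {Kt : Type u} [Fintype Kt] (j : Kt → I₂) (hj : Function.Injective j) :
    Fintype.card Kt ≤ Fintype.card I₁ := by
  obtain ⟨e, hgen, hind⟩ := exists_basis_of_iso_free (R := ModSite.ringSh O) F U₁ ⟨φ₁⟩
  let b := germBasis x F hx₁ e hgen hind
  have hli : LinearIndependent (ModSite.stalkRing (Opens.pointGrothendieckTopology x) O)
      (fun k => germHom x F U₂ hx₂ (basisSec (R := ModSite.ringSh O) F U₂ φ₂ (j k))) :=
    Fintype.linearIndependent_iff.mpr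
      (germ_indep x F hx₂ _ (isLocIndep_of_iso_free (R := ModSite.ringSh O) F U₂ φ₂ j hj))
  have h := linearIndependent_le_basis b _ hli
  rw [Cardinal.mk_fintype, Cardinal.mk_fintype] at h
  exact_mod_cast h

/-- the cardinality of the index set of a local trivialisation depends only on the point -/
theorem enatCard_eq_of_iso_free
    [Nontrivial (ModSite.stalkRing (Opens.pointGrothendieckTopology x) O)] (F : ModSite.Mod O)
    {U₁ U₂ : Opens X} (hx₁ : x ∈ U₁) (hx₂ : x ∈ U₂) {I₁ I₂ : Type u}
    (h₁ : Nonempty ((ModSite.restr O U₁).obj F ≅ SheafOfModules.free I₁))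
    (h₂ : Nonempty ((ModSite.restr O U₂).obj F ≅ SheafOfModules.free I₂)) :
    ENat.card I₁ = ENat.card I₂ := by
  classical
  obtain ⟨φ₁⟩ := h₁
  obtain ⟨φ₂⟩ := h₂
  have key : ∀ {J₁ J₂ : Type u} {V₁ V₂ : Opens X} (_ : x ∈ V₁) (_ : x ∈ V₂) [Fintype J₁]
      (_ : (ModSite.restr O V₁).obj F ≅ SheafOfModules.free J₁)
      (_ : (ModSite.restr O V₂).obj F ≅ SheafOfModules.free J₂), Finite J₂ := by
    intro J₁ J₂ V₁ V₂ hv₁ hv₂ _ ψ₁ ψ₂
    by_contra hinf
    rw [not_finite_iff_infinite] at hinf
    let j : ULift.{u} (Fin (Fintype.card J₁ + 1)) → J₂ := fun k =>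
      Infinite.natEmbedding J₂ (k.down : ℕ)
    have hj : Function.Injective j := by
      intro k k' hkk
      have := (Infinite.natEmbedding J₂).injective hkk
      exact ULift.ext _ _ (Fin.ext this)
    have := card_le_of_iso_free x F hv₁ hv₂ ψ₁ ψ₂ j hj
    rw [Fintype.card_ulift, Fintype.card_fin] at this
    omega
  by_cases hf₁ : Finite I₁
  · have : Fintype I₁ := Fintype.ofFinite I₁
    have hf₂ : Finite I₂ := key hx₁ hx₂ φ₁ φ₂
    have : Fintype I₂ := Fintype.ofFinite I₂
    have le1 := card_le_of_iso_free x F hx₁ hx₂ φ₁ φ₂ (id : I₂ → I₂) Function.injective_id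
    have le2 := card_le_of_iso_free x F hx₂ hx₁ φ₂ φ₁ (id : I₁ → I₁) Function.injective_id
    rw [ENat.card_eq_coe_fintype_card, ENat.card_eq_coe_fintype_card, le_antisymm le2 le1]
  · have hf₂ : ¬ Finite I₂ := by
      intro hf₂
      have : Fintype I₂ := Fintype.ofFinite I₂
      exact hf₁ (key hx₂ hx₁ φ₂ φ₁)
    rw [not_finite_iff_infinite] at hf₁ hf₂
    rw [ENat.card_eq_top_of_infinite, ENat.card_eq_top_of_infinite]

end Rank

end

end FreeRank
end Groth.Agent.Lib.Helper42
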