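import Mathlib

/-!
# Graded rings generated in degrees `0` and `1`: surjectivity in positive degrees
-/

set_option autoImplicit false
universe u

open DirectSum

namespace Groth.Agent.Lib.Helper42

variable {A B σ τ : Type u} [CommRing A] [CommRing B]
  [SetLike σ A] [AddSubgroupClass σ A] [SetLike τ B] [AddSubgroupClass τ B]
  {𝒜 : ℕ → σ} {ℬ : ℕ → τ} [GradedRing 𝒜] [GradedRing ℬ] (ψ : 𝒜 →+*ᵍ ℬ)

/-- monomials in elements of degree `0` and `1`: homogeneous, and in positive degree all their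
multiples by elements of degree zero are in the image. -/
theorem monomial_mem_image (h1 : ∀ y ∈ ℬ 1, ∃ x ∈ 𝒜 1, ψ x = y) (w : B)
    (hw : w ∈ Submonoid.closure ((ℬ 0 : Set B) ∪ (ℬ 1 : Set B))) :
    ∃ m, w ∈ ℬ m ∧ (1 ≤ m → ∀ s ∈ ℬ 0, ∃ x ∈ 𝒜 m, ψ x = s * w) := by
  induction hw using Submonoid.closure_induction with
  | mem w hw =>
    rcases hw with hw | hw
    · exact ⟨0, hw, fun h => absurd h (by norm_num)⟩
    · refine ⟨1, hw, fun _ s hs => ?_⟩
      have : s * w ∈ ℬ (0 + 1) := SetLike.mul_mem_graded hs hw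
      rw [zero_add] at this
      exact h1 _ this
  | one => exact ⟨0, SetLike.GradedOne.one_mem, fun h => absurd h (by norm_num)⟩
  | mul w₁ w₂ _ _ ih₁ ih₂ =>
    obtain ⟨m₁, hm₁, H₁⟩ := ih₁
    obtain ⟨m₂, hm₂, H₂⟩ := ih₂
    refine ⟨m₁ + m₂, SetLike.mul_mem_graded hm₁ hm₂, fun hm s hs => ?_⟩
    rcases Nat.eq_zero_or_pos m₁ with rfl | h₁
    · have hsw : s * w₁ ∈ ℬ (0 + 0) := SetLike.mul_mem_graded hs hm₁
      rw [zero_add] at hsw
      rw [zero_add] at hm ⊢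
      obtain ⟨x, hx, hxe⟩ := H₂ hm _ hsw
      exact ⟨x, hx, by rw [hxe, mul_assoc]⟩
    · rcases Nat.eq_zero_or_pos m₂ with rfl | h₂
      · have hsw : s * w₂ ∈ ℬ (0 + 0) := SetLike.mul_mem_graded hs hm₂
        rw [zero_add] at hsw
        rw [add_zero]
        obtain ⟨x, hx, hxe⟩ := H₁ h₁ _ hsw
        exact ⟨x, hx, by rw [hxe]; ring⟩
      · obtain ⟨x₁, hx₁, hxe₁⟩ := H₁ h₁ s hs
        obtain ⟨x₂, hx₂, hxe₂⟩ := H₂ h₂ 1 SetLike.GradedOne.one_mem
        refine ⟨x₁ * x₂, SetLike.mul_mem_graded hx₁ hx₂, ?_⟩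
        rw [map_mul, hxe₁, hxe₂]
        ring

/-- If `ℬ` is generated by `ℬ 0` and `ℬ 1` and `ψ` is surjective in degree one, then `ψ` is surjective in
every positive degree. -/
theorem surjOn_pos_of_genDegOne
    (hgen : Subring.closure ((ℬ 0 : Set B) ∪ (ℬ 1 : Set B)) = ⊤)
    (h1 : ∀ y ∈ ℬ 1, ∃ x ∈ 𝒜 1, ψ x = y) :
    ∀ k, 1 ≤ k → ∀ y ∈ ℬ k, ∃ x ∈ 𝒜 k, ψ x = y := by
  classical
  intro k hk
  have key : ∀ y : B, ∃ x ∈ 𝒜 k, ψ x = (decompose ℬ y k : B) := by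
    intro y
    have hy : y ∈ Subring.closure ((ℬ 0 : Set B) ∪ (ℬ 1 : Set B)) := by rw [hgen]; trivial
    rw [Subring.mem_closure_iff] at hy
    induction hy using AddSubgroup.closure_induction with
    | mem w hw =>
      obtain ⟨m, hm, H⟩ := monomial_mem_image ψ h1 w hw
      by_cases hmk : m = k
      · subst hmk
        obtain ⟨x, hx, hxe⟩ := H hk 1 SetLike.GradedOne.one_mem
        refine ⟨x, hx, ?_⟩
        rw [hxe, one_mul, decompose_of_mem_same ℬ hm]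
      · refine ⟨0, zero_mem _, ?_⟩
        rw [map_zero, decompose_of_mem_ne ℬ hm hmk]
    | zero =>
      refine ⟨0, zero_mem _, ?_⟩
      rw [map_zero, decompose_zero, DirectSum.zero_apply, ZeroMemClass.coe_zero]
    | add a b _ _ iha ihb =>
      obtain ⟨xa, hxa, hea⟩ := iha
      obtain ⟨xb, hxb, heb⟩ := ihb
      refine ⟨xa + xb, add_mem hxa hxb, ?_⟩
      rw [map_add, hea, heb, decompose_add, DirectSum.add_apply, AddMemClass.coe_add]
    | neg a _ iha =>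
      obtain ⟨xa, hxa, hea⟩ := iha
      refine ⟨-xa, neg_mem hxa, ?_⟩
      rw [map_neg, hea, decompose_neg]
      rfl
  intro y hy
  obtain ⟨x, hx, hxe⟩ := key y
  exact ⟨x, hx, by rw [hxe, decompose_of_mem_same ℬ hy]⟩

end Groth.Agent.Lib.Helper42
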