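import Groth.Agent.Lib.Helper42.RelTildeBase
import Groth.Agent.Lib.Helper79.GrAlpha

/-!
# Sections of `GrMod.tilde` (gradings by additive subgroups): local fractions, and the maps induced by
degree-preserving linear maps (injective / locally surjective / locally exact on sections)
-/

set_option autoImplicit false
universe u
open CategoryTheory CategoryTheory.Limits AlgebraicGeometry Opposite TopologicalSpace
open scoped HomogeneousIdeal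
noncomputable section

namespace Groth.Agent.Lib.Helper42.RelTilde

section ring
variable {A σ : Type u} [CommRing A] [SetLike σ A] [AddSubgroupClass σ A] {𝒜 : ℕ → σ} [GradedRing 𝒜]
variable {M τ : Type u} [AddCommGroup M] [Module A M] [SetLike τ M] [AddSubgroupClass τ M] {ℳ : ℕ → τ}
  [SetLike.GradedSMul 𝒜 ℳ]

/-- a section of `M(n)~` is locally one fraction -/
theorem exists_local_frac {n : ℤ} {V : (Proj 𝒜).Opens} (s : Γ(GrMod.tilde 𝒜 ℳ n, V)) (y : V) :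
    ∃ (V' : (Proj 𝒜).Opens) (hV' : V' ≤ V), y.1 ∈ V' ∧ ∃ (i j : ℕ) (m : M) (f : A), m ∈ ℳ i ∧ f ∈ 𝒜 j ∧
      ((i : ℤ) = j + n ∨ m = 0) ∧ ∃ (hf : ∀ z : V', f ∉ z.1.asHomogeneousIdeal),
      ∀ z : V', GrMod.val s ⟨z.1, hV' z.2⟩ = LocalizedModule.mk m ⟨f, hf z⟩ := by
  obtain ⟨V', hyV', iV, i, j, m, f, hf, hij, hval⟩ := (s : GrMod.sect 𝒜 ℳ n (op V)).2 y
  exact ⟨V', leOfHom iV, hyV', i, j, m.1, f.1, m.2, f.2, hij, hf, fun z => hval z⟩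

/-- the section of `M(n)~` over `V` given by one fraction `m / f` -/
def fracSect (n : ℤ) (V : (Proj 𝒜).Opens) {i j : ℕ} {m : M} {f : A} (hm : m ∈ ℳ i) (hf : f ∈ 𝒜 j)
    (hij : (i : ℤ) = j + n) (hfV : ∀ z : V, f ∉ z.1.asHomogeneousIdeal) : Γ(GrMod.tilde 𝒜 ℳ n, V) :=
  show GrMod.sect 𝒜 ℳ n (op V) from
  ⟨fun z => (⟨LocalizedModule.mk m ⟨f, hfV z⟩,
      Submodule.subset_span ⟨i, j, ⟨m, hm⟩, ⟨f, hf⟩, hfV z, hij, rfl⟩⟩ : GrMod.tildeAt 𝒜 ℳ n z.1),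
    fun z => ⟨V, z.2, 𝟙 _, i, j, ⟨m, hm⟩, ⟨f, hf⟩, hfV, Or.inl hij, fun _ => rfl⟩⟩

theorem val_fracSect (n : ℤ) (V : (Proj 𝒜).Opens) {i j : ℕ} {m : M} {f : A} (hm : m ∈ ℳ i) (hf : f ∈ 𝒜 j)
    (hij : (i : ℤ) = j + n) (hfV : ∀ z : V, f ∉ z.1.asHomogeneousIdeal) (z : V) :
    GrMod.val (fracSect n V hm hf hij hfV) z = LocalizedModule.mk m ⟨f, hfV z⟩ := rfl

theorem val_res {n : ℤ} {V V' : (Proj 𝒜).Opens} (h : V' ≤ V) (s : Γ(GrMod.tilde 𝒜 ℳ n, V)) (z : V') :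
    GrMod.val ((GrMod.tilde 𝒜 ℳ n).presheaf.map (homOfLE h).op s) z = GrMod.val s ⟨z.1, h z.2⟩ := rfl

theorem val_zero {n : ℤ} {V : (Proj 𝒜).Opens} (z : V) :
    GrMod.val (0 : Γ(GrMod.tilde 𝒜 ℳ n, V)) z = 0 := rfl

theorem mk_eq_zero_iff (x : ProjectiveSpectrum 𝒜) (m : M) (s : x.asHomogeneousIdeal.toIdeal.primeCompl) :
    (LocalizedModule.mk m s : GrMod.LocMod 𝒜 (M := M) x) = 0 ↔
      ∃ c : A, c ∉ x.asHomogeneousIdeal ∧ c • m = 0 := by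
  rw [← LocalizedModule.zero_mk s, LocalizedModule.mk_eq]
  constructor
  · rintro ⟨u, hu⟩
    refine ⟨(u * s : x.asHomogeneousIdeal.toIdeal.primeCompl), (u * s).2, ?_⟩
    simpa [Submonoid.smul_def, mul_smul] using hu
  · rintro ⟨c, hc, h⟩
    refine ⟨⟨c, hc⟩, ?_⟩
    simp only [Submonoid.smul_def, smul_zero]
    rw [smul_comm, h, smul_zero]

/-- the annihilating element of a homogeneous element can be taken homogeneous -/
theorem exists_homogeneous_smul_eq_zero [DirectSum.Decomposition ℳ] (x : ProjectiveSpectrum 𝒜) {i : ℕ} {m : M}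
    (hm : m ∈ ℳ i) {c : A} (hc : c ∉ x.asHomogeneousIdeal) (h : c • m = 0) :
    ∃ (l : ℕ) (c' : A), c' ∈ 𝒜 l ∧ c' ∉ x.asHomogeneousIdeal ∧ c' • m = 0 := by
  classical
  have hann := Groth.Agent.Lib.Helper79.GrAlpha.isHomogeneous_ann 𝒜 ℳ i m hm
  have hcmem : c ∈ LinearMap.ker (LinearMap.toSpanSingleton A M m) := by
    rw [LinearMap.mem_ker, LinearMap.toSpanSingleton_apply]; exact h
  by_contra hcon
  push Not at hcon
  apply hc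
  rw [← DirectSum.sum_support_decompose 𝒜 c]
  refine Ideal.sum_mem _ fun l _ => ?_
  by_contra hl
  have h1 := hann l hcmem
  rw [LinearMap.mem_ker, LinearMap.toSpanSingleton_apply] at h1
  exact hcon l _ (SetLike.coe_mem _) hl h1

theorem mul_notMem {x : ProjectiveSpectrum 𝒜} {a b : A} (ha : a ∉ x.asHomogeneousIdeal)
    (hb : b ∉ x.asHomogeneousIdeal) : a * b ∉ x.asHomogeneousIdeal := fun h =>
  (x.isPrime.mem_or_mem h).elim ha hb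

section map
variable {N τ' : Type u} [AddCommGroup N] [Module A N] [SetLike τ' N] [AddSubgroupClass τ' N] {𝒩 : ℕ → τ'}
  [SetLike.GradedSMul 𝒜 𝒩]
variable (u : M →ₗ[A] N) (hu : ∀ (i : ℕ) (m : M), m ∈ ℳ i → u m ∈ 𝒩 i)

include hu in
theorem map_decompose [DirectSum.Decomposition ℳ] [DirectSum.Decomposition 𝒩] (m : M) (k : ℕ) :
    u (DirectSum.decompose ℳ m k) = DirectSum.decompose 𝒩 (u m) k := by
  classical
  conv_rhs => rw [← DirectSum.sum_support_decompose ℳ m, map_sum, DirectSum.decompose_sum]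
  rw [DFinsupp.finsetSum_apply, AddSubmonoidClass.coe_finsetSum]
  by_cases hk : k ∈ (DirectSum.decompose ℳ m).support
  · rw [Finset.sum_eq_single_of_mem k hk]
    · rw [DirectSum.decompose_of_mem_same 𝒩 (hu k _ (SetLike.coe_mem _))]
    · intro l _ hlk
      rw [DirectSum.decompose_of_mem_ne 𝒩 (hu l _ (SetLike.coe_mem _)) hlk]
  · have hk' := hk
    rw [DFinsupp.notMem_support_iff] at hk'
    rw [hk', ZeroMemClass.coe_zero, map_zero]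
    symm
    refine Finset.sum_eq_zero fun l hl => ?_
    have hlk : l ≠ k := by rintro rfl; exact hk hl
    rw [DirectSum.decompose_of_mem_ne 𝒩 (hu l _ (SetLike.coe_mem _)) hlk]

theorem map_app_injective [DirectSum.Decomposition ℳ] [DirectSum.Decomposition 𝒩] (n₀ : ℕ)
    (hinj : ∀ k, n₀ ≤ k → ∀ m ∈ ℳ k, u m = 0 → m = 0) (n : ℤ) (V : (Proj 𝒜).Opens) :
    Function.Injective ((GrMod.map 𝒜 u hu n).app V) := by
  rw [injective_iff_map_eq_zero]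
  intro s hs
  refine sect_ext fun y => ?_
  rw [val_zero]
  obtain ⟨V', hV', hyV', i, j, m, f, hm, hf, hij, hfV, hval⟩ := exists_local_frac s y
  have h1 : GrMod.val s y = LocalizedModule.mk m ⟨f, hfV ⟨y.1, hyV'⟩⟩ := hval ⟨y.1, hyV'⟩
  have h2 : GrMod.locMap u y.1 (GrMod.val s y) = 0 := by
    have := GrMod.map_app_val (𝒜 := 𝒜) (ℳ := ℳ) (𝒩 := 𝒩) u hu n V s y
    rw [← this, hs]; rfl
  rw [h1] at h2 ⊢
  rw [GrMod.locMap_mk, mk_eq_zero_iff] at h2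
  obtain ⟨c, hc, hcm⟩ := h2
  obtain ⟨l, c', hc'l, hc'x, hc'm⟩ := exists_homogeneous_smul_eq_zero (ℳ := 𝒩) y.1 (hu i m hm) hc hcm
  obtain ⟨d, hd, g, hg, hgx⟩ := exists_pos_notMem y.1
  have h3 : u (g ^ n₀ • c' • m) = 0 := by rw [map_smul, map_smul, hc'm, smul_zero]
  have h4 : g ^ n₀ • c' • m ∈ ℳ (n₀ * d + (l + i)) :=
    pow_smul_mem hg n₀ (SetLike.GradedSMul.smul_mem hc'l hm)
  have h5 := hinj _ (by nlinarith) _ h4 h3
  rw [mk_eq_zero_iff]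
  exact ⟨g ^ n₀ * c', mul_notMem (pow_notMem hgx n₀) hc'x, by rw [mul_smul]; exact h5⟩

theorem map_locally_surjective (n₀ : ℕ)
    (hsurj : ∀ k, n₀ ≤ k → ∀ m' ∈ 𝒩 k, ∃ m ∈ ℳ k, u m = m') (n : ℤ) (V : (Proj 𝒜).Opens)
    (t : Γ(GrMod.tilde 𝒜 𝒩 n, V)) (y : V) :
    ∃ (V' : (Proj 𝒜).Opens) (hV' : V' ≤ V), y.1 ∈ V' ∧ ∃ s : Γ(GrMod.tilde 𝒜 ℳ n, V'),
      (GrMod.map 𝒜 u hu n).app V' s = (GrMod.tilde 𝒜 𝒩 n).presheaf.map (homOfLE hV').op t := by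
  obtain ⟨V₁, hV₁, hyV₁, i, j, m', f, hm', hf, hij, hfV, hval⟩ := exists_local_frac t y
  rcases hij with hij | hm0
  · obtain ⟨d, hd, g, hg, hgx⟩ := exists_pos_notMem y.1
    have h1 : g ^ n₀ • m' ∈ 𝒩 (n₀ * d + i) := pow_smul_mem hg n₀ hm'
    obtain ⟨m, hm, hum⟩ := hsurj _ (by nlinarith) _ h1
    have hgf : g ^ n₀ * f ∈ 𝒜 (n₀ * d + j) := by
      have h1 : g ^ n₀ ∈ 𝒜 (n₀ • d) := SetLike.pow_mem_graded n₀ hg
      exact SetLike.mul_mem_graded h1 hf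
    have hnin : ∀ z : (V₁ ⊓ Proj.basicOpen 𝒜 g : (Proj 𝒜).Opens), g ^ n₀ * f ∉ z.1.asHomogeneousIdeal :=
      fun z => mul_notMem (fun h => z.2.2 (z.1.isPrime.mem_of_pow_mem _ h)) (hfV ⟨z.1, z.2.1⟩)
    refine ⟨V₁ ⊓ Proj.basicOpen 𝒜 g, inf_le_left.trans hV₁, ⟨hyV₁, hgx⟩,
      fracSect n _ hm hgf (by push_cast; omega) hnin, ?_⟩
    refine sect_ext fun z => ?_
    have e1 := GrMod.map_app_val (𝒜 := 𝒜) (ℳ := ℳ) (𝒩 := 𝒩) u hu n _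
      (fracSect n _ hm hgf (by push_cast; omega) hnin) z
    rw [e1, val_fracSect, GrMod.locMap_mk, val_res, hum]
    have e2 := hval ⟨z.1, z.2.1⟩
    refine Eq.trans ?_ e2.symm
    exact LocalizedModule.mk_cancel_common_left
      (⟨g ^ n₀, fun h => z.2.2 (z.1.isPrime.mem_of_pow_mem _ h)⟩ :
        z.1.asHomogeneousIdeal.toIdeal.primeCompl) ⟨f, hfV ⟨z.1, z.2.1⟩⟩ m'
  · refine ⟨V₁, hV₁, hyV₁, 0, ?_⟩
    rw [map_zero]
    refine sect_ext fun z => ?_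
    rw [val_zero, val_res]
    have e2 := hval z
    rw [e2, hm0, LocalizedModule.zero_mk]

end map

section exact
variable {M₁ τ₁ : Type u} [AddCommGroup M₁] [Module A M₁] [SetLike τ₁ M₁] [AddSubgroupClass τ₁ M₁]
  {ℳ₁ : ℕ → τ₁} [SetLike.GradedSMul 𝒜 ℳ₁] [DirectSum.Decomposition ℳ₁]
  {M₂ τ₂ : Type u} [AddCommGroup M₂] [Module A M₂] [SetLike τ₂ M₂] [AddSubgroupClass τ₂ M₂]
  {ℳ₂ : ℕ → τ₂} [SetLike.GradedSMul 𝒜 ℳ₂] [DirectSum.Decomposition ℳ₂]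
  {M₃ τ₃ : Type u} [AddCommGroup M₃] [Module A M₃] [SetLike τ₃ M₃] [AddSubgroupClass τ₃ M₃]
  {ℳ₃ : ℕ → τ₃} [SetLike.GradedSMul 𝒜 ℳ₃] [DirectSum.Decomposition ℳ₃]
  (u : M₁ →ₗ[A] M₂) (hu : ∀ (i : ℕ) (m : M₁), m ∈ ℳ₁ i → u m ∈ ℳ₂ i)
  (v : M₂ →ₗ[A] M₃) (hv : ∀ (i : ℕ) (m : M₂), m ∈ ℳ₂ i → v m ∈ ℳ₃ i)

theorem map_locally_exact (hex : Function.Exact u v) (n : ℤ) (V : (Proj 𝒜).Opens)
    (s : Γ(GrMod.tilde 𝒜 ℳ₂ n, V)) (hs : (GrMod.map 𝒜 v hv n).app V s = 0) (y : V) :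
    ∃ (V' : (Proj 𝒜).Opens) (hV' : V' ≤ V), y.1 ∈ V' ∧ ∃ t : Γ(GrMod.tilde 𝒜 ℳ₁ n, V'),
      (GrMod.map 𝒜 u hu n).app V' t = (GrMod.tilde 𝒜 ℳ₂ n).presheaf.map (homOfLE hV').op s := by
  obtain ⟨V₁, hV₁, hyV₁, i, j, m, f, hm, hf, hij, hfV, hval⟩ := exists_local_frac s y
  rcases hij with hij | hm0
  · have h1 : GrMod.val s y = LocalizedModule.mk m ⟨f, hfV ⟨y.1, hyV₁⟩⟩ := hval ⟨y.1, hyV₁⟩
    have h2 : GrMod.locMap v y.1 (GrMod.val s y) = 0 := by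
      have := GrMod.map_app_val (𝒜 := 𝒜) (ℳ := ℳ₂) (𝒩 := ℳ₃) v hv n V s y
      rw [← this, hs]; rfl
    rw [h1, GrMod.locMap_mk, mk_eq_zero_iff] at h2
    obtain ⟨c₀, hc₀, hc₀m⟩ := h2
    obtain ⟨l, c, hcl, hcx, hcm⟩ := exists_homogeneous_smul_eq_zero (ℳ := ℳ₃) y.1 (hv i m hm) hc₀ hc₀m
    have h3 : v (c • m) = 0 := by rw [map_smul, hcm]
    obtain ⟨m₁, hm₁⟩ := (hex (c • m)).mp h3
    have hcm_mem : c • m ∈ ℳ₂ (l + i) := SetLike.GradedSMul.smul_mem hcl hm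
    have h4 : u (DirectSum.decompose ℳ₁ m₁ (l + i)) = c • m := by
      rw [map_decompose (ℳ := ℳ₁) (𝒩 := ℳ₂) u hu, hm₁, DirectSum.decompose_of_mem_same ℳ₂ hcm_mem]
    have hcf : c * f ∈ 𝒜 (l + j) := SetLike.mul_mem_graded hcl hf
    have hnin : ∀ z : (V₁ ⊓ Proj.basicOpen 𝒜 c : (Proj 𝒜).Opens), c * f ∉ z.1.asHomogeneousIdeal :=
      fun z => mul_notMem z.2.2 (hfV ⟨z.1, z.2.1⟩)
    refine ⟨V₁ ⊓ Proj.basicOpen 𝒜 c, inf_le_left.trans hV₁, ⟨hyV₁, hcx⟩,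
      fracSect n _ (SetLike.coe_mem (DirectSum.decompose ℳ₁ m₁ (l + i))) hcf (by push_cast; omega) hnin, ?_⟩
    refine sect_ext fun z => ?_
    have e1 := GrMod.map_app_val (𝒜 := 𝒜) (ℳ := ℳ₁) (𝒩 := ℳ₂) u hu n _
      (fracSect n _ (SetLike.coe_mem (DirectSum.decompose ℳ₁ m₁ (l + i))) hcf (by push_cast; omega) hnin) z
    rw [e1, val_fracSect, GrMod.locMap_mk, val_res, h4]
    have e2 := hval ⟨z.1, z.2.1⟩
    refine Eq.trans ?_ e2.symm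
    exact LocalizedModule.mk_cancel_common_left
      (⟨c, z.2.2⟩ : z.1.asHomogeneousIdeal.toIdeal.primeCompl) ⟨f, hfV ⟨z.1, z.2.1⟩⟩ m
  · refine ⟨V₁, hV₁, hyV₁, 0, ?_⟩
    rw [map_zero]
    refine sect_ext fun z => ?_
    rw [val_zero, val_res]
    have e2 := hval z
    rw [e2, hm0, LocalizedModule.zero_mk]

end exact

end ring

end Groth.Agent.Lib.Helper42.RelTilde
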