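import Mathlib

/-!
# Local criteria for morphisms of `O_X`-modules (mono / epi / exact from sections on small opens)
-/

set_option autoImplicit false
universe u
open CategoryTheory CategoryTheory.Limits AlgebraicGeometry Opposite TopologicalSpace
noncomputable section

namespace Groth.Agent.Lib.Helper42.ModLocal

variable {X : Scheme.{u}}

/-- sections of a module are determined locally -/
theorem section_ext (F : X.Modules) {W : X.Opens} {s t : Γ(F, W)}
    (h : ∀ x ∈ W, ∃ V : X.Opens, ∃ hV : V ≤ W, x ∈ V ∧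
      F.presheaf.map (homOfLE hV).op s = F.presheaf.map (homOfLE hV).op t) : s = t :=
  TopCat.Presheaf.IsSheaf.section_ext F.isSheaf (U := op W) h

theorem app_res {F G : X.Modules} (φ : F ⟶ G) {V W : X.Opens} (h : V ≤ W) (s : Γ(F, W)) :
    φ.app V (F.presheaf.map (homOfLE h).op s) = G.presheaf.map (homOfLE h).op (φ.app W s) := by
  have := φ.mapPresheaf.naturality (homOfLE h).op
  exact congr($this s)

theorem mono_of_injective_app {F G : X.Modules} (φ : F ⟶ G)
    (h : ∀ W : X.Opens, Function.Injective (φ.app W)) : Mono φ := by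
  refine ⟨fun {K} ψ₁ ψ₂ e => Scheme.Modules.hom_ext _ _ fun W => ?_⟩
  have : Mono (φ.app W) := (AddCommGrpCat.mono_iff_injective _).mpr (h W)
  rw [← cancel_mono (φ.app W), ← Scheme.Modules.Hom.comp_app, e, Scheme.Modules.Hom.comp_app]

theorem app_injective_of_mono {F G : X.Modules} (φ : F ⟶ G) [Mono φ] (W : X.Opens) :
    Function.Injective (φ.app W) := by
  have h1 : Mono ((Scheme.Modules.toPresheaf X).map φ) := inferInstance
  have h2 : Mono (((Scheme.Modules.toPresheaf X).map φ).app (op W)) := inferInstance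
  exact (AddCommGrpCat.mono_iff_injective _).mp h2

/-- injectivity on small opens around every point implies injectivity everywhere -/
theorem injective_app_of_basis {F G : X.Modules} (φ : F ⟶ G)
    (h : ∀ x : X, ∃ V : X.Opens, x ∈ V ∧ ∀ W : X.Opens, W ≤ V → Function.Injective (φ.app W))
    (W : X.Opens) : Function.Injective (φ.app W) := by
  intro s t e
  refine section_ext F fun x hx => ?_
  obtain ⟨V, hxV, hV⟩ := h x
  refine ⟨W ⊓ V, inf_le_left, ⟨hx, hxV⟩, hV (W ⊓ V) inf_le_right ?_⟩
  rw [app_res, app_res, e]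

theorem mono_of_basis {F G : X.Modules} (φ : F ⟶ G)
    (h : ∀ x : X, ∃ V : X.Opens, x ∈ V ∧ ∀ W : X.Opens, W ≤ V → Function.Injective (φ.app W)) :
    Mono φ :=
  mono_of_injective_app φ (injective_app_of_basis φ h)

/-- a locally surjective morphism of modules is an epimorphism -/
theorem epi_of_locally_surjective {F G : X.Modules} (φ : F ⟶ G)
    (h : ∀ (W : X.Opens) (t : Γ(G, W)) (x : X), x ∈ W → ∃ (V : X.Opens) (hV : V ≤ W), x ∈ V ∧
      ∃ s : Γ(F, V), φ.app V s = G.presheaf.map (homOfLE hV).op t) : Epi φ := by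
  refine ⟨fun {K} ψ₁ ψ₂ e => Scheme.Modules.hom_ext _ _ fun W => ?_⟩
  ext t
  refine section_ext K fun x hx => ?_
  obtain ⟨V, hV, hxV, s, hs⟩ := h W t x hx
  refine ⟨V, hV, hxV, ?_⟩
  rw [← app_res, ← app_res, ← hs]
  have := congrArg (fun ψ => (Scheme.Modules.Hom.app ψ V) s) e
  simpa using this

/-- a complex of modules that is locally exact on sections is exact -/
theorem exact_of_locally {F₁ F₂ F₃ : X.Modules} (f : F₁ ⟶ F₂) (g : F₂ ⟶ F₃) (w : f ≫ g = 0)
    (h : ∀ (W : X.Opens) (s : Γ(F₂, W)), g.app W s = 0 → ∀ x ∈ W, ∃ (V : X.Opens) (hV : V ≤ W), x ∈ V ∧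
      ∃ t : Γ(F₁, V), f.app V t = F₂.presheaf.map (homOfLE hV).op s) :
    (ShortComplex.mk f g w).Exact := by
  rw [ShortComplex.exact_iff_epi_kernel_lift]
  apply epi_of_locally_surjective
  intro W t x hx
  have h0 : g.app W ((kernel.ι g).app W t) = 0 := by
    exact congrArg (fun ψ => (Scheme.Modules.Hom.app ψ W) t) (kernel.condition g)
  obtain ⟨V, hV, hxV, t', ht'⟩ := h W _ h0 x hx
  refine ⟨V, hV, hxV, t', ?_⟩
  apply app_injective_of_mono (kernel.ι g) V
  rw [app_res, ← ht']
  exact congrArg (fun ψ => (Scheme.Modules.Hom.app ψ V) t') (kernel.lift_ι g f w)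

end Groth.Agent.Lib.Helper42.ModLocal
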