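import Groth.Prelude.Def_RelProj3
import Mathlib

/-!
# Basics for `GrMod.tilde` (gradings by additive subgroups) and `RelProj.IsRelTilde`

* `exists_pos_notMem`: a point of `Proj` misses some homogeneous element of positive degree
* `locMod_eq_zero_of_TN`: the localized module at a point of `Proj` vanishes for a (TN) graded module
* `sect_ext`: sections of `GrMod.tilde` are determined by their values
* `section_ext`, `subsingleton_sections_of_basis`, `isZero_of_subsingleton_sections`: sheaf-level helpers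
* `exists_affine_mem`: the opens `p⁻¹ U`, `U` affine, cover `P`
-/

set_option autoImplicit false
universe u
open CategoryTheory CategoryTheory.Limits AlgebraicGeometry Opposite TopologicalSpace
open scoped HomogeneousIdeal
noncomputable section

namespace Groth.Agent.Lib.Helper42.RelTilde

section ring
variable {A σ : Type u} [CommRing A] [SetLike σ A] [AddSubgroupClass σ A] {𝒜 : ℕ → σ} [GradedRing 𝒜]
variable {M τ : Type u} [AddCommGroup M] [Module A M] [SetLike τ M] [AddSubgroupClass τ M] {ℳ : ℕ → τ}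
  [SetLike.GradedSMul 𝒜 ℳ]

theorem exists_pos_notMem (x : ProjectiveSpectrum 𝒜) :
    ∃ (d : ℕ) (_ : 0 < d) (f : A), f ∈ 𝒜 d ∧ f ∉ x.asHomogeneousIdeal := by
  by_contra hcon
  push Not at hcon
  apply x.not_irrelevant_le
  rw [HomogeneousIdeal.irrelevant_le]
  intro i hi b hb
  exact hcon i hi b hb

omit [AddSubgroupClass τ M] in
theorem pow_smul_mem {d : ℕ} {f : A} (hf : f ∈ 𝒜 d) (k : ℕ) {i : ℕ} {m : M} (hm : m ∈ ℳ i) :
    f ^ k • m ∈ ℳ (k * d + i) := by
  have h1 : f ^ k ∈ 𝒜 (k • d) := SetLike.pow_mem_graded k hf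
  exact SetLike.GradedSMul.smul_mem h1 hm

theorem pow_notMem {x : ProjectiveSpectrum 𝒜} {f : A} (hfx : f ∉ x.asHomogeneousIdeal) (k : ℕ) :
    f ^ k ∈ x.asHomogeneousIdeal.toIdeal.primeCompl := by
  intro h
  exact hfx (x.isPrime.mem_of_pow_mem _ h)

theorem locMod_eq_zero_of_TN [DirectSum.Decomposition ℳ] (n₀ : ℕ) (hTN : ∀ k, n₀ ≤ k → ∀ m ∈ ℳ k, m = 0)
    (x : ProjectiveSpectrum 𝒜) (q : GrMod.LocMod 𝒜 (M := M) x) : q = 0 := by
  classical
  induction q using LocalizedModule.induction_on with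
  | h m s =>
    obtain ⟨d, hd, f, hf, hfx⟩ := exists_pos_notMem x
    have hk : f ^ n₀ • m = 0 := by
      rw [← DirectSum.sum_support_decompose ℳ m, Finset.smul_sum]
      refine Finset.sum_eq_zero fun i _ => ?_
      refine hTN (n₀ * d + i) ?_ _ (pow_smul_mem hf n₀ (SetLike.coe_mem _))
      nlinarith
    rw [← LocalizedModule.zero_mk s, LocalizedModule.mk_eq]
    refine ⟨⟨f ^ n₀, pow_notMem hfx n₀⟩, ?_⟩
    simp only [Submonoid.smul_def, smul_zero]
    rw [smul_comm, hk, smul_zero]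

/-- two sections of `M(n)~` with the same values are equal -/
theorem sect_ext {n : ℤ} {V : (Proj 𝒜).Opens} {s t : Γ(GrMod.tilde 𝒜 ℳ n, V)}
    (h : ∀ y : V, GrMod.val s y = GrMod.val t y) : s = t := by
  change (s : GrMod.sect 𝒜 ℳ n (op V)) = (t : GrMod.sect 𝒜 ℳ n (op V))
  exact Subtype.ext (funext fun y => Subtype.ext (h y))

theorem subsingleton_sections_of_TN [DirectSum.Decomposition ℳ] (n₀ : ℕ)
    (hTN : ∀ k, n₀ ≤ k → ∀ m ∈ ℳ k, m = 0) (n : ℤ) (V : (Proj 𝒜).Opens) :
    Subsingleton Γ(GrMod.tilde 𝒜 ℳ n, V) :=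
  ⟨fun s t => sect_ext fun y => by
    rw [locMod_eq_zero_of_TN n₀ hTN y.1 (GrMod.val s y), locMod_eq_zero_of_TN n₀ hTN y.1 (GrMod.val t y)]⟩

end ring

section general
variable {X : Scheme.{u}}

/-- sections of a module are determined locally -/
theorem section_ext (F : X.Modules) {W : X.Opens} {s t : Γ(F, W)}
    (h : ∀ x ∈ W, ∃ V : X.Opens, ∃ hV : V ≤ W, x ∈ V ∧
      F.presheaf.map (homOfLE hV).op s = F.presheaf.map (homOfLE hV).op t) : s = t :=
  TopCat.Presheaf.IsSheaf.section_ext F.isSheaf (U := op W) h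

theorem subsingleton_sections_of_basis (F : X.Modules)
    (h : ∀ x : X, ∃ V : X.Opens, x ∈ V ∧ ∀ W : X.Opens, W ≤ V → Subsingleton Γ(F, W)) (W : X.Opens) :
    Subsingleton Γ(F, W) := by
  refine ⟨fun s t => section_ext F fun x hx => ?_⟩
  obtain ⟨V, hxV, hV⟩ := h x
  refine ⟨W ⊓ V, inf_le_left, ⟨hx, hxV⟩, ?_⟩
  have := hV (W ⊓ V) inf_le_right
  exact Subsingleton.elim _ _

theorem isZero_of_subsingleton_sections (F : X.Modules) (h : ∀ W : X.Opens, Subsingleton Γ(F, W)) :
    IsZero F := by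
  rw [IsZero.iff_id_eq_zero]
  refine Scheme.Modules.hom_ext _ _ fun W => ?_
  ext s
  have := h W
  exact Subsingleton.elim _ _

end general

section rel
variable {Y P : Scheme.{u}} (p : P ⟶ Y)

theorem exists_affine_mem (x : P) : ∃ (U : Y.Opens) (_ : IsAffineOpen U), x ∈ p ⁻¹ᵁ U := by
  obtain ⟨_, ⟨U, hU, rfl⟩, hxU, -⟩ := Y.isBasis_affineOpens.exists_subset_of_mem_open
    (Set.mem_univ (p.base x)) isOpen_univ
  exact ⟨U, hU, hxU⟩

end rel

end Groth.Agent.Lib.Helper42.RelTilde
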