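import Groth.Agent.Lib.Helper42.GrSectA
import Groth.Agent.Lib.Helper42.GrModSect
import Groth.Agent.Lib.Helper42.ModLocal
import Groth.Agent.Lib.Helper42.RelTildeBase

/-!
# `GrMod.comap` along a bijective semilinear map is an isomorphism (helper42)
-/

set_option autoImplicit false
universe u
open CategoryTheory CategoryTheory.Limits AlgebraicGeometry TopologicalSpace Opposite
open scoped HomogeneousIdeal
noncomputable section

namespace Groth.Agent.Lib.Helper42.GrComapIso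

open Groth.Agent.Lib.Helper42.RelTilde Groth.Agent.Lib.Helper42.GrSectA Groth.Agent.Lib.Helper42

section basic
variable {A σ : Type u} [CommRing A] [SetLike σ A] [AddSubgroupClass σ A] (𝒜 : ℕ → σ) [GradedRing 𝒜]

/-- basic opens of positive degree form a basis of `Proj` -/
theorem exists_pos_basicOpen_le (W : Opens (ProjectiveSpectrum.top 𝒜)) (x : ProjectiveSpectrum 𝒜) (hx : x ∈ W) :
    ∃ (d : ℕ) (_ : 0 < d) (g : A), g ∈ 𝒜 d ∧ g ∉ x.asHomogeneousIdeal ∧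
      ∀ y : ProjectiveSpectrum 𝒜, g ∉ y.asHomogeneousIdeal → y ∈ W := by
  classical
  obtain ⟨_, ⟨a, rfl⟩, hxa, haV⟩ :=
    (ProjectiveSpectrum.isTopologicalBasis_basic_opens 𝒜).exists_subset_of_mem_open hx W.2
  have hxa' : x ∈ ProjectiveSpectrum.basicOpen 𝒜 a := hxa
  rw [ProjectiveSpectrum.basicOpen_eq_union_of_projection 𝒜 a] at hxa'
  obtain ⟨k, hk⟩ := (Opens.mem_iSup (x := x)).mp hxa'
  set b : A := GradedRing.proj 𝒜 k a with hb
  have hbmem : b ∈ 𝒜 k := by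
    rw [hb, GradedRing.proj_apply]; exact SetLike.coe_mem _
  have hbx : b ∉ x.asHomogeneousIdeal := (ProjectiveSpectrum.mem_basicOpen 𝒜 b x).mp hk
  have hba : ProjectiveSpectrum.basicOpen 𝒜 b ≤ ProjectiveSpectrum.basicOpen 𝒜 a := by
    conv_rhs => rw [ProjectiveSpectrum.basicOpen_eq_union_of_projection 𝒜 a]
    exact le_iSup (fun i => ProjectiveSpectrum.basicOpen 𝒜 (GradedRing.proj 𝒜 i a)) k
  obtain ⟨e', he', g, hg, hgx⟩ := exists_pos_notMem (𝒜 := 𝒜) x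
  refine ⟨k + e', by omega, b * g, SetLike.mul_mem_graded hbmem hg,
    fun hmem => (x.isPrime.mem_or_mem hmem).elim hbx hgx, fun y hy => ?_⟩
  apply haV
  apply hba
  rw [ProjectiveSpectrum.mem_basicOpen]
  exact fun hmem => hy (Ideal.mul_mem_right _ _ hmem)

end basic

variable {A σ : Type u} [CommRing A] [SetLike σ A] [AddSubgroupClass σ A] {𝒜 : ℕ → σ}
  [GradedRing 𝒜] {B σ' : Type u} [CommRing B] [SetLike σ' B] [AddSubgroupClass σ' B] {ℬ : ℕ → σ'} [GradedRing ℬ]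
  (ψ : 𝒜 →+*ᵍ ℬ) (hψ : ℬ₊ ≤ (𝒜₊).map ψ)
  {M τ : Type u} [AddCommGroup M] [Module A M] [SetLike τ M] [AddSubgroupClass τ M] (ℳ : ℕ → τ)
  [SetLike.GradedSMul 𝒜 ℳ] [DirectSum.Decomposition ℳ]
  {N τ' : Type u} [AddCommGroup N] [Module B N] [SetLike τ' N] [AddSubgroupClass τ' N] (𝒩 : ℕ → τ')
  [SetLike.GradedSMul ℬ 𝒩] [DirectSum.Decomposition 𝒩]
  (v : M →ₛₗ[ψ.toRingHom] N) (hv : ∀ (i : ℕ) (m : M), m ∈ ℳ i → v m ∈ 𝒩 i)

include hv in
omit [SetLike.GradedSMul 𝒜 ℳ] [SetLike.GradedSMul ℬ 𝒩] in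
theorem map_decompose (m : M) (k : ℕ) :
    v (DirectSum.decompose ℳ m k) = DirectSum.decompose 𝒩 (v m) k := by
  classical
  conv_rhs => rw [← DirectSum.sum_support_decompose ℳ m, map_sum, DirectSum.decompose_sum]
  rw [DFinsupp.finsetSum_apply, AddSubmonoidClass.coe_finsetSum]
  by_cases hk : k ∈ (DirectSum.decompose ℳ m).support
  · rw [Finset.sum_eq_single_of_mem k hk]
    · rw [DirectSum.decompose_of_mem_same 𝒩 (hv k _ (SetLike.coe_mem _))]
    · intro l _ hlk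
      rw [DirectSum.decompose_of_mem_ne 𝒩 (hv l _ (SetLike.coe_mem _)) hlk]
  · have hk' := hk
    rw [DFinsupp.notMem_support_iff] at hk'
    rw [hk', ZeroMemClass.coe_zero, map_zero]
    symm
    refine Finset.sum_eq_zero fun l hl => ?_
    have hlk : l ≠ k := by rintro rfl; exact hk hl
    rw [DirectSum.decompose_of_mem_ne 𝒩 (hv l _ (SetLike.coe_mem _)) hlk]

include hv in
omit [SetLike.GradedSMul 𝒜 ℳ] [SetLike.GradedSMul ℬ 𝒩] in
theorem mem_of_map_mem (hinj : Function.Injective v) {i : ℕ} {m : M} (h : v m ∈ 𝒩 i) : m ∈ ℳ i := by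
  classical
  have h1 : ∀ k, k ≠ i → (DirectSum.decompose ℳ m k : M) = 0 := by
    intro k hk
    apply hinj
    rw [map_decompose ψ ℳ 𝒩 v hv, DirectSum.decompose_of_mem_ne 𝒩 h (Ne.symm hk), map_zero]
  have h2 : m = (DirectSum.decompose ℳ m i : M) := by
    conv_lhs => rw [← DirectSum.sum_support_decompose ℳ m]
    by_cases hi : i ∈ (DirectSum.decompose ℳ m).support
    · rw [Finset.sum_eq_single_of_mem i hi]
      intro l _ hl
      exact h1 l hl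
    · rw [DFinsupp.notMem_support_iff] at hi
      rw [hi, ZeroMemClass.coe_zero]
      refine Finset.sum_eq_zero fun l hl => h1 l ?_
      rintro rfl
      exact (DFinsupp.mem_support_iff.mp hl) hi
  rw [h2]
  exact SetLike.coe_mem _

theorem comap_app_injective (hinj : Function.Injective v) (n : ℤ) (W : (Proj 𝒜).Opens) :
    Function.Injective ((GrMod.comap ψ hψ v hv n).app W) := by
  rw [injective_iff_map_eq_zero]
  intro s hs
  refine sect_ext fun x => ?_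
  rw [val_zero]
  obtain ⟨d, hd, g, hg, hgx, hgW⟩ := exists_pos_basicOpen_le 𝒜 W x.1 x.2
  have hle : Proj.basicOpen 𝒜 g ≤ W := fun y hy => hgW y ((ProjectiveSpectrum.mem_basicOpen 𝒜 g y).mp hy)
  obtain ⟨k, i, m, hm, hi, hrep⟩ := exists_frac 𝒜 ℳ n hd hg
    ((GrMod.tilde 𝒜 ℳ n).presheaf.map (homOfLE hle).op s)
  -- the image vanishes on `D₊(ψ g)`
  have hz : ∀ y : ProjectiveSpectrum.basicOpen ℬ (ψ g),
      (LocalizedModule.mk (v m) ⟨(ψ g) ^ k, fun h => (ProjectiveSpectrum.mem_basicOpen ℬ (ψ g) y.1).mp y.2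
        (y.1.isPrime.mem_of_pow_mem k h)⟩ : GrMod.LocMod ℬ (M := N) y.1) = 0 := by
    intro y
    have hgy : g ∉ (ProjectiveSpectrum.comap ψ hψ y.1).asHomogeneousIdeal :=
      (ProjectiveSpectrum.mem_basicOpen ℬ (ψ g) y.1).mp y.2
    have hyW : y.1 ∈ (Proj.map ψ hψ ⁻¹ᵁ W : (Proj ℬ).Opens) := hgW _ hgy
    have h1 := GrMod.comap_app_val ψ hψ v hv n W s ⟨y.1, hyW⟩
    rw [hs] at h1
    have h2 : GrMod.val s ⟨ProjectiveSpectrum.comap ψ hψ y.1, hyW⟩ =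
        frac 𝒜 _ m (g ^ k) (fun hmem => hgy ((ProjectiveSpectrum.comap ψ hψ y.1).isPrime.mem_of_pow_mem k hmem)) :=
      hrep (ProjectiveSpectrum.comap ψ hψ y.1) hgy
    rw [h2, frac, GrMod.locModMap_mk] at h1
    refine Eq.trans ?_ (h1.symm.trans rfl)
    congr 1
    exact Subtype.ext (map_pow ψ g k).symm
  obtain ⟨N', hN'⟩ := pow_smul_eq_zero_of_forall ℬ 𝒩 hd (ψ.map_mem hg) k i ⟨v m, hv i m hm⟩ hz
  have h3 : g ^ N' • m = 0 := by
    apply hinj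
    rw [LinearMap.map_smulₛₗ, map_zero, map_pow]
    exact hN'
  have h4 := hrep x.1 hgx
  change GrMod.val s x = _ at h4
  rw [h4, frac, mk_eq_zero_iff]
  exact ⟨g ^ N', fun hmem => hgx (x.1.isPrime.mem_of_pow_mem N' hmem), h3⟩

theorem comap_locally_surjective (hbij : Function.Bijective v) (n : ℤ) (W : (Proj 𝒜).Opens)
    (t : Γ((Scheme.Modules.pushforward (Proj.map ψ hψ)).obj (GrMod.tilde ℬ 𝒩 n), W)) (x : Proj 𝒜) (hx : x ∈ W) :
    ∃ (V : (Proj 𝒜).Opens) (hV : V ≤ W), x ∈ V ∧ ∃ s : Γ(GrMod.tilde 𝒜 ℳ n, V),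
      (GrMod.comap ψ hψ v hv n).app V s =
        ((Scheme.Modules.pushforward (Proj.map ψ hψ)).obj (GrMod.tilde ℬ 𝒩 n)).presheaf.map (homOfLE hV).op t := by
  obtain ⟨d, hd, g, hg, hgx, hgW⟩ := exists_pos_basicOpen_le 𝒜 W x hx
  have hle : Proj.basicOpen 𝒜 g ≤ W := fun y hy => hgW y ((ProjectiveSpectrum.mem_basicOpen 𝒜 g y).mp hy)
  have hle' : (Proj.basicOpen ℬ (ψ g) : (Proj ℬ).Opens) ≤ Proj.map ψ hψ ⁻¹ᵁ W := fun y hy =>
    hgW _ ((ProjectiveSpectrum.mem_basicOpen ℬ (ψ g) y).mp hy)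
  let t' : Γ(GrMod.tilde ℬ 𝒩 n, Proj.map ψ hψ ⁻¹ᵁ W) := t
  obtain ⟨k, i, n', hn', hi, hrep⟩ := exists_frac ℬ 𝒩 n hd (ψ.map_mem hg)
    ((GrMod.tilde ℬ 𝒩 n).presheaf.map (homOfLE hle').op t')
  obtain ⟨m, rfl⟩ := hbij.surjective n'
  have hm : m ∈ ℳ i := mem_of_map_mem ψ ℳ 𝒩 v hv hbij.injective hn'
  have hgk : g ^ k ∈ 𝒜 (k * d) := by
    have := SetLike.pow_mem_graded k hg
    rwa [smul_eq_mul] at this
  have hfV : ∀ z : (Proj.basicOpen 𝒜 g : (Proj 𝒜).Opens), g ^ k ∉ z.1.asHomogeneousIdeal := fun z hmem =>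
    (ProjectiveSpectrum.mem_basicOpen 𝒜 g z.1).mp z.2 (z.1.isPrime.mem_of_pow_mem k hmem)
  refine ⟨Proj.basicOpen 𝒜 g, hle, (ProjectiveSpectrum.mem_basicOpen 𝒜 g x).mpr hgx,
    fracSect n (Proj.basicOpen 𝒜 g) hm hgk (by push_cast; exact hi) hfV, ?_⟩
  refine sect_ext (𝒜 := ℬ) (ℳ := 𝒩) (V := Proj.map ψ hψ ⁻¹ᵁ Proj.basicOpen 𝒜 g) fun y => ?_
  have hgy : ψ g ∉ y.1.asHomogeneousIdeal := (ProjectiveSpectrum.mem_basicOpen 𝒜 g _).mp y.2
  refine (GrMod.comap_app_val ψ hψ v hv n _ _ y).trans ?_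
  rw [val_fracSect, GrMod.locModMap_mk]
  refine Eq.trans ?_ (hrep y.1 hgy).symm
  rw [frac]
  congr 1
  exact Subtype.ext (map_pow ψ g k)

theorem isIso_comap (hbij : Function.Bijective v) (n : ℤ) : IsIso (GrMod.comap ψ hψ v hv n) := by
  have h1 : Mono (GrMod.comap ψ hψ v hv n) :=
    ModLocal.mono_of_injective_app _ (comap_app_injective ψ hψ ℳ 𝒩 v hv hbij.injective n)
  have h2 : Epi (GrMod.comap ψ hψ v hv n) :=
    ModLocal.epi_of_locally_surjective _ fun W t x hx =>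
      comap_locally_surjective ψ hψ ℳ 𝒩 v hv hbij n W t x hx
  exact isIso_of_mono_of_epi _

end Groth.Agent.Lib.Helper42.GrComapIso

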