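import Groth.Agent.Lib.Helper42.GrQCohA
import Groth.Agent.Lib.Helper42.GrModSect
import Groth.Agent.Lib.Helper49.PushforwardFinite

/-!
# `M~` is of finite type under (TF), gradings by additive subgroups (port by helper42 of helper17's `GrFinite`)

For a graded ring `A` with finitely generated irrelevant ideal and a graded module `M` whose tail
generates a finitely generated submodule, the sections of `M~` over `D₊(f)` form a finite module
over `Γ(Proj, D₊(f))`.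
-/

set_option autoImplicit false
set_option linter.unusedSectionVars false
universe u
open CategoryTheory AlgebraicGeometry TopologicalSpace Opposite HomogeneousLocalization

namespace Groth.Agent.Lib.Helper42.GrFiniteA

open Groth.Agent.Lib.Helper42.GrSectA Groth.Agent.Lib.Helper42.GrQCohA Groth.Agent.Lib.Helper17

section aux
variable {A σ : Type u} [CommRing A] [SetLike σ A] [AddSubgroupClass σ A] (𝒜 : ℕ → σ) [GradedRing 𝒜]
  {M τ : Type u} [AddCommGroup M] [Module A M] [SetLike τ M] [AddSubgroupClass τ M]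
  (ℳ : ℕ → τ) [DirectSum.Decomposition ℳ] [SetLike.GradedSMul 𝒜 ℳ]

/-- The degree `j + e` component of `a • m`, for `m` homogeneous of degree `e` (port of S3562's lemma). -/
theorem decompose_smul_of_mem (a : A) {e : ℕ} {m : M} (hm : m ∈ ℳ e) (j : ℕ) :
    ((DirectSum.decompose ℳ (a • m)) (j + e) : M) =
      ((DirectSum.decompose 𝒜 a j : 𝒜 j) : A) • m := by
  classical
  have hsum : a • m = ∑ l ∈ (DirectSum.decompose 𝒜 a).support,
      ((DirectSum.decompose 𝒜 a l : 𝒜 l) : A) • m := by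
    conv_lhs => rw [← DirectSum.sum_support_decompose 𝒜 a, Finset.sum_smul]
  have hmem : ∀ l, ((DirectSum.decompose 𝒜 a l : 𝒜 l) : A) • m ∈ ℳ (l + e) :=
    fun l => SetLike.GradedSMul.smul_mem (A := 𝒜) (B := ℳ) (i := l) (j := e)
      (SetLike.coe_mem (DirectSum.decompose 𝒜 a l)) hm
  rw [hsum, DirectSum.decompose_sum, DFinsupp.finsetSum_apply, AddSubmonoidClass.coe_finsetSum]
  by_cases hj : j ∈ (DirectSum.decompose 𝒜 a).support
  · rw [Finset.sum_eq_single j]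
    · exact DirectSum.decompose_of_mem_same ℳ (hmem j)
    · intro l _ hl
      exact DirectSum.decompose_of_mem_ne ℳ (hmem l) (by omega)
    · intro h; exact (h hj).elim
  · rw [Finset.sum_eq_zero]
    · have : ((DirectSum.decompose 𝒜 a j : 𝒜 j) : A) = 0 := by
        simpa using hj
      rw [this, zero_smul]
    · intro l hl
      have : l ≠ j := fun h => hj (h ▸ hl)
      exact DirectSum.decompose_of_mem_ne ℳ (hmem l) (by omega)

end aux

section sig
variable {A σ : Type u} [CommRing A] [SetLike σ A] [AddSubgroupClass σ A] (𝒜 : ℕ → σ) [GradedRing 𝒜]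
  {M τ : Type u} [AddCommGroup M] [Module A M] [SetLike τ M] [AddSubgroupClass τ M]
  (ℳ : ℕ → τ) [DirectSum.Decomposition ℳ] [SetLike.GradedSMul 𝒜 ℳ]
  {f : A} {d : ℕ} (hf : f ∈ 𝒜 d)

theorem pow_not_mem (y : Proj.basicOpen 𝒜 f) (k : ℕ) :
    f ^ k ∉ y.1.asHomogeneousIdeal :=
  fun hmem => (Proj.mem_basicOpen 𝒜 f y.1).mp y.2 (y.1.isPrime.mem_of_pow_mem _ hmem)

open Classical in
/-- The section `m / f ^ k` of `M~` over `D₊(f)` (zero if `m` is not homogeneous of degree `k d`). -/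
noncomputable def sig (k : ℕ) (m : M) : Γ(GrMod.tilde 𝒜 ℳ 0, Proj.basicOpen 𝒜 f) :=
  if h : m ∈ ℳ (k • d) then
    ofSect 𝒜 ℳ 0 (fracSect 𝒜 ℳ 0 (Proj.basicOpen 𝒜 f) (SetLike.pow_mem_graded k hf) h
      (by simp) (fun y => pow_not_mem 𝒜 y k))
  else 0

theorem val_sig (k : ℕ) {m : M} (h : m ∈ ℳ (k • d)) (y : Proj.basicOpen 𝒜 f) :
    (((toSect 𝒜 ℳ 0 (sig 𝒜 ℳ hf k m)).1 y : GrMod.tildeAt 𝒜 ℳ 0 y.1) :
      GrMod.LocMod 𝒜 (M := M) y.1) = frac 𝒜 y.1 m (f ^ k) (pow_not_mem 𝒜 y k) := by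
  have : sig 𝒜 ℳ hf k m = ofSect 𝒜 ℳ 0 (fracSect 𝒜 ℳ 0 (Proj.basicOpen 𝒜 f)
      (SetLike.pow_mem_graded k hf) h (by simp) (fun y => pow_not_mem 𝒜 y k)) := dif_pos h
  rw [this]
  rfl

/-- Every section over `D₊(f)` is some `m / f ^ k`. -/
theorem exists_sig (hd : 0 < d) (s : Γ(GrMod.tilde 𝒜 ℳ 0, Proj.basicOpen 𝒜 f)) :
    ∃ (k : ℕ) (m : M), m ∈ ℳ (k • d) ∧ s = sig 𝒜 ℳ hf k m := by
  obtain ⟨k, i, m, hm, hi, hval⟩ := exists_frac 𝒜 ℳ 0 hd hf (toSect 𝒜 ℳ 0 s)
  have hik : i = k • d := by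
    rw [smul_eq_mul]
    have : (i : ℤ) = ((k * d : ℕ) : ℤ) := by rw [hi]; push_cast; ring
    exact_mod_cast this
  subst hik
  refine ⟨k, m, hm, ?_⟩
  apply sect_ext
  intro y
  rw [val_sig 𝒜 ℳ hf k hm y]
  exact hval y.1 ((Proj.mem_basicOpen 𝒜 f y.1).mp y.2)

theorem sig_add (k : ℕ) {m m' : M} (hm : m ∈ ℳ (k • d)) (hm' : m' ∈ ℳ (k • d)) :
    sig 𝒜 ℳ hf k (m + m') = sig 𝒜 ℳ hf k m + sig 𝒜 ℳ hf k m' := by
  apply sect_ext
  intro y
  rw [val_sig 𝒜 ℳ hf k (add_mem hm hm') y]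
  refine Eq.trans ?_ (congrArg₂ (· + ·) (val_sig 𝒜 ℳ hf k hm y) (val_sig 𝒜 ℳ hf k hm' y)).symm
  change _ = LocalizedModule.mk _ _ + LocalizedModule.mk _ _
  rw [LocalizedModule.mk_add_mk]
  apply frac_eq_of_smul_eq
  simp only [Submonoid.smul_def, smul_add, mul_smul]

theorem sig_zero (k : ℕ) : sig 𝒜 ℳ hf k (0 : M) = 0 := by
  have h := sig_add 𝒜 ℳ hf k (zero_mem (ℳ (k • d))) (zero_mem (ℳ (k • d)))
  rw [add_zero] at h
  exact left_eq_add.mp h

theorem smul_sig {l k : ℕ} {b : A} (hb : b ∈ 𝒜 (l • d)) {m : M} (hm : m ∈ ℳ (k • d)) :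
    (Proj.awayToSection 𝒜 f).hom (Away.mk 𝒜 hf l b hb) • sig 𝒜 ℳ hf k m =
      sig 𝒜 ℳ hf (l + k) (b • m) := by
  have hbm : b • m ∈ ℳ ((l + k) • d) := by
    rw [add_smul]; exact SetLike.GradedSMul.smul_mem hb hm
  apply sect_ext
  intro y
  have hfy : f ∉ y.1.asHomogeneousIdeal := (Proj.mem_basicOpen 𝒜 f y.1).mp y.2
  have hprime : (y.1 : ProjectiveSpectrum 𝒜).asHomogeneousIdeal.toIdeal.IsPrime := y.1.isPrime
  rw [val_sig 𝒜 ℳ hf (l + k) hbm y]
  have hc := val_awayToSection_mk 𝒜 hf l b hb y.1 hfy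
  refine Eq.trans (smul_frac 𝒜 ℳ 0 y.1 _ _ _ _ hc m _ _ _ (val_sig 𝒜 ℳ hf k hm y)) ?_
  apply frac_eq_of_smul_eq
  rw [pow_add]

theorem sig_succ {k : ℕ} {m : M} (hm : m ∈ ℳ (k • d)) :
    sig 𝒜 ℳ hf (k + 1) (f • m) = sig 𝒜 ℳ hf k m := by
  have hfm : f • m ∈ ℳ ((k + 1) • d) := by
    rw [add_smul, one_smul, add_comm]; exact SetLike.GradedSMul.smul_mem hf hm
  apply sect_ext
  intro y
  rw [val_sig 𝒜 ℳ hf (k + 1) hfm y, val_sig 𝒜 ℳ hf k hm y]
  apply frac_eq_of_smul_eq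
  rw [← mul_smul, ← pow_succ]

theorem sig_add_pow {k : ℕ} {m : M} (hm : m ∈ ℳ (k • d)) (K : ℕ) :
    f ^ K • m ∈ ℳ ((k + K) • d) ∧ sig 𝒜 ℳ hf (k + K) (f ^ K • m) = sig 𝒜 ℳ hf k m := by
  induction K with
  | zero => simpa using hm
  | succ K ih =>
    have h1 : f ^ (K + 1) • m = f • (f ^ K • m) := by rw [pow_succ', mul_smul]
    have h2 : f • (f ^ K • m) ∈ ℳ ((k + K + 1) • d) := by
      rw [add_smul (k + K) 1 d, one_smul, add_comm]; exact SetLike.GradedSMul.smul_mem hf ih.1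
    rw [h1, ← add_assoc]
    exact ⟨h2, (sig_succ 𝒜 ℳ hf ih.1).trans ih.2⟩

end sig

section gens
variable {A σ : Type u} [CommRing A] [SetLike σ A] [AddSubgroupClass σ A] (𝒜 : ℕ → σ) [GradedRing 𝒜]

/-- A finitely generated irrelevant ideal is generated by finitely many homogeneous elements of
positive degree. -/
theorem exists_generators (hfg : (HomogeneousIdeal.irrelevant 𝒜).toIdeal.FG) :
    ∃ T : Finset A, (∀ g ∈ T, ∃ e : ℕ, 0 < e ∧ g ∈ 𝒜 e) ∧
      (HomogeneousIdeal.irrelevant 𝒜).toIdeal = Ideal.span (T : Set A) := by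
  have h := HomogeneousIdeal.irrelevant_eq_span 𝒜
  rw [h] at hfg
  obtain ⟨T, hsub, hspan⟩ := (Submodule.fg_span_iff_fg_span_finset_subset _).mp hfg
  refine ⟨T, fun g hg => ?_, h.trans hspan⟩
  have := hsub hg
  simp only [Set.mem_iUnion, SetLike.mem_coe, exists_prop] at this
  exact this

variable {ι : Type*} [Fintype ι] (g : ι → A) (dg : ι → ℕ)

/-- The monomial `∏ g_j ^ ρ_j`. -/
def gp (ρ : ι → ℕ) : A := ∏ j, g j ^ ρ j

/-- The degree of the monomial `gp ρ`. -/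
def dgp (ρ : ι → ℕ) : ℕ := ∑ j, ρ j * dg j

variable {g dg}

theorem gp_mem (hg : ∀ j, g j ∈ 𝒜 (dg j)) (ρ : ι → ℕ) : gp g ρ ∈ 𝒜 (dgp dg ρ) := by
  have := SetLike.prod_pow_mem_graded 𝒜 dg g ρ (F := Finset.univ) (fun j _ => hg j)
  simpa only [smul_eq_mul, gp, dgp] using this

theorem gp_zero : gp g (fun _ => 0) = 1 := by
  simp [gp]

theorem dgp_zero : dgp dg (fun _ => 0) = 0 := by
  simp [dgp]

open Classical in
theorem gp_eq (ρ : ι → ℕ) (j : ι) :
    gp g ρ = g j ^ ρ j * ∏ x ∈ Finset.univ.erase j, g x ^ ρ x := by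
  unfold gp
  rw [Finset.mul_prod_erase Finset.univ (fun j' => g j' ^ ρ j') (Finset.mem_univ j)]

open Classical in
theorem gp_update (ρ : ι → ℕ) (j : ι) (v : ℕ) :
    gp g (Function.update ρ j v) = g j ^ v * ∏ x ∈ Finset.univ.erase j, g x ^ ρ x := by
  rw [gp_eq (Function.update ρ j v) j, Function.update_self]
  congr 1
  refine Finset.prod_congr rfl (fun x hx => ?_)
  rw [Function.update_of_ne (Finset.ne_of_mem_erase hx)]

open Classical in
theorem dgp_eq (ρ : ι → ℕ) (j : ι) :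
    dgp dg ρ = ρ j * dg j + ∑ x ∈ Finset.univ.erase j, ρ x * dg x := by
  unfold dgp
  rw [Finset.add_sum_erase Finset.univ (fun j' => ρ j' * dg j') (Finset.mem_univ j)]

open Classical in
theorem dgp_update (ρ : ι → ℕ) (j : ι) (v : ℕ) :
    dgp dg (Function.update ρ j v) = v * dg j + ∑ x ∈ Finset.univ.erase j, ρ x * dg x := by
  rw [dgp_eq (Function.update ρ j v) j, Function.update_self]
  congr 1
  refine Finset.sum_congr rfl (fun x hx => ?_)
  rw [Function.update_of_ne (Finset.ne_of_mem_erase hx)]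

/-- Multiplying a reduced monomial by a generator gives a `d`-th power times a reduced monomial. -/
theorem exists_reduce {d : ℕ} (hd : 0 < d) (ρ : ι → ℕ) (hρ : ∀ j, ρ j < d) (j : ι) :
    ∃ (ρ' : ι → ℕ) (_ : ∀ j, ρ' j < d) (t : ℕ),
      g j * gp g ρ = (g j ^ d) ^ t * gp g ρ' ∧ dg j + dgp dg ρ = t * dg j * d + dgp dg ρ' := by
  classical
  by_cases h : ρ j + 1 < d
  · refine ⟨Function.update ρ j (ρ j + 1), fun j' => ?_, 0, ?_, ?_⟩
    · by_cases hj : j' = j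
      · subst hj; rw [Function.update_self]; exact h
      · rw [Function.update_of_ne hj]; exact hρ j'
    · rw [pow_zero, one_mul, gp_update, gp_eq ρ j, pow_succ]
      ring
    · rw [dgp_update, dgp_eq ρ j]
      ring
  · have hj : ρ j + 1 = d := by have := hρ j; omega
    refine ⟨Function.update ρ j 0, fun j' => ?_, 1, ?_, ?_⟩
    · by_cases hj' : j' = j
      · subst hj'; rw [Function.update_self]; exact hd
      · rw [Function.update_of_ne hj']; exact hρ j'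
    · rw [pow_one, gp_update, gp_eq ρ j, ← hj, pow_succ]
      ring
    · rw [dgp_update, dgp_eq ρ j, ← hj]
      ring

end gens

section main
variable {A σ : Type u} [CommRing A] [SetLike σ A] [AddSubgroupClass σ A] (𝒜 : ℕ → σ) [GradedRing 𝒜]
  {M τ : Type u} [AddCommGroup M] [Module A M] [SetLike τ M] [AddSubgroupClass τ M]
  (ℳ : ℕ → τ) [DirectSum.Decomposition ℳ] [SetLike.GradedSMul 𝒜 ℳ]
  {f : A} {d : ℕ} (hf : f ∈ 𝒜 d)
  {ι : Type*} [Fintype ι] (g : ι → A) (dg : ι → ℕ)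
  {κ : Type*} [Fintype κ] (x : κ → M) (ee : κ → ℕ)

/-- The finite family of generating sections. -/
noncomputable def tau (p : (ι → Fin d) × κ) : Γ(GrMod.tilde 𝒜 ℳ 0, Proj.basicOpen 𝒜 f) :=
  sig 𝒜 ℳ hf ((dgp dg (fun j => (p.1 j : ℕ)) + ee p.2) / d) (gp g (fun j => (p.1 j : ℕ)) • x p.2)

/-- The submodule generated by the `tau`s. -/
noncomputable def NN : Submodule Γ(Proj 𝒜, Proj.basicOpen 𝒜 f)
    Γ(GrMod.tilde 𝒜 ℳ 0, Proj.basicOpen 𝒜 f) :=
  Submodule.span _ (Set.range (tau 𝒜 ℳ hf g dg x ee))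

/-- `m` is homogeneous of degree `D` and the sections it defines lie in `NN`. -/
def Good (D : ℕ) (m : M) : Prop :=
  m ∈ ℳ D ∧ ∀ k, k * d = D → sig 𝒜 ℳ hf k m ∈ NN 𝒜 ℳ hf g dg x ee

variable {𝒜 ℳ hf g dg x ee}

theorem good_zero (D : ℕ) : Good 𝒜 ℳ hf g dg x ee D 0 :=
  ⟨zero_mem _, fun k _ => by rw [sig_zero]; exact zero_mem _⟩

theorem good_add {D : ℕ} {m m' : M} (h : Good 𝒜 ℳ hf g dg x ee D m)
    (h' : Good 𝒜 ℳ hf g dg x ee D m') : Good 𝒜 ℳ hf g dg x ee D (m + m') := by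
  refine ⟨add_mem h.1 h'.1, fun k hk => ?_⟩
  have e : k • d = D := by rw [smul_eq_mul]; exact hk
  rw [sig_add 𝒜 ℳ hf k (e ▸ h.1) (e ▸ h'.1)]
  exact add_mem (h.2 k hk) (h'.2 k hk)

theorem good_sum {D : ℕ} {β : Type*} (s : Finset β) (m : β → M)
    (h : ∀ i ∈ s, Good 𝒜 ℳ hf g dg x ee D (m i)) :
    Good 𝒜 ℳ hf g dg x ee D (∑ i ∈ s, m i) := by
  classical
  induction s using Finset.induction_on with
  | empty => simpa using good_zero D
  | insert a s ha ih =>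
    rw [Finset.sum_insert ha]
    exact good_add (h a (Finset.mem_insert_self a s))
      (ih (fun i hi => h i (Finset.mem_insert_of_mem hi)))

theorem good_smul (hd : 0 < d) {l D D' : ℕ} {b : A} (hb : b ∈ 𝒜 (l * d)) {m : M}
    (h : Good 𝒜 ℳ hf g dg x ee D m) (hD' : D' = l * d + D) :
    Good 𝒜 ℳ hf g dg x ee D' (b • m) := by
  subst hD'
  refine ⟨SetLike.GradedSMul.smul_mem hb h.1, fun k hk => ?_⟩
  have hlk : l ≤ k := by
    by_contra hlt
    have hlt := not_le.mp hlt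
    have : k * d < l * d := Nat.mul_lt_mul_of_pos_right hlt hd
    omega
  obtain ⟨k', rfl⟩ := Nat.exists_eq_add_of_le hlk
  have hk' : k' * d = D := by
    rw [add_mul] at hk; omega
  have e : k' • d = D := by rw [smul_eq_mul]; exact hk'
  have hb' : b ∈ 𝒜 (l • d) := by rw [smul_eq_mul]; exact hb
  rw [← smul_sig 𝒜 ℳ hf hb' (e ▸ h.1)]
  exact Submodule.smul_mem _ _ (h.2 k' hk')

theorem good_main (hd : 0 < d) (hg : ∀ j, g j ∈ 𝒜 (dg j)) (hdg : ∀ j, 0 < dg j)
    (hspan : (HomogeneousIdeal.irrelevant 𝒜).toIdeal = Ideal.span (Set.range g))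
    (hx : ∀ i, x i ∈ ℳ (ee i)) :
    ∀ (D : ℕ) (a : A), a ∈ 𝒜 D → ∀ (ρ : ι → ℕ), (∀ j, ρ j < d) → ∀ i : κ,
      Good 𝒜 ℳ hf g dg x ee (D + (dgp dg ρ + ee i)) (a • gp g ρ • x i) := by
  intro D
  induction D using Nat.strong_induction_on with
  | _ D ih =>
    intro a ha ρ hρ i
    have hmem : gp g ρ • x i ∈ ℳ (dgp dg ρ + ee i) :=
      SetLike.GradedSMul.smul_mem (gp_mem 𝒜 hg ρ) (hx i)
    rcases Nat.eq_zero_or_pos D with rfl | hD
    · have h0 : Good 𝒜 ℳ hf g dg x ee (dgp dg ρ + ee i) (gp g ρ • x i) := by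
        refine ⟨hmem, fun k hk => ?_⟩
        have hk' : k = (dgp dg ρ + ee i) / d := by
          rw [← hk, Nat.mul_div_cancel _ hd]
        rw [hk']
        exact Submodule.subset_span ⟨(fun j => ⟨ρ j, hρ j⟩, i), rfl⟩
      refine good_smul hd (l := 0) ?_ h0 (by omega)
      rw [Nat.zero_mul]; exact ha
    · have haI : a ∈ Ideal.span (Set.range g) := by
        rw [← hspan]; exact HomogeneousIdeal.mem_irrelevant_of_mem 𝒜 hD ha
      obtain ⟨b, hb, hab⟩ := exists_homogeneous_combination 𝒜 g dg hg ha haI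
      rw [hab, Finset.sum_smul]
      refine good_sum _ _ (fun j _ => ?_)
      rcases hb j with ⟨hle, hbj⟩ | h0
      · obtain ⟨ρ', hρ', t, h1, h2⟩ := exists_reduce (g := g) (dg := dg) hd ρ hρ j
        have hpos : 0 < dg j := hdg j
        have e1 : (b j * g j) • gp g ρ • x i = ((g j ^ d) ^ t) • (b j • gp g ρ' • x i) := by
          rw [← mul_smul, ← mul_smul, ← mul_smul, mul_assoc, h1]
          congr 1; ring
        rw [e1]
        have hpow : (g j ^ d) ^ t ∈ 𝒜 (t * dg j * d) := by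
          have := SetLike.pow_mem_graded t (SetLike.pow_mem_graded d (hg j))
          simp only [smul_eq_mul] at this
          have e : t * dg j * d = t * (d * dg j) := by ring
          rw [e]; exact this
        refine good_smul hd hpow (ih (D - dg j) (by omega) (b j) hbj ρ' hρ' i) ?_
        omega
      · rw [h0, zero_mul, zero_smul]
        exact good_zero _

/-- **Finiteness of sections over `D₊(f)`** under finite generation of `A₊` and (TF). -/
theorem finite_sections (hf : f ∈ 𝒜 d) (hd : 0 < d) (hg : ∀ j, g j ∈ 𝒜 (dg j))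
    (hdg : ∀ j, 0 < dg j)
    (hspan : (HomogeneousIdeal.irrelevant 𝒜).toIdeal = Ideal.span (Set.range g))
    (hx : ∀ i, x i ∈ ℳ (ee i)) (n₀ : ℕ)
    (hTF : ∀ k, n₀ ≤ k → ∀ m ∈ ℳ k, m ∈ Submodule.span A (Set.range x)) :
    Module.Finite Γ(Proj 𝒜, Proj.basicOpen 𝒜 f)
      Γ(GrMod.tilde 𝒜 ℳ 0, Proj.basicOpen 𝒜 f) := by
  classical
  refine ⟨⟨Finset.univ.image (tau 𝒜 ℳ hf g dg x ee), ?_⟩⟩
  rw [Finset.coe_image, Finset.coe_univ, Set.image_univ, eq_top_iff]
  rintro s -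
  obtain ⟨k, m, hm, rfl⟩ := exists_sig 𝒜 ℳ hf hd s
  obtain ⟨hm', hs⟩ := sig_add_pow 𝒜 ℳ hf hm (n₀ + ∑ i, ee i)
  rw [← hs]
  have hKk : n₀ + ∑ i, ee i ≤ k + (n₀ + ∑ i, ee i) := Nat.le_add_left _ _
  generalize k + (n₀ + ∑ i, ee i) = k' at hm' hKk ⊢
  generalize f ^ (n₀ + ∑ i, ee i) • m = m' at hm' ⊢
  rw [smul_eq_mul] at hm'
  have hle : k' ≤ k' * d := Nat.le_mul_of_pos_right k' hd
  have hk'e : ∀ i, ee i ≤ k' * d := fun i => by
    have : ee i ≤ ∑ i, ee i := Finset.single_le_sum (f := ee) (fun _ _ => Nat.zero_le _)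
      (Finset.mem_univ i)
    omega
  have hspanm := hTF _ (by omega : n₀ ≤ k' * d) m' hm'
  obtain ⟨c, hc⟩ := (Submodule.mem_span_range_iff_exists_fun A).mp hspanm
  have hdec : m' = ∑ i, ((DirectSum.decompose 𝒜 (c i) (k' * d - ee i) : 𝒜 _) : A) • x i := by
    have h1 : m' = ((DirectSum.decompose ℳ m') (k' * d) : M) :=
      (DirectSum.decompose_of_mem_same ℳ hm').symm
    rw [h1, ← hc, DirectSum.decompose_sum, DFinsupp.finsetSum_apply,
      AddSubmonoidClass.coe_finsetSum]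
    refine Finset.sum_congr rfl (fun i _ => ?_)
    have e : k' * d = (k' * d - ee i) + ee i := by have := hk'e i; omega
    have := decompose_smul_of_mem 𝒜 ℳ (c i) (hx i) (k' * d - ee i)
    rw [← e] at this
    exact this
  have hgood : Good 𝒜 ℳ hf g dg x ee (k' * d) m' := by
    rw [hdec]
    refine good_sum _ _ (fun i _ => ?_)
    have := good_main (hf := hf) hd hg hdg hspan hx (k' * d - ee i) _
      (SetLike.coe_mem (DirectSum.decompose 𝒜 (c i) (k' * d - ee i))) (fun _ => 0)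
      (fun _ => hd) i
    rw [gp_zero, one_smul, dgp_zero, zero_add] at this
    have e : k' * d - ee i + ee i = k' * d := by have := hk'e i; omega
    rw [e] at this
    exact this
  exact hgood.2 k' rfl

end main

end Groth.Agent.Lib.Helper42.GrFiniteA
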