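import Groth.Agent.Lib.Helper42.GrModSect
set_option autoImplicit false
universe u
open CategoryTheory CategoryTheory.Limits AlgebraicGeometry Opposite TopologicalSpace
open scoped HomogeneousIdeal
noncomputable section

namespace Groth.Agent.Lib.Helper42.GrModFrac

open Groth.Agent.Lib.Helper42.RelTilde

variable {A σ : Type u} [CommRing A] [SetLike σ A] [AddSubgroupClass σ A] {𝒜 : ℕ → σ} [GradedRing 𝒜]
variable {M τ : Type u} [AddCommGroup M] [Module A M] [SetLike τ M] [AddSubgroupClass τ M] {ℳ : ℕ → τ}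
  [SetLike.GradedSMul 𝒜 ℳ]
variable {a b : ℕ} {u v : A} (hu : u ∈ 𝒜 a) (hv : v ∈ 𝒜 b) {n n' : ℤ} (hn : n' + b = n + a)

include hu hv hn in
omit [AddSubgroupClass τ M] in
/-- multiplication by `u / v` sends degree-`n` fractions to degree-`n'` fractions -/
theorem smul_mem_tildeAt (x : ProjectiveSpectrum 𝒜) (hvx : v ∉ x.asHomogeneousIdeal)
    {q : GrMod.LocMod 𝒜 (M := M) x} (hq : q ∈ GrMod.tildeAt 𝒜 ℳ n x) :
    (Localization.mk u (⟨v, hvx⟩ : x.asHomogeneousIdeal.toIdeal.primeCompl) : GrTwist.Loc 𝒜 x) • q ∈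
      GrMod.tildeAt 𝒜 ℳ n' x := by
  induction hq using Submodule.span_induction with
  | mem q h =>
    obtain ⟨i, j, m, s, hs, hij, rfl⟩ := h
    rw [LocalizedModule.mk_smul_mk]
    exact Submodule.subset_span ⟨a + i, b + j, ⟨u • (m : M), SetLike.GradedSMul.smul_mem hu m.2⟩,
      ⟨v * (s : A), SetLike.mul_mem_graded hv s.2⟩,
      fun hmem => (x.isPrime.mem_or_mem hmem).elim hvx hs, by push_cast; omega, rfl⟩
  | zero => rw [smul_zero]; exact zero_mem _
  | add q q' _ _ h h' => rw [smul_add]; exact add_mem h h'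
  | smul c q _ h =>
    rw [GrMod.a0_smul_def, smul_comm]
    exact Submodule.smul_mem _ c h

variable (V : (Proj 𝒜).Opens) (hV : ∀ y : V, v ∉ y.1.asHomogeneousIdeal)

/-- multiplication of a section of `M(n)~` by the fraction `u / v` -/
def mulFrac (s : Γ(GrMod.tilde 𝒜 ℳ n, V)) : Γ(GrMod.tilde 𝒜 ℳ n', V) :=
  show GrMod.sect 𝒜 ℳ n' (op V) from
  ⟨fun y => ⟨(Localization.mk u (⟨v, hV y⟩ : y.1.asHomogeneousIdeal.toIdeal.primeCompl) : GrTwist.Loc 𝒜 y.1) •
      GrMod.val s y, smul_mem_tildeAt hu hv hn y.1 (hV y) ((s : GrMod.sect 𝒜 ℳ n (op V)).1 y).2⟩,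
    fun y => by
      obtain ⟨V', hyV', iV, i, j, m, f, hf, hij, hval⟩ := (s : GrMod.sect 𝒜 ℳ n (op V)).2 y
      refine ⟨V', hyV', iV, a + i, b + j, ⟨u • (m : M), SetLike.GradedSMul.smul_mem hu m.2⟩,
        ⟨v * (f : A), SetLike.mul_mem_graded hv f.2⟩,
        fun z hmem => (z.1.isPrime.mem_or_mem hmem).elim (hV (iV z)) (hf z), ?_, fun z => ?_⟩
      · rcases hij with h | h
        · exact Or.inl (by push_cast; omega)
        · exact Or.inr (show u • (m : M) = 0 by rw [h, smul_zero])
      · change (Localization.mk u _ : GrTwist.Loc 𝒜 z.1) • GrMod.val s (iV z) = _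
        have := hval z
        change GrMod.val s (iV z) = _ at this
        rw [this, LocalizedModule.mk_smul_mk]
        rfl⟩

theorem val_mulFrac (s : Γ(GrMod.tilde 𝒜 ℳ n, V)) (y : V) :
    GrMod.val (mulFrac hu hv hn V hV s) y =
      (Localization.mk u (⟨v, hV y⟩ : y.1.asHomogeneousIdeal.toIdeal.primeCompl) : GrTwist.Loc 𝒜 y.1) •
        GrMod.val s y := rfl

theorem mk_swap_eq {R : Type u} [CommRing R] (S : Submonoid R) (u v u' v' : S) (c : Localization S)
    (h : Localization.mk (v : R) u = c * Localization.mk (v' : R) u') :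
    Localization.mk (u' : R) v' = c * Localization.mk (u : R) v := by
  have key : ∀ a b : S, Localization.mk (a : R) b * Localization.mk (b : R) a = 1 := by
    intro a b
    rw [Localization.mk_mul]
    have : ((a : R) * (b : R)) = ((b * a : S) : R) := by rw [Submonoid.coe_mul, mul_comm]
    rw [this]
    exact Localization.mk_self (b * a)
  have e1 := key u v
  have e2 := key u' v'
  linear_combination (-(Localization.mk (u' : R) v')) * e1 +
    (Localization.mk (u' : R) v' * Localization.mk (u : R) v) * h + (c * Localization.mk (u : R) v) * e2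

end Groth.Agent.Lib.Helper42.GrModFrac
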