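import Groth.Agent.Lib.Helper42.GrTwistLoc
import Groth.Agent.Lib.Helper42.GrModSect

/-!
# The modules `M(n)~` under a localization `A → A[1/c]`, `M → M[1/c]`, `c` of degree zero (helper42; for S8321)
-/

set_option autoImplicit false
set_option linter.unusedSectionVars false
universe u
open CategoryTheory CategoryTheory.Limits AlgebraicGeometry Opposite TopologicalSpace
open scoped HomogeneousIdeal
noncomputable section

namespace Groth.Agent.Lib.Helper42.GrModLoc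

open Groth.Agent.Lib.Helper42.RelTilde

variable {A σ : Type u} [CommRing A] [SetLike σ A] [AddSubgroupClass σ A] {𝒜 : ℕ → σ} [GradedRing 𝒜]
variable {M τ : Type u} [AddCommGroup M] [Module A M] [SetLike τ M] [AddSubgroupClass τ M] {ℳ : ℕ → τ}
  [SetLike.GradedSMul 𝒜 ℳ]
variable {B σ' : Type u} [CommRing B] [SetLike σ' B] [AddSubgroupClass σ' B] {ℬ : ℕ → σ'} [GradedRing ℬ]
variable {N τ' : Type u} [AddCommGroup N] [Module B N] [SetLike τ' N] [AddSubgroupClass τ' N] {𝒩 : ℕ → τ'}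
  [SetLike.GradedSMul ℬ 𝒩]
variable (ψ : 𝒜 →+*ᵍ ℬ) (hψ : ℬ₊ ≤ (𝒜₊).map ψ) (v : M →ₛₗ[ψ.toRingHom] N)
  (hv : ∀ (i : ℕ) (m : M), m ∈ ℳ i → v m ∈ 𝒩 i)
  (c : A) (hc0 : c ∈ 𝒜 0)
  (hunit : IsUnit (ψ c)) (hsurj : ∀ b : B, ∃ (k : ℕ) (a : A), ψ a = ψ c ^ k * b)
  (hsurjM : ∀ t : N, ∃ (k : ℕ) (m : M), v m = ψ c ^ k • t)
  (hkerM : ∀ m : M, v m = 0 → ∃ k : ℕ, c ^ k • m = 0)

include hv in
theorem semi_map_decompose [DirectSum.Decomposition ℳ] [DirectSum.Decomposition 𝒩] (m : M) (k : ℕ) :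
    v (DirectSum.decompose ℳ m k) = DirectSum.decompose 𝒩 (v m) k := by
  classical
  conv_rhs => rw [← DirectSum.sum_support_decompose ℳ m, map_sum, DirectSum.decompose_sum]
  rw [DFinsupp.finsetSum_apply, AddSubmonoidClass.coe_finsetSum]
  by_cases hk : k ∈ (DirectSum.decompose ℳ m).support
  · rw [Finset.sum_eq_single_of_mem k hk]
    · rw [DirectSum.decompose_of_mem_same 𝒩 (hv k _ (SetLike.coe_mem _))]
    · intro l _ hlk
      rw [DirectSum.decompose_of_mem_ne 𝒩 (hv l _ (SetLike.coe_mem _)) hlk]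
  · have hk' := hk
    rw [DFinsupp.notMem_support_iff] at hk'
    rw [hk', ZeroMemClass.coe_zero, map_zero]
    symm
    refine Finset.sum_eq_zero fun l hl => ?_
    have hlk : l ≠ k := by rintro rfl; exact hk hl
    rw [DirectSum.decompose_of_mem_ne 𝒩 (hv l _ (SetLike.coe_mem _)) hlk]

include hc0 in
theorem pow_smul_mem' {i : ℕ} {t : N} (ht : t ∈ 𝒩 i) (k : ℕ) : ψ c ^ k • t ∈ 𝒩 i := by
  have := pow_smul_mem (𝒜 := ℬ) (ℳ := 𝒩) (ψ.map_mem hc0) k ht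
  rwa [mul_zero, zero_add] at this

include hc0 in
theorem pow_smul_mem_src {i : ℕ} {m : M} (hm : m ∈ ℳ i) (k : ℕ) : c ^ k • m ∈ ℳ i := by
  have := pow_smul_mem (𝒜 := 𝒜) (ℳ := ℳ) hc0 k hm
  rwa [mul_zero, zero_add] at this

include hc0 hv hsurjM in
/-- homogeneous elements lift to homogeneous elements, up to a power of `c` -/
theorem exists_homogeneous_lift [DirectSum.Decomposition ℳ] [DirectSum.Decomposition 𝒩] {i : ℕ} {t : N}
    (ht : t ∈ 𝒩 i) : ∃ (k : ℕ) (m : M), m ∈ ℳ i ∧ v m = ψ c ^ k • t := by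
  classical
  obtain ⟨k, m, hm⟩ := hsurjM t
  refine ⟨k, (DirectSum.decompose ℳ m i : M), SetLike.coe_mem _, ?_⟩
  rw [semi_map_decompose ψ v hv, hm, DirectSum.decompose_of_mem_same 𝒩 (pow_smul_mem' ψ c hc0 ht k)]

include hc0 hv hsurj hsurjM in
theorem exists_homogeneous_lift₂ [DirectSum.Decomposition ℳ] [DirectSum.Decomposition 𝒩] {i j : ℕ} {t : N} {b' : B}
    (ht : t ∈ 𝒩 i) (hb' : b' ∈ ℬ j) :
    ∃ (k : ℕ) (m : M) (a' : A), m ∈ ℳ i ∧ a' ∈ 𝒜 j ∧ v m = ψ c ^ k • t ∧ ψ a' = ψ c ^ k * b' := by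
  obtain ⟨k, m, hm, hmt⟩ := exists_homogeneous_lift ψ v hv c hc0 hsurjM ht
  obtain ⟨k', a', ha', hab'⟩ := GrTwistLoc.exists_homogeneous_lift ψ c hc0 hsurj hb'
  have hck : ∀ l : ℕ, c ^ l ∈ 𝒜 0 := fun l => by
    have := SetLike.pow_mem_graded l hc0
    rwa [smul_zero] at this
  refine ⟨k + k', c ^ k' • m, c ^ k * a', pow_smul_mem_src c hc0 hm k', ?_, ?_, ?_⟩
  · have := SetLike.mul_mem_graded (hck k) ha'
    rwa [zero_add] at this
  · rw [LinearMap.map_smulₛₗ, hmt, smul_smul]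
    change (ψ (c ^ k') * ψ c ^ k) • t = _
    rw [map_pow, ← pow_add, add_comm]
  · rw [map_mul, map_pow, hab']; ring

include hunit hsurj hkerM in
/-- the maps of localized modules induced by a localization are injective -/
theorem locModMap_injective (y : ProjectiveSpectrum ℬ) : Function.Injective (GrMod.locModMap ψ hψ v y) := by
  rw [injective_iff_map_eq_zero]
  intro q hq
  induction q using LocalizedModule.induction_on with
  | h m s =>
    rw [GrMod.locModMap_mk, mk_eq_zero_iff] at hq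
    obtain ⟨b, hb, hbm⟩ := hq
    obtain ⟨k, a', ha'⟩ := hsurj b
    have h1 : v (a' • m) = 0 := by
      rw [LinearMap.map_smulₛₗ]
      change ψ a' • v m = 0
      rw [ha', mul_smul, hbm, smul_zero]
    obtain ⟨l, hl⟩ := hkerM _ h1
    rw [mk_eq_zero_iff]
    refine ⟨c ^ l * a', ?_, by rw [mul_smul]; exact hl⟩
    intro hmem
    have h2 : ψ (c ^ l * a') ∈ y.asHomogeneousIdeal := hmem
    rw [map_mul, map_pow, ha', ← mul_assoc, ← pow_add] at h2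
    rcases y.isPrime.mem_or_mem h2 with h3 | h3
    · exact GrTwistLoc.map_c_notMem ψ c hunit y (y.isPrime.mem_of_pow_mem _ h3)
    · exact hb h3

variable (hinj : Function.Injective (ProjectiveSpectrum.comap ψ hψ))
  (hopen : IsOpenMap (ProjectiveSpectrum.comap ψ hψ))

include hc0 hv hunit hsurj hsurjM hinj hopen in
/-- a section of `N(n)~` on `Proj A[1/c]` comes, locally, from a section of `M(n)~` on `Proj A` -/
theorem exists_local_lift [DirectSum.Decomposition ℳ] [DirectSum.Decomposition 𝒩]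
    (n : ℤ) (VB : (Proj ℬ).Opens) (t : Γ(GrMod.tilde ℬ 𝒩 n, VB)) (y₀ : VB) :
    ∃ (V' : (Proj 𝒜).Opens) (s : Γ(GrMod.tilde 𝒜 ℳ n, V')), ProjectiveSpectrum.comap ψ hψ y₀.1 ∈ V' ∧
      (∀ x ∈ V', ∃ y ∈ VB, ProjectiveSpectrum.comap ψ hψ y = x) ∧
      ∀ (y : ProjectiveSpectrum ℬ) (hy : y ∈ VB) (hy' : ProjectiveSpectrum.comap ψ hψ y ∈ V'),
        GrMod.val t ⟨y, hy⟩ = GrMod.locModMap ψ hψ v y (GrMod.val s ⟨_, hy'⟩) := by
  obtain ⟨V₁, hV₁, hy₀V₁, i, j, b, b', hb, hb', hij, hb'V, hval⟩ := exists_local_frac t y₀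
  let V' : (Proj 𝒜).Opens := ⟨ProjectiveSpectrum.comap ψ hψ '' V₁.1, hopen _ V₁.2⟩
  have hmemV₁ : ∀ y : ProjectiveSpectrum ℬ, ProjectiveSpectrum.comap ψ hψ y ∈ V' → y ∈ V₁ := by
    rintro y ⟨z, hz, hzy⟩
    exact (hinj hzy) ▸ hz
  have hV'img : ∀ x ∈ V', ∃ y ∈ VB, ProjectiveSpectrum.comap ψ hψ y = x := by
    rintro x ⟨z, hz, rfl⟩
    exact ⟨z, hV₁ hz, rfl⟩
  have hval' : ∀ (y : ProjectiveSpectrum ℬ) (hy : y ∈ VB) (hy₁ : y ∈ V₁),
      GrMod.val t ⟨y, hy⟩ = LocalizedModule.mk b ⟨b', hb'V ⟨y, hy₁⟩⟩ := fun y hy hy₁ => hval ⟨y, hy₁⟩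
  rcases hij with hij | hb0
  · obtain ⟨k, m, a', hm, ha', hmb, hab'⟩ := exists_homogeneous_lift₂ ψ v hv c hc0 hsurj hsurjM hb hb'
    have hnot : ∀ x : V', a' ∉ x.1.asHomogeneousIdeal := by
      rintro ⟨x, z, hz, rfl⟩ hmem
      have h2 : ψ a' ∈ z.asHomogeneousIdeal := hmem
      rw [hab'] at h2
      rcases z.isPrime.mem_or_mem h2 with h3 | h3
      · exact GrTwistLoc.map_c_notMem ψ c hunit z (z.isPrime.mem_of_pow_mem _ h3)
      · exact hb'V ⟨z, hz⟩ h3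
    refine ⟨V', fracSect n V' hm ha' hij hnot, ⟨y₀.1, hy₀V₁, rfl⟩, hV'img, fun y hy hy' => ?_⟩
    rw [hval' y hy (hmemV₁ y hy'), val_fracSect, GrMod.locModMap_mk, LocalizedModule.mk_eq]
    refine ⟨1, ?_⟩
    simp only [Submonoid.smul_def, one_smul]
    rw [hmb, hab', smul_smul, mul_comm]
  · refine ⟨V', 0, ⟨y₀.1, hy₀V₁, rfl⟩, hV'img, fun y hy hy' => ?_⟩
    rw [hval' y hy (hmemV₁ y hy'), hb0, LocalizedModule.zero_mk, val_zero, map_zero]

include hc0 hv hunit hsurj hsurjM hkerM hinj hopen in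
/-- sections of `N(n)~` on `Proj A[1/c]` over the preimage of an open `V` inside the image of `Proj A[1/c]` come
from sections of `M(n)~` over `V` -/
theorem exists_section_of_comap [DirectSum.Decomposition ℳ] [DirectSum.Decomposition 𝒩]
    (n : ℤ) (V : (Proj 𝒜).Opens) (VB : (Proj ℬ).Opens)
    (h1 : ∀ y ∈ VB, ProjectiveSpectrum.comap ψ hψ y ∈ V)
    (h2 : ∀ x ∈ V, ∃ y ∈ VB, ProjectiveSpectrum.comap ψ hψ y = x) (t : Γ(GrMod.tilde ℬ 𝒩 n, VB)) :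
    ∃ s : Γ(GrMod.tilde 𝒜 ℳ n, V), ∀ (y : ProjectiveSpectrum ℬ) (hy : y ∈ VB),
      GrMod.val t ⟨y, hy⟩ = GrMod.locModMap ψ hψ v y (GrMod.val s ⟨_, h1 y hy⟩) := by
  classical
  choose yy hyy hyx using fun x : V => h2 x.1 x.2
  choose O s hxO hOimg hs using fun x : V =>
    exists_local_lift ψ hψ v hv c hc0 hunit hsurj hsurjM hinj hopen n VB t ⟨yy x, hyy x⟩
  have hOV : ∀ x : V, O x ≤ V := by
    intro x x' hx'
    obtain ⟨y, hy, rfl⟩ := hOimg x x' hx'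
    exact h1 y hy
  have hcover : V ≤ iSup O := fun x hx => Opens.mem_iSup.mpr ⟨⟨x, hx⟩, by
    have := hxO ⟨x, hx⟩
    rwa [hyx ⟨x, hx⟩] at this⟩
  obtain ⟨g, hg, -⟩ := TopCat.Sheaf.existsUnique_gluing' ⟨(GrMod.tilde 𝒜 ℳ n).presheaf, (GrMod.tilde 𝒜 ℳ n).isSheaf⟩
    O V (fun x => homOfLE (hOV x)) hcover s (by
      intro x x'
      refine sect_ext (V := O x ⊓ O x') fun z => ?_
      obtain ⟨z, hz⟩ := z
      obtain ⟨y, hy, rfl⟩ := hOimg x z hz.1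
      apply locModMap_injective ψ hψ v c hunit hsurj hkerM y
      exact (hs x y hy hz.1).symm.trans (hs x' y hy hz.2))
  refine ⟨g, fun y hy => ?_⟩
  have hgx := hg ⟨_, h1 y hy⟩
  have hmem : ProjectiveSpectrum.comap ψ hψ y ∈ O ⟨_, h1 y hy⟩ := by
    have := hxO ⟨_, h1 y hy⟩
    rwa [hyx ⟨_, h1 y hy⟩] at this
  rw [hs ⟨_, h1 y hy⟩ y hy hmem, ← hgx]
  rfl

end Groth.Agent.Lib.Helper42.GrModLoc
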