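import Groth.Agent.Lib.Helper42.GrSectA
import Groth.Agent.Lib.Helper42.GrModSect

/-!
# (TN) from the vanishing of `M~` under (TF), ring level, gradings by additive subgroups (helper42; S8326)
-/

set_option autoImplicit false
universe u
open CategoryTheory CategoryTheory.Limits AlgebraicGeometry Opposite TopologicalSpace
open scoped HomogeneousIdeal
noncomputable section

namespace Groth.Agent.Lib.Helper42.GrModTN

open Groth.Agent.Lib.Helper42.RelTilde

variable {A σ : Type u} [CommRing A] [SetLike σ A] [AddSubgroupClass σ A] (𝒜 : ℕ → σ) [GradedRing 𝒜]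

/-- over a ring generated by its parts of degree `0` and `1`, the degree `d` component of any element lies in the
`d`-th power of any ideal containing the degree one part -/
theorem decompose_mem_pow (hgen : Subring.closure ((𝒜 0 : Set A) ∪ (𝒜 1 : Set A)) = ⊤) (I : Ideal A)
    (hI : ∀ a ∈ 𝒜 1, a ∈ I) (a : A) : ∀ d : ℕ, (DirectSum.decompose 𝒜 a d : A) ∈ I ^ d := by
  classical
  have ha : a ∈ Subring.closure ((𝒜 0 : Set A) ∪ (𝒜 1 : Set A)) := by rw [hgen]; trivial
  induction ha using Subring.closure_induction with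
  | mem x hx =>
    intro d
    rcases hx with hx | hx
    · by_cases hd : d = 0
      · subst hd; rw [pow_zero, Ideal.one_eq_top]; trivial
      · rw [DirectSum.decompose_of_mem_ne 𝒜 hx (Ne.symm hd)]; exact zero_mem _
    · by_cases hd : d = 1
      · subst hd
        rw [DirectSum.decompose_of_mem_same 𝒜 hx, pow_one]
        exact hI x hx
      · rw [DirectSum.decompose_of_mem_ne 𝒜 hx (Ne.symm hd)]; exact zero_mem _
  | zero => intro d; rw [DirectSum.decompose_zero]; exact zero_mem _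
  | one =>
    intro d
    have h1 : (1 : A) ∈ 𝒜 0 := SetLike.GradedOne.one_mem
    by_cases hd : d = 0
    · subst hd; rw [pow_zero, Ideal.one_eq_top]; trivial
    · rw [DirectSum.decompose_of_mem_ne 𝒜 h1 (Ne.symm hd)]; exact zero_mem _
  | add x y _ _ hx hy =>
    intro d
    rw [DirectSum.decompose_add]
    exact add_mem (hx d) (hy d)
  | neg x _ hx =>
    intro d
    rw [DirectSum.decompose_neg]
    exact neg_mem (hx d)
  | mul x y _ _ hx hy =>
    intro d
    rw [DirectSum.decompose_mul, DirectSum.coe_mul_apply_eq_sum_antidiagonal]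
    refine Ideal.sum_mem _ fun ij hij => ?_
    have hd : ij.1 + ij.2 = d := Finset.HasAntidiagonal.mem_antidiagonal.mp hij
    rw [← hd, pow_add]
    exact Ideal.mul_mem_mul (hx _) (hy _)

theorem mem_pow_of_mem_deg (hgen : Subring.closure ((𝒜 0 : Set A) ∪ (𝒜 1 : Set A)) = ⊤) (I : Ideal A)
    (hI : ∀ a ∈ 𝒜 1, a ∈ I) {d : ℕ} {a : A} (ha : a ∈ 𝒜 d) : a ∈ I ^ d := by
  have := decompose_mem_pow 𝒜 hgen I hI a d
  rwa [DirectSum.decompose_of_mem_same 𝒜 ha] at this

variable {M τ : Type u} [AddCommGroup M] [Module A M] [SetLike τ M] [AddSubgroupClass τ M] (ℳ : ℕ → τ)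
  [SetLike.GradedSMul 𝒜 ℳ] [DirectSum.Decomposition ℳ]

/-- The degree `j + e` component of `a • m`, for `m` homogeneous of degree `e` (port from helper17, S3562). -/
theorem decompose_smul_of_mem (a : A) {e : ℕ} {m : M} (hm : m ∈ ℳ e) (j : ℕ) :
    ((DirectSum.decompose ℳ (a • m)) (j + e) : M) =
      ((DirectSum.decompose 𝒜 a j : 𝒜 j) : A) • m := by
  classical
  have hsum : a • m = ∑ l ∈ (DirectSum.decompose 𝒜 a).support,
      ((DirectSum.decompose 𝒜 a l : 𝒜 l) : A) • m := by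
    conv_lhs => rw [← DirectSum.sum_support_decompose 𝒜 a, Finset.sum_smul]
  have hmem : ∀ l, ((DirectSum.decompose 𝒜 a l : 𝒜 l) : A) • m ∈ ℳ (l + e) :=
    fun l => SetLike.GradedSMul.smul_mem (A := 𝒜) (B := ℳ) (i := l) (j := e)
      (SetLike.coe_mem (DirectSum.decompose 𝒜 a l)) hm
  rw [hsum, DirectSum.decompose_sum, DFinsupp.finsetSum_apply, AddSubmonoidClass.coe_finsetSum]
  by_cases hj : j ∈ (DirectSum.decompose 𝒜 a).support
  · rw [Finset.sum_eq_single j]
    · exact DirectSum.decompose_of_mem_same ℳ (hmem j)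
    · intro l _ hl
      exact DirectSum.decompose_of_mem_ne ℳ (hmem l) (by omega)
    · intro h; exact (h hj).elim
  · rw [Finset.sum_eq_zero]
    · have : ((DirectSum.decompose 𝒜 a j : 𝒜 j) : A) = 0 := by
        simpa using hj
      rw [this, zero_smul]
    · intro l hl
      have : l ≠ j := fun h => hj (h ▸ hl)
      exact DirectSum.decompose_of_mem_ne ℳ (hmem l) (by omega)

/-- if `M~ = 0` then every homogeneous element of `M` is killed by a power of any element of degree one -/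
theorem exists_pow_smul_eq_zero
    (hzero : ∀ (V : (Proj 𝒜).Opens) (s : Γ(GrMod.tilde 𝒜 ℳ 0, V)), s = 0)
    {t : A} (ht : t ∈ 𝒜 1) {i : ℕ} (m : ℳ i) : ∃ N : ℕ, t ^ N • (m : M) = 0 := by
  refine GrSectA.pow_smul_eq_zero_of_forall (𝒜 := 𝒜) (ℳ := ℳ) one_pos ht i i m fun x => ?_
  have hti : t ^ i ∈ 𝒜 i := by
    have := SetLike.pow_mem_graded i ht
    rwa [smul_eq_mul, mul_one] at this
  have hnot : ∀ z : (Proj.basicOpen 𝒜 t : (Proj 𝒜).Opens), t ^ i ∉ z.1.asHomogeneousIdeal := fun z hmem =>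
    (ProjectiveSpectrum.mem_basicOpen 𝒜 t z.1).mp z.2 (z.1.isPrime.mem_of_pow_mem i hmem)
  have h0 := hzero (Proj.basicOpen 𝒜 t) (fracSect 0 (Proj.basicOpen 𝒜 t) m.2 hti (by simp) hnot)
  have h1 := congrArg (fun s => GrMod.val s ⟨x.1, x.2⟩) h0
  exact h1

/-- (TN) from `M~ = 0` and (TF), when the ring is generated by its parts of degrees `0` and `1`, the latter
generated by finitely many elements over the former -/
theorem exists_bound_of_zero (hgen : Subring.closure ((𝒜 0 : Set A) ∪ (𝒜 1 : Set A)) = ⊤)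
    (T : Finset A) (hT1 : ∀ t ∈ T, t ∈ 𝒜 1) (hT : ∀ x ∈ 𝒜 1, x ∈ Ideal.span (T : Set A))
    (hTF : ∃ n : ℕ, (Submodule.span A (⋃ k ∈ Set.Ici n, (ℳ k : Set M))).FG)
    (hzero : ∀ (V : (Proj 𝒜).Opens) (s : Γ(GrMod.tilde 𝒜 ℳ 0, V)), s = 0) :
    ∃ N : ℕ, ∀ k : ℕ, N ≤ k → ∀ m ∈ ℳ k, m = 0 := by
  classical
  obtain ⟨n, hN⟩ := hTF
  obtain ⟨T', hT'sub, hT'span⟩ := (Submodule.fg_span_iff_fg_span_finset_subset _).mp hN
  set I : Ideal A := Ideal.span (T : Set A) with hIdef
  have hIfg : I.FG := ⟨T, rfl⟩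
  have hdeg : ∀ m ∈ T', ∃ e : ℕ, n ≤ e ∧ m ∈ ℳ e := by
    intro m hm
    have := hT'sub hm
    simp only [Set.mem_iUnion, Set.mem_Ici, SetLike.mem_coe, exists_prop] at this
    exact this
  choose! ee hee using hdeg
  have hpow : ∀ m ∈ T', ∃ P : ℕ, ∀ a ∈ I ^ P, a • m = 0 := by
    intro m hm
    let J : Ideal A := LinearMap.ker (LinearMap.toSpanSingleton A M m)
    have hJ : ∀ a : A, a ∈ J ↔ a • m = 0 := fun a => by
      rw [LinearMap.mem_ker, LinearMap.toSpanSingleton_apply]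
    have hle : I ≤ J.radical := by
      rw [hIdef, Ideal.span_le]
      intro g hg
      obtain ⟨k, hk⟩ := exists_pow_smul_eq_zero 𝒜 ℳ hzero (hT1 g hg) (⟨m, (hee m hm).2⟩ : ℳ (ee m))
      exact ⟨k, (hJ _).mpr hk⟩
    obtain ⟨P, hP⟩ := Ideal.exists_pow_le_of_le_radical_of_fg hle hIfg
    exact ⟨P, fun a ha => (hJ a).mp (hP ha)⟩
  choose! PP hPP using hpow
  let P := T'.sup PP
  let E := T'.sup ee
  refine ⟨max n (E + P + 1), fun k hk z hz => ?_⟩
  have hzN : z ∈ Submodule.span A (⋃ k ∈ Set.Ici n, (ℳ k : Set M)) := by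
    apply Submodule.subset_span
    simp only [Set.mem_iUnion, Set.mem_Ici, SetLike.mem_coe, exists_prop]
    exact ⟨k, (le_max_left _ _).trans hk, hz⟩
  rw [hT'span] at hzN
  obtain ⟨c, -, hc⟩ := Submodule.mem_span_finset.mp hzN
  have hz' : z = ((DirectSum.decompose ℳ z) k : M) := (DirectSum.decompose_of_mem_same ℳ hz).symm
  rw [hz', ← hc, DirectSum.decompose_sum, DFinsupp.finsetSum_apply, AddSubmonoidClass.coe_finsetSum]
  apply Finset.sum_eq_zero
  intro m hm
  obtain ⟨hne, hme⟩ := hee m hm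
  have heE : ee m ≤ E := Finset.le_sup hm
  have hPm : PP m ≤ P := Finset.le_sup hm
  have hk' : E + P + 1 ≤ k := (le_max_right _ _).trans hk
  obtain ⟨j, hj⟩ : ∃ j, k = j + ee m := ⟨k - ee m, by omega⟩
  rw [hj, decompose_smul_of_mem 𝒜 ℳ (c m) hme j]
  apply hPP m hm
  have h1 := mem_pow_of_mem_deg 𝒜 hgen I hT (SetLike.coe_mem (DirectSum.decompose 𝒜 (c m) j))
  exact Ideal.pow_le_pow_right (by omega) h1

end Groth.Agent.Lib.Helper42.GrModTN
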