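import Groth.Agent.Lib.Helper42.GrSectA
import Groth.Agent.Lib.Helper49.QcqsModules

/-!
# `M(n)~` on `Proj 𝒜` is quasi-coherent, gradings by additive subgroups (port by helper42 of helper17's `GrQCoh`)
-/

set_option autoImplicit false
universe u
open CategoryTheory AlgebraicGeometry TopologicalSpace Opposite HomogeneousLocalization

namespace Groth.Agent.Lib.Helper42.GrQCohA

open Groth.Agent.Lib.Helper42.GrSectA Groth.Agent.Lib.Helper17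

section ring
variable {A σ : Type u} [CommRing A] [SetLike σ A] [AddSubgroupClass σ A] (𝒜 : ℕ → σ) [GradedRing 𝒜]

/-- Sections of the structure sheaf of `Proj` as dependent functions. -/
def toO {V : (Proj 𝒜).Opens} (r : Γ(Proj 𝒜, V)) : GrTwist.O (𝒜 := 𝒜) (op V) := r

/-- `y ∈ D(r)` iff the value of `r` at `y` is a unit. -/
theorem mem_basicOpen_iff {V : (Proj 𝒜).Opens} (r : Γ(Proj 𝒜, V)) (y : Proj 𝒜) :
    y ∈ (Proj 𝒜).basicOpen r ↔ ∃ hy : y ∈ V, IsUnit ((toO 𝒜 r).1 ⟨y, hy⟩) := by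
  rw [Scheme.mem_basicOpen'']
  refine exists_congr (fun hy => ?_)
  have h := Proj.stalkIso'_germ 𝒜 V y hy (toO 𝒜 r)
  constructor
  · intro hu
    have := hu.map (Proj.stalkIso' 𝒜 y)
    rwa [← h]
  · intro hu
    have h2 := hu.map (Proj.stalkIso' 𝒜 y).symm
    rw [← h] at h2
    have h3 : (Proj.stalkIso' 𝒜 y).symm ((Proj.stalkIso' 𝒜 y)
      (((ProjectiveSpectrum.Proj.structureSheaf 𝒜).presheaf.germ V y hy) (toO 𝒜 r))) =
        ((ProjectiveSpectrum.Proj.structureSheaf 𝒜).presheaf.germ V y hy) (toO 𝒜 r) :=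
      (Proj.stalkIso' 𝒜 y).symm_apply_apply _
    rw [h3] at h2
    exact h2

theorem val_awayToSection_mk {f : A} {d : ℕ} (hf : f ∈ 𝒜 d) (k : ℕ) (a : A) (ha : a ∈ 𝒜 (k • d))
    (y : ProjectiveSpectrum 𝒜) (hy : f ∉ y.asHomogeneousIdeal) :
    ((toO 𝒜 ((Proj.awayToSection 𝒜 f).hom (Away.mk 𝒜 hf k a ha))).1
      ⟨y, (Proj.mem_basicOpen 𝒜 f y).mpr hy⟩).val =
      Localization.mk a (⟨f ^ k, fun hmem => hy (y.isPrime.mem_of_pow_mem k hmem)⟩ :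
        y.asHomogeneousIdeal.toIdeal.primeCompl) := by
  change (HomogeneousLocalization.mapId 𝒜 _ (Away.mk 𝒜 hf k a ha)).val = _
  rfl

theorem mem_basicOpen_awayToSection {f : A} {d : ℕ} (hf : f ∈ 𝒜 d) (k : ℕ) (a : A)
    (ha : a ∈ 𝒜 (k • d)) (y : Proj 𝒜) :
    y ∈ (Proj 𝒜).basicOpen ((Proj.awayToSection 𝒜 f).hom (Away.mk 𝒜 hf k a ha)) ↔
      f ∉ y.asHomogeneousIdeal ∧ a ∉ y.asHomogeneousIdeal := by
  rw [mem_basicOpen_iff]
  constructor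
  · rintro ⟨hy, hu⟩
    have hfy : f ∉ y.asHomogeneousIdeal := (Proj.mem_basicOpen 𝒜 f y).mp hy
    refine ⟨hfy, ?_⟩
    rw [← HomogeneousLocalization.isUnit_iff_isUnit_val, val_awayToSection_mk 𝒜 hf k a ha y hfy,
      Localization.mk_eq_mk', IsLocalization.AtPrime.isUnit_mk'_iff] at hu
    exact hu
  · rintro ⟨hfy, hay⟩
    have hy : y ∈ Proj.basicOpen 𝒜 f := (Proj.mem_basicOpen 𝒜 f y).mpr hfy
    refine ⟨hy, ?_⟩
    rw [← HomogeneousLocalization.isUnit_iff_isUnit_val, val_awayToSection_mk 𝒜 hf k a ha y hfy,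
      Localization.mk_eq_mk', IsLocalization.AtPrime.isUnit_mk'_iff]
    exact hay

end ring

section module
variable {A σ : Type u} [CommRing A] [SetLike σ A] [AddSubgroupClass σ A] (𝒜 : ℕ → σ) [GradedRing 𝒜]
  {M τ : Type u} [AddCommGroup M] [Module A M] [SetLike τ M] [AddSubgroupClass τ M]
  (ℳ : ℕ → τ) [DirectSum.Decomposition ℳ] [SetLike.GradedSMul 𝒜 ℳ] (n : ℤ)

/-- Sections of `M(n)~` as the concrete subtype of dependent functions. -/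
def toSect {V : (Proj 𝒜).Opens} (s : Γ(GrMod.tilde 𝒜 ℳ n, V)) : GrMod.sect 𝒜 ℳ n (op V) := s

/-- The inverse of `toSect`. -/
def ofSect {V : (Proj 𝒜).Opens} (s : GrMod.sect 𝒜 ℳ n (op V)) : Γ(GrMod.tilde 𝒜 ℳ n, V) := s

omit [DirectSum.Decomposition ℳ] in
theorem val_smul {V : (Proj 𝒜).Opens} (r : Γ(Proj 𝒜, V)) (s : Γ(GrMod.tilde 𝒜 ℳ n, V)) (y : V) :
    (toSect 𝒜 ℳ n (r • s)).1 y = (toO 𝒜 r).1 y • (toSect 𝒜 ℳ n s).1 y := rfl

omit [DirectSum.Decomposition ℳ] in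
theorem val_map {V W : (Proj 𝒜).Opens} (i : V ⟶ W) (s : Γ(GrMod.tilde 𝒜 ℳ n, W)) (y : V) :
    (toSect 𝒜 ℳ n ((GrMod.tilde 𝒜 ℳ n).presheaf.map i.op s)).1 y =
      (toSect 𝒜 ℳ n s).1 ⟨y.1, i.le y.2⟩ := rfl

omit [DirectSum.Decomposition ℳ] in
theorem sect_ext {V : (Proj 𝒜).Opens} (s t : Γ(GrMod.tilde 𝒜 ℳ n, V))
    (h : ∀ y : V, ((toSect 𝒜 ℳ n s).1 y : GrMod.LocMod 𝒜 (M := M) y.1) = (toSect 𝒜 ℳ n t).1 y) :
    s = t :=
  Subtype.ext (funext fun y => Subtype.ext (h y))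

theorem val_pow_map {V W : (Proj 𝒜).Opens} (i : V ⟶ W) (r : Γ(Proj 𝒜, W)) (j : ℕ) (y : V) :
    (toO 𝒜 (((Proj 𝒜).presheaf.map i.op r) ^ j)).1 y = ((toO 𝒜 r).1 ⟨y.1, i.le y.2⟩) ^ j := rfl

theorem val_pow {V : (Proj 𝒜).Opens} (r : Γ(Proj 𝒜, V)) (j : ℕ) (y : V) :
    (toO 𝒜 (r ^ j)).1 y = ((toO 𝒜 r).1 y) ^ j := rfl

omit [DirectSum.Decomposition ℳ] [SetLike.GradedSMul 𝒜 ℳ] in
/-- Scalar multiplication of a fraction by a fraction. -/
theorem smul_frac (y : ProjectiveSpectrum 𝒜) (c : GrTwist.A0 𝒜 y) (a b : A)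
    (hb : b ∉ y.asHomogeneousIdeal)
    (hc : c.val = Localization.mk a (⟨b, hb⟩ : y.asHomogeneousIdeal.toIdeal.primeCompl))
    (m : M) (h : A) (hh : h ∉ y.asHomogeneousIdeal) (q : GrMod.tildeAt 𝒜 ℳ n y)
    (hq : (q : GrMod.LocMod 𝒜 (M := M) y) = frac 𝒜 y m h hh) :
    ((c • q : GrMod.tildeAt 𝒜 ℳ n y) : GrMod.LocMod 𝒜 (M := M) y) =
      frac 𝒜 y (a • m) (b * h) (fun hmem => (y.isPrime.mem_or_mem hmem).elim hb hh) := by
  rw [GrMod.coe_smul_val, hc, hq]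
  exact LocalizedModule.mk_smul_mk _ _ _ _

omit [DirectSum.Decomposition ℳ] [SetLike.GradedSMul 𝒜 ℳ] in
theorem frac_mem (y : ProjectiveSpectrum 𝒜) {h : A} {e p : ℕ} (hh : h ∈ 𝒜 e) {m : M}
    (hm : m ∈ ℳ p) (hp : (p : ℤ) = e + n) (hy : h ∉ y.asHomogeneousIdeal) :
    frac 𝒜 y m h hy ∈ GrMod.tildeAt 𝒜 ℳ n y :=
  Submodule.subset_span ⟨p, e, ⟨m, hm⟩, ⟨h, hh⟩, hy, hp, rfl⟩

/-- The section `m / h` of `M(n)~` over an open where `h` vanishes nowhere. -/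
noncomputable def fracSect (V : Opens (ProjectiveSpectrum.top 𝒜)) {h : A} {e p : ℕ} (hh : h ∈ 𝒜 e)
    {m : M} (hm : m ∈ ℳ p) (hp : (p : ℤ) = e + n) (hV : ∀ y : V, h ∉ y.1.asHomogeneousIdeal) :
    GrMod.sect 𝒜 ℳ n (op V) :=
  ⟨fun y => ⟨frac 𝒜 y.1 m h (hV y), frac_mem 𝒜 ℳ n y.1 hh hm hp (hV y)⟩,
    fun y => ⟨V, y.2, 𝟙 _, p, e, ⟨m, hm⟩, ⟨h, hh⟩, hV, Or.inl hp, fun _ => rfl⟩⟩

theorem awayToSection_surjective {f : A} {d : ℕ} (hd : 0 < d) (hf : f ∈ 𝒜 d) :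
    Function.Surjective (Proj.awayToSection 𝒜 f).hom := by
  have : IsIso (Proj.awayToSection 𝒜 f) := by
    rw [← Proj.basicOpenIsoAway_hom 𝒜 f hf hd]; infer_instance
  exact ((ConcreteCategory.isIso_iff_bijective _).mp this).2

/-- `M(n)~` localizes correctly on `D₊(f)`. -/
theorem isLocalizingOn {f : A} {d : ℕ} (hd : 0 < d) (hf : f ∈ 𝒜 d) :
    Groth.Agent.Lib.Helper45.IsLocalizingOn (GrMod.tilde 𝒜 ℳ n) (Proj.basicOpen 𝒜 f) := by
  constructor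
  · intro r s
    obtain ⟨z, rfl⟩ := awayToSection_surjective 𝒜 hd hf r
    obtain ⟨k, a, ha, rfl⟩ := Away.mk_surjective 𝒜 hf z
    have hW := mem_basicOpen_awayToSection 𝒜 hf k a ha
    have hfa : f * a ∈ 𝒜 (d + k • d) := SetLike.mul_mem_graded hf ha
    have hle : ProjectiveSpectrum.basicOpen 𝒜 (f * a) ≤
        (Proj 𝒜).basicOpen ((Proj.awayToSection 𝒜 f).hom (Away.mk 𝒜 hf k a ha)) := by
      intro y hy
      have hy' : f * a ∉ y.asHomogeneousIdeal := (ProjectiveSpectrum.mem_basicOpen 𝒜 _ y).mp hy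
      exact (hW y).mpr ⟨fun h => hy' (Ideal.mul_mem_right _ _ h),
        fun h => hy' (Ideal.mul_mem_left _ _ h)⟩
    obtain ⟨j, i, m, hm, hi, hval⟩ := exists_frac 𝒜 ℳ n (by omega : 0 < d + k • d) hfa
      (GrMod.res 𝒜 ℳ n (homOfLE hle).op (toSect 𝒜 ℳ n s))
    have hp : (i : ℤ) = ((j * (k + 1)) • d : ℕ) + n := by
      rw [hi]; simp only [smul_eq_mul]; push_cast; ring
    refine ⟨j, ofSect 𝒜 ℳ n (fracSect 𝒜 ℳ n (Proj.basicOpen 𝒜 f)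
      (SetLike.pow_mem_graded (j * (k + 1)) hf) hm hp
      (fun y hmem => (Proj.mem_basicOpen 𝒜 f y.1).mp y.2 (y.1.isPrime.mem_of_pow_mem _ hmem))), ?_⟩
    apply sect_ext
    intro y
    obtain ⟨hfy, hay⟩ := (hW y.1).mp y.2
    have hfay : f * a ∉ y.1.asHomogeneousIdeal := fun hmem =>
      (y.1.isPrime.mem_or_mem hmem).elim hfy hay
    have hprime : (y.1 : ProjectiveSpectrum 𝒜).asHomogeneousIdeal.toIdeal.IsPrime := y.1.isPrime
    have hs : (((toSect 𝒜 ℳ n s).1 y : GrMod.tildeAt 𝒜 ℳ n y.1) : GrMod.LocMod 𝒜 (M := M) y.1) =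
        frac 𝒜 y.1 m ((f * a) ^ j) (fun hmem => hfay (y.1.isPrime.mem_of_pow_mem j hmem)) :=
      hval y.1 hfay
    have hc : ((toO 𝒜 (((Proj 𝒜).presheaf.map (homOfLE ((Proj 𝒜).basicOpen_le _)).op
        ((Proj.awayToSection 𝒜 f).hom (Away.mk 𝒜 hf k a ha))) ^ j)).1 y).val =
        Localization.mk (a ^ j) (⟨(f ^ k) ^ j, fun hmem => hfy (y.1.isPrime.mem_of_pow_mem k
          (y.1.isPrime.mem_of_pow_mem j hmem))⟩ :
            (y.1 : ProjectiveSpectrum 𝒜).asHomogeneousIdeal.toIdeal.primeCompl) := by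
      rw [val_pow_map, HomogeneousLocalization.val_pow, val_awayToSection_mk 𝒜 hf k a ha y.1 hfy,
        Localization.mk_pow]
      rfl
    refine Eq.trans ?_ (smul_frac 𝒜 ℳ n y.1 _ _ _ _ hc m _ _ _ hs).symm
    refine Eq.trans (b := frac 𝒜 y.1 m (f ^ (j * (k + 1)))
      (fun hmem => hfy (y.1.isPrime.mem_of_pow_mem _ hmem))) rfl ?_
    apply frac_eq_of_smul_eq
    simp only [← mul_smul]
    congr 1
    ring
  · intro r t ht
    obtain ⟨z, rfl⟩ := awayToSection_surjective 𝒜 hd hf r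
    obtain ⟨k, a, ha, rfl⟩ := Away.mk_surjective 𝒜 hf z
    have hW := mem_basicOpen_awayToSection 𝒜 hf k a ha
    have hfa : f * a ∈ 𝒜 (d + k • d) := SetLike.mul_mem_graded hf ha
    obtain ⟨l, i, m, hm, hi, hval⟩ := exists_frac 𝒜 ℳ n hd hf (toSect 𝒜 ℳ n t)
    -- `(f a)^N m = 0`
    obtain ⟨N, hN⟩ : ∃ N : ℕ, (f * a) ^ N • m = 0 := by
      refine pow_smul_eq_zero_of_forall 𝒜 ℳ (d := d + k • d) (by omega) hfa 0 i ⟨m, hm⟩ ?_
      rintro ⟨y, hy⟩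
      have hy' : f * a ∉ y.asHomogeneousIdeal := (ProjectiveSpectrum.mem_basicOpen 𝒜 _ y).mp hy
      have hfy : f ∉ y.asHomogeneousIdeal := fun h => hy' (Ideal.mul_mem_right _ _ h)
      have hay : a ∉ y.asHomogeneousIdeal := fun h => hy' (Ideal.mul_mem_left _ _ h)
      have hyW : y ∈ (Proj 𝒜).basicOpen ((Proj.awayToSection 𝒜 f).hom (Away.mk 𝒜 hf k a ha)) :=
        (hW y).mpr ⟨hfy, hay⟩
      have h0 := congrArg (fun u => ((toSect 𝒜 ℳ n u).1 ⟨y, hyW⟩ : GrMod.LocMod 𝒜 (M := M) y)) ht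
      have h1 := hval y hfy
      have h2 : frac 𝒜 y m (f ^ l) (fun hmem => hfy (y.isPrime.mem_of_pow_mem l hmem)) = 0 :=
        h1.symm.trans h0
      rw [frac, IsLocalizedModule.mk_eq_mk', IsLocalizedModule.mk'_eq_zero'] at h2
      rw [IsLocalizedModule.mk_eq_mk', IsLocalizedModule.mk'_eq_zero']
      exact h2
    refine ⟨N, ?_⟩
    apply sect_ext
    intro y
    have hfy : f ∉ y.1.asHomogeneousIdeal := (Proj.mem_basicOpen 𝒜 f y.1).mp y.2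
    have hprime : (y.1 : ProjectiveSpectrum 𝒜).asHomogeneousIdeal.toIdeal.IsPrime := y.1.isPrime
    have hs := hval y.1 hfy
    have hc : ((toO 𝒜 (((Proj.awayToSection 𝒜 f).hom (Away.mk 𝒜 hf k a ha)) ^ N)).1 y).val =
        Localization.mk (a ^ N) (⟨(f ^ k) ^ N, fun hmem => hfy (y.1.isPrime.mem_of_pow_mem k
          (y.1.isPrime.mem_of_pow_mem N hmem))⟩ :
            (y.1 : ProjectiveSpectrum 𝒜).asHomogeneousIdeal.toIdeal.primeCompl) := by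
      have hv : ((toO 𝒜 ((Proj.awayToSection 𝒜 f).hom (Away.mk 𝒜 hf k a ha))).1 y).val = _ :=
        val_awayToSection_mk 𝒜 hf k a ha y.1 hfy
      rw [val_pow, HomogeneousLocalization.val_pow, hv, Localization.mk_pow]
      rfl
    refine Eq.trans (smul_frac 𝒜 ℳ n y.1 _ _ _ _ hc m _ _ _ hs) ?_
    change LocalizedModule.mk _ _ = (0 : GrMod.LocMod 𝒜 (M := M) y.1)
    rw [IsLocalizedModule.mk_eq_mk', IsLocalizedModule.mk'_eq_zero']
    refine ⟨⟨f ^ N, fun hmem => hfy (y.1.isPrime.mem_of_pow_mem N hmem)⟩, ?_⟩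
    change f ^ N • a ^ N • m = 0
    rw [← mul_smul, ← mul_pow, hN]

/-- **`M(n)~` is quasi-coherent.** -/
theorem isQuasicoherent_tilde : (GrMod.tilde 𝒜 ℳ n).IsQuasicoherent := by
  refine Groth.Agent.Lib.Helper49.isQuasicoherent_of_forall_restrict _
    (ι := Σ d : ℕ, {f : A // 0 < d ∧ f ∈ 𝒜 d})
    (fun i => Spec Γ(Proj 𝒜, Proj.basicOpen 𝒜 i.2.1))
    (fun i => (Proj.isAffineOpen_basicOpen 𝒜 i.2.1 i.2.2.2 i.2.2.1).fromSpec) ?_ ?_
  · intro x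
    obtain ⟨s, d, hd, hs, hx⟩ := exists_homogeneous_pos_mem_basicOpen 𝒜 x
    refine ⟨⟨d, s, hd, hs⟩, ?_⟩
    rw [IsAffineOpen.range_fromSpec]
    exact hx
  · intro i
    rw [isQuasicoherent_iff_isIso_fromTildeΓ, isIso_fromTildeΓ_iff_isLocalizing]
    intro a
    exact Groth.Agent.Lib.Helper49.isLocalizedModule_away_of_isLocalizingOn _
      (Proj.isAffineOpen_basicOpen 𝒜 i.2.1 i.2.2.2 i.2.2.1)
      (isLocalizingOn 𝒜 ℳ n i.2.2.1 i.2.2.2) a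

end module

end Groth.Agent.Lib.Helper42.GrQCohA
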