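import Groth.Prelude.Def_GrMod3
import Groth.Agent.Lib.Helper17.Proj
import Groth.Agent.Lib.Helper79.GrAlpha

/-!
# Sections of `M(n)~` over `D₊(f)`, gradings by additive subgroups (port by helper42 of helper17's `GrSect`)

Main result `GrSectA.exists_frac`: every section of `GrMod.tilde 𝒜 ℳ n` over `D₊(f)`
(`f` homogeneous of positive degree) is a single fraction `m / f^k`.
-/

set_option autoImplicit false
universe u
open CategoryTheory AlgebraicGeometry TopologicalSpace Opposite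

namespace Groth.Agent.Lib.Helper42.GrSectA

open Groth.Agent.Lib.Helper17

section ring
variable {A σ : Type u} [CommRing A] [SetLike σ A] [AddSubgroupClass σ A] (𝒜 : ℕ → σ) [GradedRing 𝒜]

/-- A homogeneous element in the span of homogeneous elements is a homogeneous combination. -/
theorem exists_homogeneous_combination {ι : Type*} [Fintype ι] (H : ι → A) (E : ι → ℕ)
    (hH : ∀ i, H i ∈ 𝒜 (E i)) {g : A} {D : ℕ} (hg : g ∈ 𝒜 D)
    (hmem : g ∈ Ideal.span (Set.range H)) :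
    ∃ a : ι → A, (∀ i, (E i ≤ D ∧ a i ∈ 𝒜 (D - E i)) ∨ a i = 0) ∧ g = ∑ i, a i * H i := by
  classical
  obtain ⟨c, hc⟩ := Ideal.mem_span_range_iff_exists_fun.mp hmem
  refine ⟨fun i => if E i ≤ D then (DirectSum.decompose 𝒜 (c i) (D - E i) : A) else 0, ?_, ?_⟩
  · intro i
    by_cases h : E i ≤ D
    · left
      refine ⟨h, ?_⟩
      simp only [h, if_true]
      exact SetLike.coe_mem _
    · right
      simp only [h, if_false]
  · have h1 : g = (DirectSum.decompose 𝒜 g D : A) := (DirectSum.decompose_of_mem_same 𝒜 hg).symm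
    rw [h1, ← hc, DirectSum.decompose_sum, DFinsupp.finsetSum_apply,
      AddSubmonoidClass.coe_finsetSum]
    refine Finset.sum_congr rfl (fun i _ => ?_)
    rw [DirectSum.coe_decompose_mul_of_right_mem 𝒜 D (hH i)]
    by_cases h : E i ≤ D
    · simp only [h, if_true]
    · simp only [h, if_false, zero_mul]

end ring

section module
variable {A σ : Type u} [CommRing A] [SetLike σ A] [AddSubgroupClass σ A] (𝒜 : ℕ → σ) [GradedRing 𝒜]
  {M τ : Type u} [AddCommGroup M] [Module A M] [SetLike τ M] [AddSubgroupClass τ M]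
  (ℳ : ℕ → τ) [DirectSum.Decomposition ℳ] [SetLike.GradedSMul 𝒜 ℳ] (n : ℤ)

/-- The fraction `m / h` in the localized module at the point `y`. -/
noncomputable abbrev frac (y : ProjectiveSpectrum 𝒜) (m : M) (h : A)
    (hy : h ∉ y.asHomogeneousIdeal) : GrMod.LocMod 𝒜 (M := M) y :=
  LocalizedModule.mk m ⟨h, hy⟩

theorem frac_eq_of_smul_eq {y : ProjectiveSpectrum 𝒜} {m m' : M} {h h' : A}
    (hy : h ∉ y.asHomogeneousIdeal) (hy' : h' ∉ y.asHomogeneousIdeal)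
    (heq : h' • m = h • m') : frac 𝒜 y m h hy = frac 𝒜 y m' h' hy' := by
  rw [frac, frac, LocalizedModule.mk_eq]
  exact ⟨1, by simp only [Submonoid.smul_def, one_smul]; exact heq⟩

/-- If `m / f^k` vanishes at every point of `D₊(f)` then a power of `f` kills `m` (port of S3587). -/
theorem pow_smul_eq_zero_of_forall {d : ℕ} (hd : 0 < d) {f : A} (hf : f ∈ 𝒜 d) (k i : ℕ) (m : ℳ i)
    (h : ∀ x : ProjectiveSpectrum.basicOpen 𝒜 f,
      (LocalizedModule.mk (m : M) ⟨f ^ k, fun h => (ProjectiveSpectrum.mem_basicOpen 𝒜 f x.1).mp x.2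
        (x.1.isPrime.mem_of_pow_mem k h)⟩ : GrMod.LocMod 𝒜 (M := M) x.1) = 0) :
    ∃ N : ℕ, f ^ N • (m : M) = 0 := by
  set I : Ideal A := LinearMap.ker (LinearMap.toSpanSingleton A M (m : M)) with hI
  have hIhom : I.IsHomogeneous 𝒜 := Groth.Agent.Lib.Helper79.GrAlpha.isHomogeneous_ann 𝒜 ℳ i (m : M) m.2
  have hmemI : ∀ a : A, a ∈ I ↔ a • (m : M) = 0 := fun a => by
    rw [hI, LinearMap.mem_ker, LinearMap.toSpanSingleton_apply]
  have hfirr : f ∈ (HomogeneousIdeal.irrelevant 𝒜).toIdeal :=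
    HomogeneousIdeal.mem_irrelevant_of_mem 𝒜 hd hf
  have hb : ∀ x : ProjectiveSpectrum 𝒜, I ≤ x.asHomogeneousIdeal.toIdeal →
      f ∈ x.asHomogeneousIdeal := by
    intro x hx
    by_contra hfx
    have h0 := h ⟨x, hfx⟩
    rw [IsLocalizedModule.mk_eq_mk', IsLocalizedModule.mk'_eq_zero'] at h0
    obtain ⟨⟨c, hc⟩, hcm⟩ := h0
    exact hc (hx ((hmemI c).mpr hcm))
  have hrad := Groth.Agent.Lib.Helper17.mul_mem_radical_of_forall_mem 𝒜 I hIhom f hb f hfirr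
  obtain ⟨N, hN⟩ := hrad
  refine ⟨2 * N, ?_⟩
  rw [← hmemI, pow_mul, pow_two]
  exact hN

omit [DirectSum.Decomposition ℳ] in
/-- Every section of `M(n)~` is, near any point, a fraction `m / h` with `h` homogeneous of positive
degree, valid on all of `D₊(h)`. -/
theorem exists_local_rep {U : Opens (ProjectiveSpectrum.top 𝒜)}
    (s : GrMod.sect 𝒜 ℳ n (op U)) (x : U) :
    ∃ (h : A) (e p : ℕ) (m : M), 0 < e ∧ h ∈ 𝒜 e ∧ m ∈ ℳ p ∧ (p : ℤ) = e + n ∧
      h ∉ x.1.asHomogeneousIdeal ∧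
      ∀ (y : ProjectiveSpectrum 𝒜) (hy : h ∉ y.asHomogeneousIdeal), ∃ hyU : y ∈ U,
        ((s.1 ⟨y, hyU⟩ : GrMod.tildeAt 𝒜 ℳ n y) : GrMod.LocMod 𝒜 (M := M) y) =
          frac 𝒜 y m h hy := by
  classical
  obtain ⟨V, hxV, ia, i, j, ⟨m₀, hm₀⟩, ⟨t, ht⟩, hnin, hcase, hw⟩ := s.2 x
  obtain ⟨_, ⟨a, rfl⟩, hxa, haV⟩ :=
    (ProjectiveSpectrum.isTopologicalBasis_basic_opens 𝒜).exists_subset_of_mem_open hxV V.2
  -- a homogeneous component of `a` not in `x`
  have hxa' : (x.1 : ProjectiveSpectrum 𝒜) ∈ ProjectiveSpectrum.basicOpen 𝒜 a := hxa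
  rw [ProjectiveSpectrum.basicOpen_eq_union_of_projection 𝒜 a] at hxa'
  obtain ⟨k, hk⟩ := (Opens.mem_iSup (x := (x.1 : ProjectiveSpectrum 𝒜))).mp hxa'
  set b : A := GradedRing.proj 𝒜 k a with hb
  have hbmem : b ∈ 𝒜 k := by
    rw [hb, GradedRing.proj_apply]; exact SetLike.coe_mem _
  have hbx : b ∉ x.1.asHomogeneousIdeal := (ProjectiveSpectrum.mem_basicOpen 𝒜 b x.1).mp hk
  have hba : ProjectiveSpectrum.basicOpen 𝒜 b ≤ ProjectiveSpectrum.basicOpen 𝒜 a := by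
    conv_rhs => rw [ProjectiveSpectrum.basicOpen_eq_union_of_projection 𝒜 a]
    exact le_iSup (fun i => ProjectiveSpectrum.basicOpen 𝒜 (GradedRing.proj 𝒜 i a)) k
  -- positive degree element not in `x`
  obtain ⟨g, e', he', hg, hxg⟩ := exists_homogeneous_pos_mem_basicOpen 𝒜 (x.1 : Proj 𝒜)
  have hgx : g ∉ x.1.asHomogeneousIdeal := (Proj.mem_basicOpen 𝒜 g x.1).mp hxg
  set h₀ : A := b * g with hh₀
  have hh₀mem : h₀ ∈ 𝒜 (k + e') := SetLike.mul_mem_graded hbmem hg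
  have hh₀x : h₀ ∉ x.1.asHomogeneousIdeal := fun hmem =>
    (x.1.isPrime.mem_or_mem hmem).elim hbx hgx
  have hV : ∀ y : ProjectiveSpectrum 𝒜, h₀ ∉ y.asHomogeneousIdeal → y ∈ V := by
    intro y hy
    apply haV
    apply hba
    rw [ProjectiveSpectrum.mem_basicOpen]
    exact fun hmem => hy (Ideal.mul_mem_right _ _ hmem)
  -- `h₀` is in the radical of `(t)`
  have hIhom : (Ideal.span ({t} : Set A)).IsHomogeneous 𝒜 :=
    Ideal.homogeneous_span 𝒜 _ (by rintro _ rfl; exact ⟨j, ht⟩)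
  have hbb : ∀ y : ProjectiveSpectrum 𝒜, Ideal.span ({t} : Set A) ≤ y.asHomogeneousIdeal.toIdeal →
      h₀ ∈ y.asHomogeneousIdeal := by
    intro y hle
    by_contra hh
    exact hnin ⟨y, hV y hh⟩ (hle (Ideal.subset_span rfl))
  have hirr : h₀ ∈ (HomogeneousIdeal.irrelevant 𝒜).toIdeal :=
    HomogeneousIdeal.mem_irrelevant_of_mem 𝒜 (by omega) hh₀mem
  obtain ⟨N, hN⟩ := mul_mem_radical_of_forall_mem 𝒜 _ hIhom h₀ hbb h₀ hirr
  set h₁ : A := (h₀ * h₀) ^ (N + 1) with hh₁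
  have hh₁I : h₁ ∈ Ideal.span ({t} : Set A) := by
    rw [hh₁, pow_succ]; exact Ideal.mul_mem_right _ _ hN
  obtain ⟨c, hc⟩ := Ideal.mem_span_singleton'.mp hh₁I
  set e₁ : ℕ := (N + 1) • ((k + e') + (k + e')) with he₁
  have hh₁mem : h₁ ∈ 𝒜 e₁ := SetLike.pow_mem_graded (N + 1) (SetLike.mul_mem_graded hh₀mem hh₀mem)
  have he₁pos : 0 < e₁ := by rw [he₁, smul_eq_mul]; positivity
  have hh₁x : ∀ y : ProjectiveSpectrum 𝒜, h₁ ∉ y.asHomogeneousIdeal → h₀ ∉ y.asHomogeneousIdeal := by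
    intro y hy hmem
    exact hy (Ideal.pow_mem_of_mem _ (Ideal.mul_mem_left _ _ hmem) _ (Nat.succ_pos N))
  have hh₁x' : h₁ ∉ x.1.asHomogeneousIdeal := by
    intro hmem
    have := x.1.isPrime.mem_of_pow_mem _ hmem
    exact (x.1.isPrime.mem_or_mem this).elim hh₀x hh₀x
  -- make `c` homogeneous
  have hjle : j ≤ e₁ := by
    by_contra hj
    have h0 : (DirectSum.decompose 𝒜 (c * t) e₁ : A) = 0 :=
      DirectSum.coe_decompose_mul_of_right_mem_of_not_le 𝒜 ht hj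
    rw [hc, DirectSum.decompose_of_mem_same 𝒜 hh₁mem] at h0
    exact hh₁x' (h0 ▸ zero_mem _)
  set c' : A := (DirectSum.decompose 𝒜 c (e₁ - j) : A) with hc'
  have hc'mem : c' ∈ 𝒜 (e₁ - j) := SetLike.coe_mem _
  have hc't : c' * t = h₁ := by
    have h0 : (DirectSum.decompose 𝒜 (c * t) e₁ : A) = c' * t :=
      DirectSum.coe_decompose_mul_of_right_mem_of_le 𝒜 ht hjle
    rw [hc, DirectSum.decompose_of_mem_same 𝒜 hh₁mem] at h0
    exact h0.symm
  -- the value of `s` on `V`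
  have hval : ∀ (y : ProjectiveSpectrum 𝒜) (hyV : y ∈ V),
      ((s.1 ⟨y, ia.le hyV⟩ : GrMod.tildeAt 𝒜 ℳ n y) : GrMod.LocMod 𝒜 (M := M) y) =
        frac 𝒜 y m₀ t (hnin ⟨y, hyV⟩) := fun y hyV => hw ⟨y, hyV⟩
  rcases hcase with hij | hm0
  · refine ⟨h₁, e₁, e₁ - j + i, c' • m₀, he₁pos, hh₁mem,
      SetLike.GradedSMul.smul_mem hc'mem hm₀, by omega, hh₁x', ?_⟩
    intro y hy
    have hyV : y ∈ V := hV y (hh₁x y hy)
    refine ⟨ia.le hyV, ?_⟩
    rw [hval y hyV]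
    apply frac_eq_of_smul_eq
    rw [← hc't, mul_smul, smul_comm]
  · -- the zero section
    set K : ℕ := n.natAbs + 1 with hK
    have hKe : (n.natAbs : ℤ) < K * e₁ := by
      have : K ≤ K * e₁ := Nat.le_mul_of_pos_right K he₁pos
      have h2 : (K : ℤ) ≤ ((K * e₁ : ℕ) : ℤ) := by exact_mod_cast this
      push_cast at h2
      omega
    refine ⟨h₁ ^ K, K • e₁, ((K * e₁ : ℕ) + n).toNat, 0, ?_, SetLike.pow_mem_graded K hh₁mem,
      zero_mem _, ?_, ?_, ?_⟩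
    · rw [smul_eq_mul]; positivity
    · rw [smul_eq_mul]
      have : (0 : ℤ) ≤ ((K * e₁ : ℕ) : ℤ) + n := by push_cast; omega
      rw [Int.toNat_of_nonneg this]
    · exact fun hmem => hh₁x' (x.1.isPrime.mem_of_pow_mem _ hmem)
    · intro y hy
      have hy₁ : h₁ ∉ y.asHomogeneousIdeal := fun hmem =>
        hy (Ideal.pow_mem_of_mem _ hmem _ (Nat.succ_pos _))
      have hyV : y ∈ V := hV y (hh₁x y hy₁)
      refine ⟨ia.le hyV, ?_⟩
      rw [hval y hyV]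
      have hm0' : m₀ = 0 := hm0
      subst hm0'
      simp only [frac, LocalizedModule.zero_mk]

/-- Two local representatives agree up to a power of the product of the denominators. -/
theorem exists_pow_smul_sub_eq_zero {U : Opens (ProjectiveSpectrum.top 𝒜)}
    (s : GrMod.sect 𝒜 ℳ n (op U))
    {h h' : A} {e e' p p' : ℕ} {m m' : M} (he : 0 < e) (hh : h ∈ 𝒜 e) (hh' : h' ∈ 𝒜 e')
    (hm : m ∈ ℳ p) (hm' : m' ∈ ℳ p') (hp : (p : ℤ) = e + n) (hp' : (p' : ℤ) = e' + n)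
    (hrep : ∀ (y : ProjectiveSpectrum 𝒜) (hy : h ∉ y.asHomogeneousIdeal), ∃ hyU : y ∈ U,
        ((s.1 ⟨y, hyU⟩ : GrMod.tildeAt 𝒜 ℳ n y) : GrMod.LocMod 𝒜 (M := M) y) =
          frac 𝒜 y m h hy)
    (hrep' : ∀ (y : ProjectiveSpectrum 𝒜) (hy : h' ∉ y.asHomogeneousIdeal), ∃ hyU : y ∈ U,
        ((s.1 ⟨y, hyU⟩ : GrMod.tildeAt 𝒜 ℳ n y) : GrMod.LocMod 𝒜 (M := M) y) =
          frac 𝒜 y m' h' hy) :
    ∃ N : ℕ, (h * h') ^ N • (h' • m - h • m') = 0 := by
  have hidx : e + p' = e' + p := by omega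
  have hwmem : h' • m - h • m' ∈ ℳ (e' + p) :=
    sub_mem (SetLike.GradedSMul.smul_mem hh' hm) (hidx ▸ SetLike.GradedSMul.smul_mem hh hm')
  refine pow_smul_eq_zero_of_forall 𝒜 ℳ (d := e + e') (by omega) (SetLike.mul_mem_graded hh hh')
    0 (e' + p) ⟨_, hwmem⟩ ?_
  rintro ⟨y, hy⟩
  have hy0 : h * h' ∉ y.asHomogeneousIdeal := (ProjectiveSpectrum.mem_basicOpen 𝒜 _ y).mp hy
  have hy1 : h ∉ y.asHomogeneousIdeal := fun hmem => hy0 (Ideal.mul_mem_right _ _ hmem)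
  have hy2 : h' ∉ y.asHomogeneousIdeal := fun hmem => hy0 (Ideal.mul_mem_left _ _ hmem)
  obtain ⟨hyU, eq1⟩ := hrep y hy1
  obtain ⟨_, eq2⟩ := hrep' y hy2
  have heq : frac 𝒜 y m h hy1 = frac 𝒜 y m' h' hy2 := eq1.symm.trans eq2
  rw [frac, frac, LocalizedModule.mk_eq] at heq
  obtain ⟨u, hu⟩ := heq
  rw [IsLocalizedModule.mk_eq_mk', IsLocalizedModule.mk'_eq_zero']
  refine ⟨u, ?_⟩
  simp only [Submonoid.smul_def] at hu
  change (u : A) • (h' • m - h • m') = 0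
  rw [smul_sub, hu, sub_self]

/-- **Sections over `D₊(f)` are single fractions.** -/
theorem exists_frac {d : ℕ} (hd : 0 < d) {f : A} (hf : f ∈ 𝒜 d)
    (s : GrMod.sect 𝒜 ℳ n (op (ProjectiveSpectrum.basicOpen 𝒜 f))) :
    ∃ (k i : ℕ) (m : M), m ∈ ℳ i ∧ (i : ℤ) = k * d + n ∧
      ∀ (y : ProjectiveSpectrum 𝒜) (hy : f ∉ y.asHomogeneousIdeal),
        ((s.1 ⟨y, (ProjectiveSpectrum.mem_basicOpen 𝒜 f y).mpr hy⟩ : GrMod.tildeAt 𝒜 ℳ n y) :
            GrMod.LocMod 𝒜 (M := M) y) =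
          frac 𝒜 y m (f ^ k) (fun hmem => hy (y.isPrime.mem_of_pow_mem k hmem)) := by
  classical
  choose h e p m he hh hm hp hx hrep using
    fun x : ↥(ProjectiveSpectrum.basicOpen 𝒜 f) => exists_local_rep 𝒜 ℳ n s x
  -- finite subcover
  have hcpt : IsCompact ((ProjectiveSpectrum.basicOpen 𝒜 f : Opens (ProjectiveSpectrum 𝒜)) :
      Set (ProjectiveSpectrum 𝒜)) := (Proj.isAffineOpen_basicOpen 𝒜 f hf hd).isCompact
  obtain ⟨T, hT⟩ := hcpt.elim_finite_subcover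
    (fun x : ↥(ProjectiveSpectrum.basicOpen 𝒜 f) =>
      ((ProjectiveSpectrum.basicOpen 𝒜 (h x) : Opens (ProjectiveSpectrum 𝒜)) :
        Set (ProjectiveSpectrum 𝒜)))
    (fun x => (ProjectiveSpectrum.basicOpen 𝒜 (h x)).2)
    (fun y hy => Set.mem_iUnion.mpr ⟨⟨y, hy⟩, (ProjectiveSpectrum.mem_basicOpen 𝒜 _ _).mpr
      (hx ⟨y, hy⟩)⟩)
  have hcov : ∀ y : ProjectiveSpectrum 𝒜, f ∉ y.asHomogeneousIdeal →
      ∃ x ∈ T, h x ∉ y.asHomogeneousIdeal := by
    intro y hy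
    have := hT ((ProjectiveSpectrum.mem_basicOpen 𝒜 f y).mpr hy)
    simp only [Set.mem_iUnion] at this
    obtain ⟨x, hxT, hxy⟩ := this
    exact ⟨x, hxT, (ProjectiveSpectrum.mem_basicOpen 𝒜 _ y).mp hxy⟩
  -- agreement on overlaps
  choose Nf hNf using fun x x' : ↥(ProjectiveSpectrum.basicOpen 𝒜 f) =>
    exists_pow_smul_sub_eq_zero 𝒜 ℳ n s (he x) (hh x) (hh x') (hm x) (hm x') (hp x) (hp x')
      (hrep x) (hrep x')
  set N : ℕ := T.sup (fun x => T.sup (fun x' => Nf x x')) with hNdef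
  have hN : ∀ x ∈ T, ∀ x' ∈ T, (h x * h x') ^ N • (h x' • m x - h x • m x') = 0 := by
    intro x hxT x' hx'T
    have hle : Nf x x' ≤ N :=
      (Finset.le_sup (f := fun x' => Nf x x') hx'T).trans
        (Finset.le_sup (f := fun x => T.sup (fun x' => Nf x x')) hxT)
    obtain ⟨r, hr⟩ := Nat.exists_eq_add_of_le hle
    rw [hr, pow_add, mul_comm, mul_smul, hNf, smul_zero]
  -- new local data
  set H : ↥(ProjectiveSpectrum.basicOpen 𝒜 f) → A := fun x => h x ^ (N + 1) with hH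
  set μ : ↥(ProjectiveSpectrum.basicOpen 𝒜 f) → M := fun x => h x ^ N • m x with hμ
  have hHmem : ∀ x, H x ∈ 𝒜 ((N + 1) • e x) := fun x => SetLike.pow_mem_graded (N + 1) (hh x)
  have hμmem : ∀ x, μ x ∈ ℳ (N • e x + p x) := fun x =>
    SetLike.GradedSMul.smul_mem (SetLike.pow_mem_graded N (hh x)) (hm x)
  have key : ∀ x ∈ T, ∀ x' ∈ T, H x' • μ x = H x • μ x' := by
    intro x hxT x' hx'T
    rw [← sub_eq_zero]
    have : H x' • μ x - H x • μ x' = (h x * h x') ^ N • (h x' • m x - h x • m x') := by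
      simp only [hH, hμ, smul_sub, ← mul_smul]
      congr 2 <;> ring
    rw [this, hN x hxT x' hx'T]
  -- partition of unity
  have hIhom : (Ideal.span (Set.range fun x : ↥T => H x.1)).IsHomogeneous 𝒜 :=
    Ideal.homogeneous_span 𝒜 _ (by rintro _ ⟨x, rfl⟩; exact ⟨_, hHmem x.1⟩)
  have hfirr : f ∈ (HomogeneousIdeal.irrelevant 𝒜).toIdeal :=
    HomogeneousIdeal.mem_irrelevant_of_mem 𝒜 hd hf
  have hb : ∀ y : ProjectiveSpectrum 𝒜,
      Ideal.span (Set.range fun x : ↥T => H x.1) ≤ y.asHomogeneousIdeal.toIdeal →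
      f ∈ y.asHomogeneousIdeal := by
    intro y hle
    by_contra hfy
    obtain ⟨x, hxT, hxy⟩ := hcov y hfy
    exact hxy (y.isPrime.mem_of_pow_mem (N + 1) (hle (Ideal.subset_span ⟨⟨x, hxT⟩, rfl⟩)))
  obtain ⟨K₀, hK₀⟩ := mul_mem_radical_of_forall_mem 𝒜 _ hIhom f hb f hfirr
  set k : ℕ := 2 * K₀ + n.natAbs with hk
  have hfk : f ^ k ∈ Ideal.span (Set.range fun x : ↥T => H x.1) := by
    have : f ^ k = (f * f) ^ K₀ * f ^ n.natAbs := by rw [hk, pow_add, pow_mul, pow_two]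
    rw [this]
    exact Ideal.mul_mem_right _ _ hK₀
  have hfkmem : f ^ k ∈ 𝒜 (k • d) := SetLike.pow_mem_graded k hf
  obtain ⟨a, ha, hsum⟩ := exists_homogeneous_combination 𝒜 (fun x : ↥T => H x.1)
    (fun x : ↥T => (N + 1) • e x.1) (fun x => hHmem x.1) hfkmem hfk
  have hDn : (0 : ℤ) ≤ ((k • d : ℕ) : ℤ) + n := by
    have h1 : k ≤ k • d := by rw [smul_eq_mul]; exact Nat.le_mul_of_pos_right k hd
    have h2 : (k : ℤ) ≤ ((k • d : ℕ) : ℤ) := by exact_mod_cast h1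
    omega
  set P : ℕ := (((k • d : ℕ) : ℤ) + n).toNat with hP
  have hPeq : (P : ℤ) = ((k • d : ℕ) : ℤ) + n := Int.toNat_of_nonneg hDn
  refine ⟨k, P, ∑ x : ↥T, a x • μ x.1, ?_, ?_, ?_⟩
  · refine sum_mem (fun x _ => ?_)
    rcases ha x with ⟨hle, hax⟩ | hax
    · have hidx : k • d - (N + 1) • e x.1 + (N • e x.1 + p x.1) = P := by
        have hE : (N + 1) • e x.1 = N • e x.1 + e x.1 := by
          simp only [smul_eq_mul]; ring
        have := hp x.1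
        omega
      exact hidx ▸ SetLike.GradedSMul.smul_mem hax (hμmem x.1)
    · rw [hax, zero_smul]; exact zero_mem _
  · rw [hPeq, smul_eq_mul]; push_cast; ring
  · intro y hy
    obtain ⟨x, hxT, hxy⟩ := hcov y hy
    obtain ⟨_, hval⟩ := hrep x y hxy
    rw [hval]
    have hHy : H x ∉ y.asHomogeneousIdeal := fun hmem =>
      hxy (y.isPrime.mem_of_pow_mem (N + 1) hmem)
    have step1 : frac 𝒜 y (m x) (h x) hxy = frac 𝒜 y (μ x) (H x) hHy := by
      apply frac_eq_of_smul_eq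
      simp only [hH, hμ, ← mul_smul]
      congr 1
      ring
    rw [step1]
    apply frac_eq_of_smul_eq
    rw [Finset.smul_sum, hsum, Finset.sum_smul]
    refine Finset.sum_congr rfl (fun z _ => ?_)
    rw [mul_smul, smul_comm (H x) (a z), key x hxT z.1 z.2]

end module

end Groth.Agent.Lib.Helper42.GrSectA
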