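import Groth.Agent.Lib.Helper42.RelTildeGlue
import Groth.Agent.Lib.Helper42.RelProjMap

/-!
# The comparison of relative twisting sheaves along the morphism of relative Proj's induced by a graded
homomorphism (helper42; S8343)
-/

set_option autoImplicit false
universe u
open CategoryTheory CategoryTheory.Limits AlgebraicGeometry Opposite TopologicalSpace
open scoped HomogeneousIdeal
noncomputable section

namespace Groth.Agent.Lib.Helper42.RelTwistComap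

section ring
variable {A σA : Type u} [CommRing A] [SetLike σA A] [AddSubgroupClass σA A] {𝒜 : ℕ → σA} [GradedRing 𝒜]
variable {B σB : Type u} [CommRing B] [SetLike σB B] [AddSubgroupClass σB B] {ℬ : ℕ → σB} [GradedRing ℬ]
variable {C σC : Type u} [CommRing C] [SetLike σC C] [AddSubgroupClass σC C] {𝒞 : ℕ → σC} [GradedRing 𝒞]
variable {D σD : Type u} [CommRing D] [SetLike σD D] [AddSubgroupClass σD D] {𝒟 : ℕ → σD} [GradedRing 𝒟]
variable (ψ₁ : 𝒜 →+*ᵍ ℬ) (h₁ : ℬ₊ ≤ (𝒜₊).map ψ₁) (ψ₂ : ℬ →+*ᵍ 𝒟) (h₂ : 𝒟₊ ≤ (ℬ₊).map ψ₂)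
  (ψ₃ : 𝒜 →+*ᵍ 𝒞) (h₃ : 𝒞₊ ≤ (𝒜₊).map ψ₃) (ψ₄ : 𝒞 →+*ᵍ 𝒟) (h₄ : 𝒟₊ ≤ (𝒞₊).map ψ₄)
  (hcomm : ∀ a : A, ψ₂ (ψ₁ a) = ψ₄ (ψ₃ a))

include hcomm in
theorem comap_comap_eq (y : ProjectiveSpectrum 𝒟) :
    ProjectiveSpectrum.comap ψ₁ h₁ (ProjectiveSpectrum.comap ψ₂ h₂ y) =
      ProjectiveSpectrum.comap ψ₃ h₃ (ProjectiveSpectrum.comap ψ₄ h₄ y) := by
  apply ProjectiveSpectrum.ext
  apply HomogeneousIdeal.toIdeal_injective
  ext a
  change ψ₂ (ψ₁ a) ∈ y.asHomogeneousIdeal ↔ ψ₄ (ψ₃ a) ∈ y.asHomogeneousIdeal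
  rw [hcomm]

include hcomm in
/-- two composite comparison maps on values of a section of `O(n)` agree when the composites of ring maps agree -/
theorem locMap_locMap_eq (n : ℤ) (y : ProjectiveSpectrum 𝒟) {U : (Proj 𝒜).Opens} (s : Γ(GrTwist.twist 𝒜 n, U))
    (hy₁ : ProjectiveSpectrum.comap ψ₁ h₁ (ProjectiveSpectrum.comap ψ₂ h₂ y) ∈ U)
    (hy₂ : ProjectiveSpectrum.comap ψ₃ h₃ (ProjectiveSpectrum.comap ψ₄ h₄ y) ∈ U) :
    GrTwist.locMap ψ₂ h₂ y (GrTwist.locMap ψ₁ h₁ _ (GrTwist.val s ⟨_, hy₁⟩)) =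
      GrTwist.locMap ψ₄ h₄ y (GrTwist.locMap ψ₃ h₃ _ (GrTwist.val s ⟨_, hy₂⟩)) := by
  have hpt := comap_comap_eq ψ₁ h₁ ψ₂ h₂ ψ₃ h₃ ψ₄ h₄ hcomm y
  obtain ⟨V', hxV', iV, i, j, a, b, hb, hij, hval⟩ := (s : GrTwist.sectN (𝒜 := 𝒜) n (op U)).2 ⟨_, hy₁⟩
  have hxV'₂ : ProjectiveSpectrum.comap ψ₃ h₃ (ProjectiveSpectrum.comap ψ₄ h₄ y) ∈ V' := hpt ▸ hxV'
  have e1 : GrTwist.val s ⟨_, hy₁⟩ = Localization.mk a.1 ⟨b.1, hb ⟨_, hxV'⟩⟩ := hval ⟨_, hxV'⟩
  have e2 : GrTwist.val s ⟨_, hy₂⟩ = Localization.mk a.1 ⟨b.1, hb ⟨_, hxV'₂⟩⟩ := hval ⟨_, hxV'₂⟩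
  rw [e1, e2, GrTwist.locMap_mk, GrTwist.locMap_mk, GrTwist.locMap_mk, GrTwist.locMap_mk]
  congr 1
  · exact hcomm _
  · exact Subtype.ext (hcomm _)

end ring

section twsect
variable {A σA : Type u} [CommRing A] [SetLike σA A] [AddSubgroupClass σA A] {𝒜 : ℕ → σA} [GradedRing 𝒜]

theorem twist_sect_ext {n : ℤ} {V : (Proj 𝒜).Opens} {s t : Γ(GrTwist.twist 𝒜 n, V)}
    (h : ∀ y : V, GrTwist.val s y = GrTwist.val t y) : s = t := by
  exact Subtype.ext (funext fun y => Subtype.ext (h y))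

end twsect

section rel
open Groth.Agent.Lib.Helper42.RelTilde

variable {Y PA PB : Scheme.{u}} {𝒜 ℬ : RelProj.QCGrAlg Y}
    {φ : 𝒜.toQCAlg ⟶ ℬ.toQCAlg} {hφ : RelProj.IsGradedHom φ}
    {hirr : ∀ (U : Y.Opens) (hU : IsAffineOpen U),
      (ℬ.deg U hU)₊ ≤ ((𝒜.deg U hU)₊).map (RelProj.gradedHomAt φ hφ U hU)}
    {pA : PA ⟶ Y} {pB : PB ⟶ Y}
    {chartA : ∀ (U : Y.Opens) (hU : IsAffineOpen U), (((pA ⁻¹ᵁ U : PA.Opens) : Scheme.{u}) ≅ Proj (𝒜.deg U hU))}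
    {chartB : ∀ (U : Y.Opens) (hU : IsAffineOpen U), (((pB ⁻¹ᵁ U : PB.Opens) : Scheme.{u}) ≅ Proj (ℬ.deg U hU))}
    {h : PB ⟶ PA} (hh : RelProj.IsRelProjMap φ hφ hirr chartA chartB h) {n : ℤ}
    {LA : PA.Modules}
    {lamA : ∀ (U : Y.Opens) (hU : IsAffineOpen U),
      LA ⟶ (Scheme.Modules.pushforward (RelProj.emb pA chartA U hU)).obj (GrTwist.twist (𝒜.deg U hU) n)}
    {LB : PB.Modules}
    {lamB : ∀ (U : Y.Opens) (hU : IsAffineOpen U),
      LB ⟶ (Scheme.Modules.pushforward (RelProj.emb pB chartB U hU)).obj (GrTwist.twist (ℬ.deg U hU) n)}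

include hh in
theorem map_emb (U : Y.Opens) (hU : IsAffineOpen U) :
    Proj.map (RelProj.gradedHomAt φ hφ U hU) (hirr U hU) ≫ RelProj.emb pA chartA U hU =
      RelProj.emb pB chartB U hU ≫ h := by
  unfold RelProj.emb
  rw [Category.assoc, hh U hU, Iso.inv_hom_id_assoc]

include hh in
theorem emb_comap_apply (U : Y.Opens) (hU : IsAffineOpen U) (y : ProjectiveSpectrum (ℬ.deg U hU)) :
    (RelProj.emb pA chartA U hU).base
      (ProjectiveSpectrum.comap (RelProj.gradedHomAt φ hφ U hU) (hirr U hU) y) =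
      h.base ((RelProj.emb pB chartB U hU).base y) :=
  congrArg (fun f => f.base y) (map_emb hh U hU)

/-- the composite `LA ⟶ emb_* O_A(n) ⟶ emb_* Φ_* O_B(n) ≅ h_* emb_* O_B(n)` -/
def kapT (lamA : ∀ (U : Y.Opens) (hU : IsAffineOpen U),
      LA ⟶ (Scheme.Modules.pushforward (RelProj.emb pA chartA U hU)).obj (GrTwist.twist (𝒜.deg U hU) n))
    (U : Y.Opens) (hU : IsAffineOpen U) :
    LA ⟶ (Scheme.Modules.pushforward h).obj
      ((Scheme.Modules.pushforward (RelProj.emb pB chartB U hU)).obj (GrTwist.twist (ℬ.deg U hU) n)) :=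
  lamA U hU ≫ (Scheme.Modules.pushforward (RelProj.emb pA chartA U hU)).map
      (GrTwist.comap (RelProj.gradedHomAt φ hφ U hU) (hirr U hU) n) ≫
    (Scheme.Modules.pushforwardComp (Proj.map (RelProj.gradedHomAt φ hφ U hU) (hirr U hU))
      (RelProj.emb pA chartA U hU)).hom.app _ ≫
    (Scheme.Modules.pushforwardCongr (map_emb hh U hU)).hom.app _ ≫
    (Scheme.Modules.pushforwardComp (RelProj.emb pB chartB U hU) h).inv.app _

theorem val_kapT (U : Y.Opens) (hU : IsAffineOpen U) (W : PA.Opens) (s : Γ(LA, W))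
    (y : (RelProj.emb pB chartB U hU ⁻¹ᵁ (h ⁻¹ᵁ W) : (Proj (ℬ.deg U hU)).Opens)) :
    GrTwist.val (V := RelProj.emb pB chartB U hU ⁻¹ᵁ (h ⁻¹ᵁ W)) ((kapT hh lamA U hU).app W s) y =
      GrTwist.locMap (RelProj.gradedHomAt φ hφ U hU) (hirr U hU) y.1
        (GrTwist.val (V := RelProj.emb pA chartA U hU ⁻¹ᵁ W) ((lamA U hU).app W s)
          ⟨ProjectiveSpectrum.comap (RelProj.gradedHomAt φ hφ U hU) (hirr U hU) y.1,
            (show (RelProj.emb pA chartA U hU).base _ ∈ W from (emb_comap_apply hh U hU y.1) ▸ y.2)⟩) :=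
  rfl

/-- `h_*` of the chartwise identification of `LB` -/
def lamT (lamB : ∀ (U : Y.Opens) (hU : IsAffineOpen U),
      LB ⟶ (Scheme.Modules.pushforward (RelProj.emb pB chartB U hU)).obj (GrTwist.twist (ℬ.deg U hU) n))
    (h : PB ⟶ PA) (U : Y.Opens) (hU : IsAffineOpen U) :
    (Scheme.Modules.pushforward h).obj LB ⟶ (Scheme.Modules.pushforward h).obj
      ((Scheme.Modules.pushforward (RelProj.emb pB chartB U hU)).obj (GrTwist.twist (ℬ.deg U hU) n)) :=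
  (Scheme.Modules.pushforward h).map (lamB U hU)

theorem comm_apply (U : Y.Opens) (hU : IsAffineOpen U) (r : Γ(Y, U)) (a : 𝒜.presheaf.obj (op U)) :
    (ℬ.res hU (hU.basicOpen r) (Y.basicOpen_le r)) (RelProj.gradedHomAt φ hφ U hU a) =
      (RelProj.gradedHomAt φ hφ _ (hU.basicOpen r)) (𝒜.res hU (hU.basicOpen r) (Y.basicOpen_le r) a) :=
  congrArg (fun ψ => ψ a) (res_comp_gradedHomAt φ hφ hU (hU.basicOpen r) (Y.basicOpen_le r))

include hh in
theorem compat_basic (hA : RelProj.IsRelProj 𝒜 pA chartA) (hB : RelProj.IsRelProj ℬ pB chartB)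
    (hLA : RelProj.IsRelTwist 𝒜 pA chartA n LA lamA) (hLB : RelProj.IsRelTwist ℬ pB chartB n LB lamB)
    (U : Y.Opens) (hU : IsAffineOpen U) (r : Γ(Y, U))
    (W : PA.Opens) (s : Γ(LA, W)) (t : Γ((Scheme.Modules.pushforward h).obj LB, W))
    (h0 : (lamT lamB h U hU).app W t = (kapT hh lamA U hU).app W s) :
    (lamT lamB h (Y.basicOpen r) (hU.basicOpen r)).app W t =
      (kapT hh lamA (Y.basicOpen r) (hU.basicOpen r)).app W s := by
  refine twist_sect_ext (V := RelProj.emb pB chartB (Y.basicOpen r) (hU.basicOpen r) ⁻¹ᵁ (h ⁻¹ᵁ W)) fun y => ?_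
  have hyB' : (RelProj.emb pB chartB U hU).base (ProjectiveSpectrum.comap
      (ℬ.res hU (hU.basicOpen r) (Y.basicOpen_le r)) (ℬ.irrelevant_le_map U hU r) y.1) ∈ h ⁻¹ᵁ W := by
    rw [emb_basicOpen_apply hB]; exact y.2
  have hyA : (RelProj.emb pA chartA (Y.basicOpen r) (hU.basicOpen r)).base
      (ProjectiveSpectrum.comap (RelProj.gradedHomAt φ hφ _ (hU.basicOpen r)) (hirr _ (hU.basicOpen r)) y.1) ∈ W := by
    rw [emb_comap_apply hh]; exact y.2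
  have hyA' : (RelProj.emb pA chartA U hU).base (ProjectiveSpectrum.comap
      (𝒜.res hU (hU.basicOpen r) (Y.basicOpen_le r)) (𝒜.irrelevant_le_map U hU r)
      (ProjectiveSpectrum.comap (RelProj.gradedHomAt φ hφ _ (hU.basicOpen r)) (hirr _ (hU.basicOpen r)) y.1)) ∈ W := by
    rw [emb_basicOpen_apply hA]; exact hyA
  have e1 := hLB.compat U hU r (h ⁻¹ᵁ W) t y.1 y.2 hyB'
  have e2 := hLA.compat U hU r W s _ hyA hyA'
  refine e1.trans ?_
  have h0' : (lamB U hU).app (h ⁻¹ᵁ W) t = (kapT hh lamA U hU).app W s := h0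
  rw [h0', val_kapT]
  refine Eq.trans ?_ (congrArg (GrTwist.locMap (RelProj.gradedHomAt φ hφ _ (hU.basicOpen r))
    (hirr _ (hU.basicOpen r)) y.1) e2).symm
  exact locMap_locMap_eq _ _ _ _ _ _ _ _ (fun a => comm_apply U hU r a) n y.1 _ _ _

include hh in
theorem preimage_le (hA : RelProj.IsRelProj 𝒜 pA chartA) (hB : RelProj.IsRelProj ℬ pB chartB)
    (U : Y.Opens) {W : PA.Opens} (hW : W ≤ pA ⁻¹ᵁ U) : h ⁻¹ᵁ W ≤ pB ⁻¹ᵁ U := by
  have e := isRelProjMap_comp_base φ hφ hirr hA hB h hh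
  intro x hx
  have h1 : h.base x ∈ pA ⁻¹ᵁ U := hW hx
  have h2 : (h ≫ pA).base x ∈ U := h1
  rw [e] at h2
  exact h2

include hh in
theorem bijective_lamT (hA : RelProj.IsRelProj 𝒜 pA chartA) (hB : RelProj.IsRelProj ℬ pB chartB)
    (hLB : RelProj.IsRelTwist ℬ pB chartB n LB lamB) (U : Y.Opens) (hU : IsAffineOpen U)
    (W : PA.Opens) (hW : W ≤ pA ⁻¹ᵁ U) : Function.Bijective ((lamT lamB h U hU).app W) :=
  hLB.bijective U hU (h ⁻¹ᵁ W) (preimage_le hh hA hB U hW)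

include hh in
theorem compat_basic_conv (hA : RelProj.IsRelProj 𝒜 pA chartA) (hB : RelProj.IsRelProj ℬ pB chartB)
    (hLA : RelProj.IsRelTwist 𝒜 pA chartA n LA lamA) (hLB : RelProj.IsRelTwist ℬ pB chartB n LB lamB)
    (U : Y.Opens) (hU : IsAffineOpen U) (r : Γ(Y, U))
    (W : PA.Opens) (hW : W ≤ pA ⁻¹ᵁ Y.basicOpen r) (s : Γ(LA, W))
    (t : Γ((Scheme.Modules.pushforward h).obj LB, W))
    (h0 : (lamT lamB h (Y.basicOpen r) (hU.basicOpen r)).app W t =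
      (kapT hh lamA (Y.basicOpen r) (hU.basicOpen r)).app W s) :
    (lamT lamB h U hU).app W t = (kapT hh lamA U hU).app W s := by
  have hWU : W ≤ pA ⁻¹ᵁ U := hW.trans (pA.preimage_mono (Y.basicOpen_le r))
  obtain ⟨t', ht'⟩ := (bijective_lamT hh hA hB hLB U hU W hWU).surjective ((kapT hh lamA U hU).app W s)
  have h2 := compat_basic hh hA hB hLA hLB U hU r W s t' ht'
  have : t = t' := (bijective_lamT hh hA hB hLB _ (hU.basicOpen r) W hW).injective (h0.trans h2.symm)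
  rw [this]; exact ht'

theorem compat_eq (V V' : Y.Opens) (e : V = V') (hV : IsAffineOpen V) (hV' : IsAffineOpen V')
    (W : PA.Opens) (s : Γ(LA, W)) (t : Γ((Scheme.Modules.pushforward h).obj LB, W))
    (h0 : (lamT lamB h V hV).app W t = (kapT hh lamA V hV).app W s) :
    (lamT lamB h V' hV').app W t = (kapT hh lamA V' hV').app W s := by
  subst e; exact h0

include hh in
theorem compat_general (hA : RelProj.IsRelProj 𝒜 pA chartA) (hB : RelProj.IsRelProj ℬ pB chartB)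
    (hLA : RelProj.IsRelTwist 𝒜 pA chartA n LA lamA) (hLB : RelProj.IsRelTwist ℬ pB chartB n LB lamB)
    (U U' : Y.Opens) (hU : IsAffineOpen U) (hU' : IsAffineOpen U') (W : PA.Opens)
    (hW : W ≤ pA ⁻¹ᵁ U) (hW' : W ≤ pA ⁻¹ᵁ U')
    (s : Γ(LA, W)) (t : Γ((Scheme.Modules.pushforward h).obj LB, W))
    (h0 : (lamT lamB h U hU).app W t = (kapT hh lamA U hU).app W s) :
    (lamT lamB h U' hU').app W t = (kapT hh lamA U' hU').app W s := by
  refine twist_sect_ext (V := RelProj.emb pB chartB U' hU' ⁻¹ᵁ (h ⁻¹ᵁ W)) fun y => ?_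
  have hx : h.base ((RelProj.emb pB chartB U' hU').base y.1) ∈ W := y.2
  obtain ⟨f, g, hfg, hxf⟩ := exists_basicOpen_le_affine_inter hU hU'
    (pA.base (h.base ((RelProj.emb pB chartB U' hU').base y.1))) ⟨hW hx, hW' hx⟩
  have hle : W ⊓ pA ⁻¹ᵁ (Y.basicOpen f) ≤ W := inf_le_left
  have h1 : (lamT lamB h U hU).app _ (((Scheme.Modules.pushforward h).obj LB).presheaf.map (homOfLE hle).op t) =
      (kapT hh lamA U hU).app _ (LA.presheaf.map (homOfLE hle).op s) := by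
    rw [ModLocal.app_res, ModLocal.app_res, h0]
  have h2 := compat_basic hh hA hB hLA hLB U hU f _ _ _ h1
  have h3 := compat_eq hh _ _ hfg (hU.basicOpen f) (hU'.basicOpen g) _ _ _ h2
  have h4 := compat_basic_conv hh hA hB hLA hLB U' hU' g _ (by rw [← hfg]; exact inf_le_right) _ _ h3
  rw [ModLocal.app_res, ModLocal.app_res] at h4
  have h5 := congrArg (fun σ => GrTwist.val
    (V := RelProj.emb pB chartB U' hU' ⁻¹ᵁ (h ⁻¹ᵁ (W ⊓ pA ⁻¹ᵁ (Y.basicOpen f)))) σ ⟨y.1, ⟨y.2, hxf⟩⟩) h4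
  exact h5

include hh in
theorem res_injective (hA : RelProj.IsRelProj 𝒜 pA chartA) (hB : RelProj.IsRelProj ℬ pB chartB)
    (U : Y.Opens) (hU : IsAffineOpen U) (W : PA.Opens) :
    Function.Injective (((Scheme.Modules.pushforward h).obj
      ((Scheme.Modules.pushforward (RelProj.emb pB chartB U hU)).obj (GrTwist.twist (ℬ.deg U hU) n))).presheaf.map
        (homOfLE (inf_le_left : W ⊓ pA ⁻¹ᵁ U ≤ W)).op) := by
  intro σ σ' h0
  refine twist_sect_ext (V := RelProj.emb pB chartB U hU ⁻¹ᵁ (h ⁻¹ᵁ W)) fun y => ?_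
  have hy : (RelProj.emb pB chartB U hU).base y.1 ∈ pB ⁻¹ᵁ U := by
    rw [← opensRange_emb (chart := chartB) U hU]; exact ⟨y.1, rfl⟩
  have hy2 : h.base ((RelProj.emb pB chartB U hU).base y.1) ∈ pA ⁻¹ᵁ U := by
    have e := isRelProjMap_comp_base φ hφ hirr hA hB h hh
    have h2 : (h ≫ pA).base ((RelProj.emb pB chartB U hU).base y.1) ∈ U := by rw [e]; exact hy
    exact h2
  exact congrArg (fun τ => GrTwist.val
    (V := RelProj.emb pB chartB U hU ⁻¹ᵁ (h ⁻¹ᵁ (W ⊓ pA ⁻¹ᵁ U))) τ ⟨y.1, ⟨y.2, hy2⟩⟩) h0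

include hh in
theorem existsUnique_theta (hA : RelProj.IsRelProj 𝒜 pA chartA) (hB : RelProj.IsRelProj ℬ pB chartB)
    (hLA : RelProj.IsRelTwist 𝒜 pA chartA n LA lamA) (hLB : RelProj.IsRelTwist ℬ pB chartB n LB lamB) :
    ∃! θ : LA ⟶ (Scheme.Modules.pushforward h).obj LB,
      ∀ (U : Y.Opens) (hU : IsAffineOpen U), θ ≫ lamT lamB h U hU = kapT hh lamA U hU := by
  have key := ModLocal.existsUnique_hom_of_local (ι := Y.affineOpens) (fun i => pA ⁻¹ᵁ i.1)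
    (fun x => by obtain ⟨U, hU, hx⟩ := exists_affine_mem pA x; exact ⟨⟨U, hU⟩, hx⟩)
    (fun i => (Scheme.Modules.pushforward h).obj
      ((Scheme.Modules.pushforward (RelProj.emb pB chartB i.1 i.2)).obj (GrTwist.twist (ℬ.deg i.1 i.2) n)))
    (fun i => lamT lamB h i.1 i.2) (fun i => kapT hh lamA i.1 i.2)
    (fun i W hW => bijective_lamT hh hA hB hLB i.1 i.2 W hW)
    (fun i j W hW hW' s t h0 => compat_general hh hA hB hLA hLB i.1 j.1 i.2 j.2 W hW hW' s t h0)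
    (fun i W => res_injective hh hA hB i.1 i.2 W)
  obtain ⟨θ, hθ, huniq⟩ := key
  exact ⟨θ, fun U hU => hθ ⟨U, hU⟩, fun ψ hψ => huniq ψ fun i => hψ i.1 i.2⟩

include hh in
theorem cond_iff (θ : LA ⟶ (Scheme.Modules.pushforward h).obj LB) :
    (∀ (U : Y.Opens) (hU : IsAffineOpen U), θ ≫ lamT lamB h U hU = kapT hh lamA U hU) ↔
    (∀ (U : Y.Opens) (hU : IsAffineOpen U) (W : PA.Opens) (s : Γ(LA, W))
        (y : ProjectiveSpectrum (ℬ.deg U hU))
        (hy : (RelProj.emb pB chartB U hU).base y ∈ h ⁻¹ᵁ W)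
        (hy' : (RelProj.emb pA chartA U hU).base
          (ProjectiveSpectrum.comap (RelProj.gradedHomAt φ hφ U hU) (hirr U hU) y) ∈ W),
        GrTwist.val (V := RelProj.emb pB chartB U hU ⁻¹ᵁ (h ⁻¹ᵁ W)) ((lamB U hU).app (h ⁻¹ᵁ W) (θ.app W s)) ⟨y, hy⟩ =
          GrTwist.locMap (RelProj.gradedHomAt φ hφ U hU) (hirr U hU) y
            (GrTwist.val (V := RelProj.emb pA chartA U hU ⁻¹ᵁ W) ((lamA U hU).app W s) ⟨_, hy'⟩)) := by
  constructor
  · intro h0 U hU W s y hy hy'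
    have h1 := congrArg (fun ψ => GrTwist.val (V := RelProj.emb pB chartB U hU ⁻¹ᵁ (h ⁻¹ᵁ W))
      ((Scheme.Modules.Hom.app ψ W) s) ⟨y, hy⟩) (h0 U hU)
    exact h1
  · intro h0 U hU
    refine Scheme.Modules.hom_ext _ _ fun W => ?_
    ext s
    refine twist_sect_ext (V := RelProj.emb pB chartB U hU ⁻¹ᵁ (h ⁻¹ᵁ W)) fun y => ?_
    exact h0 U hU W s y.1 y.2 _

end rel

end Groth.Agent.Lib.Helper42.RelTwistComap
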