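import Groth.Agent.Lib.Helper42.TwistTrivA
import Groth.Agent.Lib.Helper42.RelTwistComap

/-!
# The twisting sheaves `O(n)` under a localization `A → A[1/c]`, `c` of degree zero (helper42; for S8284)
-/

set_option autoImplicit false
set_option linter.unusedSectionVars false
universe u
open CategoryTheory CategoryTheory.Limits AlgebraicGeometry Opposite TopologicalSpace
open scoped HomogeneousIdeal
noncomputable section

namespace Groth.Agent.Lib.Helper42.GrTwistLoc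

open Groth.Agent.Lib.Helper42.RelTwistComap

variable {A σ : Type u} [CommRing A] [SetLike σ A] [AddSubgroupClass σ A] {𝒜 : ℕ → σ} [GradedRing 𝒜]
  {B σ' : Type u} [CommRing B] [SetLike σ' B] [AddSubgroupClass σ' B] {ℬ : ℕ → σ'} [GradedRing ℬ]
  (ψ : 𝒜 →+*ᵍ ℬ) (hψ : ℬ₊ ≤ (𝒜₊).map ψ) (c : A) (hc0 : c ∈ 𝒜 0)
  (hunit : IsUnit (ψ c)) (hsurj : ∀ b : B, ∃ (k : ℕ) (a : A), ψ a = ψ c ^ k * b)
  (hker : ∀ a : A, ψ a = 0 → ∃ k : ℕ, c ^ k * a = 0)

include hc0 in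
theorem pow_mul_mem {i : ℕ} {b : B} (hb : b ∈ ℬ i) (k : ℕ) : ψ c ^ k * b ∈ ℬ i := by
  have h0 : ψ c ^ k ∈ ℬ 0 := by
    have := SetLike.pow_mem_graded k (ψ.map_mem hc0)
    rwa [smul_zero] at this
  have := SetLike.mul_mem_graded h0 hb
  rwa [zero_add] at this

include hc0 hsurj in
/-- homogeneous elements lift to homogeneous elements, up to a power of `c` -/
theorem exists_homogeneous_lift {i : ℕ} {b : B} (hb : b ∈ ℬ i) :
    ∃ (k : ℕ) (a : A), a ∈ 𝒜 i ∧ ψ a = ψ c ^ k * b := by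
  classical
  obtain ⟨k, a, ha⟩ := hsurj b
  refine ⟨k, (DirectSum.decompose 𝒜 a i : A), SetLike.coe_mem _, ?_⟩
  rw [GradedRingHom.map_directSumDecompose, ha, DirectSum.decompose_of_mem_same ℬ (pow_mul_mem ψ c hc0 hb k)]

include hc0 hsurj in
/-- two homogeneous elements lift with a common power of `c` -/
theorem exists_homogeneous_lift₂ {i j : ℕ} {b b' : B} (hb : b ∈ ℬ i) (hb' : b' ∈ ℬ j) :
    ∃ (k : ℕ) (a a' : A), a ∈ 𝒜 i ∧ a' ∈ 𝒜 j ∧ ψ a = ψ c ^ k * b ∧ ψ a' = ψ c ^ k * b' := by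
  obtain ⟨k, a, ha, hab⟩ := exists_homogeneous_lift ψ c hc0 hsurj hb
  obtain ⟨k', a', ha', hab'⟩ := exists_homogeneous_lift ψ c hc0 hsurj hb'
  have hck : ∀ m : ℕ, c ^ m ∈ 𝒜 0 := fun m => by
    have := SetLike.pow_mem_graded m hc0
    rwa [smul_zero] at this
  refine ⟨k + k', c ^ k' * a, c ^ k * a', ?_, ?_, ?_, ?_⟩
  · have := SetLike.mul_mem_graded (hck k') ha
    rwa [zero_add] at this
  · have := SetLike.mul_mem_graded (hck k) ha'
    rwa [zero_add] at this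
  · rw [map_mul, map_pow, hab]; ring
  · rw [map_mul, map_pow, hab']; ring

include hunit in
theorem map_c_notMem (y : ProjectiveSpectrum ℬ) : ψ c ∉ y.asHomogeneousIdeal := fun hmem =>
  y.isPrime.ne_top (Ideal.eq_top_of_isUnit_mem _ hmem hunit)

include hunit hsurj hker in
/-- the maps of local rings induced by a localization are injective -/
theorem locMap_injective (y : ProjectiveSpectrum ℬ) : Function.Injective (GrTwist.locMap ψ hψ y) := by
  rw [injective_iff_map_eq_zero]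
  intro q hq
  induction q using Localization.induction_on with
  | H p =>
    obtain ⟨a, s⟩ := p
    rw [GrTwist.locMap_mk, Localization.mk_eq_mk', IsLocalization.mk'_eq_zero_iff] at hq
    obtain ⟨⟨b, hb⟩, hba⟩ := hq
    obtain ⟨k, a', ha'⟩ := hsurj b
    have h1 : ψ (a' * a) = 0 := by
      rw [map_mul, ha', mul_assoc]
      change ψ c ^ k * (b * ψ a) = 0
      rw [show b * ψ a = 0 from hba, mul_zero]
    obtain ⟨m, hm⟩ := hker _ h1
    rw [Localization.mk_eq_mk', IsLocalization.mk'_eq_zero_iff]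
    refine ⟨⟨c ^ m * a', ?_⟩, by rw [mul_assoc]; exact hm⟩
    change c ^ m * a' ∉ (ProjectiveSpectrum.comap ψ hψ y).asHomogeneousIdeal
    intro hmem
    have h2 : ψ (c ^ m * a') ∈ y.asHomogeneousIdeal := hmem
    rw [map_mul, map_pow, ha', ← mul_assoc, ← pow_add] at h2
    rcases y.isPrime.mem_or_mem h2 with h3 | h3
    · exact map_c_notMem ψ c hunit y (y.isPrime.mem_of_pow_mem _ h3)
    · exact hb h3

variable (hinj : Function.Injective (ProjectiveSpectrum.comap ψ hψ))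
  (hopen : IsOpenMap (ProjectiveSpectrum.comap ψ hψ))

include hc0 hunit hsurj hinj hopen in
/-- a section of `O(n)` on `Proj A[1/c]` comes, locally, from a section of `O(n)` on `Proj A` -/
theorem exists_local_lift (n : ℤ) (VB : (Proj ℬ).Opens) (t : Γ(GrTwist.twist ℬ n, VB)) (y₀ : VB) :
    ∃ (V' : (Proj 𝒜).Opens) (s : Γ(GrTwist.twist 𝒜 n, V')), ProjectiveSpectrum.comap ψ hψ y₀.1 ∈ V' ∧
      (∀ x ∈ V', ∃ y ∈ VB, ProjectiveSpectrum.comap ψ hψ y = x) ∧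
      ∀ (y : ProjectiveSpectrum ℬ) (hy : y ∈ VB) (hy' : ProjectiveSpectrum.comap ψ hψ y ∈ V'),
        GrTwist.val t ⟨y, hy⟩ = GrTwist.locMap ψ hψ y (GrTwist.val s ⟨_, hy'⟩) := by
  obtain ⟨V₁, hy₀V₁, iV, i, j, b, b', hb', hij, hval⟩ := (t : GrTwist.sectN (𝒜 := ℬ) n (op VB)).2 y₀
  let V' : (Proj 𝒜).Opens := ⟨ProjectiveSpectrum.comap ψ hψ '' V₁.1, hopen _ V₁.2⟩
  have hmemV₁ : ∀ y : ProjectiveSpectrum ℬ, ProjectiveSpectrum.comap ψ hψ y ∈ V' → y ∈ V₁ := by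
    rintro y ⟨z, hz, hzy⟩
    exact (hinj hzy) ▸ hz
  have hV'img : ∀ x ∈ V', ∃ y ∈ VB, ProjectiveSpectrum.comap ψ hψ y = x := by
    rintro x ⟨z, hz, rfl⟩
    exact ⟨z, leOfHom iV hz, rfl⟩
  have hval' : ∀ (y : ProjectiveSpectrum ℬ) (hy : y ∈ VB) (hy₁ : y ∈ V₁),
      GrTwist.val t ⟨y, hy⟩ = Localization.mk b.1 ⟨b'.1, hb' ⟨y, hy₁⟩⟩ := fun y hy hy₁ => hval ⟨y, hy₁⟩
  rcases hij with hij | hb0
  · obtain ⟨k, a, a', ha, ha', hab, hab'⟩ := exists_homogeneous_lift₂ ψ c hc0 hsurj b.2 b'.2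
    have hnot : ∀ x : V', a' ∉ x.1.asHomogeneousIdeal := by
      rintro ⟨x, z, hz, rfl⟩ hmem
      have h2 : ψ a' ∈ z.asHomogeneousIdeal := hmem
      rw [hab'] at h2
      rcases z.isPrime.mem_or_mem h2 with h3 | h3
      · exact map_c_notMem ψ c hunit z (z.isPrime.mem_of_pow_mem _ h3)
      · exact hb' ⟨z, hz⟩ h3
    refine ⟨V', (TwistTrivA.fracN 𝒜 n ha ha' hij V' hnot : GrTwist.sectN (𝒜 := 𝒜) n (op V')),
      ⟨y₀.1, hy₀V₁, rfl⟩, hV'img, fun y hy hy' => ?_⟩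
    rw [hval' y hy (hmemV₁ y hy')]
    have e1 : GrTwist.val (V := V') (TwistTrivA.fracN 𝒜 n ha ha' hij V' hnot : GrTwist.sectN (𝒜 := 𝒜) n (op V'))
        ⟨_, hy'⟩ = Localization.mk a ⟨a', hnot ⟨_, hy'⟩⟩ := rfl
    rw [e1, GrTwist.locMap_mk, Localization.mk_eq_mk']
    apply IsLocalization.mk'_eq_of_eq
    change b'.1 * ψ a = ψ a' * b.1
    rw [hab, hab']
    ring
  · refine ⟨V', 0, ⟨y₀.1, hy₀V₁, rfl⟩, hV'img, fun y hy hy' => ?_⟩
    rw [hval' y hy (hmemV₁ y hy'), hb0, Localization.mk_zero]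
    have e1 : GrTwist.val (V := V') (0 : Γ(GrTwist.twist 𝒜 n, V')) ⟨_, hy'⟩ = 0 := rfl
    rw [e1, map_zero]

include hc0 hunit hsurj hker hinj hopen in
/-- sections of `O(n)` on `Proj A[1/c]` over the preimage of an open `V` inside the image of `Proj A[1/c]` come
from sections of `O(n)` over `V` -/
theorem exists_section_of_comap (n : ℤ) (V : (Proj 𝒜).Opens) (VB : (Proj ℬ).Opens)
    (h1 : ∀ y ∈ VB, ProjectiveSpectrum.comap ψ hψ y ∈ V)
    (h2 : ∀ x ∈ V, ∃ y ∈ VB, ProjectiveSpectrum.comap ψ hψ y = x) (t : Γ(GrTwist.twist ℬ n, VB)) :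
    ∃ s : Γ(GrTwist.twist 𝒜 n, V), ∀ (y : ProjectiveSpectrum ℬ) (hy : y ∈ VB),
      GrTwist.val t ⟨y, hy⟩ = GrTwist.locMap ψ hψ y (GrTwist.val s ⟨_, h1 y hy⟩) := by
  classical
  choose yy hyy hyx using fun x : V => h2 x.1 x.2
  choose O s hxO hOimg hs using fun x : V =>
    exists_local_lift ψ hψ c hc0 hunit hsurj hinj hopen n VB t ⟨yy x, hyy x⟩
  have hOV : ∀ x : V, O x ≤ V := by
    intro x x' hx'
    obtain ⟨y, hy, rfl⟩ := hOimg x x' hx'
    exact h1 y hy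
  have hcover : V ≤ iSup O := fun x hx => Opens.mem_iSup.mpr ⟨⟨x, hx⟩, by
    have := hxO ⟨x, hx⟩
    rwa [hyx ⟨x, hx⟩] at this⟩
  obtain ⟨g, hg, -⟩ := TopCat.Sheaf.existsUnique_gluing' ⟨(GrTwist.twist 𝒜 n).presheaf, (GrTwist.twist 𝒜 n).isSheaf⟩
    O V (fun x => homOfLE (hOV x)) hcover s (by
      intro x x'
      refine twist_sect_ext (V := O x ⊓ O x') fun z => ?_
      obtain ⟨z, hz⟩ := z
      obtain ⟨y, hy, rfl⟩ := hOimg x z hz.1
      apply locMap_injective ψ hψ c hunit hsurj hker y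
      exact (hs x y hy hz.1).symm.trans (hs x' y hy hz.2))
  refine ⟨g, fun y hy => ?_⟩
  have hgx := hg ⟨_, h1 y hy⟩
  have hmem : ProjectiveSpectrum.comap ψ hψ y ∈ O ⟨_, h1 y hy⟩ := by
    have := hxO ⟨_, h1 y hy⟩
    rwa [hyx ⟨_, h1 y hy⟩] at this
  rw [hs ⟨_, h1 y hy⟩ y hy hmem, ← hgx]
  rfl

end Groth.Agent.Lib.Helper42.GrTwistLoc
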