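import Groth.Agent.Lib.Helper4.BaerFamily
import Mathlib.CategoryTheory.Abelian.Refinements
import Mathlib.Algebra.Homology.ShortComplex.ExactFunctor

/-!
# Injectivity is local for a family of exact adjunctions with monic counit (helper42)

* `epi_τ₁_of_epi_τ₂_of_mono_τ₃`: four-lemma variant for short complexes.
* `injective_of_family_adj`: let `𝒜` be Grothendieck abelian, `L i ⊣ R i` a family of adjunctions
  with `L i`, `R i` exact and monic counits, such that a monomorphism `p` with all `R i p` epi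
  is epi.  Then an object `F` with all `R i F` injective is injective.
-/

set_option autoImplicit false
universe w v u
open CategoryTheory Limits

namespace Groth.Agent.Lib.Helper42.LocInj

section Four

variable {C : Type*} [Category C] [Abelian C]

theorem epi_τ₁_of_epi_τ₂_of_mono_τ₃ {S₁ S₂ : ShortComplex C} (φ : S₁ ⟶ S₂) (h₁ : S₁.Exact)
    [Mono S₂.f] [Epi φ.τ₂] [Mono φ.τ₃] : Epi φ.τ₁ := by
  rw [epi_iff_surjective_up_to_refinements]
  intro A x
  obtain ⟨A₁, π₁, hπ₁, z, hz⟩ := surjective_up_to_refinements_of_epi φ.τ₂ (x ≫ S₂.f)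
  have hz0 : z ≫ S₁.g = 0 := by
    rw [← cancel_mono φ.τ₃, zero_comp]
    calc (z ≫ S₁.g) ≫ φ.τ₃ = (z ≫ φ.τ₂) ≫ S₂.g := by
          rw [Category.assoc, ← φ.comm₂₃, Category.assoc]
      _ = 0 := by rw [← hz, Category.assoc, Category.assoc, S₂.zero, comp_zero, comp_zero]
  obtain ⟨A₂, π₂, hπ₂, y, hy⟩ := h₁.exact_up_to_refinements z hz0
  refine ⟨A₂, π₂ ≫ π₁, epi_comp _ _, y, ?_⟩
  rw [← cancel_mono S₂.f]
  calc ((π₂ ≫ π₁) ≫ x) ≫ S₂.f = π₂ ≫ (π₁ ≫ x ≫ S₂.f) := by simp only [Category.assoc]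
    _ = (π₂ ≫ z) ≫ φ.τ₂ := by rw [hz, Category.assoc]
    _ = (y ≫ S₁.f) ≫ φ.τ₂ := by rw [hy]
    _ = (y ≫ φ.τ₁) ≫ S₂.f := by rw [Category.assoc, ← φ.comm₁₂, Category.assoc]

end Four

section Abstract

variable {𝒜 : Type u} [Category.{v} 𝒜] [Abelian 𝒜]
  {I : Type*} {ℬ : I → Type*} [∀ i, Category (ℬ i)] [∀ i, Abelian (ℬ i)]
  (L : ∀ i, ℬ i ⥤ 𝒜) (R : ∀ i, 𝒜 ⥤ ℬ i) (adj : ∀ i, L i ⊣ R i)
  (hε : ∀ i (T : 𝒜), Mono ((adj i).counit.app T))

include hε in
theorem isIso_counit_app_L (i : I) (M : ℬ i) : IsIso ((adj i).counit.app ((L i).obj M)) := by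
  have h1 : (L i).map ((adj i).unit.app M) ≫ (adj i).counit.app ((L i).obj M) = 𝟙 _ :=
    (adj i).left_triangle_components M
  have h2 : Epi ((adj i).counit.app ((L i).obj M)) := epi_of_epi_fac h1
  have h3 := hε i ((L i).obj M)
  exact isIso_of_mono_of_epi _

variable [∀ i, (L i).Additive] [∀ i, (R i).Additive]
  [∀ i, PreservesFiniteLimits (L i)] [∀ i, PreservesFiniteColimits (L i)]
  [∀ i, PreservesFiniteLimits (R i)] [∀ i, PreservesFiniteColimits (R i)]

include hε in
theorem epi_counit_app_of_mono (i : I) (M : ℬ i) {S : 𝒜} (m : S ⟶ (L i).obj M) [Mono m] :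
    Epi ((adj i).counit.app S) := by
  let S₂ : ShortComplex 𝒜 := ShortComplex.mk m (cokernel.π m) (cokernel.condition m)
  have hS₂ : S₂.Exact := ShortComplex.exact_cokernel m
  let Φ : 𝒜 ⥤ 𝒜 := R i ⋙ L i
  have hS₁ : (S₂.map Φ).Exact := hS₂.map Φ
  let φ : S₂.map Φ ⟶ S₂ :=
    { τ₁ := (adj i).counit.app _
      τ₂ := (adj i).counit.app _
      τ₃ := (adj i).counit.app _
      comm₁₂ := ((adj i).counit.naturality m).symm
      comm₂₃ := ((adj i).counit.naturality (cokernel.π m)).symm }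
  have : Mono S₂.f := inferInstanceAs (Mono m)
  have : Epi φ.τ₂ := by
    have := isIso_counit_app_L L R adj hε i M
    exact inferInstanceAs (Epi ((adj i).counit.app ((L i).obj M)))
  have : Mono φ.τ₃ := hε i _
  exact epi_τ₁_of_epi_τ₂_of_mono_τ₃ φ hS₁

include hε in
/-- the extension property -/
theorem exists_extension (i : I) (M : ℬ i) {S F : 𝒜} (m : S ⟶ (L i).obj M) [Mono m]
    (φ : S ⟶ F) (hF : Injective ((R i).obj F)) : ∃ ψ : (L i).obj M ⟶ F, m ≫ ψ = φ := by
  have hiso := isIso_counit_app_L L R adj hε i M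
  have hepi := epi_counit_app_of_mono L R adj hε i M m
  have hmono : Mono ((R i).map m) := inferInstance
  let ψ₀ : (R i).obj ((L i).obj M) ⟶ (R i).obj F := Injective.factorThru ((R i).map φ) ((R i).map m)
  have hψ₀ : (R i).map m ≫ ψ₀ = (R i).map φ := Injective.comp_factorThru _ _
  refine ⟨inv ((adj i).counit.app ((L i).obj M)) ≫ (L i).map ψ₀ ≫ (adj i).counit.app F, ?_⟩
  rw [← cancel_epi ((adj i).counit.app S)]
  have n1 : (adj i).counit.app S ≫ m =
      (L i).map ((R i).map m) ≫ (adj i).counit.app ((L i).obj M) :=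
    ((adj i).counit.naturality m).symm
  have n2 : (adj i).counit.app S ≫ φ = (L i).map ((R i).map φ) ≫ (adj i).counit.app F :=
    ((adj i).counit.naturality φ).symm
  rw [← Category.assoc, n1, Category.assoc, IsIso.hom_inv_id_assoc, ← Category.assoc,
    ← (L i).map_comp, hψ₀, n2]

variable [IsGrothendieckAbelian.{w} 𝒜]

include hε in
theorem injective_of_family_adj
    (hdet : ∀ {A B : 𝒜} (p : A ⟶ B) [Mono p], (∀ i, Epi ((R i).map p)) → Epi p)
    (F : 𝒜) (hF : ∀ i, Injective ((R i).obj F)) : Injective F := by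
  rcases isEmpty_or_nonempty I with hI | hI
  · constructor
    intro X Y g f _
    have : Epi f := hdet f (fun i => (hI.false i).elim)
    have : IsIso f := isIso_of_mono_of_epi f
    exact ⟨inv f ≫ g, by simp⟩
  · obtain ⟨i₀⟩ := hI
    have : Nonempty (Σ i, ℬ i) := ⟨⟨i₀, (R i₀).obj F⟩⟩
    refine Groth.Agent.Lib.Helper4.BaerFamily.injective_of_family.{w}
      (fun k : Σ i, ℬ i => (L k.1).obj k.2) ?_ F ?_
    · intro A B p _ hp
      have : Epi p := by
        apply hdet p
        intro i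
        obtain ⟨a, ha⟩ := hp ⟨i, (R i).obj B⟩ ((adj i).counit.app B)
        have h1 : ((adj i).unit.app ((R i).obj B) ≫ (R i).map a) ≫ (R i).map p = 𝟙 _ := by
          rw [Category.assoc, ← (R i).map_comp, ha]
          exact (adj i).right_triangle_components B
        exact epi_of_epi_fac h1
      exact isIso_of_mono_of_epi p
    · intro k S m _ φ
      exact exists_extension L R adj hε k.1 k.2 m φ (hF k.1)

end Abstract

end Groth.Agent.Lib.Helper42.LocInj
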