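import Groth.Agent.Lib.Helper42.ModGlue
import Groth.Agent.Lib.Helper49.QcqsModules
/-!
# Limits of diagrams of `O_X`-modules indexed by a preorder: sections; bijectivity of the projections for diagrams
"supported on charts" with locally bijective transition maps (helper42; used for the existence of `O_P(n)`, `ℳ~`)
-/

set_option autoImplicit false
universe u
open CategoryTheory CategoryTheory.Limits AlgebraicGeometry Opposite TopologicalSpace
noncomputable section

namespace Groth.Agent.Lib.Helper42.ModLimit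

variable {X : Scheme.{u}} {J : Type u} [Preorder J] (T : J ⥤ X.Modules)

/-- sections functor -/
abbrev ev (W : X.Opens) : X.Modules ⥤ Type u :=
  SheafOfModules.evaluation X.ringCatSheaf (op W) ⋙ forget _

instance (W : X.Opens) : PreservesLimit T (ev (X := X) W) := by
  unfold ev
  have h1 : PreservesLimitsOfSize.{u, u} (SheafOfModules.evaluation.{u} X.ringCatSheaf (op W)) :=
    SheafOfModules.evaluationPreservesLimitsOfSize.{u, u} _ _
  have h2 : PreservesLimit T (SheafOfModules.evaluation.{u} X.ringCatSheaf (op W)) :=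
    (h1.preservesLimitsOfShape (J := J)).preservesLimit
  have h3 : PreservesLimit (T ⋙ SheafOfModules.evaluation.{u} X.ringCatSheaf (op W))
      (forget (ModuleCat.{u} ↑(X.ringCatSheaf.obj.obj (op W)))) := inferInstance
  exact Limits.comp_preservesLimit _ _

theorem limit_section_ext (W : X.Opens) (s s' : Γ(limit T, W))
    (h : ∀ j, (limit.π T j).app W s = (limit.π T j).app W s') : s = s' := by
  have hc := isLimitOfPreserves (ev (X := X) W) (limit.isLimit T)
  exact (Types.isLimitEquivSections hc).injective (Subtype.ext (funext fun j => h j))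

theorem limit_section_mk (W : X.Opens) (t : ∀ j, Γ(T.obj j, W))
    (ht : ∀ (i j : J) (h : i ≤ j), (T.map (homOfLE h)).app W (t i) = t j) :
    ∃ s : Γ(limit T, W), ∀ j, (limit.π T j).app W s = t j := by
  have hc := isLimitOfPreserves (ev (X := X) W) (limit.isLimit T)
  let x : (T ⋙ ev (X := X) W).sections := ⟨fun j => t j, fun {i j} f => by
    have := ht i j (leOfHom f)
    exact this⟩
  refine ⟨(Types.isLimitEquivSections hc).symm x, fun j => ?_⟩
  exact Types.isLimitEquivSections_symm_apply hc x j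

theorem limit_section_w (W : X.Opens) (s : Γ(limit T, W)) (i j : J) (h : i ≤ j) :
    (T.map (homOfLE h)).app W ((limit.π T i).app W s) = (limit.π T j).app W s := by
  have := limit.w T (homOfLE h)
  exact congrArg (fun φ => (Scheme.Modules.Hom.app φ W) s) this

section bij
open Groth.Agent.Lib.Helper49 Groth.Agent.Lib.Helper42.ModLocal

variable (V : J → X.Opens)

theorem map_map_app {i j k : J} (hij : i ≤ j) (hjk : j ≤ k) (O : X.Opens) (s : Γ(T.obj i, O)) :
    (T.map (homOfLE hjk)).app O ((T.map (homOfLE hij)).app O s) = (T.map (homOfLE (hij.trans hjk))).app O s := by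
  have h1 : homOfLE (hij.trans hjk) = homOfLE hij ≫ homOfLE hjk := Subsingleton.elim _ _
  rw [h1, T.map_comp]
  rfl

theorem app_mres {F G : X.Modules} (φ : F ⟶ G) {O W : X.Opens} (h : O ≤ W) (s : Γ(F, W)) :
    φ.app O (mres F h s) = mres G h (φ.app W s) :=
  app_res φ h s

/-- `t` over `W'` corresponds to `τ` over `W` (chart `i`), tested on all common refinements -/
def Good {i : J} {W : X.Opens} (τ : Γ(T.obj i, W)) (j : J) (W' : X.Opens) (hW' : W' ≤ W)
    (t : Γ(T.obj j, W')) : Prop :=
  ∀ (k : J) (hik : i ≤ k) (hjk : j ≤ k) (O : X.Opens) (hO : O ≤ W'), O ≤ V k →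
    (T.map (homOfLE hjk)).app O (mres (T.obj j) hO t) =
      (T.map (homOfLE hik)).app O (mres (T.obj i) (hO.trans hW') τ)

variable {T V}

theorem Good.restrict {i : J} {W : X.Opens} {τ : Γ(T.obj i, W)} {j : J} {W' : X.Opens} {hW' : W' ≤ W}
    {t : Γ(T.obj j, W')} (h : Good T V τ j W' hW' t) {W'' : X.Opens} (h'' : W'' ≤ W') :
    Good T V τ j W'' (h''.trans hW') (mres (T.obj j) h'' t) := by
  intro k hik hjk O hO hOk
  rw [mres_mres]
  exact h k hik hjk O (hO.trans h'') hOk

variable
  (hbij : ∀ (i j : J) (h : i ≤ j) (W : X.Opens), W ≤ V j → Function.Bijective ((T.map (homOfLE h)).app W))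
  (hcov : ∀ (i j : J) (x : X), x ∈ V i → x ∈ V j → ∃ k, i ≤ k ∧ j ≤ k ∧ x ∈ V k)

include hbij hcov in
theorem good_unique_of_le {i : J} {W : X.Opens} (hW : W ≤ V i) {τ : Γ(T.obj i, W)} {j : J} {W' : X.Opens}
    {hW' : W' ≤ W} (hW'j : W' ≤ V j) {t t' : Γ(T.obj j, W')} (h : Good T V τ j W' hW' t)
    (h' : Good T V τ j W' hW' t') : t = t' := by
  refine section_ext (T.obj j) fun x hx => ?_
  obtain ⟨k, hik, hjk, hxk⟩ := hcov i j x (hW (hW' hx)) (hW'j hx)
  refine ⟨W' ⊓ V k, inf_le_left, ⟨hx, hxk⟩, ?_⟩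
  apply (hbij j k hjk (W' ⊓ V k) inf_le_right).injective
  exact (h k hik hjk _ inf_le_left inf_le_right).trans (h' k hik hjk _ inf_le_left inf_le_right).symm

include hbij hcov in
theorem exists_good_local {i : J} {W : X.Opens} (hW : W ≤ V i) (τ : Γ(T.obj i, W)) (j : J) (x : X)
    (hx : x ∈ W ⊓ V j) :
    ∃ (O : X.Opens) (hO : O ≤ W ⊓ V j), x ∈ O ∧ ∃ t : Γ(T.obj j, O), Good T V τ j O (hO.trans inf_le_left) t := by
  obtain ⟨k, hik, hjk, hxk⟩ := hcov i j x (hW hx.1) hx.2
  refine ⟨W ⊓ V j ⊓ V k, inf_le_left, ⟨hx, hxk⟩, ?_⟩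
  obtain ⟨t, ht⟩ := (hbij j k hjk (W ⊓ V j ⊓ V k) inf_le_right).surjective
    ((T.map (homOfLE hik)).app _ (mres (T.obj i) (inf_le_left.trans inf_le_left) τ))
  refine ⟨t, ?_⟩
  intro k' hik' hjk' O' hO' hO'k'
  refine section_ext (T.obj k') fun z hz => ?_
  obtain ⟨m, hkm, hk'm, hzm⟩ := hcov k k' z (hO' hz).2 (hO'k' hz)
  refine ⟨O' ⊓ V m, inf_le_left, ⟨hz, hzm⟩, ?_⟩
  apply (hbij k' m hk'm (O' ⊓ V m) inf_le_right).injective
  change (T.map (homOfLE hk'm)).app _ (mres (T.obj k') _ _) = (T.map (homOfLE hk'm)).app _ (mres (T.obj k') _ _)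
  rw [← app_mres, ← app_mres, map_map_app, map_map_app, mres_mres, mres_mres]
  have e1 : (T.map (homOfLE (hjk'.trans hk'm))).app (O' ⊓ V m)
      (mres (T.obj j) ((inf_le_left : O' ⊓ V m ≤ O').trans hO') t) =
      (T.map (homOfLE hkm)).app (O' ⊓ V m) ((T.map (homOfLE hjk)).app (O' ⊓ V m)
        (mres (T.obj j) ((inf_le_left : O' ⊓ V m ≤ O').trans hO') t)) := by
    rw [map_map_app]
  rw [e1, app_mres, ht, ← app_mres, mres_mres, map_map_app]

include hbij hcov in
theorem exists_good_inf {i : J} {W : X.Opens} (hW : W ≤ V i) (τ : Γ(T.obj i, W)) (j : J) :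
    ∃ t : Γ(T.obj j, W ⊓ V j), Good T V τ j (W ⊓ V j) inf_le_left t := by
  classical
  choose O hO hxO t ht using fun x : (W ⊓ V j : X.Opens) => exists_good_local hbij hcov hW τ j x.1 x.2
  have hcover : W ⊓ V j ≤ iSup O := fun x hx => Opens.mem_iSup.mpr ⟨⟨x, hx⟩, hxO ⟨x, hx⟩⟩
  obtain ⟨g, hg, -⟩ := TopCat.Sheaf.existsUnique_gluing' ⟨(T.obj j).presheaf, (T.obj j).isSheaf⟩ O (W ⊓ V j)
    (fun x => homOfLE (hO x)) hcover t (by
      intro x x'
      change mres (T.obj j) inf_le_left (t x) = mres (T.obj j) inf_le_right (t x')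
      exact good_unique_of_le hbij hcov hW (inf_le_left.trans ((hO x).trans inf_le_right))
        ((ht x).restrict inf_le_left) ((ht x').restrict inf_le_right))
  refine ⟨g, ?_⟩
  intro k hik hjk O' hO' hO'k
  refine section_ext (T.obj k) fun z hz => ?_
  refine ⟨O' ⊓ O ⟨z, hO' hz⟩, inf_le_left, ⟨hz, hxO ⟨z, hO' hz⟩⟩, ?_⟩
  change mres (T.obj k) _ _ = mres (T.obj k) _ _
  rw [← app_mres, ← app_mres, mres_mres, mres_mres]
  have hgx : mres (T.obj j) (hO ⟨z, hO' hz⟩) g = t ⟨z, hO' hz⟩ := hg ⟨z, hO' hz⟩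
  have := ht ⟨z, hO' hz⟩ k hik hjk (O' ⊓ O ⟨z, hO' hz⟩) inf_le_right (inf_le_left.trans hO'k)
  rw [← hgx, mres_mres] at this
  exact this

variable
  (hsupp : ∀ (j : J) (W : X.Opens), Function.Bijective (mres (T.obj j) (inf_le_left : W ⊓ V j ≤ W)))
  (hmono : ∀ (i j : J), i ≤ j → V j ≤ V i)

include hbij hcov hsupp hmono in
theorem exists_good {i : J} {W : X.Opens} (hW : W ≤ V i) (τ : Γ(T.obj i, W)) (j : J) :
    ∃ t : Γ(T.obj j, W), Good T V τ j W le_rfl t := by
  obtain ⟨t₀, ht₀⟩ := exists_good_inf hbij hcov hW τ j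
  obtain ⟨t, ht⟩ := (hsupp j W).surjective t₀
  refine ⟨t, ?_⟩
  intro k hik hjk O hO hOk
  have hOj : O ≤ W ⊓ V j := le_inf hO (hOk.trans (hmono j k hjk))
  have := ht₀ k hik hjk O hOj hOk
  rw [← ht, mres_mres] at this
  exact this

include hbij hcov hsupp in
theorem good_unique {i : J} {W : X.Opens} (hW : W ≤ V i) {τ : Γ(T.obj i, W)} {j : J} {t t' : Γ(T.obj j, W)}
    (h : Good T V τ j W le_rfl t) (h' : Good T V τ j W le_rfl t') : t = t' := by
  apply (hsupp j W).injective
  exact good_unique_of_le hbij hcov hW inf_le_right (h.restrict inf_le_left) (h'.restrict inf_le_left)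

include hbij hcov hsupp hmono in
/-- the projections of the limit of a diagram of modules "supported on charts" are bijective on sections over
opens inside the corresponding chart -/
theorem bijective_limit_π (i : J) (W : X.Opens) (hW : W ≤ V i) :
    Function.Bijective ((limit.π T i).app W) := by
  have hgood : ∀ (s : Γ(limit T, W)) (j : J),
      Good T V ((limit.π T i).app W s) j W le_rfl ((limit.π T j).app W s) := by
    intro s j k hik hjk O hO hOk
    rw [app_mres, app_mres, limit_section_w, limit_section_w]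
  constructor
  · intro s s' h
    refine limit_section_ext T W s s' fun j => ?_
    have h1 := hgood s j
    have h2 := hgood s' j
    rw [← h] at h2
    exact good_unique hbij hcov hsupp hW h1 h2
  · intro τ
    choose t ht using fun j => exists_good hbij hcov hsupp hmono hW τ j
    have hti : t i = τ := good_unique hbij hcov hsupp hW (ht i) (fun k hik hjk O hO hOk => rfl)
    obtain ⟨s, hs⟩ := limit_section_mk T W t (by
      intro j j' hjj'
      refine good_unique hbij hcov hsupp hW ?_ (ht j')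
      intro k hik hj'k O hO hOk
      rw [← app_mres, map_map_app]
      exact ht j k hik (hjj'.trans hj'k) O hO hOk)
    exact ⟨s, (hs i).trans hti⟩

end bij

end Groth.Agent.Lib.Helper42.ModLimit
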