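import Groth.Agent.Lib.Helper42.AwayBaseChange
import Groth.Agent.Lib.Helper42.PolyGraded

/-!
# `(A[z])_(f) = A_(f)[z/f]` for `f` homogeneous of degree one
-/

set_option autoImplicit false
universe u

open HomogeneousLocalization DirectSum Polynomial

namespace Groth.Agent.Lib.Helper42

namespace PolyAway

section mk

variable {B : Type u} [CommRing B]

theorem mk_pw_mul_pow (g : B) (b : B) (m : ℕ) :
    Localization.mk b (AwayRetraction.pw g m) * (algebraMap B (Localization.Away g) g) ^ m =
      algebraMap B (Localization.Away g) b := by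
  rw [← map_pow, ← Localization.mk_one_eq_algebraMap, ← Localization.mk_one_eq_algebraMap,
    Localization.mk_mul, Localization.mk_eq_mk_iff, Localization.r_iff_exists]
  exact ⟨1, by simp; ring⟩

end mk

variable {A B σ τ : Type u} [CommRing A] [CommRing B]
  [SetLike σ A] [AddSubgroupClass σ A] [SetLike τ B] [AddSubgroupClass τ B]
  {𝒜 : ℕ → σ} {ℬ : ℕ → τ} [GradedRing 𝒜] [GradedRing ℬ] (φ : 𝒜 →+*ᵍ ℬ) (z : B)

theorem val_map {f : A} {d : ℕ} (hf : f ∈ 𝒜 d) (c : Away 𝒜 f) :
    (Away.map φ f c).val = Localization.awayMap (φ : A →+* B) f c.val := by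
  obtain ⟨n, a, ha, rfl⟩ := Away.mk_surjective 𝒜 hf c
  rw [Away.map_mk, Away.val_mk, Away.val_mk]
  exact (AwayBaseChange.awayMap_mk φ f a n).symm

/-- `A_f[X] → B_{φ f}`, `X ↦ z/1`. -/
noncomputable def lam (f : A) : (Localization.Away f)[X] →+* Localization.Away (φ f) :=
  eval₂RingHom (Localization.awayMap (φ : A →+* B) f) (algebraMap B _ z)

theorem lam_C (f : A) (y : Localization.Away f) :
    lam φ z f (C y) = Localization.awayMap (φ : A →+* B) f y := by
  unfold lam
  exact eval₂_C _ _

theorem lam_X (f : A) : lam φ z f X = algebraMap B _ z := by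
  unfold lam
  exact eval₂_X _ _

theorem lam_map (f : A) (q : A[X]) :
    lam φ z f (q.map (algebraMap A (Localization.Away f))) =
      algebraMap B (Localization.Away (φ f)) (eval₂ (φ : A →+* B) z q) := by
  unfold lam
  rw [coe_eval₂RingHom, eval₂_map, hom_eval₂]
  congr 1
  ext a
  exact AwayBaseChange.awayMap_algebraMap φ f a

theorem lam_injective (hinj : Function.Injective (eval₂RingHom (φ : A →+* B) z)) (f : A) :
    Function.Injective (lam φ z f) := by
  rw [injective_iff_map_eq_zero]
  intro Q hQ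
  obtain ⟨⟨b, n, rfl⟩, hb⟩ :=
    IsLocalization.integerNormalization_map_to_map (Submonoid.powers f) Q
  set Q' := IsLocalization.integerNormalization (Submonoid.powers f) Q
  change Q'.map (algebraMap A (Localization.Away f)) = (f ^ n) • Q at hb
  have hsm : (f ^ n) • Q = C (algebraMap A (Localization.Away f) (f ^ n)) * Q := by
    rw [Algebra.smul_def]
    rfl
  have h1 : algebraMap B (Localization.Away (φ f)) (eval₂ (φ : A →+* B) z Q') = 0 := by
    rw [← lam_map, hb, hsm, map_mul, hQ, mul_zero]
  obtain ⟨⟨_, k, rfl⟩, hk⟩ := (IsLocalization.map_eq_zero_iff (Submonoid.powers (φ f)) _ _).mp h1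
  have h2 : eval₂RingHom (φ : A →+* B) z (C (f ^ k) * Q') = 0 := by
    rw [coe_eval₂RingHom, eval₂_mul, eval₂_C, map_pow]
    exact hk
  have h3 : C (f ^ k) * Q' = 0 := hinj (h2.trans (map_zero _).symm)
  have h4 := congrArg (Polynomial.map (algebraMap A (Localization.Away f))) h3
  rw [Polynomial.map_mul, Polynomial.map_C, hb, hsm, Polynomial.map_zero, ← mul_assoc, ← C_mul,
    ← map_mul, ← pow_add] at h4
  have hu : IsUnit (C (algebraMap A (Localization.Away f) (f ^ (k + n)))) := by
    rw [map_pow]
    exact ((IsLocalization.Away.algebraMap_isUnit f).pow _).map C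
  exact (hu.mul_right_eq_zero).mp h4

variable {z} (hz : z ∈ ℬ 1) {f : A} (hf : f ∈ 𝒜 1)

/-- `z / φ f`. -/
noncomputable def tt : Away ℬ (φ f) :=
  Away.mk ℬ (Graded.map_mem φ hf) 1 z (by rwa [smul_eq_mul, mul_one])

theorem val_tt : (tt φ hz hf).val = Localization.mk z (AwayRetraction.pw (φ f) 1) :=
  Away.val_mk _ _ _ _ _

/-- `A_(f)[X] → B_(φ f)`, `X ↦ z / φ f`. -/
noncomputable def toAway : (Away 𝒜 f)[X] →+* Away ℬ (φ f) :=
  eval₂RingHom (Away.map φ f) (tt φ hz hf)

theorem toAway_C (c : Away 𝒜 f) : toAway φ hz hf (C c) = Away.map φ f c := eval₂_C _ _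

theorem toAway_X : toAway φ hz hf X = tt φ hz hf := eval₂_X _ _

/-- `1 / f`. -/
noncomputable def uinv (f : A) : Localization.Away f := Localization.mk 1 (AwayRetraction.pw f 1)

theorem uinv_mul (f : A) : uinv f * algebraMap A (Localization.Away f) f = 1 := by
  have := mk_pw_mul_pow f 1 1
  rwa [pow_one, map_one] at this

theorem isUnit_uinv (f : A) : IsUnit (uinv f) := IsUnit.of_mul_eq_one _ (uinv_mul f)

theorem val_toAway (P : (Away 𝒜 f)[X]) :
    (toAway φ hz hf P).val =
      lam φ z f ((P.map (algebraMap (Away 𝒜 f) (Localization.Away f))).comp (C (uinv f) * X)) := by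
  have h : (algebraMap (Away ℬ (φ f)) (Localization.Away (φ f))).comp (toAway φ hz hf) =
      (lam φ z f).comp ((compRingHom (C (uinv f) * X)).comp
        (mapRingHom (algebraMap (Away 𝒜 f) (Localization.Away f)))) := by
    apply Polynomial.ringHom_ext
    · intro c
      change (toAway φ hz hf (C c)).val = lam φ z f (((C c).map _).comp _)
      rw [toAway_C, val_map φ hf, Polynomial.map_C, C_comp, lam_C]
      rfl
    · change (toAway φ hz hf X).val = lam φ z f ((X.map _).comp _)
      rw [toAway_X, val_tt, Polynomial.map_X, X_comp, map_mul, lam_C, lam_X]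
      unfold uinv
      rw [AwayBaseChange.awayMap_mk, map_one, ← Localization.mk_one_eq_algebraMap, Localization.mk_mul,
        one_mul, mul_one]
  exact DFunLike.congr_fun h P

theorem comp_C_mul_X_injective {S : Type u} [CommRing S] {r : S} (hr : IsUnit r) :
    Function.Injective fun Q : S[X] => Q.comp (C r * X) := by
  intro Q₁ Q₂ h
  ext n
  have h1 := congrArg (fun Q => Q.coeff n) h
  simp only [comp_C_mul_X_coeff] at h1
  exact (hr.pow n).mul_left_injective h1

include hz hf in
theorem toAway_injective (hinj : Function.Injective (eval₂RingHom (φ : A →+* B) z)) :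
    Function.Injective (toAway φ hz hf) := by
  intro P₁ P₂ h
  have h1 : (toAway φ hz hf P₁).val = (toAway φ hz hf P₂).val := by rw [h]
  rw [val_toAway, val_toAway] at h1
  have h2 := comp_C_mul_X_injective (isUnit_uinv f) (lam_injective φ z hinj f h1)
  exact Polynomial.map_injective _ (HomogeneousLocalization.val_injective _) h2

theorem val_toAway_monomial_mul (n i : ℕ) (hi : i ≤ n) {a : A} (ha : a ∈ 𝒜 ((n - i) • 1)) :
    (toAway φ hz hf (monomial i (AwayBaseChange.projMk 𝒜 hf (n - i) a))).val *
      (algebraMap B (Localization.Away (φ f)) (φ f)) ^ n =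
        algebraMap B (Localization.Away (φ f)) (φ a * z ^ i) := by
  rw [← C_mul_X_pow_eq_monomial, map_mul, map_pow, toAway_C, toAway_X, AwayBaseChange.projMk_of_mem 𝒜 hf _ ha,
    Away.map_mk, HomogeneousLocalization.val_mul, HomogeneousLocalization.val_pow, Away.val_mk, val_tt]
  have hpow : (algebraMap B (Localization.Away (φ f)) (φ f)) ^ n =
      (algebraMap B (Localization.Away (φ f)) (φ f)) ^ (n - i) *
        (algebraMap B (Localization.Away (φ f)) (φ f)) ^ i := by
    rw [← pow_add]
    congr 1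
    omega
  have e1 := mk_pw_mul_pow (φ f) (φ a) (n - i)
  have e2 := mk_pw_mul_pow (φ f) z 1
  rw [pow_one] at e2
  have key : ∀ X₁ X₂ w : Localization.Away (φ f),
      X₁ * X₂ ^ i * (w ^ (n - i) * w ^ i) = (X₁ * w ^ (n - i)) * (X₂ * w) ^ i := by
    intros; ring
  change Localization.mk (φ a) (AwayRetraction.pw (φ f) (n - i)) * _ ^ i * _ = _
  rw [hpow, key, e1, e2, map_mul, map_pow]

include hz hf in
theorem toAway_surjective (hbij : Function.Bijective (eval₂RingHom (φ : A →+* B) z)) :
    Function.Surjective (toAway φ hz hf) := by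
  intro c
  obtain ⟨n, b, hb, rfl⟩ := Away.mk_surjective ℬ (Graded.map_mem φ hf) c
  obtain ⟨q, hq⟩ := hbij.2 b
  have hq' : eval₂ (φ : A →+* B) z q = b := hq
  have hb' : eval₂ (φ : A →+* B) z q ∈ ℬ (n • 1) := by rw [hq']; exact hb
  have hc := coeff_mem_of_mem φ z hz hbij.1 (n • 1) q hb'
  refine ⟨∑ i ∈ Finset.range (n + 1),
    monomial i (AwayBaseChange.projMk 𝒜 hf (n - i) (q.coeff i)), ?_⟩
  apply HomogeneousLocalization.val_injective
  rw [Away.val_mk]
  have hw : IsUnit ((algebraMap B (Localization.Away (φ f)) (φ f)) ^ n) :=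
    (IsLocalization.Away.algebraMap_isUnit (φ f)).pow n
  apply hw.mul_left_injective
  change _ * _ ^ n = Localization.mk b (AwayRetraction.pw (φ f) n) * _ ^ n
  rw [mk_pw_mul_pow, map_sum]
  have hsum : (∑ i ∈ Finset.range (n + 1),
      toAway φ hz hf (monomial i (AwayBaseChange.projMk 𝒜 hf (n - i) (q.coeff i)))).val =
      ∑ i ∈ Finset.range (n + 1),
        (toAway φ hz hf (monomial i (AwayBaseChange.projMk 𝒜 hf (n - i) (q.coeff i)))).val :=
    map_sum (algebraMap (Away ℬ (φ f)) (Localization.Away (φ f))) _ _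
  rw [hsum, Finset.sum_mul]
  have hterm : ∀ i ∈ Finset.range (n + 1),
      (toAway φ hz hf (monomial i (AwayBaseChange.projMk 𝒜 hf (n - i) (q.coeff i)))).val *
        (algebraMap B (Localization.Away (φ f)) (φ f)) ^ n =
          algebraMap B (Localization.Away (φ f)) (φ (q.coeff i) * z ^ i) := by
    intro i hi
    have hin : i ≤ n := by
      have := Finset.mem_range.mp hi
      omega
    refine val_toAway_monomial_mul φ hz hf n i hin ?_
    have := (hc i).1
    rwa [smul_eq_mul, mul_one] at this ⊢
  rw [Finset.sum_congr rfl hterm, ← map_sum]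
  congr 1
  have hdeg : q.natDegree < n + 1 := by
    have : q.natDegree ≤ n := natDegree_le_iff_coeff_eq_zero.mpr fun N hN => (hc N).2 (by
      rwa [smul_eq_mul, mul_one])
    omega
  rw [← hq', eval₂_eq_sum_range' (φ : A →+* B) hdeg z]
  rfl

include hz hf in
theorem toAway_bijective (hbij : Function.Bijective (eval₂RingHom (φ : A →+* B) z)) :
    Function.Bijective (toAway φ hz hf) :=
  ⟨toAway_injective φ hz hf hbij.1, toAway_surjective φ hz hf hbij⟩

/-- `A_(f)[X] ≃ B_(φ f)` as algebras over `A_(f)`. -/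
noncomputable def equiv (hbij : Function.Bijective (eval₂RingHom (φ : A →+* B) z)) :
    letI := (Away.map φ f).toAlgebra
    (Away 𝒜 f)[X] ≃ₐ[Away 𝒜 f] Away ℬ (φ f) :=
  letI := (Away.map φ f).toAlgebra
  AlgEquiv.ofBijective
    { toAway φ hz hf with
      commutes' := fun c => toAway_C φ hz hf c }
    (toAway_bijective φ hz hf hbij)

include hz hf in
theorem finiteType (hbij : Function.Bijective (eval₂RingHom (φ : A →+* B) z)) :
    (Away.map φ f).FiniteType := by
  letI := (Away.map φ f).toAlgebra
  exact Algebra.FiniteType.of_surjective (equiv φ hz hf hbij : (Away 𝒜 f)[X] →ₐ[Away 𝒜 f] Away ℬ (φ f))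
    (equiv φ hz hf hbij).surjective

end PolyAway

end Groth.Agent.Lib.Helper42
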