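import Groth.Prelude.Def_PCone
import Groth.Agent.Lib.Helper42.PolyAway
import Groth.Agent.Lib.Helper42.ProjQMapAbs
import Groth.Agent.Lib.Helper42.LocalCharts
import Groth.Agent.Lib.Helper42.FibreChart
import Groth.Agent.Lib.Helper42.LaurentPushout

/-!
# The pointed projective cone over an affine base and its retraction onto `Proj`
-/

set_option autoImplicit false
universe u

open CategoryTheory CategoryTheory.Limits AlgebraicGeometry TopologicalSpace Opposite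
open HomogeneousLocalization
open scoped HomogeneousIdeal

namespace Groth.Agent.Lib.Helper42

namespace PConeAbs

variable {R A B : Type u} [CommRing R] [CommRing A] [Algebra R A] {𝒜 : ℕ → Submodule R A} [GradedAlgebra 𝒜]
  [CommRing B] [Algebra R B] {ℬ : ℕ → Submodule R B} [GradedAlgebra ℬ] (φ : 𝒜 →+*ᵍ ℬ)

theorem chart_ι {d : ℕ} {f : A} (hf : f ∈ 𝒜 d) (hd : 0 < d) :
    PCone.chart φ hf hd ≫ (PCone.dom φ).ι = Proj.awayι ℬ (φ f) (φ.2 hf) hd :=
  IsOpenImmersion.lift_fac _ _ _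

instance {d : ℕ} {f : A} (hf : f ∈ 𝒜 d) (hd : 0 < d) : IsOpenImmersion (PCone.chart φ hf hd) := by
  have : IsOpenImmersion (PCone.chart φ hf hd ≫ (PCone.dom φ).ι) := by
    rw [chart_ι]; infer_instance
  exact IsOpenImmersion.of_comp _ (PCone.dom φ).ι

theorem chart_apply {d : ℕ} {f : A} (hf : f ∈ 𝒜 d) (hd : 0 < d)
    (s : Spec (CommRingCat.of (Away ℬ (φ f)))) :
    ((PCone.chart φ hf hd).base s).1 = (Proj.awayι ℬ (φ f) (φ.2 hf) hd).base s :=
  congrArg (fun m => m.base s) (chart_ι φ hf hd)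

theorem mem_range_chart_iff {d : ℕ} {f : A} (hf : f ∈ 𝒜 d) (hd : 0 < d) (e : (PCone.dom φ : Scheme.{u})) :
    e ∈ Set.range (PCone.chart φ hf hd).base ↔ e.1 ∈ Proj.basicOpen ℬ (φ f) := by
  rw [← Proj.opensRange_awayι ℬ (φ f) (φ.2 hf) hd]
  constructor
  · rintro ⟨s, rfl⟩
    exact ⟨s, (chart_apply φ hf hd s).symm⟩
  · rintro ⟨s, hs⟩
    exact ⟨s, Subtype.ext ((chart_apply φ hf hd s).trans hs)⟩

theorem exists_mem_basicOpen (e : (PCone.dom φ : Scheme.{u})) :
    ∃ (d : ℕ) (_ : 0 < d) (g : A) (_ : g ∈ 𝒜 d), e.1 ∈ Proj.basicOpen ℬ (φ g) := by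
  have he := e.2
  unfold PCone.dom at he
  obtain ⟨⟨g, d, hd, hg⟩, hge⟩ := Opens.mem_iSup.mp he
  exact ⟨d, hd, g, hg, hge⟩

variable (p : (PCone.dom φ : Scheme.{u}) ⟶ Proj 𝒜)
  (hp : ∀ (d : ℕ) (f : A) (hd : 0 < d) (hf : f ∈ 𝒜 d),
    PCone.chart φ hf hd ≫ p =
      Spec.map (CommRingCat.ofHom (Away.map φ f)) ≫ Proj.awayι 𝒜 f hf hd)

include hp in
theorem preimage_basicOpen {d : ℕ} (hd : 0 < d) {f : A} (hf : f ∈ 𝒜 d) :
    (PCone.chart φ hf hd).opensRange = p ⁻¹ᵁ Proj.basicOpen 𝒜 f := by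
  ext e
  change e ∈ Set.range (PCone.chart φ hf hd).base ↔ p.base e ∈ Proj.basicOpen 𝒜 f
  rw [mem_range_chart_iff]
  obtain ⟨e', he', g, hg, hge⟩ := exists_mem_basicOpen φ e
  obtain ⟨s, rfl⟩ := (mem_range_chart_iff φ hg he' e).mpr hge
  have h1 := congrArg (fun m => m.base s) (hp e' g he' hg)
  have h2 : p.base ((PCone.chart φ hg he').base s) =
      (Proj.awayι 𝒜 g hg he').base ((Spec.map (CommRingCat.ofHom (Away.map φ g))).base s) := h1
  rw [h2, awayι_mem_basicOpen_iff φ he' hd hg hf s, chart_apply]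

variable (hgen : (HomogeneousIdeal.irrelevant 𝒜).toIdeal = Ideal.span (𝒜 1 : Set A))

include hgen in
theorem iSup_basicOpen_degOne : (⨆ f : {f : A // f ∈ 𝒜 1}, Proj.basicOpen 𝒜 f.1) = ⊤ := by
  refine Proj.iSup_basicOpen_eq_top 𝒜 (fun f : {f : A // f ∈ 𝒜 1} => f.1) ?_
  rw [hgen]
  refine Ideal.span_mono ?_
  intro a ha
  exact ⟨⟨a, ha⟩, rfl⟩

include hp hgen in
theorem iff_forall_degOne (P : MorphismProperty Scheme.{u}) [IsZariskiLocalAtTarget P] :
    P p ↔ ∀ f : {f : A // f ∈ 𝒜 1}, P (Spec.map (CommRingCat.ofHom (Away.map φ f.1))) :=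
  iff_of_charts P p (fun f : {f : A // f ∈ 𝒜 1} => Proj.basicOpen 𝒜 f.1)
    (iSup_basicOpen_degOne hgen) (fun f => PCone.chart φ f.2 one_pos)
    (fun f => Proj.awayι 𝒜 f.1 f.2 one_pos)
    (fun f => preimage_basicOpen φ p hp one_pos f.2)
    (fun f => Proj.opensRange_awayι _ _ _ _)
    (fun f => Spec.map (CommRingCat.ofHom (Away.map φ f.1)))
    (fun f => hp 1 f.1 one_pos f.2)

variable {z : B} (hz : z ∈ ℬ 1)
  (hbij : Function.Bijective (Polynomial.eval₂RingHom (φ : A →+* B) z))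

include hp hgen hz hbij in
theorem locallyOfFiniteType : LocallyOfFiniteType p := by
  rw [iff_forall_degOne φ p hp hgen @LocallyOfFiniteType]
  intro f
  rw [HasRingHomProperty.Spec_iff (P := @LocallyOfFiniteType)]
  exact PolyAway.finiteType φ hz f.2 hbij

include hp hgen in
theorem quasiCompact : QuasiCompact p := by
  rw [iff_forall_degOne φ p hp hgen @QuasiCompact]
  intro f
  infer_instance

include hp hgen hz hbij in
theorem exists_fibre_iso (x : Proj 𝒜) :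
    ∃ e : pullback p ((Proj 𝒜).fromSpecResidueField x) ≅
        Spec (CommRingCat.of (Polynomial ((Proj 𝒜).residueField x))),
      e.hom ≫ Spec.map (CommRingCat.ofHom (algebraMap ((Proj 𝒜).residueField x)
        (Polynomial ((Proj 𝒜).residueField x)))) =
          pullback.snd p ((Proj 𝒜).fromSpecResidueField x) := by
  have hx : x ∈ (⊤ : (Proj 𝒜).Opens) := trivial
  rw [← iSup_basicOpen_degOne hgen] at hx
  obtain ⟨f, hxf⟩ := Opens.mem_iSup.mp hx
  rw [← Proj.opensRange_awayι 𝒜 f.1 f.2 one_pos] at hxf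
  obtain ⟨χ, hχ⟩ := exists_residue_hom_of_mem_range x (Proj.awayι 𝒜 f.1 f.2 one_pos) hxf
  letI := (Away.map φ f.1).toAlgebra
  obtain ⟨ξ, hpo⟩ := exists_isPushout_polynomial (PolyAway.equiv φ hz f.2 hbij)
    ((Proj 𝒜).residueField x) χ.hom
  refine exists_fibre_iso_of_chart p x (Proj.awayι 𝒜 f.1 f.2 one_pos) (PCone.chart φ f.2 one_pos)
    (CommRingCat.ofHom (Away.map φ f.1))
    (hp 1 f.1 one_pos f.2) ?_ χ hχ _ (CommRingCat.ofHom ξ) hpo
  rw [Proj.opensRange_awayι]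
  exact (preimage_basicOpen φ p hp one_pos f.2).symm

end PConeAbs

end Groth.Agent.Lib.Helper42
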