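import Groth.Prelude.Def_ModSite2

/-!
# Germs at a point of a site: finite families

For a point `p` of a small site and a presheaf `P` with values in a concrete category whose forgetful
functor preserves filtered colimits (as in Mathlib's `GrothendieckTopology.Point`), neighbourhoods of `p`
are the objects `N : p.fiber.Elements`.

* `germ p P N : P(N.1) → P_p`, `germ_map` (compatibility with refinement of neighbourhoods).
* `exists_rep_fin`: finitely many elements of the fibre are germs over a common neighbourhood refining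
  a given one.
* `exists_eq_fin`: finitely many equalities of germs hold over a common refinement.
* for sheaves of modules: `gH`, `gR` (germ maps as additive / ring homomorphisms), `gH_map`, `gR_map`,
  `gH_smul`, `gH_sum_smul`.
-/

set_option autoImplicit false
universe u
open CategoryTheory CategoryTheory.Limits Opposite

namespace Groth.Agent.Lib.Helper42
namespace PointGerm

noncomputable section

section General

variable {C : Type u} [SmallCategory C] {J : GrothendieckTopology C}
  (p : GrothendieckTopology.Point.{u} J)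
  {A : Type (u + 1)} [Category.{u} A] [HasColimitsOfSize.{u, u} A]
  {FC : A → A → Type*} {CC : A → Type u}
  [∀ (X Y : A), FunLike (FC X Y) (CC X) (CC Y)] [ConcreteCategory.{u} A FC]
  [PreservesFilteredColimitsOfSize.{u, u} (forget A)]
  (P : Cᵒᵖ ⥤ A)

/-- the germ of a section over a neighbourhood of the point -/
def germ (N : p.fiber.Elements) (s : ToType (P.obj (op N.1))) : ToType (p.presheafFiber.obj P) :=
  p.toPresheafFiber N.1 N.2 P s

lemma germ_map {W N : p.fiber.Elements} (h : W ⟶ N) (s : ToType (P.obj (op N.1))) :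
    germ p P W (P.map h.1.op s) = germ p P N s := by
  have h1 := p.toPresheafFiber_w_apply h.1 W.2 P s
  have h2 : p.fiber.map h.1 W.2 = N.2 := h.2
  rw [h2] at h1
  exact h1

lemma germ_surjective (q : ToType (p.presheafFiber.obj P)) :
    ∃ (N : p.fiber.Elements) (s : ToType (P.obj (op N.1))), germ p P N s = q := by
  obtain ⟨U, u, s, hs⟩ := p.toPresheafFiber_jointly_surjective q
  exact ⟨⟨U, u⟩, s, hs⟩

lemma exists_eq_of_germ_eq {N : p.fiber.Elements} (s s' : ToType (P.obj (op N.1)))
    (h : germ p P N s = germ p P N s') :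
    ∃ (W : p.fiber.Elements) (g : W ⟶ N), P.map g.1.op s = P.map g.1.op s' := by
  obtain ⟨V, f, v, hv, hf⟩ := (p.toPresheafFiber_eq_iff' N.1 N.2 s s').mp h
  exact ⟨⟨V, v⟩, ⟨f, hv⟩, hf⟩

/-- finitely many elements of the fibre are germs over a common neighbourhood refining a given
one -/
lemma exists_rep_fin {ι : Type} [Finite ι] (q : ι → ToType (p.presheafFiber.obj P))
    (N₀ : p.fiber.Elements) :
    ∃ (W : p.fiber.Elements) (_ : W ⟶ N₀) (s : ι → ToType (P.obj (op W.1))),
      ∀ i, germ p P W (s i) = q i := by
  induction ι using Finite.induction_empty_option with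
  | of_equiv e ih =>
    obtain ⟨W, h, s, hs⟩ := ih (fun a => q (e a))
    exact ⟨W, h, fun b => s (e.symm b), fun b => by rw [hs, Equiv.apply_symm_apply]⟩
  | h_empty => exact ⟨N₀, 𝟙 _, fun a => a.elim, fun a => a.elim⟩
  | h_option ih =>
    obtain ⟨W, h, s, hs⟩ := ih (fun a => q (some a))
    obtain ⟨N', s₀, hs₀⟩ := germ_surjective p P (q none)
    let W' := IsCofiltered.min W N'
    let g₁ : W' ⟶ W := IsCofiltered.minToLeft W N'
    let g₂ : W' ⟶ N' := IsCofiltered.minToRight W N'
    refine ⟨W', g₁ ≫ h, fun o => Option.rec (P.map g₂.1.op s₀) (fun a => P.map g₁.1.op (s a)) o,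
      fun o => ?_⟩
    cases o with
    | none => exact (germ_map p P g₂ s₀).trans hs₀
    | some a => exact (germ_map p P g₁ (s a)).trans (hs a)

/-- finitely many equalities of germs hold over a common refinement -/
lemma exists_eq_fin {ι : Type} [Finite ι] {N : p.fiber.Elements}
    (s s' : ι → ToType (P.obj (op N.1))) (h : ∀ i, germ p P N (s i) = germ p P N (s' i)) :
    ∃ (W : p.fiber.Elements) (g : W ⟶ N), ∀ i, P.map g.1.op (s i) = P.map g.1.op (s' i) := by
  induction ι using Finite.induction_empty_option with
  | of_equiv e ih =>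
    obtain ⟨W, g, hg⟩ := ih (fun a => s (e a)) (fun a => s' (e a)) (fun a => h (e a))
    exact ⟨W, g, fun b => by simpa using hg (e.symm b)⟩
  | h_empty => exact ⟨N, 𝟙 _, fun a => a.elim⟩
  | h_option ih =>
    obtain ⟨W, g, hg⟩ := ih (fun a => s (some a)) (fun a => s' (some a)) (fun a => h (some a))
    have h0 : germ p P W (P.map g.1.op (s none)) = germ p P W (P.map g.1.op (s' none)) := by
      rw [germ_map, germ_map]
      exact h none
    obtain ⟨W', g', hg'⟩ := exists_eq_of_germ_eq p P _ _ h0
    refine ⟨W', g' ≫ g, fun o => ?_⟩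
    have hcomp : ∀ t : ToType (P.obj (op N.1)),
        P.map (g' ≫ g).1.op t = P.map g'.1.op (P.map g.1.op t) := by
      intro t
      have : (g' ≫ g).1.op = g.1.op ≫ g'.1.op := rfl
      rw [this, P.map_comp]
      exact ConcreteCategory.comp_apply _ _ _
    cases o with
    | none => rw [hcomp, hcomp, hg']
    | some a => rw [hcomp, hcomp, hg a]

end General

section Module

variable {C : Type u} [SmallCategory C] {J : GrothendieckTopology C}
  (p : GrothendieckTopology.Point.{u} J) {O : Sheaf J CommRingCat.{u}} (F : ModSite.Mod O)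

/-- germ map of a sheaf of modules, as an additive map -/
def gH (N : p.fiber.Elements) : F.val.obj (op N.1) →+ ModSite.stalkAb p F :=
  (p.toPresheafFiber N.1 N.2 (ModSite.toAb F).obj).hom

variable (O) in
/-- germ map of the structure sheaf, as a ring homomorphism -/
def gR (N : p.fiber.Elements) : O.obj.obj (op N.1) →+* ModSite.stalkRing p O :=
  (p.toPresheafFiber N.1 N.2 O.obj).hom

lemma gH_eq_germ (N : p.fiber.Elements) (s : F.val.obj (op N.1)) :
    gH p F N s = germ p (ModSite.toAb F).obj N s := rfl

lemma gR_eq_germ (N : p.fiber.Elements) (r : O.obj.obj (op N.1)) :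
    gR p O N r = germ p O.obj N r := rfl

lemma gH_map {W N : p.fiber.Elements} (h : W ⟶ N) (s : F.val.obj (op N.1)) :
    gH p F W (F.val.map h.1.op s) = gH p F N s := by
  have h1 := germ_map p (ModSite.toAb F).obj h (s : ToType ((ModSite.toAb F).obj.obj (op N.1)))
  exact h1

lemma gR_map {W N : p.fiber.Elements} (h : W ⟶ N) (r : O.obj.obj (op N.1)) :
    gR p O W ((O.obj.map h.1.op).hom r) = gR p O N r :=
  germ_map p O.obj h r

lemma gH_smul (N : p.fiber.Elements) (r : O.obj.obj (op N.1)) (s : F.val.obj (op N.1)) :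
    gH p F N (r • s) = gR p O N r • gH p F N s :=
  ModSite.germ_smul p F N.1 N.2 r s

lemma gH_sum_smul (N : p.fiber.Elements) {ι : Type*} (t : Finset ι) (r : ι → O.obj.obj (op N.1))
    (s : ι → F.val.obj (op N.1)) :
    gH p F N (∑ i ∈ t, r i • s i) = ∑ i ∈ t, gR p O N (r i) • gH p F N (s i) := by
  rw [map_sum]
  exact Finset.sum_congr rfl (fun i _ => gH_smul p F N (r i) (s i))

lemma gH_surjective (q : ModSite.stalkAb p F) :
    ∃ (N : p.fiber.Elements) (s : F.val.obj (op N.1)), gH p F N s = q :=
  germ_surjective p (ModSite.toAb F).obj q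

/-- germs commute with the map induced on stalks -/
lemma stalkMap_gH {F G : ModSite.Mod O} (φ : F ⟶ G) (N : p.fiber.Elements)
    (s : F.val.obj (op N.1)) :
    (ModSite.stalkMap p φ).hom (gH p F N s) = gH p G N (φ.val.app (op N.1) s) :=
  p.toPresheafFiber_naturality_apply
    ((SheafOfModules.toSheaf (ModSite.ringSh O)).map φ).hom N.1 N.2 s

/-- restriction of sections of a sheaf of modules is semilinear -/
lemma map_smul' (X : ModSite.Mod O) {U V : C} (g : V ⟶ U) (r : O.obj.obj (op U))
    (s : X.val.obj (op U)) :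
    X.val.map g.op (r • s) =
      (O.obj.map g.op).hom r • (show X.val.obj (op V) from X.val.map g.op s) :=
  X.val.map_smul g.op r s

lemma map_sum_smul (X : ModSite.Mod O) {U V : C} (g : V ⟶ U) {ι : Type*} (t : Finset ι)
    (r : ι → O.obj.obj (op U)) (s : ι → X.val.obj (op U)) :
    X.val.map g.op (∑ i ∈ t, r i • s i) =
      ∑ i ∈ t, (O.obj.map g.op).hom (r i) • (show X.val.obj (op V) from X.val.map g.op (s i)) := by
  rw [map_sum]
  exact Finset.sum_congr rfl (fun i _ => map_smul' X g (r i) (s i))

lemma map_comp' (X : ModSite.Mod O) {U V W : C} (g : V ⟶ U) (h : W ⟶ V) (s : X.val.obj (op U)) :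
    X.val.map (h ≫ g).op s = X.val.map h.op (X.val.map g.op s) :=
  PresheafOfModules.map_comp_apply X.val g.op h.op s

lemma ringMap_comp' {U V W : C} (g : V ⟶ U) (h : W ⟶ V) (r : O.obj.obj (op U)) :
    (O.obj.map (h ≫ g).op).hom r = (O.obj.map h.op).hom ((O.obj.map g.op).hom r) :=
  ConcreteCategory.congr_hom (O.obj.map_comp g.op h.op) r

end Module

end

end PointGerm
end Groth.Agent.Lib.Helper42
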