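import Groth.Agent.Lib.Helper42.AwayBaseChange
import Groth.Agent.Lib.Helper42.PullbackLocal
import Mathlib.AlgebraicGeometry.ProjectiveSpectrum.Functor

/-!
# `Proj` commutes with base change
-/

set_option autoImplicit false
universe u

open CategoryTheory CategoryTheory.Limits AlgebraicGeometry HomogeneousLocalization
open scoped HomogeneousIdeal

namespace Groth.Agent.Lib.Helper42

namespace AwayBaseChange

variable {R' R B A σ τ : Type u} [CommRing R'] [CommRing R] [CommRing B] [CommRing A]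
  [SetLike σ B] [AddSubgroupClass σ B] [SetLike τ A] [AddSubgroupClass τ A]
  {ℬ : ℕ → σ} {𝒜 : ℕ → τ} [GradedRing ℬ] [GradedRing 𝒜]
  [Algebra R' R] [Algebra R' B] [Algebra R A] [Algebra R' A] [Algebra B A]
  [IsScalarTower R' R A] [IsScalarTower R' B A]
  (φ : ℬ →+*ᵍ 𝒜) (hφA : ∀ b, φ b = algebraMap B A b)
  (hR' : ∀ r, algebraMap R' B r ∈ ℬ 0) (hR : ∀ r, algebraMap R A r ∈ 𝒜 0)

theorem isPullback_awayι (hirr : 𝒜₊ ≤ ℬ₊.map φ) {d : ℕ} (hd : 0 < d) {f : B} (hf : f ∈ ℬ d) :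
    IsPullback (Proj.awayι 𝒜 (φ f) (φ.map_mem hf) hd) (Spec.map (CommRingCat.ofHom (Away.map φ f)))
      (Proj.map φ hirr) (Proj.awayι ℬ f hf hd) := by
  refine (IsOpenImmersion.isPullback _ _ _ _ (Proj.awayι_comp_map φ hirr hd f hf) ?_).flip
  rw [Proj.opensRange_awayι, Proj.opensRange_awayι, Proj.map_preimage_basicOpen]

include hφA in
/-- `Proj` commutes with base change: the square of `Proj.map φ`, the structure morphisms and `Spec R → Spec R'`
is cartesian when `A = R ⊗_{R'} B`. -/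
theorem isPullback_projMap [Algebra.IsPushout R' R B A] (hirr : 𝒜₊ ≤ ℬ₊.map φ) :
    IsPullback (Proj.map φ hirr)
      (Proj.toSpecZero 𝒜 ≫ Spec.map (CommRingCat.ofHom (strZ 𝒜 hR)))
      (Proj.toSpecZero ℬ ≫ Spec.map (CommRingCat.ofHom (strZ ℬ hR')))
      (Spec.map (CommRingCat.ofHom (algebraMap R' R))) := by
  refine (isPullback_of_cover_base _ (Proj.map φ hirr) _ _ (Proj.affineOpenCover ℬ).openCover ?_).flip
  intro s
  refine ⟨Spec (CommRingCat.of (Away 𝒜 (φ (s.2 : B)))),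
    Proj.awayι 𝒜 (φ (s.2 : B)) (φ.map_mem s.2.2) s.1.2,
    Spec.map (CommRingCat.ofHom (Away.map φ (s.2 : B))),
    isPullback_awayι φ hirr s.1.2 s.2.2, ?_⟩
  have h1 : Proj.awayι 𝒜 (φ (s.2 : B)) (φ.map_mem s.2.2) s.1.2 ≫
      Proj.toSpecZero 𝒜 ≫ Spec.map (CommRingCat.ofHom (strZ 𝒜 hR)) =
      Spec.map (CommRingCat.ofHom ((fromZeroRingHom 𝒜 (.powers (φ (s.2 : B)))).comp (strZ 𝒜 hR))) := by
    rw [Proj.awayι_toSpecZero_assoc, ← Spec.map_comp]
    rfl
  have h2 : (Proj.affineOpenCover ℬ).openCover.f s ≫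
      Proj.toSpecZero ℬ ≫ Spec.map (CommRingCat.ofHom (strZ ℬ hR')) =
      Spec.map (CommRingCat.ofHom ((fromZeroRingHom ℬ (.powers (s.2 : B))).comp (strZ ℬ hR'))) := by
    change Proj.awayι ℬ (s.2 : B) s.2.2 s.1.2 ≫ _ = _
    rw [Proj.awayι_toSpecZero_assoc, ← Spec.map_comp]
    rfl
  rw [h1, h2]
  exact isPullback_SpecMap_of_isPushout _ _ _ _ (isPushout_away φ hφA (s.2 : B) hR' hR s.2.2)

end AwayBaseChange

end Groth.Agent.Lib.Helper42
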