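import Groth.Agent.Lib.Helper42.AwayBaseLoc
import Groth.Agent.Lib.Helper42.ProjMapLocal
import Mathlib.AlgebraicGeometry.Morphisms.OpenImmersion

/-!
# `Proj` of a degree-zero localization

If `ψ : 𝒜 →+*ᵍ ℬ` exhibits `B` as the localization of `A` at a degree-zero element `c`, then
`Proj ℬ ⟶ Proj 𝒜` is an open immersion onto the preimage of `D(c) ⊆ Spec 𝒜₀`.
-/

set_option autoImplicit false
universe u

open CategoryTheory CategoryTheory.Limits AlgebraicGeometry HomogeneousLocalization TopologicalSpace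
open scoped HomogeneousIdeal

namespace Groth.Agent.Lib.Helper42

variable {A B σ τ : Type u} [CommRing A] [CommRing B]
  [SetLike σ A] [AddSubgroupClass σ A] [SetLike τ B] [AddSubgroupClass τ B]
  {𝒜 : ℕ → σ} {ℬ : ℕ → τ} [GradedRing 𝒜] [GradedRing ℬ]
  (ψ : 𝒜 →+*ᵍ ℬ) (hirr : ℬ₊ ≤ 𝒜₊.map ψ) [Algebra A B] (hψ : ∀ a, algebraMap A B a = ψ a)
  {c : A} (hc : c ∈ 𝒜 0) [IsLocalization.Away c B]

include hψ hc in
theorem isOpenImmersion_spec_awayMap {d : ℕ} {f : A} (hf : f ∈ 𝒜 d) :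
    IsOpenImmersion (Spec.map (CommRingCat.ofHom (Away.map ψ f))) := by
  letI := (Away.map ψ f).toAlgebra
  haveI := isLocalization_away_awayMap ψ hψ hc hf
  exact IsOpenImmersion.of_isLocalization (fromZeroRingHom 𝒜 (.powers f) ⟨c, hc⟩)

include hψ hc in
theorem isOpenImmersion_projMap : IsOpenImmersion (Proj.map ψ hirr) := by
  rw [proj_map_iff @IsOpenImmersion ψ hirr]
  intro s
  exact isOpenImmersion_spec_awayMap ψ hψ hc s.2.2

include hψ in
theorem range_projMap :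
    Set.range (Proj.map ψ hirr) =
      (Proj.toSpecZero 𝒜) ⁻¹' (PrimeSpectrum.basicOpen (⟨c, hc⟩ : 𝒜 0) : Set (PrimeSpectrum (𝒜 0))) := by
  classical
  apply subset_antisymm
  · rintro _ ⟨y, rfl⟩
    obtain ⟨u, hu⟩ := (IsLocalization.Away.algebraMap_isUnit (S := B) c).exists_right_inv
    rw [hψ] at hu
    have hu0 : u ∈ ℬ 0 := mem_zero_of_mul_eq_one (ψ.map_mem hc) hu
    have hunit : IsUnit (zeroHom ψ ⟨c, hc⟩) :=
      IsUnit.of_mul_eq_one ⟨u, hu0⟩ (Subtype.ext hu)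
    have h1 : (Proj.toSpecZero 𝒜) ((Proj.map ψ hirr) y) =
        (Spec.map (CommRingCat.ofHom (zeroHom ψ))) ((Proj.toSpecZero ℬ) y) := by
      rw [← Scheme.Hom.comp_apply, ← Scheme.Hom.comp_apply, map_toSpecZero]
    change (Proj.toSpecZero 𝒜) ((Proj.map ψ hirr) y) ∈ PrimeSpectrum.basicOpen _
    rw [h1]
    change zeroHom ψ ⟨c, hc⟩ ∉ ((Proj.toSpecZero ℬ) y).asIdeal
    intro hmem
    exact ((Proj.toSpecZero ℬ) y).isPrime.ne_top (Ideal.eq_top_of_isUnit_mem _ hmem hunit)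
  · intro x hx
    have hx' : x ∈ (⊤ : (Proj 𝒜).Opens) := trivial
    rw [← iSup_basicOpen_sigma_eq_top 𝒜] at hx'
    obtain ⟨s, hs⟩ := Opens.mem_iSup.mp hx'
    rw [← Proj.opensRange_awayι 𝒜 (s.2 : A) s.2.2 s.1.2] at hs
    obtain ⟨q, rfl⟩ := hs
    have h1 : (Proj.toSpecZero 𝒜) ((Proj.awayι 𝒜 _ s.2.2 s.1.2) q) =
        (Spec.map (CommRingCat.ofHom (fromZeroRingHom 𝒜 (.powers (s.2 : A))))) q := by
      rw [← Scheme.Hom.comp_apply, Proj.awayι_toSpecZero]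
    have hq : fromZeroRingHom 𝒜 (.powers (s.2 : A)) ⟨c, hc⟩ ∉ q.asIdeal := by
      have := hx
      change (Proj.toSpecZero 𝒜) ((Proj.awayι 𝒜 _ s.2.2 s.1.2) q) ∈ PrimeSpectrum.basicOpen _ at this
      rw [h1] at this
      exact this
    let _ := (Away.map ψ (s.2 : A)).toAlgebra
    have := isLocalization_away_awayMap ψ hψ hc s.2.2
    have hrange := PrimeSpectrum.localization_away_comap_range (Away ℬ (ψ (s.2 : A)))
      (fromZeroRingHom 𝒜 (.powers (s.2 : A)) ⟨c, hc⟩)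
    have hq' : q ∈ Set.range (PrimeSpectrum.comap
        (algebraMap (Away 𝒜 (s.2 : A)) (Away ℬ (ψ (s.2 : A))))) := by
      rw [hrange]; exact hq
    obtain ⟨q', rfl⟩ := hq'
    refine ⟨(Proj.awayι ℬ (ψ (s.2 : A)) (ψ.map_mem s.2.2) s.1.2) q', ?_⟩
    exact congrArg (fun g : Spec (CommRingCat.of (Away ℬ (ψ (s.2 : A)))) ⟶ Proj 𝒜 => g q')
      (Proj.awayι_comp_map ψ hirr s.1.2 (s.2 : A) s.2.2)

end Groth.Agent.Lib.Helper42
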