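import Groth.Agent.Lib.Helper42.RelTwistInv
import Groth.Agent.Lib.Helper45.InvBasis
import Groth.Agent.Lib.Helper11.GenLocusBasis
import Groth.Agent.Lib.Helper42.RelProjBasicOpen
import Groth.Agent.Lib.Helper42.RelTwistComap

/-!
# Local bases of the relative twisting sheaves; `X_f` as a generation locus (helper42; S8342)
-/

set_option autoImplicit false
universe u
open CategoryTheory CategoryTheory.Limits AlgebraicGeometry Opposite TopologicalSpace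
open scoped HomogeneousIdeal
noncomputable section

namespace Groth.Agent.Lib.Helper42.RelTwistBasis

open Groth.Agent.Lib.Helper42.RelTilde Groth.Agent.Lib.Helper45 Groth.Agent.Lib.Helper49

section rel
variable {Y P : Scheme.{u}} {𝒮 : RelProj.QCGrAlg Y} {p : P ⟶ Y}
  {chart : ∀ (U : Y.Opens) (hU : IsAffineOpen U), (((p ⁻¹ᵁ U : P.Opens) : Scheme.{u}) ≅ Proj (𝒮.deg U hU))}
  {n : ℤ} {L : P.Modules}
  {lam : ∀ (U : Y.Opens) (hU : IsAffineOpen U),
      L ⟶ (Scheme.Modules.pushforward (RelProj.emb p chart U hU)).obj (GrTwist.twist (𝒮.deg U hU) n)}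

/-- functions on `W ⊆ P` as sections of the structure sheaf of the chart -/
def toOc (U : Y.Opens) (hU : IsAffineOpen U) (W : P.Opens) (r : Γ(P, W)) :
    GrTwist.O (𝒜 := 𝒮.deg U hU) (op (RelProj.emb p chart U hU ⁻¹ᵁ W)) :=
  ((RelProj.emb p chart U hU).app W).hom r

theorem val_lam_smul (U : Y.Opens) (hU : IsAffineOpen U) (W : P.Opens) (r : Γ(P, W)) (t : Γ(L, W))
    (y : (RelProj.emb p chart U hU ⁻¹ᵁ W : (Proj (𝒮.deg U hU)).Opens)) :
    GrTwist.val (V := RelProj.emb p chart U hU ⁻¹ᵁ W) ((lam U hU).app W (r • t)) y =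
      ((toOc U hU W r).1 y).val * GrTwist.val (V := RelProj.emb p chart U hU ⁻¹ᵁ W) ((lam U hU).app W t) y := by
  rw [Scheme.Modules.Hom.app_smul]
  exact GrTwist.coe_smul_val n y.1 ((toOc U hU W r).1 y) _

theorem toOc_bijective (U : Y.Opens) (hU : IsAffineOpen U) (W : P.Opens) (hW : W ≤ p ⁻¹ᵁ U) :
    Function.Bijective (toOc (chart := chart) U hU W) := by
  have : IsIso ((RelProj.emb p chart U hU).app W) :=
    Scheme.Hom.isIso_app _ W (by rw [opensRange_emb]; exact hW)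
  exact ConcreteCategory.bijective_of_isIso ((RelProj.emb p chart U hU).app W)

/-- a section of `O_P(n)` reading `u / v` on the chart over `U`, with `u`, `v` invertible on `V`, is a basis of `L` on `V` -/
theorem isBasisOn_of_val (hL : RelProj.IsRelTwist 𝒮 p chart n L lam) (U : Y.Opens) (hU : IsAffineOpen U)
    {a b : ℕ} {u v : 𝒮.presheaf.obj (op U)} (hu : u ∈ 𝒮.deg U hU a) (hv : v ∈ 𝒮.deg U hU b)
    (hab : (a : ℤ) = b + n) (V : P.Opens) (hV : V ≤ p ⁻¹ᵁ U)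
    (hVu : ∀ y : ProjectiveSpectrum (𝒮.deg U hU), (RelProj.emb p chart U hU).base y ∈ V → u ∉ y.asHomogeneousIdeal)
    (hVv : ∀ y : ProjectiveSpectrum (𝒮.deg U hU), (RelProj.emb p chart U hU).base y ∈ V → v ∉ y.asHomogeneousIdeal)
    (e : Γ(L, V))
    (he : ∀ (y : ProjectiveSpectrum (𝒮.deg U hU)) (hy : (RelProj.emb p chart U hU).base y ∈ V),
      GrTwist.val (V := RelProj.emb p chart U hU ⁻¹ᵁ V) ((lam U hU).app V e) ⟨y, hy⟩ =
        Localization.mk u ⟨v, hVv y hy⟩) :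
    IsBasisOn L V e := by
  intro W hW
  have hWU : W ≤ p ⁻¹ᵁ U := hW.trans hV
  have hval : ∀ (y : (RelProj.emb p chart U hU ⁻¹ᵁ W : (Proj (𝒮.deg U hU)).Opens)),
      GrTwist.val (V := RelProj.emb p chart U hU ⁻¹ᵁ W) ((lam U hU).app W (mres L hW e)) y =
        Localization.mk u ⟨v, hVv y.1 (hW y.2)⟩ := by
    intro y
    have h1 : (lam U hU).app W (mres L hW e) = _ := ModLocal.app_res (lam U hU) hW e
    rw [h1]
    exact he y.1 (hW y.2)
  have hWu : ∀ y : (RelProj.emb p chart U hU ⁻¹ᵁ W : (Proj (𝒮.deg U hU)).Opens), u ∉ y.1.asHomogeneousIdeal :=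
    fun y => hVu y.1 (hW y.2)
  have hWv : ∀ y : (RelProj.emb p chart U hU ⁻¹ᵁ W : (Proj (𝒮.deg U hU)).Opens), v ∉ y.1.asHomogeneousIdeal :=
    fun y => hVv y.1 (hW y.2)
  have hinj0 : ∀ r : Γ(P, W), r • mres L hW e = 0 → r = 0 := by
    intro r hr
    apply (toOc_bijective (chart := chart) U hU W hWU).injective
    have h0 : toOc (chart := chart) U hU W 0 = 0 := map_zero _
    rw [h0]
    apply Subtype.ext
    funext y
    refine TwistTrivA.eq_zero_of_val_mul_eq_zero (𝒮.deg U hU) y.1 (hWv y) (hWu y) _ ?_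
    rw [← hval y, ← val_lam_smul, hr, map_zero]
    rfl
  constructor
  · intro r r' hrr'
    have h1 : (r - r') • mres L hW e = 0 := by
      rw [sub_smul]; exact sub_eq_zero.mpr hrr'
    exact sub_eq_zero.mp (hinj0 _ h1)
  · intro t
    obtain ⟨ρ, hρ⟩ := TwistTrivA.exists_eq_val_mul (𝒮.deg U hU) n hu hv hab
      (RelProj.emb p chart U hU ⁻¹ᵁ W) hWv hWu ((lam U hU).app W t)
    obtain ⟨r, rfl⟩ := (toOc_bijective (chart := chart) U hU W hWU).surjective ρ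
    refine ⟨r, ?_⟩
    apply (hL.bijective U hU W hWU).injective
    refine RelTwistComap.twist_sect_ext (V := RelProj.emb p chart U hU ⁻¹ᵁ W) fun y => ?_
    rw [val_lam_smul, hval y]
    exact (hρ y).symm

theorem val_lam_mres (U : Y.Opens) (hU : IsAffineOpen U) {W W' : P.Opens} (hW : W' ≤ W) (t : Γ(L, W))
    (y : ProjectiveSpectrum (𝒮.deg U hU)) (hy : (RelProj.emb p chart U hU).base y ∈ W') :
    GrTwist.val (V := RelProj.emb p chart U hU ⁻¹ᵁ W') ((lam U hU).app W' (mres L hW t)) ⟨y, hy⟩ =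
      GrTwist.val (V := RelProj.emb p chart U hU ⁻¹ᵁ W) ((lam U hU).app W t) ⟨y, hW hy⟩ := by
  have h1 : (lam U hU).app W' (mres L hW t) = _ := ModLocal.app_res (lam U hU) hW t
  rw [h1]
  rfl

theorem mem_basicOpen_of_emb_mem_piece (f : 𝒮.presheaf.obj (op ⊤)) (U : Y.Opens) (hU : IsAffineOpen U)
    (y : ProjectiveSpectrum (𝒮.deg U hU))
    (hy : (RelProj.emb p chart U hU).base y ∈ piece 𝒮 p chart f U hU) :
    resTop 𝒮 f U ∉ y.asHomogeneousIdeal := by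
  obtain ⟨y', hy', e⟩ := hy
  have : y' = y := (RelProj.emb p chart U hU).isOpenEmbedding.injective e
  subst this
  exact (ProjectiveSpectrum.mem_basicOpen _ _ _).mp hy'

end rel

section genLocus
open Groth.Agent.Lib.Helper11.GenLocus
variable {Y P : Scheme.{u}} {𝒮 : RelProj.QCGrAlg Y} {p : P ⟶ Y}
  {chart : ∀ (U : Y.Opens) (hU : IsAffineOpen U), (((p ⁻¹ᵁ U : P.Opens) : Scheme.{u}) ≅ Proj (𝒮.deg U hU))}
  {d : ℕ} {L : P.Modules}
  {lam : ∀ (U : Y.Opens) (hU : IsAffineOpen U),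
      L ⟶ (Scheme.Modules.pushforward (RelProj.emb p chart U hU)).obj (GrTwist.twist (𝒮.deg U hU) (d : ℤ))}

theorem xf_le_genLocus (hL : RelProj.IsRelTwist 𝒮 p chart (d : ℤ) L lam)
    (f : 𝒮.presheaf.obj (op ⊤))
    (hf : ∀ (U : Y.Opens) (hU : IsAffineOpen U), resTop 𝒮 f U ∈ 𝒮.deg U hU d)
    (Xf : P.Opens)
    (hXf : ∀ (U : Y.Opens) (hU : IsAffineOpen U), Xf ⊓ p ⁻¹ᵁ U = piece 𝒮 p chart f U hU)
    (s : Coh.structureModule P ⟶ L)
    (hs : ∀ (U : Y.Opens) (hU : IsAffineOpen U) (y : Proj (𝒮.deg U hU)),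
      GrTwist.val (V := RelProj.emb p chart U hU ⁻¹ᵁ ⊤)
        ((lam U hU).app ⊤ (sec s ⊤)) ⟨y, Set.mem_univ _⟩ = Localization.mk (resTop 𝒮 f U) 1) :
    Xf ≤ CohB1.genLocus L s := by
  intro x hx
  obtain ⟨U, hU, hxU⟩ := exists_affine_mem p x
  have hV : Xf ⊓ p ⁻¹ᵁ U ≤ CohB1.genLocus L s := by
    rw [le_genLocus_iff_isBasisOn]
    have h1 : (1 : 𝒮.presheaf.obj (op U)) ∈ 𝒮.deg U hU 0 := SetLike.GradedOne.one_mem
    refine isBasisOn_of_val hL U hU (hf U hU) h1 (by simp) _ inf_le_right ?_ ?_ _ ?_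
    · intro y hy
      rw [hXf U hU] at hy
      exact mem_basicOpen_of_emb_mem_piece f U hU y hy
    · intro y hy h1y
      exact y.isPrime.ne_top ((Ideal.eq_top_iff_one _).mpr h1y)
    · intro y hy
      rw [← sec_mres s (le_top : Xf ⊓ p ⁻¹ᵁ U ≤ ⊤), val_lam_mres]
      exact hs U hU y
  exact hV ⟨hx, hxU⟩

theorem notMem_of_mul_mk_eq {A σ : Type u} [CommRing A] [SetLike σ A] [AddSubgroupClass σ A] {𝒜 : ℕ → σ}
    [GradedRing 𝒜] (y : ProjectiveSpectrum 𝒜) {f g : A} (hg : g ∉ y.asHomogeneousIdeal)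
    (c : GrTwist.Loc 𝒜 y) (h : c * Localization.mk f 1 = Localization.mk g 1) :
    f ∉ y.asHomogeneousIdeal := by
  intro hf
  induction c using Localization.induction_on with
  | H q =>
    obtain ⟨a, t⟩ := q
    rw [Localization.mk_mul, Localization.mk_eq_mk_iff, Localization.r_iff_exists] at h
    obtain ⟨w, hw⟩ := h
    have h1 : (w : A) * ((1 : A) * (a * f)) ∈ y.asHomogeneousIdeal.toIdeal :=
      Ideal.mul_mem_left _ _ (Ideal.mul_mem_left _ _ (Ideal.mul_mem_left _ _ hf))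
    have h2 : (w : A) * ((t : A) * g) ∈ y.asHomogeneousIdeal.toIdeal := by
      have : (w : A) * ((1 : A) * (a * f)) = (w : A) * ((t : A) * g) := by
        simpa [Submonoid.coe_mul] using hw
      rw [← this]; exact h1
    rcases y.isPrime.mem_or_mem h2 with h3 | h3
    · exact w.2 h3
    · rcases y.isPrime.mem_or_mem h3 with h4 | h4
      · exact t.2 h4
      · exact hg h4

theorem genLocus_le_xf (hL : RelProj.IsRelTwist 𝒮 p chart (d : ℤ) L lam) (hgen : 𝒮.IsGenDegOne)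
    (f : 𝒮.presheaf.obj (op ⊤))
    (Xf : P.Opens)
    (hXf : ∀ (U : Y.Opens) (hU : IsAffineOpen U), Xf ⊓ p ⁻¹ᵁ U = piece 𝒮 p chart f U hU)
    (s : Coh.structureModule P ⟶ L)
    (hs : ∀ (U : Y.Opens) (hU : IsAffineOpen U) (y : Proj (𝒮.deg U hU)),
      GrTwist.val (V := RelProj.emb p chart U hU ⁻¹ᵁ ⊤)
        ((lam U hU).app ⊤ (sec s ⊤)) ⟨y, Set.mem_univ _⟩ = Localization.mk (resTop 𝒮 f U) 1) :
    CohB1.genLocus L s ≤ Xf := by
  intro x hx
  obtain ⟨U, hU, hxU⟩ := exists_affine_mem p x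
  obtain ⟨y, rfl⟩ := exists_emb_eq (chart := chart) U hU hxU
  obtain ⟨g, hg1, hgy⟩ := exists_degOne_notMem (𝒮.deg U hU) (hgen U hU) y
  have h1mem : (1 : 𝒮.presheaf.obj (op U)) ∈ 𝒮.deg U hU 0 := SetLike.GradedOne.one_mem
  have hgd : g ^ d ∈ 𝒮.deg U hU d := by
    have := SetLike.pow_mem_graded d hg1
    rwa [smul_eq_mul, mul_one] at this
  have h1not : ∀ z : (RelProj.emb p chart U hU ⁻¹ᵁ (p ⁻¹ᵁ U) : (Proj (𝒮.deg U hU)).Opens),
      (1 : 𝒮.presheaf.obj (op U)) ∉ z.1.asHomogeneousIdeal :=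
    fun z h1z => z.1.isPrime.ne_top ((Ideal.eq_top_iff_one _).mpr h1z)
  let τ : Γ(GrTwist.twist (𝒮.deg U hU) (d : ℤ), RelProj.emb p chart U hU ⁻¹ᵁ (p ⁻¹ᵁ U)) :=
    TwistTrivA.fracN (𝒮.deg U hU) (d : ℤ) hgd h1mem (by simp) _ h1not
  obtain ⟨e₀, he₀⟩ := (hL.bijective U hU (p ⁻¹ᵁ U) le_rfl).surjective τ
  have hb : IsBasisOn L (CohB1.genLocus L s ⊓ p ⁻¹ᵁ U) (sec s _) :=
    (le_genLocus_iff_isBasisOn s _).mp inf_le_left
  obtain ⟨r, hr⟩ := hb.exists_eq_smul (mres L inf_le_right e₀)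
  have hyV : (RelProj.emb p chart U hU).base y ∈ CohB1.genLocus L s ⊓ p ⁻¹ᵁ U := ⟨hx, hxU⟩
  have h2 := congrArg (fun t => GrTwist.val (V := RelProj.emb p chart U hU ⁻¹ᵁ (CohB1.genLocus L s ⊓ p ⁻¹ᵁ U))
    ((lam U hU).app _ t) ⟨y, hyV⟩) hr
  simp only at h2
  rw [val_lam_smul, val_lam_mres, he₀,
    ← sec_mres s (le_top : CohB1.genLocus L s ⊓ p ⁻¹ᵁ U ≤ ⊤), val_lam_mres] at h2
  have h3 : GrTwist.val (V := RelProj.emb p chart U hU ⁻¹ᵁ ⊤)
        ((lam U hU).app ⊤ (sec s ⊤)) ⟨y, Set.mem_univ _⟩ = Localization.mk (resTop 𝒮 f U) 1 := hs U hU y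
  have h4 : GrTwist.val (V := RelProj.emb p chart U hU ⁻¹ᵁ (p ⁻¹ᵁ U)) τ ⟨y, hxU⟩ =
      Localization.mk (g ^ d) 1 := rfl
  have hfy : resTop 𝒮 f U ∉ y.asHomogeneousIdeal := by
    refine notMem_of_mul_mk_eq y (fun hmem => hgy (y.isPrime.mem_of_pow_mem d hmem))
      (HomogeneousLocalization.val ((toOc (chart := chart) U hU (CohB1.genLocus L s ⊓ p ⁻¹ᵁ U) r).1 ⟨y, hyV⟩)) ?_
    rw [← h3, ← h4]
    exact h2
  have hmem : (RelProj.emb p chart U hU).base y ∈ piece 𝒮 p chart f U hU :=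
    ⟨y, (ProjectiveSpectrum.mem_basicOpen _ _ _).mpr hfy, rfl⟩
  rw [← hXf U hU] at hmem
  exact hmem.1

end genLocus

end Groth.Agent.Lib.Helper42.RelTwistBasis
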