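import Groth.Agent.Lib.Helper18.SymQC5
import Groth.Agent.Lib.Helper42.RelTwistBasis
import Groth.Prelude.Def_RelProj2

/-!
# The canonical map `p^*E → O_{P(E)}(1)` is an epimorphism (helper42; S5732)
-/

set_option autoImplicit false
set_option linter.unusedSectionVars false
universe u
open CategoryTheory CategoryTheory.Limits AlgebraicGeometry Opposite TopologicalSpace
open DirectSum
open scoped HomogeneousIdeal
noncomputable section

namespace Groth.Agent.Lib.Helper42.ProjBundleEpi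

section ring
variable {B τ : Type u} [CommRing B] [SetLike τ B] [AddSubgroupClass τ B]
  {ℬ : ℕ → τ} [GradedRing ℬ]

theorem monomial_mem_span_of_subset (T : Set B) (hT : T ⊆ (ℬ 1 : Set B)) (w : B)
    (hw : w ∈ Submonoid.closure ((ℬ 0 : Set B) ∪ T)) :
    ∃ m, w ∈ ℬ m ∧ (1 ≤ m → w ∈ Ideal.span T) := by
  induction hw using Submonoid.closure_induction with
  | mem w hw =>
    rcases hw with hw | hw
    · exact ⟨0, hw, fun h => absurd h (by norm_num)⟩
    · exact ⟨1, hT hw, fun _ => Ideal.subset_span hw⟩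
  | one => exact ⟨0, SetLike.GradedOne.one_mem, fun h => absurd h (by norm_num)⟩
  | mul w₁ w₂ _ _ ih₁ ih₂ =>
    obtain ⟨m₁, hm₁, H₁⟩ := ih₁
    obtain ⟨m₂, hm₂, H₂⟩ := ih₂
    refine ⟨m₁ + m₂, SetLike.mul_mem_graded hm₁ hm₂, fun hm => ?_⟩
    rcases Nat.eq_zero_or_pos m₁ with rfl | h₁
    · rw [zero_add] at hm
      exact Ideal.mul_mem_left _ _ (H₂ hm)
    · exact Ideal.mul_mem_right _ _ (H₁ h₁)

/-- If `ℬ` is generated by `ℬ 0` and a set `T` of elements of degree one, its irrelevant ideal is generated by `T`. -/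
theorem irrelevant_le_span_of_subset (T : Set B) (hT : T ⊆ (ℬ 1 : Set B))
    (hgen : Subring.closure ((ℬ 0 : Set B) ∪ T) = ⊤) :
    (HomogeneousIdeal.irrelevant ℬ).toIdeal ≤ Ideal.span T := by
  classical
  have key : ∀ y : B, ∀ k, 1 ≤ k → (decompose ℬ y k : B) ∈ Ideal.span T := by
    intro y k hk
    have hy : y ∈ Subring.closure ((ℬ 0 : Set B) ∪ T) := by rw [hgen]; trivial
    rw [Subring.mem_closure_iff] at hy
    induction hy using AddSubgroup.closure_induction with
    | mem w hw =>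
      obtain ⟨m, hm, H⟩ := monomial_mem_span_of_subset T hT w hw
      by_cases hmk : m = k
      · subst hmk
        rw [decompose_of_mem_same ℬ hm]
        exact H hk
      · rw [decompose_of_mem_ne ℬ hm hmk]
        exact zero_mem _
    | zero =>
      rw [decompose_zero, DirectSum.zero_apply, ZeroMemClass.coe_zero]
      exact zero_mem _
    | add a b _ _ iha ihb =>
      rw [decompose_add, DirectSum.add_apply, AddMemClass.coe_add]
      exact add_mem iha ihb
    | neg a _ iha =>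
      rw [decompose_neg]
      change (((-(decompose ℬ a)) k : ℬ k) : B) ∈ _
      have : ((-(decompose ℬ a)) k : ℬ k) = -((decompose ℬ a) k) := rfl
      rw [this, NegMemClass.coe_neg]
      exact neg_mem iha
  intro a ha
  rw [← DirectSum.sum_support_decompose ℬ a]
  refine Ideal.sum_mem _ fun i _ => ?_
  rcases Nat.eq_zero_or_pos i with rfl | hi
  · have : (decompose ℬ a 0 : B) = 0 := (HomogeneousIdeal.mem_irrelevant_iff ℬ a).mp ha
    rw [this]
    exact zero_mem _
  · exact key a i hi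

/-- a point of `Proj` misses some element of a generating set of degree-one elements -/
theorem exists_notMem_of_subset (T : Set B) (hT : T ⊆ (ℬ 1 : Set B))
    (hgen : Subring.closure ((ℬ 0 : Set B) ∪ T) = ⊤) (y : ProjectiveSpectrum ℬ) :
    ∃ f ∈ T, f ∉ y.asHomogeneousIdeal := by
  by_contra hcon
  push Not at hcon
  apply y.not_irrelevant_le
  intro a ha
  have h1 := irrelevant_le_span_of_subset T hT hgen ha
  have h2 : Ideal.span T ≤ y.asHomogeneousIdeal.toIdeal := Ideal.span_le.mpr fun f hf => hcon f hf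
  exact h2 h1

end ring

section rel
open Groth.Agent.Lib.Helper18.SymQC RelSpec

variable {Y : Scheme.{u}} (E : Y.Modules) (hE : Coh.IsQCoh E)
    (𝒮 : RelProj.QCGrAlg Y) (j : E ⟶ 𝒮.toModule) (hj : RelProj.IsGrSymAlg E 𝒮 j)

include hE hj in
theorem closure_eq_top (U : Y.Opens) (hU : IsAffineOpen U) :
    Subring.closure ((𝒮.deg U hU 0 : Set (𝒮.presheaf.obj (op U))) ∪
      Set.range (fun e : Γ(E, U) => toSec 𝒮.toQCAlg U ((j.app U) e))) = ⊤ := by
  have : E.IsQuasicoherent := hE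
  rw [eq_top_iff]
  intro x _
  obtain ⟨z, rfl⟩ := (bijective_liftU E 𝒮.toQCAlg j hj.1 U hU).surjective x
  clear * - 𝒮
  induction z using SymmetricAlgebra.induction with
  | algebraMap r =>
    rw [liftU_algebraMap]
    exact Subring.subset_closure (Or.inl (𝒮.str_mem U hU r))
  | ι m =>
    rw [liftU_ι]
    exact Subring.subset_closure (Or.inr ⟨m, rfl⟩)
  | mul a b ha hb =>
    rw [map_mul]
    exact Subring.mul_mem _ ha hb
  | add a b ha hb =>
    rw [map_add]
    exact Subring.add_mem _ ha hb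

include hE hj in
/-- a point of the chart `Proj 𝒮(U)` of the projective bundle misses some `j(e)` -/
theorem exists_j_notMem (U : Y.Opens) (hU : IsAffineOpen U) (y : ProjectiveSpectrum (𝒮.deg U hU)) :
    ∃ e : Γ(E, U), toSec 𝒮.toQCAlg U ((j.app U) e) ∉ y.asHomogeneousIdeal := by
  obtain ⟨f, ⟨e, rfl⟩, hf⟩ := exists_notMem_of_subset (ℬ := 𝒮.deg U hU) _ (by
    rintro _ ⟨e, rfl⟩
    exact hj.2 U hU e) (closure_eq_top E hE 𝒮 j hj U hU) y
  exact ⟨e, hf⟩

end rel

section main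
open Groth.Agent.Lib.Helper18.SymQC RelSpec Groth.Agent.Lib.Helper42.RelTilde
open Groth.Agent.Lib.Helper42.RelTwistBasis Groth.Agent.Lib.Helper45 Groth.Agent.Lib.Helper49

variable {Y P : Scheme.{u}} (E : Y.Modules) (hE : Coh.IsQCoh E)
    (𝒮 : RelProj.QCGrAlg Y) (j : E ⟶ 𝒮.toModule) (hj : RelProj.IsGrSymAlg E 𝒮 j) (p : P ⟶ Y)
    (chart : ∀ (U : Y.Opens) (hU : IsAffineOpen U), ((p ⁻¹ᵁ U : P.Opens) : Scheme.{u}) ≅ Proj (𝒮.deg U hU))
    (hP : RelProj.IsRelProj 𝒮 p chart) (O1 : P.Modules)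
    (lam : ∀ (U : Y.Opens) (hU : IsAffineOpen U),
      O1 ⟶ (Scheme.Modules.pushforward (RelProj.emb p chart U hU)).obj (GrTwist.twist (𝒮.deg U hU) 1))
    (hO1 : RelProj.IsRelTwist 𝒮 p chart 1 O1 lam)
    (φ : E ⟶ (Scheme.Modules.pushforward p).obj O1)
    (hφ : ∀ (U : Y.Opens) (hU : IsAffineOpen U) (e : Γ(E, U))
      (y : ↥(RelProj.emb p chart U hU ⁻¹ᵁ (p ⁻¹ᵁ U))),
      GrTwist.val (V := RelProj.emb p chart U hU ⁻¹ᵁ (p ⁻¹ᵁ U))
          ((lam U hU).app (p ⁻¹ᵁ U) ((φ.app U) e)) y =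
        algebraMap (𝒮.presheaf.obj (op U)) (GrTwist.Loc (𝒮.deg U hU) y.1)
          ((j.app U) e : 𝒮.presheaf.obj (op U)))

include hE hj hO1 hφ in
theorem epi_adj : Epi (((Scheme.Modules.pullbackPushforwardAdjunction p).homEquiv E O1).symm φ) := by
  set adj := Scheme.Modules.pullbackPushforwardAdjunction p with hadj
  set θ := (adj.homEquiv E O1).symm φ with hθ
  have hφθ : φ = adj.unit.app E ≫ (Scheme.Modules.pushforward p).map θ := by
    have h0 : φ = adj.homEquiv E O1 θ := (Equiv.symm_apply_eq _).mp hθ.symm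
    exact h0.trans (Adjunction.homEquiv_unit ..)
  apply ModLocal.epi_of_locally_surjective
  intro W t x hx
  obtain ⟨U, hU, hxU⟩ := exists_affine_mem p x
  obtain ⟨y, rfl⟩ := exists_emb_eq (chart := chart) U hU hxU
  obtain ⟨e, he⟩ := exists_j_notMem E hE 𝒮 j hj U hU y
  set f : 𝒮.presheaf.obj (op U) := toSec 𝒮.toQCAlg U ((j.app U) e) with hf
  let D : (Proj (𝒮.deg U hU)).Opens := ProjectiveSpectrum.basicOpen (𝒮.deg U hU) f
  let V : P.Opens := W ⊓ (RelProj.emb p chart U hU ''ᵁ D)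
  have hVW : V ≤ W := inf_le_left
  have hVU : V ≤ p ⁻¹ᵁ U := by
    rintro _ ⟨-, y', -, rfl⟩
    have : (RelProj.emb p chart U hU).base y' ∈ (RelProj.emb p chart U hU).opensRange := ⟨y', rfl⟩
    rwa [opensRange_emb] at this
  have hyV : (RelProj.emb p chart U hU).base y ∈ V := ⟨hx, y, he, rfl⟩
  have hVf : ∀ y' : ProjectiveSpectrum (𝒮.deg U hU), (RelProj.emb p chart U hU).base y' ∈ V →
      f ∉ y'.asHomogeneousIdeal := by
    rintro y' ⟨-, y'', hy'', hyy⟩
    have := (RelProj.emb p chart U hU).isOpenEmbedding.injective hyy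
    subst this
    exact hy''
  have hV1 : ∀ y' : ProjectiveSpectrum (𝒮.deg U hU), (RelProj.emb p chart U hU).base y' ∈ V →
      (1 : 𝒮.presheaf.obj (op U)) ∉ y'.asHomogeneousIdeal := fun y' _ => GrMod.one_nin y'
  have hbasis : IsBasisOn O1 V (mres O1 hVU (φ.app U e)) := by
    refine isBasisOn_of_val hO1 U hU (a := 1) (b := 0) (u := f) (v := 1) (hj.2 U hU e)
      SetLike.GradedOne.one_mem (by norm_num) V hVU hVf hV1 _ (fun y' hy' => ?_)
    rw [val_lam_mres, hφ U hU e ⟨y', hVU hy'⟩, ← Localization.mk_one_eq_algebraMap]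
    rfl
  obtain ⟨r, hr⟩ := (hbasis V le_rfl).surjective (mres O1 hVW t)
  let ε : Γ((Scheme.Modules.pullback p).obj E, p ⁻¹ᵁ U) := (adj.unit.app E).app U e
  have hε : θ.app (p ⁻¹ᵁ U) ε = φ.app U e := by
    have := congrArg (fun ψ => (Scheme.Modules.Hom.app ψ U) e) hφθ
    exact this.symm
  refine ⟨V, hVW, hyV, r • mres ((Scheme.Modules.pullback p).obj E) hVU ε, ?_⟩
  rw [Scheme.Modules.Hom.app_smul]
  have h1 : θ.app V (mres ((Scheme.Modules.pullback p).obj E) hVU ε) = mres O1 hVU (θ.app (p ⁻¹ᵁ U) ε) :=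
    ModLocal.app_res θ hVU ε
  rw [h1, hε]
  have h2 : mres O1 (le_refl V) (mres O1 hVU (φ.app U e)) = mres O1 hVU (φ.app U e) := mres_mres _ _ _ _
  rw [h2] at hr
  exact hr

end main

end Groth.Agent.Lib.Helper42.ProjBundleEpi
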