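import Groth.Agent.Lib.Helper42.VeryAmpleOfProj
import Groth.Agent.Lib.Helper18.SymEpi
import Groth.Agent.Lib.Helper42.RelProjLocal
import Groth.Agent.Lib.Helper42.ProjMapLocal

/-!
# A surjection `E → F` of quasi-coherent modules induces a closed immersion `P(F) → P(E)` with `O(1)` pulling back to `O(1)`
(helper42; S17289)
-/

set_option autoImplicit false
set_option linter.unusedSectionVars false
universe u
open CategoryTheory CategoryTheory.Limits AlgebraicGeometry Opposite TopologicalSpace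
open scoped HomogeneousIdeal
noncomputable section

namespace Groth.Agent.Lib.Helper42.ProjBundleImm

open Groth.Agent.Lib.Helper18.SymQC Groth.Agent.Lib.Helper18.SymLoc RelSpec
open Groth.Agent.Lib.Helper42.SymGrading Groth.Agent.Lib.Helper42.SymGrAlg Groth.Agent.Lib.Helper42.SymProjHom

section ring
variable {A σ : Type u} [CommRing A] [SetLike σ A] [AddSubgroupClass σ A] {𝒜 : ℕ → σ} [GradedRing 𝒜]
  {B σ' : Type u} [CommRing B] [SetLike σ' B] [AddSubgroupClass σ' B] {ℬ : ℕ → σ'} [GradedRing ℬ]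

theorem irrelevant_le_map_of_surjective (ψ : 𝒜 →+*ᵍ ℬ) (hsurj : Function.Surjective ψ) :
    ℬ₊ ≤ (𝒜₊).map ψ := by
  classical
  rw [HomogeneousIdeal.irrelevant_le]
  intro i hi b hb
  change b ∈ Ideal.map ψ (𝒜₊.toIdeal)
  obtain ⟨a, rfl⟩ := hsurj b
  have h1 : ψ (DirectSum.decompose 𝒜 a i : A) = ψ a := by
    rw [GradedRingHom.map_directSumDecompose, DirectSum.decompose_of_mem_same ℬ hb]
  rw [← h1]
  exact Ideal.mem_map_of_mem _ (HomogeneousIdeal.mem_irrelevant_of_mem _ hi (SetLike.coe_mem _))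

end ring

variable {Y : Scheme.{u}}

/-- a surjection of quasi-coherent modules `E → F` induces a closed immersion `P(F) → P(E)` over the base
along which `O(1)` pulls back to `O(1)` -/
theorem exists_closedImmersion_of_epi {PF : Scheme.{u}} (E F : Y.Modules) (hE : Coh.IsQCoh E) (hF : Coh.IsQCoh F)
    (φ : E ⟶ F) [Epi φ] (𝒮F : RelProj.QCGrAlg Y) (jF : F ⟶ 𝒮F.toModule) (hjF : RelProj.IsGrSymAlg F 𝒮F jF)
    (pF : PF ⟶ Y)
    (chartF : ∀ (U : Y.Opens) (hU : IsAffineOpen U), ((pF ⁻¹ᵁ U : PF.Opens) : Scheme.{u}) ≅ Proj (𝒮F.deg U hU))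
    (hPF : RelProj.IsRelProj 𝒮F pF chartF) (O1F : PF.Modules)
    (lamF : ∀ (U : Y.Opens) (hU : IsAffineOpen U),
      O1F ⟶ (Scheme.Modules.pushforward (RelProj.emb pF chartF U hU)).obj (GrTwist.twist (𝒮F.deg U hU) 1))
    (hO1F : RelProj.IsRelTwist 𝒮F pF chartF 1 O1F lamF) :
    ∃ (𝒮E : RelProj.QCGrAlg Y) (jE : E ⟶ 𝒮E.toModule) (_ : RelProj.IsGrSymAlg E 𝒮E jE)
      (PE : Scheme.{u}) (pE : PE ⟶ Y)
      (chartE : ∀ (U : Y.Opens) (hU : IsAffineOpen U), ((pE ⁻¹ᵁ U : PE.Opens) : Scheme.{u}) ≅ Proj (𝒮E.deg U hU))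
      (_ : RelProj.IsRelProj 𝒮E pE chartE) (O1E : PE.Modules)
      (lamE : ∀ (U : Y.Opens) (hU : IsAffineOpen U),
        O1E ⟶ (Scheme.Modules.pushforward (RelProj.emb pE chartE U hU)).obj (GrTwist.twist (𝒮E.deg U hU) 1))
      (_ : RelProj.IsRelTwist 𝒮E pE chartE 1 O1E lamE) (h : PF ⟶ PE),
      IsClosedImmersion h ∧ h ≫ pE = pF ∧ Nonempty ((Scheme.Modules.pullback h).obj O1E ≅ O1F) := by
  have : E.IsQuasicoherent := hE
  have : F.IsQuasicoherent := hF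
  have hT : RelProj.IsGrSymAlg E (symGrAlg E) (jHom E) := isGrSymAlg E
  have hgenT : (symGrAlg E).IsGenDegOne := VeryAmpleOfProj.isGenDegOne_of_isGrSymAlg _ hE _ _ hT
  have hPT := RelProjGlue.isRelProj (symGrAlg E)
  obtain ⟨O1T, lamT, hO1T⟩ := RelTwistExists.exists_isRelTwist (symGrAlg E) _ _ hPT 1
  let ub : (symGrAlg E).toQCAlg ⟶ 𝒮F.toQCAlg := psiHom E 𝒮F.toQCAlg (φ ≫ jF)
  have hju : jHom E ≫ QCAlg.Hom.toModuleMap ub = φ ≫ jF := jHom_psiHom E 𝒮F.toQCAlg (φ ≫ jF)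
  have hub : RelProj.IsGradedHom (𝒜 := symGrAlg E) (ℬ := 𝒮F) ub :=
    isGradedHom_psiHom 𝒮F E (φ ≫ jF) (fun U hU x => hjF.2 U hU _)
  have hsurj : ∀ (U : Y.Opens) (hU : IsAffineOpen U), Function.Surjective (ub.hom.app (op U)).hom :=
    fun U hU => surjective_app_of_epi E F φ (symAlg E) 𝒮F.toQCAlg (jHom E) jF ub hju hjF.1 U hU
  have hirr : ∀ (U : Y.Opens) (hU : IsAffineOpen U),
      (𝒮F.deg U hU)₊ ≤ (((symGrAlg E).deg U hU)₊).map
        (RelProj.gradedHomAt (𝒜 := symGrAlg E) (ℬ := 𝒮F) ub hub U hU) :=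
    fun U hU => irrelevant_le_map_of_surjective _ (hsurj U hU)
  obtain ⟨h, hh, -⟩ := existsUnique_isRelProjMap ub hub hirr hPT hPF
  have hcl : IsClosedImmersion h := by
    rw [isRelProjMap_iff @IsClosedImmersion ub hub hirr hPT hPF h hh]
    intro U hU
    exact proj_map_isClosedImmersion (RelProj.gradedHomAt (𝒜 := symGrAlg E) (ℬ := 𝒮F) ub hub U hU) (hirr U hU)
      (hsurj U hU)
  exact ⟨symGrAlg E, jHom E, hT, _, _, _, hPT, O1T, lamT, hO1T, h, hcl,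
    isRelProjMap_comp_base _ _ _ hPT hPF h hh,
    RelTwistPull.nonempty_pullback_iso hh hPT hPF hgenT hO1T hO1F⟩

end Groth.Agent.Lib.Helper42.ProjBundleImm
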