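import Mathlib

/-!
# `Proj` of a graded domain with nonzero irrelevant ideal is integral
-/

set_option autoImplicit false
universe u

open CategoryTheory CategoryTheory.Limits AlgebraicGeometry HomogeneousLocalization TopologicalSpace
open scoped HomogeneousIdeal

namespace Groth.Agent.Lib.Helper42

variable {A σ : Type u} [CommRing A] [SetLike σ A] [AddSubgroupClass σ A]
  (𝒜 : ℕ → σ) [GradedRing 𝒜]

theorem away_isReduced [IsReduced A] (f : A) : IsReduced (Away 𝒜 f) := by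
  exact isReduced_of_injective (algebraMap (Away 𝒜 f) (Localization (Submonoid.powers f)))
    (HomogeneousLocalization.val_injective _)

theorem away_isDomain [IsDomain A] {f : A} (hf : f ≠ 0) : IsDomain (Away 𝒜 f) := by
  have : IsDomain (Localization (Submonoid.powers f)) :=
    IsLocalization.isDomain_localization
      (powers_le_nonZeroDivisors_of_noZeroDivisors hf)
  exact Function.Injective.isDomain (algebraMap (Away 𝒜 f) (Localization (Submonoid.powers f)))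
    (HomogeneousLocalization.val_injective _)

theorem proj_isReduced [IsReduced A] : IsReduced (Proj 𝒜) := by
  have : ∀ s, IsReduced ((Proj.affineOpenCover 𝒜).openCover.X s) := by
    intro s
    have := away_isReduced 𝒜 (s.2 : A)
    change IsReduced (Spec (CommRingCat.of (Away 𝒜 (s.2 : A))))
    infer_instance
  exact IsReduced.of_openCover (Proj 𝒜) (Proj.affineOpenCover 𝒜).openCover

theorem basicOpen_nonempty [IsDomain A] {d : ℕ} (hd : 0 < d) {f : A} (hf : f ∈ 𝒜 d) (hf0 : f ≠ 0) :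
    ((Proj.basicOpen 𝒜 f : (Proj 𝒜).Opens) : Set (Proj 𝒜)).Nonempty := by
  have := away_isDomain 𝒜 hf0
  rw [← Proj.opensRange_awayι 𝒜 f hf hd]
  obtain ⟨x⟩ : Nonempty (Spec (CommRingCat.of (Away 𝒜 f))) := by
    change Nonempty (PrimeSpectrum (Away 𝒜 f))
    infer_instance
  exact ⟨_, x, rfl⟩

theorem exists_homogeneous_ne_zero (h : (𝒜₊).toIdeal ≠ ⊥) :
    ∃ (d : ℕ) (c : A), 0 < d ∧ c ∈ 𝒜 d ∧ c ≠ 0 := by
  classical
  obtain ⟨x, hx, hx0⟩ := Submodule.exists_mem_ne_zero_of_ne_bot h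
  have : ∃ i, (DirectSum.decompose 𝒜 x i : A) ≠ 0 := by
    by_contra hcon
    push Not at hcon
    apply hx0
    rw [← DirectSum.sum_support_decompose 𝒜 x]
    exact Finset.sum_eq_zero fun i _ => hcon i
  obtain ⟨i, hi⟩ := this
  refine ⟨i, (DirectSum.decompose 𝒜 x i : A), ?_, SetLike.coe_mem _, hi⟩
  rcases Nat.eq_zero_or_pos i with rfl | hpos
  · exact absurd ((HomogeneousIdeal.mem_irrelevant_iff 𝒜 x).mp hx) hi
  · exact hpos

theorem proj_irreducibleSpace [IsDomain A] (h : (𝒜₊).toIdeal ≠ ⊥) : IrreducibleSpace (Proj 𝒜) := by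
  obtain ⟨d, c, hd, hc, hc0⟩ := exists_homogeneous_ne_zero 𝒜 h
  -- every nonempty open contains a nonempty homogeneous basic open
  have key : ∀ u : Set (Proj 𝒜), IsOpen u → u.Nonempty →
      ∃ (i : ℕ) (a : A), a ∈ 𝒜 i ∧ a ≠ 0 ∧ ((Proj.basicOpen 𝒜 a : (Proj 𝒜).Opens) : Set (Proj 𝒜)) ⊆ u := by
    intro u hu ⟨x, hx⟩
    have hx' : x ∈ (⟨u, hu⟩ : (Proj 𝒜).Opens) := hx
    obtain ⟨_, ⟨a, rfl⟩, hxa, hau⟩ :=
      (Opens.isBasis_iff_nbhd.mp (Proj.isBasis_basicOpen 𝒜)) hx'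
    rw [Proj.basicOpen_eq_iSup_proj] at hxa
    obtain ⟨i, hi⟩ := Opens.mem_iSup.mp hxa
    refine ⟨i, GradedRing.proj 𝒜 i a, SetLike.coe_mem _, ?_, ?_⟩
    · rintro h0
      rw [h0, Proj.basicOpen_zero] at hi
      exact hi
    · refine subset_trans ?_ hau
      intro y hy
      have : y ∈ ⨆ i : ℕ, Proj.basicOpen 𝒜 (GradedRing.proj 𝒜 i a) := Opens.mem_iSup.mpr ⟨i, hy⟩
      rwa [← Proj.basicOpen_eq_iSup_proj] at this
  have hne : Nonempty (Proj 𝒜) := (basicOpen_nonempty 𝒜 hd hc hc0).to_subtype.map Subtype.val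
  refine @IrreducibleSpace.mk _ _ ⟨?_⟩ hne
  intro u v hu hv hu' hv'
  rw [Set.univ_inter] at hu' hv' ⊢
  obtain ⟨i, a, ha, ha0, hau⟩ := key u hu hu'
  obtain ⟨j, b, hb, hb0, hbv⟩ := key v hv hv'
  have hmem : a * b * c ∈ 𝒜 (i + j + d) := SetLike.mul_mem_graded (SetLike.mul_mem_graded ha hb) hc
  have hne0 : a * b * c ≠ 0 := mul_ne_zero (mul_ne_zero ha0 hb0) hc0
  obtain ⟨x, hx⟩ := basicOpen_nonempty 𝒜 (by omega : 0 < i + j + d) hmem hne0
  rw [Proj.basicOpen_mul, Proj.basicOpen_mul] at hx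
  exact ⟨x, hau hx.1.1, hbv hx.1.2⟩

theorem proj_isIntegral [IsDomain A] (h : (𝒜₊).toIdeal ≠ ⊥) : IsIntegral (Proj 𝒜) := by
  have := proj_irreducibleSpace 𝒜 h
  have := proj_isReduced 𝒜
  exact isIntegral_of_irreducibleSpace_of_isReduced _

end Groth.Agent.Lib.Helper42

namespace Groth.Agent.Lib.Helper42

/-- A nonempty space covered by preirreducible open subsets which pairwise meet is irreducible. -/
theorem irreducibleSpace_of_cover {X : Type*} [TopologicalSpace X] [Nonempty X] {ι : Type*}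
    (U : ι → Set X) (hirr : ∀ i, IsPreirreducible (U i)) (hopen : ∀ i, IsOpen (U i))
    (hcov : ∀ x, ∃ i, x ∈ U i) (hmeet : ∀ i j, (U i ∩ U j).Nonempty) : IrreducibleSpace X := by
  refine @IrreducibleSpace.mk _ _ ⟨?_⟩ inferInstance
  intro u v hu hv ⟨x, _, hxu⟩ ⟨y, _, hyv⟩
  obtain ⟨i, hi⟩ := hcov x
  obtain ⟨j, hj⟩ := hcov y
  obtain ⟨z, hzi, hzu, hzj⟩ := hirr i u (U j) hu (hopen j) ⟨x, hi, hxu⟩ (hmeet i j)
  obtain ⟨w, -, hwu, hwv⟩ := hirr j u v hu hv ⟨z, hzj, hzu⟩ ⟨y, hj, hyv⟩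
  exact ⟨w, trivial, hwu, hwv⟩

end Groth.Agent.Lib.Helper42
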