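import Groth.Agent.Lib.Helper42.ProjIntegral
import Groth.Agent.Lib.Helper42.ProjMapLocal

/-!
# Converse: if `Proj 𝒜` is integral and dominant over `Spec 𝒜₀` (a domain) and `𝒜` is essentially
reduced, then `A` is a domain with nonzero irrelevant ideal.
-/

set_option autoImplicit false
universe u

open CategoryTheory CategoryTheory.Limits AlgebraicGeometry HomogeneousLocalization TopologicalSpace
open scoped HomogeneousIdeal

namespace Groth.Agent.Lib.Helper42

variable {A σ : Type u} [CommRing A] [SetLike σ A] [AddSubgroupClass σ A]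
  (𝒜 : ℕ → σ) [GradedRing 𝒜]

/-- If `D₊(f)` is empty (`f` homogeneous of positive degree) then `f` is nilpotent. -/
theorem isNilpotent_of_basicOpen_eq_bot {d : ℕ} (hd : 0 < d) {f : A} (hf : f ∈ 𝒜 d)
    (h : Proj.basicOpen 𝒜 f = ⊥) : IsNilpotent f := by
  have hempty : IsEmpty (Spec (CommRingCat.of (Away 𝒜 f))) := by
    refine ⟨fun x => ?_⟩
    have : (Proj.awayι 𝒜 f hf hd).base x ∈ (Proj.awayι 𝒜 f hf hd).opensRange := ⟨x, rfl⟩
    rw [Proj.opensRange_awayι, h] at this
    exact this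
  have hsub : Subsingleton (Away 𝒜 f) := by
    by_contra hn
    rw [not_subsingleton_iff_nontrivial] at hn
    have : Nonempty (PrimeSpectrum (Away 𝒜 f)) := inferInstance
    exact hempty.false this.some
  have h10 : Away.mk 𝒜 hf 0 (1 : A) (by simpa using SetLike.GradedOne.one_mem) = 0 :=
    Subsingleton.elim _ _
  rw [away_mk_eq_zero_iff] at h10
  obtain ⟨k, hk⟩ := h10
  exact ⟨k, by simpa using hk⟩

theorem irrelevant_ne_bot_of_nonempty [Nonempty (Proj 𝒜)] : (𝒜₊).toIdeal ≠ ⊥ := by
  intro h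
  obtain ⟨x⟩ := (inferInstance : Nonempty (Proj 𝒜))
  apply x.not_irrelevant_le
  intro a ha
  have : a ∈ (𝒜₊).toIdeal := ha
  rw [h] at this
  rw [(Submodule.mem_bot _).mp this]
  exact zero_mem _

theorem isDomain_of_proj_isIntegral [IsDomain (𝒜 0)] [IsIntegral (Proj 𝒜)]
    (hred : ∀ x : A, x ∈ 𝒜₊ → IsNilpotent x → x = 0)
    (hdom : DenseRange (Proj.toSpecZero 𝒜).base) : IsDomain A := by
  have hnt : Nontrivial A := by
    have : Nontrivial (𝒜 0) := inferInstance
    obtain ⟨a, b, hab⟩ := this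
    exact ⟨⟨a, b, fun h => hab (Subtype.ext h)⟩⟩
  -- positive-degree homogeneous elements with empty `D₊` vanish
  have hpos0 : ∀ {d : ℕ} (_ : 0 < d) {f : A} (_ : f ∈ 𝒜 d), Proj.basicOpen 𝒜 f = ⊥ → f = 0 := by
    intro d hd f hf h
    exact hred f (HomogeneousIdeal.mem_irrelevant_of_mem _ hd hf)
      (isNilpotent_of_basicOpen_eq_bot 𝒜 hd hf h)
  -- the mixed case
  have hmixed : ∀ {j : ℕ} (_ : 0 < j) {x y : A} (_ : x ∈ 𝒜 0) (_ : y ∈ 𝒜 j), x * y = 0 →
      x = 0 ∨ y = 0 := by
    intro j hj x y hx hy hxy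
    by_cases hy0 : y = 0
    · exact Or.inr hy0
    left
    have hne : ((Proj.basicOpen 𝒜 y : (Proj 𝒜).Opens) : Set (Proj 𝒜)).Nonempty := by
      by_contra hcon
      apply hy0
      apply hpos0 hj hy
      ext z
      simp only [Opens.coe_bot, Set.mem_empty_iff_false, iff_false]
      exact fun hz => hcon ⟨z, hz⟩
    have hdense : DenseRange (Proj.awayι 𝒜 y hy hj).base := by
      have : Set.range (Proj.awayι 𝒜 y hy hj).base = ((Proj.basicOpen 𝒜 y : (Proj 𝒜).Opens) : Set (Proj 𝒜)) :=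
        congrArg (fun V : (Proj 𝒜).Opens => (V : Set (Proj 𝒜))) (Proj.opensRange_awayι 𝒜 y hy hj)
      rw [DenseRange, this]
      exact (Proj.basicOpen 𝒜 y).isOpen.dense hne
    have hcomp : DenseRange (Proj.awayι 𝒜 y hy hj ≫ Proj.toSpecZero 𝒜).base := by
      rw [Scheme.Hom.comp_base, TopCat.coe_comp]
      exact hdom.comp hdense (Proj.toSpecZero 𝒜).continuous
    rw [Proj.awayι_toSpecZero] at hcomp
    have hker := (PrimeSpectrum.denseRange_comap_iff_ker_le_nilRadical
      (f := fromZeroRingHom 𝒜 (Submonoid.powers y))).mp hcomp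
    have hxker : (⟨x, hx⟩ : 𝒜 0) ∈ RingHom.ker (fromZeroRingHom 𝒜 (Submonoid.powers y)) := by
      rw [RingHom.mem_ker, HomogeneousLocalization.ext_iff_val, HomogeneousLocalization.val_zero]
      change (HomogeneousLocalization.mk _).val = 0
      rw [HomogeneousLocalization.val_mk, Localization.mk_eq_mk', IsLocalization.mk'_eq_zero_iff]
      exact ⟨⟨y, 1, pow_one y⟩, by simpa [mul_comm] using hxy⟩
    have hnil : IsNilpotent (⟨x, hx⟩ : 𝒜 0) := hker hxker
    have := hnil.eq_zero
    exact congrArg Subtype.val this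
  have hprime : (⊥ : Ideal A).IsPrime := by
    refine (Ideal.IsHomogeneous.bot 𝒜).isPrime_of_homogeneous_mem_or_mem bot_ne_top ?_
    rintro x y ⟨i, hx⟩ ⟨j, hy⟩ hxy
    simp only [Ideal.mem_bot] at hxy ⊢
    rcases Nat.eq_zero_or_pos i with rfl | hi <;> rcases Nat.eq_zero_or_pos j with rfl | hj
    · have h0 : (⟨x, hx⟩ : 𝒜 0) * ⟨y, hy⟩ = 0 := Subtype.ext hxy
      rcases mul_eq_zero.mp h0 with h | h
      · exact Or.inl (congrArg Subtype.val h)
      · exact Or.inr (congrArg Subtype.val h)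
    · exact hmixed hj hx hy hxy
    · exact (hmixed hi hy hx (by rwa [mul_comm])).symm
    · -- both of positive degree
      have hbot : Proj.basicOpen 𝒜 x ⊓ Proj.basicOpen 𝒜 y = ⊥ := by
        rw [← Proj.basicOpen_mul, hxy, Proj.basicOpen_zero]
      by_contra hcon
      push Not at hcon
      have hxne : ((Proj.basicOpen 𝒜 x : (Proj 𝒜).Opens) : Set (Proj 𝒜)).Nonempty := by
        by_contra hc
        apply hcon.1
        apply hpos0 hi hx
        ext z
        simp only [Opens.coe_bot, Set.mem_empty_iff_false, iff_false]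
        exact fun hz => hc ⟨z, hz⟩
      have hyne : ((Proj.basicOpen 𝒜 y : (Proj 𝒜).Opens) : Set (Proj 𝒜)).Nonempty := by
        by_contra hc
        apply hcon.2
        apply hpos0 hj hy
        ext z
        simp only [Opens.coe_bot, Set.mem_empty_iff_false, iff_false]
        exact fun hz => hc ⟨z, hz⟩
      obtain ⟨z, hz⟩ := nonempty_preirreducible_inter (Proj.basicOpen 𝒜 x).isOpen
        (Proj.basicOpen 𝒜 y).isOpen hxne hyne
      have : z ∈ Proj.basicOpen 𝒜 x ⊓ Proj.basicOpen 𝒜 y := hz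
      rw [hbot] at this
      exact this
  exact IsDomain.of_bot_isPrime A

end Groth.Agent.Lib.Helper42
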