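import Groth.Agent.Lib.Helper42.ProjQMapOn

/-!
# The everywhere-defined `Proj(φ)` over one base: target-local properties on standard charts,
and the (TN) conditions
-/

set_option autoImplicit false
universe u

open CategoryTheory CategoryTheory.Limits AlgebraicGeometry TopologicalSpace Opposite
open HomogeneousLocalization
open scoped HomogeneousIdeal

namespace Groth.Agent.Lib.Helper42

/-- An everywhere-defined `Proj(u)` restricts to `Proj(u)` on `G(u)`. -/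
theorem isProjQMapOn_of_isProjQMap {S S' : Scheme.{u}} {g : S' ⟶ S} {𝒮 : RelProj.QCGrAlg S}
    {𝒮' : RelProj.QCGrAlg S'} (v : RelProj.QGrHom g 𝒮 𝒮')
    {P : Scheme.{u}} (p : P ⟶ S)
    (chart : ∀ (U : S.Opens) (hU : IsAffineOpen U), (((p ⁻¹ᵁ U : P.Opens) : Scheme.{u}) ≅ Proj (𝒮.deg U hU)))
    {P' : Scheme.{u}} (p' : P' ⟶ S')
    (chart' : ∀ (U' : S'.Opens) (hU' : IsAffineOpen U'), (((p' ⁻¹ᵁ U' : P'.Opens) : Scheme.{u}) ≅ Proj (𝒮'.deg U' hU')))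
    (h : P' ⟶ P) (hh : RelProj.IsProjQMap v p chart p' chart' h) (W : P'.Opens) :
    RelProj.IsProjQMapOn v p chart p' chart' W (W.ι ≫ h) := by
  intro U hU U' hU' hle d hd f hf hW
  rw [← Category.assoc, IsOpenImmersion.lift_fac]
  exact hh.2 U hU U' hU' hle d hd f hf

theorem isIso_ι_of_eq_top {X : Scheme.{u}} (W : X.Opens) (hW : W = ⊤) : IsIso W.ι := by
  subst hW
  exact inferInstanceAs (IsIso X.topIso.hom)

variable {Y : Scheme.{u}} {PA PB : Scheme.{u}} {𝒜 ℬ : RelProj.QCGrAlg Y}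
  (φ : 𝒜.toQCAlg ⟶ ℬ.toQCAlg) (hφ : RelProj.IsGradedHom φ)
  {pA : PA ⟶ Y} {pB : PB ⟶ Y}
  {chartA : ∀ (U : Y.Opens) (hU : IsAffineOpen U), (((pA ⁻¹ᵁ U : PA.Opens) : Scheme.{u}) ≅ Proj (𝒜.deg U hU))}
  {chartB : ∀ (U : Y.Opens) (hU : IsAffineOpen U), (((pB ⁻¹ᵁ U : PB.Opens) : Scheme.{u}) ≅ Proj (ℬ.deg U hU))}

/-- A Zariski-local-at-the-target property that respects isomorphisms holds for the everywhere
defined `Proj(φ)` iff it holds for all the maps `Spec ℬ(U)_(φ f) ⟶ Spec 𝒜(U)_(f)`. -/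
theorem projQMap_iff (P : MorphismProperty Scheme.{u}) [IsZariskiLocalAtTarget P]
    (hA : RelProj.IsRelProj 𝒜 pA chartA) (hB : RelProj.IsRelProj ℬ pB chartB) (h : PB ⟶ PA)
    (hh : RelProj.IsProjQMap (RelProj.QGrHom.ofHom φ hφ) pA chartA pB chartB h) :
    P h ↔ ∀ i : StdIdx 𝒜, P (Spec.map (CommRingCat.ofHom (Away.map (psi φ hφ i.U i.hU) i.f))) := by
  have : IsIso (RelProj.domQ (RelProj.QGrHom.ofHom φ hφ) pB chartB).ι := isIso_ι_of_eq_top _ hh.1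
  rw [← projQMapOn_iff φ hφ (isProjQMapOn_of_isProjQMap _ pA chartA pB chartB h hh _) P hA hB,
    P.cancel_left_of_respectsIso]

/-- Under (TN)-surjectivity, `G(φ) = Proj ℬ`. -/
theorem domQ_eq_top_of_tnSurjective
    (hTN : ∃ n : ℕ, ∀ k, n ≤ k → ∀ (U : Y.Opens) (hU : IsAffineOpen U), ∀ y ∈ ℬ.deg U hU k,
      ∃ x ∈ 𝒜.deg U hU k, (φ.hom.app (op U)).hom x = y) :
    RelProj.domQ (RelProj.QGrHom.ofHom φ hφ) pB chartB = ⊤ := by
  rw [eq_top_iff]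
  intro x _
  obtain ⟨U, hU, hyU⟩ := exists_affineOpen_mem (pB.base x)
  have hle : U ≤ (𝟙 Y) ⁻¹ᵁ U := le_rfl
  unfold RelProj.domQ
  refine Opens.mem_iSup.mpr ⟨⟨(⟨U, hU⟩, ⟨U, hU⟩), hle⟩, ?_⟩
  refine mem_emb_image_of_domOpen_eq_top pB chartB U hU _ ?_ x hyU
  rw [ofHom_gradedAt_self]
  apply domOpen_eq_top_of_tnSurjective
  obtain ⟨n, hn⟩ := hTN
  refine ⟨n, fun k hk y hy => ?_⟩
  obtain ⟨a, ha, hay⟩ := hn k hk U hU y hy
  exact ⟨a, ha, hay⟩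

end Groth.Agent.Lib.Helper42
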