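import Mathlib

/-!
# Pullback of the unit / free sheaves of modules along a continuous functor whose sheaf pullback
preserves the terminal object (helper42)

Mathlib's `SheafOfModules.pullbackObjFreeIso` assumes that the underlying functor is final.  Here
we only assume that `F.sheafPullback (Type u) J K` preserves the terminal object (e.g. it is
exact, as for a morphism of sites).

* `bijective_sectionsPrecomp_of_preservesTerminal`
* `bijective_pushforwardSections_of_preservesTerminal`
* `isIso_pullbackObjUnitToUnit`
* `pullbackObjFreeIso`
-/

set_option autoImplicit false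
universe u
open CategoryTheory Limits Opposite

namespace Groth.Agent.Lib.Helper42.PullUnit

variable {C D : Type u} [SmallCategory C] [SmallCategory D] {J : GrothendieckTopology C}
  {K : GrothendieckTopology D} (F : C ⥤ D) [F.IsContinuous J K]

/-- the terminal sheaf of types -/
noncomputable abbrev TS (J : GrothendieckTopology C) : Sheaf J (Type u) :=
  Sheaf.terminal J Types.isTerminalPUnit

set_option backward.isDefEq.respectTransparency.types false in
theorem bijective_sectionsPrecomp_of_preservesTerminal
    [PreservesLimit (Functor.empty.{0} (Sheaf J (Type u))) (F.sheafPullback (Type u) J K)]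
    (Q : Sheaf K (Type u)) :
    Function.Bijective (F.op.sectionsPrecomp (P := Q.obj)) := by
  let G := F.sheafPullback (Type u) J K
  let adj := F.sheafAdjunctionContinuous (Type u) J K
  -- `G (TS J)` is terminal
  have hT : IsTerminal (G.obj (TS J)) :=
    IsTerminal.isTerminalObj G _ (Sheaf.isTerminalTerminal J Types.isTerminalPUnit)
  have hT' : IsTerminal (TS K) := Sheaf.isTerminalTerminal K Types.isTerminalPUnit
  let e : G.obj (TS J) ≅ TS K := hT.uniqueUpToIso hT'
  -- the chain of bijections
  let Φ : Q.obj.sections ≃ (F.op ⋙ Q.obj).sections :=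
    (Q.obj.sectionsEquivHom PUnit).trans <|
    (show ((Functor.const _).obj PUnit ⟶ Q.obj) ≃ (TS K ⟶ Q) from
      { toFun := fun f => ⟨f⟩, invFun := fun f => f.hom, left_inv := fun _ => rfl,
        right_inv := fun _ => rfl }).trans <|
    (e.homFromEquiv (Z := Q)).symm.trans <|
    (adj.homEquiv (TS J) Q).trans <|
    (show (TS J ⟶ (F.sheafPushforwardContinuous (Type u) J K).obj Q) ≃
        ((Functor.const _).obj PUnit ⟶ F.op ⋙ Q.obj) from
      { toFun := fun f => f.hom, invFun := fun f => ⟨f⟩, left_inv := fun _ => rfl,
        right_inv := fun _ => rfl }).trans <|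
    ((F.op ⋙ Q.obj).sectionsEquivHom PUnit).symm
  have hΦ : ∀ s, Φ s = F.op.sectionsPrecomp s := by
    intro s
    apply Subtype.ext
    funext X
    show ((adj.homEquiv (TS J) Q) (e.hom ≫ ⟨Q.obj.sectionsEquivHom PUnit s⟩)).hom.app X
      PUnit.unit = s.val (F.op.obj X)
    rw [Adjunction.homEquiv_naturality_right]
    rfl
  rw [show F.op.sectionsPrecomp (P := Q.obj) = Φ from (funext hΦ).symm]
  exact Φ.bijective

open SheafOfModules

variable {F}
variable {S : Sheaf J RingCat.{u}} {R : Sheaf K RingCat.{u}}
  (φ : S ⟶ (F.sheafPushforwardContinuous RingCat.{u} J K).obj R)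

set_option backward.isDefEq.respectTransparency.types false in
theorem bijective_pushforwardSections_of_preservesTerminal
    [PreservesLimit (Functor.empty.{0} (Sheaf J (Type u))) (F.sheafPullback (Type u) J K)]
    (M : SheafOfModules.{u} R) :
    Function.Bijective (pushforwardSections φ (M := M)) :=
  bijective_sectionsPrecomp_of_preservesTerminal (J := J) F
    ((sheafCompose K (forget AddCommGrpCat.{u})).obj ⟨M.val.presheaf, M.isSheaf⟩)

set_option backward.isDefEq.respectTransparency.types false in
theorem isIso_pullbackObjUnitToUnit
    [PreservesLimit (Functor.empty.{0} (Sheaf J (Type u))) (F.sheafPullback (Type u) J K)]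
    [(pushforward.{u} φ).IsRightAdjoint] : IsIso (pullbackObjUnitToUnit φ) := by
  rw [isIso_iff_coyoneda_map_bijective]
  intro M
  rw [← ((pullbackPushforwardAdjunction.{u} φ).homEquiv _ _).bijective.of_comp_iff',
    ← (unitHomEquiv _).bijective.of_comp_iff']
  convert! (bijective_pushforwardSections_of_preservesTerminal φ M).comp (unitHomEquiv _).bijective
  ext f : 1
  dsimp
  rw [pushforwardSections_unitHomEquiv, EmbeddingLike.apply_eq_iff_eq,
    Adjunction.homEquiv_naturality_right,
    pullbackPushforwardAdjunction_homEquiv_pullbackObjUnitToUnit]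

/-- The pullback of a free sheaf of modules is a free sheaf of modules. -/
noncomputable def pullbackObjFreeIso
    [PreservesLimit (Functor.empty.{0} (Sheaf J (Type u))) (F.sheafPullback (Type u) J K)]
    [(pushforward.{u} φ).IsRightAdjoint] (I : Type u) :
    (SheafOfModules.pullback φ).obj (free I) ≅ free I :=
  haveI := isIso_pullbackObjUnitToUnit φ
  (asIso (sigmaComparison _ _)).symm ≪≫
    Sigma.mapIso (fun _ ↦ asIso (pullbackObjUnitToUnit φ))

end Groth.Agent.Lib.Helper42.PullUnit
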