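import Groth.Agent.Lib.Helper42.RelProjBaseChange
import Groth.Agent.Lib.Helper42.ProjQGlue
import Groth.Agent.Lib.Helper42.ProjQMapTop

/-!
# `Proj(u)` for `𝒮' = ψ^*𝒮`: everywhere defined, and a base change
-/

set_option autoImplicit false
universe u

open CategoryTheory CategoryTheory.Limits AlgebraicGeometry TopologicalSpace Opposite
open HomogeneousLocalization
open scoped HomogeneousIdeal

namespace Groth.Agent.Lib.Helper42

/-- If `A = R ⊗_{R'} B` compatibly with gradings, the irrelevant ideal of `A` is generated by that of `B`. -/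
theorem irrelevant_le_map_of_isPushout {R' R B A σ τ : Type u} [CommRing R'] [CommRing R] [CommRing B]
    [CommRing A] [SetLike σ B] [AddSubgroupClass σ B] [SetLike τ A] [AddSubgroupClass τ A]
    {ℬ : ℕ → σ} {𝒜 : ℕ → τ} [GradedRing ℬ] [GradedRing 𝒜]
    [Algebra R' R] [Algebra R' B] [Algebra R A] [Algebra R' A] [Algebra B A]
    [IsScalarTower R' R A] [IsScalarTower R' B A] [Algebra.IsPushout R' R B A]
    (φ : ℬ →+*ᵍ 𝒜) (hφA : ∀ b, φ b = algebraMap B A b) (hR : ∀ r, algebraMap R A r ∈ 𝒜 0) :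
    𝒜₊ ≤ ℬ₊.map φ := by
  classical
  rw [HomogeneousIdeal.irrelevant_le]
  intro i hi x hx
  change x ∈ Ideal.map φ (ℬ₊).toIdeal
  have key : ∀ a : A, (DirectSum.decompose 𝒜 a i : A) ∈ Ideal.map φ (ℬ₊).toIdeal := by
    intro a
    refine IsBaseChange.inductionOn
      (Algebra.IsPushout.out (R := R') (S := R) (R' := B) (S' := A)) a _ ?_ ?_ ?_ ?_
    · rw [DirectSum.decompose_zero, DirectSum.zero_apply, ZeroMemClass.coe_zero]
      exact zero_mem _
    · intro b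
      change (DirectSum.decompose 𝒜 (algebraMap B A b) i : A) ∈ _
      rw [← hφA, ← GradedRingHom.map_directSumDecompose ℬ 𝒜 φ]
      exact Ideal.mem_map_of_mem _ (HomogeneousIdeal.mem_irrelevant_of_mem _ hi (SetLike.coe_mem _))
    · intro r a' h
      rw [Algebra.smul_def, DirectSum.coe_decompose_mul_of_left_mem_zero 𝒜 (hR r)]
      exact Ideal.mul_mem_left _ _ h
    · intro a₁ a₂ h₁ h₂
      rw [DirectSum.decompose_add, DirectSum.add_apply, AddMemClass.coe_add]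
      exact add_mem h₁ h₂
  have := key x
  rwa [DirectSum.decompose_of_mem_same 𝒜 hx] at this

variable {Y Y' P P' : Scheme.{u}} {ψ : Y' ⟶ Y} {𝒮 : RelProj.QCGrAlg Y} {𝒮' : RelProj.QCGrAlg Y'}
  (u : RelProj.QGrHom ψ 𝒮 𝒮') (hu : RelSpec.IsQBaseChange u.toQHom)

include hu in
theorem irrelevant_le_map_gradedAt {U : Y.Opens} (hU : IsAffineOpen U) {U' : Y'.Opens}
    (hU' : IsAffineOpen U') (hle : U' ≤ ψ ⁻¹ᵁ U) :
    (𝒮'.deg U' hU')₊ ≤ ((𝒮.deg U hU)₊).map (u.gradedAt U hU U' hU' hle) := by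
  have hpo := hu U hU U' hU' hle
  letI a1 : Algebra Γ(Y, U) Γ(Y', U') := (ψ.appLE U U' hle).hom.toAlgebra
  letI a2 : Algebra Γ(Y, U) (𝒮.presheaf.obj (op U)) := (𝒮.str.app (op U)).hom.toAlgebra
  letI a3 : Algebra Γ(Y', U') (𝒮'.presheaf.obj (op U')) := (𝒮'.str.app (op U')).hom.toAlgebra
  letI a4 : Algebra (𝒮.presheaf.obj (op U)) (𝒮'.presheaf.obj (op U')) :=
    (u.toQHom.appLE U U' hle).hom.toAlgebra
  letI a5 : Algebra Γ(Y, U) (𝒮'.presheaf.obj (op U')) :=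
    ((𝒮'.str.app (op U')).hom.comp (ψ.appLE U U' hle).hom).toAlgebra
  haveI t1 : IsScalarTower Γ(Y, U) Γ(Y', U') (𝒮'.presheaf.obj (op U')) :=
    .of_algebraMap_eq fun r => rfl
  haveI t2 : IsScalarTower Γ(Y, U) (𝒮.presheaf.obj (op U)) (𝒮'.presheaf.obj (op U')) :=
    .of_algebraMap_eq fun r => congrArg (fun m => m.hom r) hpo.w
  haveI : Algebra.IsPushout Γ(Y, U) Γ(Y', U') (𝒮.presheaf.obj (op U)) (𝒮'.presheaf.obj (op U')) :=
    CommRingCat.isPushout_iff_isPushout.mp hpo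
  exact irrelevant_le_map_of_isPushout (R' := Γ(Y, U)) (R := Γ(Y', U')) (u.gradedAt U hU U' hU' hle)
    (fun b => rfl) (𝒮'.str_mem U' hU')

variable (p : P ⟶ Y)
  (chart : ∀ (U : Y.Opens) (hU : IsAffineOpen U), (((p ⁻¹ᵁ U : P.Opens) : Scheme.{u}) ≅ Proj (𝒮.deg U hU)))
  (p' : P' ⟶ Y')
  (chart' : ∀ (U : Y'.Opens) (hU : IsAffineOpen U), (((p' ⁻¹ᵁ U : P'.Opens) : Scheme.{u}) ≅ Proj (𝒮'.deg U hU)))

include hu in
theorem domQ_eq_top_of_isQBaseChange : RelProj.domQ u p' chart' = ⊤ := by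
  rw [eq_top_iff]
  intro x _
  obtain ⟨U, hU, hyU, -⟩ := (Opens.isBasis_iff_nbhd.mp Y.isBasis_affineOpens)
    (show ψ.base (p'.base x) ∈ (⊤ : Y.Opens) from trivial)
  obtain ⟨U', hU', hyU', hle⟩ := (Opens.isBasis_iff_nbhd.mp Y'.isBasis_affineOpens)
    (show p'.base x ∈ ψ ⁻¹ᵁ U from hyU)
  unfold RelProj.domQ
  refine Opens.mem_iSup.mpr ⟨⟨(⟨U, hU⟩, ⟨U', hU'⟩), hle⟩, ?_⟩
  refine mem_emb_image_of_domOpen_eq_top p' chart' U' hU' _ ?_ x hyU'
  exact domOpen_eq_top_of_irrelevant_le _ (irrelevant_le_map_gradedAt u hu hU hU' hle)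

end Groth.Agent.Lib.Helper42
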