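import Groth.Prelude.Def_RelProj4
import Groth.Agent.Lib.Helper42.PullbackLocal

/-!
# The relative spectrum commutes with base change
-/

set_option autoImplicit false
universe u

open CategoryTheory CategoryTheory.Limits AlgebraicGeometry TopologicalSpace Opposite

namespace Groth.Agent.Lib.Helper42

variable {S : Scheme.{u}} (A : RelSpec.QCAlg S) (U : S.Opens) (hU : IsAffineOpen U)

/-- The structure morphism of a chart of a relative spectrum. -/
noncomputable def chartToOpen : Spec (A.presheaf.obj (op U)) ⟶ (U : Scheme.{u}) :=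
  Spec.map (A.str.app (op U)) ≫ hU.isoSpec.inv

theorem chartToOpen_ι : chartToOpen A U hU ≫ U.ι = Spec.map (A.str.app (op U)) ≫ hU.fromSpec := by
  simp only [chartToOpen, Category.assoc]
  rfl

theorem isPullback_chart : IsPullback (A.ι U hU) (chartToOpen A U hU) A.π U.ι := by
  refine (IsOpenImmersion.isPullback _ _ _ _ ?_ ?_).flip
  · rw [A.ι_π, chartToOpen_ι]
  · rw [Scheme.Opens.opensRange_ι]
    exact A.π_preimage U hU

theorem isPullback_spec_of_isQBaseChange {S' : Scheme.{u}} (g : S' ⟶ S) (B : RelSpec.QCAlg S')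
    (u : RelSpec.QHom g A B) (hu : RelSpec.IsQBaseChange u) (h : B.spec ⟶ A.spec)
    (hh : RelSpec.IsSpecQMap u h) : IsPullback h B.π A.π g := by
  refine isPullback_of_cover_base h B.π A.π g (affPairCover g) ?_
  rintro ⟨U, hU, U', hU', hle⟩
  refine ⟨Spec (B.presheaf.obj (op U')), B.ι U' hU', chartToOpen B U' hU',
    isPullback_chart B U' hU', ?_⟩
  have e1 : B.ι U' hU' ≫ h = Spec.map (u.appLE U U' hle) ≫ A.ι U hU := hh U hU U' hU' hle
  have e2 : U'.ι ≫ g = g.resLE U U' hle ≫ U.ι := (Scheme.Hom.resLE_comp_ι ..).symm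
  change IsPullback (B.ι U' hU' ≫ h) (chartToOpen B U' hU') A.π (U'.ι ≫ g)
  rw [e1, e2]
  refine IsPullback.paste_horiz ?_ (isPullback_chart A U hU)
  have h0 := (isPullback_SpecMap_of_isPushout _ _ _ _ (hu U hU U' hU' hle)).flip
  refine IsPullback.of_iso h0 (Iso.refl _) (Iso.refl _) hU'.isoSpec.symm hU.isoSpec.symm ?_ ?_ ?_ ?_
  · simp
  · simp [chartToOpen]
  · simp [chartToOpen]
  · exact isoSpec_inv_resLE g hU hU' hle

end Groth.Agent.Lib.Helper42
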