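import Groth.Agent.Lib.Helper42.RelTildeMap
import Groth.Agent.Lib.Helper42.ModGlue

/-!
# Existence and uniqueness of the morphism between relative tilde modules induced by a graded homomorphism
(`RelProj.IsRelTilde`): compatibility of the chartwise identifications over pairs of affine opens, glueing.
-/

set_option autoImplicit false
universe u
open CategoryTheory CategoryTheory.Limits AlgebraicGeometry Opposite TopologicalSpace
open scoped HomogeneousIdeal
noncomputable section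

namespace Groth.Agent.Lib.Helper42.RelTilde

section ring
variable {A σ : Type u} [CommRing A] [SetLike σ A] [AddSubgroupClass σ A] {𝒜 : ℕ → σ} [GradedRing 𝒜]
variable {B σ' : Type u} [CommRing B] [SetLike σ' B] [AddSubgroupClass σ' B] {ℬ : ℕ → σ'} [GradedRing ℬ]
variable {M N M' N' : Type u} [AddCommGroup M] [Module A M] [AddCommGroup N] [Module A N]
  [AddCommGroup M'] [Module B M'] [AddCommGroup N'] [Module B N']

theorem locModMap_locMap (ψ : 𝒜 →+*ᵍ ℬ) (hψ : ℬ₊ ≤ (𝒜₊).map ψ) (vM : M →ₛₗ[ψ.toRingHom] M')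
    (vN : N →ₛₗ[ψ.toRingHom] N') (u : M →ₗ[A] N) (u' : M' →ₗ[B] N') (hcomm : ∀ m, vN (u m) = u' (vM m))
    (y : ProjectiveSpectrum ℬ) (q : GrMod.LocMod 𝒜 (M := M) (ProjectiveSpectrum.comap ψ hψ y)) :
    GrMod.locModMap ψ hψ vN y (GrMod.locMap u (ProjectiveSpectrum.comap ψ hψ y) q) =
      GrMod.locMap u' y (GrMod.locModMap ψ hψ vM y q) := by
  induction q using LocalizedModule.induction_on with
  | h m s =>
    rw [GrMod.locMap_mk, GrMod.locModMap_mk, GrMod.locModMap_mk, GrMod.locMap_mk, hcomm]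

end ring

section rel
variable {Y P : Scheme.{u}} {𝒮 : RelProj.QCGrAlg Y} {p : P ⟶ Y}
  {chart : ∀ (U : Y.Opens) (hU : IsAffineOpen U), (((p ⁻¹ᵁ U : P.Opens) : Scheme.{u}) ≅ Proj (𝒮.deg U hU))}

theorem emb_basicOpen_apply (hP : RelProj.IsRelProj 𝒮 p chart) (U : Y.Opens) (hU : IsAffineOpen U)
    (r : Γ(Y, U)) (y : ProjectiveSpectrum (𝒮.deg (Y.basicOpen r) (hU.basicOpen r))) :
    (RelProj.emb p chart U hU).base (ProjectiveSpectrum.comap
      (𝒮.res hU (hU.basicOpen r) (Y.basicOpen_le r)) (𝒮.irrelevant_le_map U hU r) y) =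
      (RelProj.emb p chart (Y.basicOpen r) (hU.basicOpen r)).base y :=
  congrArg (fun f => f.base y) (RelProj.map_res_emb hP U hU r)

variable {ℳ 𝒩 : RelProj.GrModule 𝒮} {u : ℳ.mod ⟶ 𝒩.mod} (hu : RelProj.IsGrModHom u) {n : ℤ}
  {F G : P.Modules}
  {lam : ∀ (U : Y.Opens) (hU : IsAffineOpen U),
      F ⟶ (Scheme.Modules.pushforward (RelProj.emb p chart U hU)).obj (GrMod.tilde (𝒮.deg U hU) (ℳ.deg U hU) n)}
  {lam' : ∀ (U : Y.Opens) (hU : IsAffineOpen U),
      G ⟶ (Scheme.Modules.pushforward (RelProj.emb p chart U hU)).obj (GrMod.tilde (𝒮.deg U hU) (𝒩.deg U hU) n)}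

/-- the composite `F ⟶ emb_* (ℳ(U)(n))~ ⟶ emb_* (𝒩(U)(n))~` -/
def kap (lam : ∀ (U : Y.Opens) (hU : IsAffineOpen U),
      F ⟶ (Scheme.Modules.pushforward (RelProj.emb p chart U hU)).obj (GrMod.tilde (𝒮.deg U hU) (ℳ.deg U hU) n))
    (U : Y.Opens) (hU : IsAffineOpen U) :
    F ⟶ (Scheme.Modules.pushforward (RelProj.emb p chart U hU)).obj (GrMod.tilde (𝒮.deg U hU) (𝒩.deg U hU) n) :=
  lam U hU ≫ (Scheme.Modules.pushforward (RelProj.emb p chart U hU)).map
    (GrMod.map (𝒮.deg U hU) (linU u U) (hu U hU) n)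

theorem val_kap (U : Y.Opens) (hU : IsAffineOpen U) (W : P.Opens) (s : Γ(F, W))
    (y : (RelProj.emb p chart U hU ⁻¹ᵁ W : (Proj (𝒮.deg U hU)).Opens)) :
    GrMod.val (V := RelProj.emb p chart U hU ⁻¹ᵁ W) ((kap hu lam U hU).app W s) y =
      GrMod.locMap (linU u U) y.1 (GrMod.val (V := RelProj.emb p chart U hU ⁻¹ᵁ W) ((lam U hU).app W s) y) :=
  rfl

theorem res_comm (U V : Y.Opens) (hU : IsAffineOpen U) (hV : IsAffineOpen V) (i : V ≤ U)
    (m : ℳ.mod.val.obj (op U)) :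
    𝒩.res hU hV i (linU u U m) = linU u V (ℳ.res hU hV i m) :=
  (PresheafOfModules.naturality_apply u.val (homOfLE i).op m).symm

include hu in
theorem compat_basic (hP : RelProj.IsRelProj 𝒮 p chart) (hF : RelProj.IsRelTilde 𝒮 p chart ℳ n F lam)
    (hG : RelProj.IsRelTilde 𝒮 p chart 𝒩 n G lam') (U : Y.Opens) (hU : IsAffineOpen U) (r : Γ(Y, U))
    (W : P.Opens) (s : Γ(F, W)) (t : Γ(G, W))
    (h : (lam' U hU).app W t = (kap hu lam U hU).app W s) :
    (lam' (Y.basicOpen r) (hU.basicOpen r)).app W t =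
      (kap hu lam (Y.basicOpen r) (hU.basicOpen r)).app W s := by
  refine sect_ext (V := RelProj.emb p chart (Y.basicOpen r) (hU.basicOpen r) ⁻¹ᵁ W) fun y => ?_
  have hy' : (RelProj.emb p chart U hU).base (ProjectiveSpectrum.comap
      (𝒮.res hU (hU.basicOpen r) (Y.basicOpen_le r)) (𝒮.irrelevant_le_map U hU r) y.1) ∈ W := by
    rw [emb_basicOpen_apply hP]; exact y.2
  rw [hG.compat U hU r W t y.1 y.2 hy', val_kap, hF.compat U hU r W s y.1 y.2 hy', h, val_kap]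
  exact locModMap_locMap _ _ _ _ _ _ (fun m => res_comm U _ hU _ _ m) y.1 _

include hu in
theorem compat_basic_conv (hP : RelProj.IsRelProj 𝒮 p chart) (hF : RelProj.IsRelTilde 𝒮 p chart ℳ n F lam)
    (hG : RelProj.IsRelTilde 𝒮 p chart 𝒩 n G lam') (U : Y.Opens) (hU : IsAffineOpen U) (r : Γ(Y, U))
    (W : P.Opens) (hW : W ≤ p ⁻¹ᵁ Y.basicOpen r) (s : Γ(F, W)) (t : Γ(G, W))
    (h : (lam' (Y.basicOpen r) (hU.basicOpen r)).app W t =
      (kap hu lam (Y.basicOpen r) (hU.basicOpen r)).app W s) :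
    (lam' U hU).app W t = (kap hu lam U hU).app W s := by
  have hWU : W ≤ p ⁻¹ᵁ U := hW.trans (p.preimage_mono (Y.basicOpen_le r))
  obtain ⟨t', ht'⟩ := (hG.bijective U hU W hWU).surjective ((kap hu lam U hU).app W s)
  have h2 := compat_basic hu hP hF hG U hU r W s t' ht'
  have : t = t' := (hG.bijective _ (hU.basicOpen r) W hW).injective (h.trans h2.symm)
  rw [this]; exact ht'

theorem compat_eq (V V' : Y.Opens) (e : V = V') (hV : IsAffineOpen V) (hV' : IsAffineOpen V')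
    (W : P.Opens) (s : Γ(F, W)) (t : Γ(G, W))
    (h : (lam' V hV).app W t = (kap hu lam V hV).app W s) :
    (lam' V' hV').app W t = (kap hu lam V' hV').app W s := by
  subst e; exact h

include hu in
theorem compat_general (hP : RelProj.IsRelProj 𝒮 p chart) (hF : RelProj.IsRelTilde 𝒮 p chart ℳ n F lam)
    (hG : RelProj.IsRelTilde 𝒮 p chart 𝒩 n G lam') (U U' : Y.Opens) (hU : IsAffineOpen U)
    (hU' : IsAffineOpen U') (W : P.Opens) (hW : W ≤ p ⁻¹ᵁ U) (hW' : W ≤ p ⁻¹ᵁ U')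
    (s : Γ(F, W)) (t : Γ(G, W)) (h : (lam' U hU).app W t = (kap hu lam U hU).app W s) :
    (lam' U' hU').app W t = (kap hu lam U' hU').app W s := by
  refine sect_ext (V := RelProj.emb p chart U' hU' ⁻¹ᵁ W) fun y => ?_
  have hx : (RelProj.emb p chart U' hU').base y.1 ∈ W := y.2
  obtain ⟨f, g, hfg, hxf⟩ := exists_basicOpen_le_affine_inter hU hU'
    (p.base ((RelProj.emb p chart U' hU').base y.1)) ⟨hW hx, hW' hx⟩
  have hle : W ⊓ p ⁻¹ᵁ (Y.basicOpen f) ≤ W := inf_le_left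
  have h1 : (lam' U hU).app _ (G.presheaf.map (homOfLE hle).op t) =
      (kap hu lam U hU).app _ (F.presheaf.map (homOfLE hle).op s) := by
    rw [ModLocal.app_res, ModLocal.app_res, h]
  have h2 := compat_basic hu hP hF hG U hU f _ _ _ h1
  have h3 := compat_eq hu _ _ hfg (hU.basicOpen f) (hU'.basicOpen g) _ _ _ h2
  have h4 := compat_basic_conv hu hP hF hG U' hU' g _ (by rw [← hfg]; exact inf_le_right) _ _ h3
  rw [ModLocal.app_res, ModLocal.app_res] at h4
  have h5 := congrArg (fun σ => GrMod.val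
    (V := RelProj.emb p chart U' hU' ⁻¹ᵁ (W ⊓ p ⁻¹ᵁ (Y.basicOpen f))) σ ⟨y.1, ⟨y.2, hxf⟩⟩) h4
  exact h5

omit hu in
/-- sections of `emb_* (M(n)~)` over `W` are determined by their restriction to `W ⊓ p⁻¹ U` -/
theorem pushforward_tilde_res_injective (U : Y.Opens) (hU : IsAffineOpen U) (W : P.Opens) :
    Function.Injective (((Scheme.Modules.pushforward (RelProj.emb p chart U hU)).obj
      (GrMod.tilde (𝒮.deg U hU) (𝒩.deg U hU) n)).presheaf.map
        (homOfLE (inf_le_left : W ⊓ p ⁻¹ᵁ U ≤ W)).op) := by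
  intro σ σ' h
  refine sect_ext (V := RelProj.emb p chart U hU ⁻¹ᵁ W) fun y => ?_
  have hy : (RelProj.emb p chart U hU).base y.1 ∈ p ⁻¹ᵁ U := by
    rw [← opensRange_emb (chart := chart) U hU]; exact ⟨y.1, rfl⟩
  exact congrArg (fun τ => GrMod.val
    (V := RelProj.emb p chart U hU ⁻¹ᵁ (W ⊓ p ⁻¹ᵁ U)) τ ⟨y.1, ⟨y.2, hy⟩⟩) h

include hu in
theorem existsUnique_map (hP : RelProj.IsRelProj 𝒮 p chart) (hF : RelProj.IsRelTilde 𝒮 p chart ℳ n F lam)
    (hG : RelProj.IsRelTilde 𝒮 p chart 𝒩 n G lam') :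
    ∃! ut : F ⟶ G, ∀ (U : Y.Opens) (hU : IsAffineOpen U), ut ≫ lam' U hU = kap hu lam U hU := by
  have key := ModLocal.existsUnique_hom_of_local (ι := Y.affineOpens) (fun i => p ⁻¹ᵁ i.1)
    (fun x => by obtain ⟨U, hU, hx⟩ := exists_affine_mem p x; exact ⟨⟨U, hU⟩, hx⟩)
    (fun i => (Scheme.Modules.pushforward (RelProj.emb p chart i.1 i.2)).obj
      (GrMod.tilde (𝒮.deg i.1 i.2) (𝒩.deg i.1 i.2) n))
    (fun i => lam' i.1 i.2) (fun i => kap hu lam i.1 i.2)
    (fun i W hW => hG.bijective i.1 i.2 W hW)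
    (fun i j W hW hW' s t h => compat_general hu hP hF hG i.1 j.1 i.2 j.2 W hW hW' s t h)
    (fun i W => pushforward_tilde_res_injective i.1 i.2 W)
  obtain ⟨φ, hφ, huniq⟩ := key
  exact ⟨φ, fun U hU => hφ ⟨U, hU⟩, fun ψ hψ => huniq ψ fun i => hψ i.1 i.2⟩

end rel

end Groth.Agent.Lib.Helper42.RelTilde
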