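import Groth.Agent.Lib.Helper42.GrModTN
import Groth.Agent.Lib.Helper42.RelTildeGlue
import Groth.Agent.Lib.Helper42.GrComapIso
import Groth.Agent.Lib.Helper45.QCohStalk

/-!
# (TN) from the vanishing of `ℳ~` on a relative Proj under (TF) (helper42; S8326)
-/

set_option autoImplicit false
universe u
open CategoryTheory CategoryTheory.Limits AlgebraicGeometry Opposite TopologicalSpace
open scoped HomogeneousIdeal
noncomputable section

namespace Groth.Agent.Lib.Helper42.RelTildeTN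

open Groth.Agent.Lib.Helper42.RelTilde

variable {Y P : Scheme.{u}} {𝒮 : RelProj.QCGrAlg Y} {p : P ⟶ Y}
  {chart : ∀ (U : Y.Opens) (hU : IsAffineOpen U), (((p ⁻¹ᵁ U : P.Opens) : Scheme.{u}) ≅ Proj (𝒮.deg U hU))}
  {ℳ : RelProj.GrModule 𝒮} {n : ℤ} {F : P.Modules}
  {lam : ∀ (U : Y.Opens) (hU : IsAffineOpen U),
      F ⟶ (Scheme.Modules.pushforward (RelProj.emb p chart U hU)).obj (GrMod.tilde (𝒮.deg U hU) (ℳ.deg U hU) n)}

theorem section_eq_zero_of_isZero {X : Scheme.{u}} {G : X.Modules} (h0 : IsZero G) (W : X.Opens) (t : Γ(G, W)) :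
    t = 0 := by
  have h1 := h0.eq_of_src (𝟙 G) 0
  have h2 := congrArg (fun φ : G ⟶ G => (Scheme.Modules.Hom.app φ W).hom t) h1
  exact h2

/-- if the module attached to `ℳ(n)` on the relative Proj is zero, then so are the chartwise modules -/
theorem sect_eq_zero_of_isZero (hF : RelProj.IsRelTilde 𝒮 p chart ℳ n F lam) (h0 : IsZero F)
    (U : Y.Opens) (hU : IsAffineOpen U) (V : (Proj (𝒮.deg U hU)).Opens)
    (s : Γ(GrMod.tilde (𝒮.deg U hU) (ℳ.deg U hU) n, V)) : s = 0 := by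
  refine sect_ext fun y => ?_
  obtain ⟨W, -, hWU, hyW, hWV⟩ := exists_open_of_preimage (p := p) (chart := chart) U hU ⊤ V le_top y.1 y.2
  obtain ⟨t, ht⟩ := (hF.bijective U hU W hWU).surjective
    ((GrMod.tilde (𝒮.deg U hU) (ℳ.deg U hU) n).presheaf.map (homOfLE hWV).op s)
  rw [section_eq_zero_of_isZero h0 W t, map_zero] at ht
  have h1 := congrArg (fun σ => GrMod.val (V := RelProj.emb p chart U hU ⁻¹ᵁ W) σ ⟨y.1, hyW⟩) ht
  exact h1.symm

section qc

/-- the underlying `O_Y`-module of `ℳ` -/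
abbrev undMod (ℳ : RelProj.GrModule 𝒮) : Y.Modules := (AMod.toOS 𝒮.toQCAlg).obj ℳ.mod

theorem smul_undMod (D : Y.Opens) (r : Γ(Y, D)) (m : ℳ.mod.val.obj (op D)) :
    (r • (show Γ(undMod ℳ, D) from m) : Γ(undMod ℳ, D)) =
      (show Γ(undMod ℳ, D) from ((𝒮.str.app (op D)).hom r : 𝒮.presheaf.obj (op D)) • m) := rfl

theorem res_undMod {U V : Y.Opens} (hU : IsAffineOpen U) (hV : IsAffineOpen V) (h : V ≤ U) (m : ℳ.mod.val.obj (op U)) :
    (undMod ℳ).presheaf.map (homOfLE h).op (show Γ(undMod ℳ, U) from m) =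
      (show Γ(undMod ℳ, V) from ℳ.res hU hV h m) := rfl

/-- a vanishing graded piece over `U` forces the graded piece over a basic open of `U` to vanish (`ℳ` quasi-coherent) -/
theorem eq_zero_of_basicOpen (hℳ : Coh.IsQCoh (undMod ℳ)) {U : Y.Opens} (hU : IsAffineOpen U) (g : Γ(Y, U))
    (D : Y.Opens) (hD : IsAffineOpen D) (e : D = Y.basicOpen g) {k : ℕ}
    (hk : ∀ m ∈ ℳ.deg U hU k, m = 0) (m' : ℳ.mod.val.obj (op D)) (hm' : m' ∈ ℳ.deg D hD k) : m' = 0 := by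
  classical
  subst e
  have : (undMod ℳ).IsQuasicoherent := hℳ
  obtain ⟨j, t, ht⟩ := Groth.Agent.Lib.Helper45.exists_restrict_eq_pow_smul hU (undMod ℳ) g
    (show Γ(undMod ℳ, Y.basicOpen g) from m')
  set u : Γ(Y, Y.basicOpen g) := Y.presheaf.map (homOfLE (Y.basicOpen_le g)).op g with hu
  have hunit : IsUnit u := RingedSpace.isUnit_res_basicOpen Y.toRingedSpace g
  have h1 : ℳ.res hU hD (Y.basicOpen_le g) t =
      ((𝒮.str.app (op (Y.basicOpen g))).hom (u ^ j) : 𝒮.presheaf.obj (op (Y.basicOpen g))) • m' := ht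
  have h3 : ((DirectSum.decompose (ℳ.deg U hU) t k : ℳ.deg U hU k) : ℳ.mod.val.obj (op U)) = 0 :=
    hk _ (SetLike.coe_mem _)
  have h4 : ((𝒮.str.app (op (Y.basicOpen g))).hom (u ^ j) : 𝒮.presheaf.obj (op (Y.basicOpen g))) • m' ∈
      ℳ.deg (Y.basicOpen g) hD k := by
    have := SetLike.GradedSMul.smul_mem (A := 𝒮.deg (Y.basicOpen g) hD) (B := ℳ.deg (Y.basicOpen g) hD)
      (𝒮.str_mem (Y.basicOpen g) hD (u ^ j)) hm'
    rwa [zero_vadd] at this
  have h5 : ((𝒮.str.app (op (Y.basicOpen g))).hom (u ^ j) : 𝒮.presheaf.obj (op (Y.basicOpen g))) • m' = 0 := by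
    rw [← DirectSum.decompose_of_mem_same _ h4, ← h1,
      ← GrComapIso.map_decompose (𝒮.res hU hD (Y.basicOpen_le g)) (ℳ.deg U hU) (ℳ.deg (Y.basicOpen g) hD)
        (ℳ.res hU hD (Y.basicOpen_le g)) (fun i m hm => ℳ.res_mem hU hD (Y.basicOpen_le g) i m hm), h3, map_zero]
  obtain ⟨w, hw⟩ := hunit
  have h6 : m' = ((𝒮.str.app (op (Y.basicOpen g))).hom ((↑w⁻¹ : Γ(Y, Y.basicOpen g)) ^ j) :
      𝒮.presheaf.obj (op (Y.basicOpen g))) •
      (((𝒮.str.app (op (Y.basicOpen g))).hom (u ^ j) : 𝒮.presheaf.obj (op (Y.basicOpen g))) • m') := by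
    rw [smul_smul, ← map_mul, ← mul_pow, ← hw, Units.inv_mul, one_pow, map_one, one_smul]
  rw [h6, h5, smul_zero]

/-- chartwise degree bounds give a global one over a quasi-compact base (`ℳ` quasi-coherent) -/
theorem isTN_of_bounds [CompactSpace Y] (hℳ : Coh.IsQCoh (undMod ℳ))
    (hb : ∀ (U : Y.Opens) (hU : IsAffineOpen U), ∃ N : ℕ, ∀ k : ℕ, N ≤ k → ∀ m ∈ ℳ.deg U hU k, m = 0) :
    ℳ.IsTN := by
  classical
  choose N hN using hb
  obtain ⟨t, ht⟩ := isCompact_univ.elim_finite_subcover (fun i : Y.affineOpens => (i.1 : Set Y))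
    (fun i => i.1.2) (by
      intro x _
      obtain ⟨_, ⟨U, hU, rfl⟩, hxU, -⟩ :=
        Y.isBasis_affineOpens.exists_subset_of_mem_open (Set.mem_univ x) isOpen_univ
      exact Set.mem_iUnion.mpr ⟨⟨U, hU⟩, hxU⟩)
  refine ⟨t.sup (fun i => N i.1 i.2), fun V hV k hk m hm => ?_⟩
  have key : (show Γ(undMod ℳ, V) from m) = 0 := by
    refine ModLocal.section_ext (undMod ℳ) fun x hx => ?_
    have hx' := ht (Set.mem_univ x)
    simp only [Set.mem_iUnion, exists_prop] at hx'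
    obtain ⟨i, hit, hxi⟩ := hx'
    obtain ⟨f, g, hfg, hxf⟩ := exists_basicOpen_le_affine_inter hV i.2 x ⟨hx, hxi⟩
    refine ⟨Y.basicOpen f, Y.basicOpen_le f, hxf, ?_⟩
    rw [map_zero]
    exact eq_zero_of_basicOpen hℳ i.2 g (Y.basicOpen f) (hV.basicOpen f) hfg
      (hN i.1 i.2 k (le_trans (Finset.le_sup (f := fun i : Y.affineOpens => N i.1 i.2) hit) hk)) _
      (ℳ.res_mem hV (hV.basicOpen f) (Y.basicOpen_le f) k m hm)
  exact key

end qc

end Groth.Agent.Lib.Helper42.RelTildeTN
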