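import Groth.Agent.Lib.Helper42.GrTwistLoc
import Groth.Agent.Lib.Helper42.ModLimit

/-!
# The diagram of chartwise twisting sheaves `O(n)` on a relative `Proj` (helper42; S8284)
-/

set_option autoImplicit false
set_option linter.unusedSectionVars false
universe u
open CategoryTheory CategoryTheory.Limits AlgebraicGeometry Opposite TopologicalSpace
open scoped HomogeneousIdeal
noncomputable section

namespace Groth.Agent.Lib.Helper42.RelTwistDiag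

open Groth.Agent.Lib.Helper42.RelTwistComap

section ring
variable {A σA : Type u} [CommRing A] [SetLike σA A] [AddSubgroupClass σA A] {𝒜 : ℕ → σA} [GradedRing 𝒜]
variable {B σB : Type u} [CommRing B] [SetLike σB B] [AddSubgroupClass σB B] {ℬ : ℕ → σB} [GradedRing ℬ]
variable {D σD : Type u} [CommRing D] [SetLike σD D] [AddSubgroupClass σD D] {𝒟 : ℕ → σD} [GradedRing 𝒟]

theorem comap_eq_self (ψ : 𝒜 →+*ᵍ 𝒜) (hψ : 𝒜₊ ≤ (𝒜₊).map ψ) (hid : ∀ a : A, ψ a = a)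
    (y : ProjectiveSpectrum 𝒜) : ProjectiveSpectrum.comap ψ hψ y = y := by
  apply ProjectiveSpectrum.ext
  apply HomogeneousIdeal.toIdeal_injective
  ext a
  change ψ a ∈ y.asHomogeneousIdeal ↔ a ∈ y.asHomogeneousIdeal
  rw [hid]

theorem locMap_eq_self (ψ : 𝒜 →+*ᵍ 𝒜) (hψ : 𝒜₊ ≤ (𝒜₊).map ψ) (hid : ∀ a : A, ψ a = a) (n : ℤ)
    (y : ProjectiveSpectrum 𝒜) {U : (Proj 𝒜).Opens} (s : Γ(GrTwist.twist 𝒜 n, U))
    (hy₁ : ProjectiveSpectrum.comap ψ hψ y ∈ U) (hy₂ : y ∈ U) :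
    GrTwist.locMap ψ hψ y (GrTwist.val s ⟨_, hy₁⟩) = GrTwist.val s ⟨y, hy₂⟩ := by
  have hpt := comap_eq_self ψ hψ hid y
  obtain ⟨V', hxV', iV, i, j, a, b, hb, hij, hval⟩ := (s : GrTwist.sectN (𝒜 := 𝒜) n (op U)).2 ⟨_, hy₂⟩
  have hxV'₁ : ProjectiveSpectrum.comap ψ hψ y ∈ V' := hpt.symm ▸ hxV'
  have e1 : GrTwist.val s ⟨_, hy₁⟩ = Localization.mk a.1 ⟨b.1, hb ⟨_, hxV'₁⟩⟩ := hval ⟨_, hxV'₁⟩
  have e2 : GrTwist.val s ⟨_, hy₂⟩ = Localization.mk a.1 ⟨b.1, hb ⟨_, hxV'⟩⟩ := hval ⟨_, hxV'⟩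
  rw [e1, e2, GrTwist.locMap_mk]
  congr 1
  · exact hid _
  · exact Subtype.ext (hid _)

theorem comap_comp_eq (ψ₁ : 𝒜 →+*ᵍ ℬ) (h₁ : ℬ₊ ≤ (𝒜₊).map ψ₁) (ψ₂ : ℬ →+*ᵍ 𝒟) (h₂ : 𝒟₊ ≤ (ℬ₊).map ψ₂)
    (ψ₃ : 𝒜 →+*ᵍ 𝒟) (h₃ : 𝒟₊ ≤ (𝒜₊).map ψ₃) (hcomm : ∀ a : A, ψ₂ (ψ₁ a) = ψ₃ a)
    (y : ProjectiveSpectrum 𝒟) :
    ProjectiveSpectrum.comap ψ₁ h₁ (ProjectiveSpectrum.comap ψ₂ h₂ y) = ProjectiveSpectrum.comap ψ₃ h₃ y := by
  apply ProjectiveSpectrum.ext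
  apply HomogeneousIdeal.toIdeal_injective
  ext a
  change ψ₂ (ψ₁ a) ∈ y.asHomogeneousIdeal ↔ ψ₃ a ∈ y.asHomogeneousIdeal
  rw [hcomm]

theorem locMap_comp_eq (ψ₁ : 𝒜 →+*ᵍ ℬ) (h₁ : ℬ₊ ≤ (𝒜₊).map ψ₁) (ψ₂ : ℬ →+*ᵍ 𝒟) (h₂ : 𝒟₊ ≤ (ℬ₊).map ψ₂)
    (ψ₃ : 𝒜 →+*ᵍ 𝒟) (h₃ : 𝒟₊ ≤ (𝒜₊).map ψ₃) (hcomm : ∀ a : A, ψ₂ (ψ₁ a) = ψ₃ a) (n : ℤ)
    (y : ProjectiveSpectrum 𝒟) {U : (Proj 𝒜).Opens} (s : Γ(GrTwist.twist 𝒜 n, U))
    (hy₁ : ProjectiveSpectrum.comap ψ₁ h₁ (ProjectiveSpectrum.comap ψ₂ h₂ y) ∈ U)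
    (hy₂ : ProjectiveSpectrum.comap ψ₃ h₃ y ∈ U) :
    GrTwist.locMap ψ₂ h₂ y (GrTwist.locMap ψ₁ h₁ _ (GrTwist.val s ⟨_, hy₁⟩)) =
      GrTwist.locMap ψ₃ h₃ y (GrTwist.val s ⟨_, hy₂⟩) := by
  have hpt := comap_comp_eq ψ₁ h₁ ψ₂ h₂ ψ₃ h₃ hcomm y
  obtain ⟨V', hxV', iV, i, j, a, b, hb, hij, hval⟩ := (s : GrTwist.sectN (𝒜 := 𝒜) n (op U)).2 ⟨_, hy₁⟩
  have hxV'₂ : ProjectiveSpectrum.comap ψ₃ h₃ y ∈ V' := hpt ▸ hxV'
  have e1 : GrTwist.val s ⟨_, hy₁⟩ = Localization.mk a.1 ⟨b.1, hb ⟨_, hxV'⟩⟩ := hval ⟨_, hxV'⟩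
  have e2 : GrTwist.val s ⟨_, hy₂⟩ = Localization.mk a.1 ⟨b.1, hb ⟨_, hxV'₂⟩⟩ := hval ⟨_, hxV'₂⟩
  rw [e1, e2, GrTwist.locMap_mk, GrTwist.locMap_mk, GrTwist.locMap_mk]
  congr 1
  · exact hcomm _
  · exact Subtype.ext (hcomm _)

end ring

section rel

variable (Y : Scheme.{u}) in
/-- the index set: affine opens of `Y` -/
structure BI : Type u where
  U : Y.Opens
  hU : IsAffineOpen U

variable {Y P : Scheme.{u}}

instance : Preorder (BI Y) where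
  le i j := j.U ≤ i.U ∧ ∃ r : Γ(Y, i.U), j.U = Y.basicOpen r
  le_refl i := ⟨le_rfl, 1, (Y.basicOpen_one).symm⟩
  le_trans i j k hij hjk := by
    refine ⟨hjk.1.trans hij.1, ?_⟩
    obtain ⟨iU, ihU⟩ := i
    obtain ⟨jU, jhU⟩ := j
    obtain ⟨kU, khU⟩ := k
    obtain ⟨-, r, hr⟩ := hij
    obtain ⟨-, s, hs⟩ := hjk
    dsimp only at hr hs r s ⊢
    subst hr
    obtain ⟨f', hf'⟩ := ihU.basicOpen_basicOpen_is_basicOpen r s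
    exact ⟨f', hs.trans hf'.symm⟩

theorem BI.le_def {i j : BI Y} : i ≤ j ↔ j.U ≤ i.U ∧ ∃ r : Γ(Y, i.U), j.U = Y.basicOpen r := Iff.rfl

variable (𝒮 : RelProj.QCGrAlg Y) (p : P ⟶ Y)
    (chart : ∀ (U : Y.Opens) (hU : IsAffineOpen U), (((p ⁻¹ᵁ U : P.Opens) : Scheme.{u}) ≅ Proj (𝒮.deg U hU)))
    (hP : RelProj.IsRelProj 𝒮 p chart) (n : ℤ)

theorem irr_of_le {i j : BI Y} (h : i ≤ j) :
    (𝒮.deg j.U j.hU)₊ ≤ ((𝒮.deg i.U i.hU)₊).map (𝒮.res i.hU j.hU h.1) := by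
  obtain ⟨iU, ihU⟩ := i
  obtain ⟨jU, jhU⟩ := j
  obtain ⟨hle, r, hr⟩ := h
  dsimp only at hr r hle ⊢
  subst hr
  exact 𝒮.irrelevant_le_map iU ihU r

include hP in
theorem map_res_emb_of_le {i j : BI Y} (h : i ≤ j) :
    Proj.map (𝒮.res i.hU j.hU h.1) (irr_of_le 𝒮 h) ≫ RelProj.emb p chart i.U i.hU =
      RelProj.emb p chart j.U j.hU := by
  obtain ⟨iU, ihU⟩ := i
  obtain ⟨jU, jhU⟩ := j
  obtain ⟨hle, r, hr⟩ := h
  dsimp only at hr r hle ⊢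
  subst hr
  exact RelProj.map_res_emb hP iU ihU r

/-- the transition maps of the diagram of chartwise twisting sheaves -/
def tmap {i j : BI Y} (h : i ≤ j) :
    (Scheme.Modules.pushforward (RelProj.emb p chart i.U i.hU)).obj (GrTwist.twist (𝒮.deg i.U i.hU) n) ⟶
      (Scheme.Modules.pushforward (RelProj.emb p chart j.U j.hU)).obj (GrTwist.twist (𝒮.deg j.U j.hU) n) :=
  (Scheme.Modules.pushforward (RelProj.emb p chart i.U i.hU)).map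
      (GrTwist.comap (𝒮.res i.hU j.hU h.1) (irr_of_le 𝒮 h) n) ≫
    (Scheme.Modules.pushforwardComp (Proj.map (𝒮.res i.hU j.hU h.1) (irr_of_le 𝒮 h))
      (RelProj.emb p chart i.U i.hU)).hom.app _ ≫
    (Scheme.Modules.pushforwardCongr (map_res_emb_of_le 𝒮 p chart hP h)).hom.app _

include hP in
theorem emb_comap_of_le {i j : BI Y} (h : i ≤ j) (y : ProjectiveSpectrum (𝒮.deg j.U j.hU)) :
    (RelProj.emb p chart i.U i.hU).base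
      (ProjectiveSpectrum.comap (𝒮.res i.hU j.hU h.1) (irr_of_le 𝒮 h) y) =
      (RelProj.emb p chart j.U j.hU).base y :=
  congrArg (fun f => f.base y) (map_res_emb_of_le 𝒮 p chart hP h)

theorem val_tmap {i j : BI Y} (h : i ≤ j) (W : P.Opens)
    (s : Γ((Scheme.Modules.pushforward (RelProj.emb p chart i.U i.hU)).obj (GrTwist.twist (𝒮.deg i.U i.hU) n), W))
    (y : (RelProj.emb p chart j.U j.hU ⁻¹ᵁ W : (Proj (𝒮.deg j.U j.hU)).Opens)) :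
    GrTwist.val (V := RelProj.emb p chart j.U j.hU ⁻¹ᵁ W) ((tmap 𝒮 p chart hP n h).app W s) y =
      GrTwist.locMap (𝒮.res i.hU j.hU h.1) (irr_of_le 𝒮 h) y.1
        (GrTwist.val (V := RelProj.emb p chart i.U i.hU ⁻¹ᵁ W) s
          ⟨ProjectiveSpectrum.comap (𝒮.res i.hU j.hU h.1) (irr_of_le 𝒮 h) y.1,
            (show (RelProj.emb p chart i.U i.hU).base _ ∈ W from (emb_comap_of_le 𝒮 p chart hP h y.1).symm ▸ y.2)⟩) :=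
  rfl

/-- the diagram of chartwise twisting sheaves -/
def diag : BI Y ⥤ P.Modules where
  obj i := (Scheme.Modules.pushforward (RelProj.emb p chart i.U i.hU)).obj (GrTwist.twist (𝒮.deg i.U i.hU) n)
  map f := tmap 𝒮 p chart hP n (leOfHom f)
  map_id i := by
    refine Scheme.Modules.hom_ext _ _ fun W => ?_
    ext s
    refine twist_sect_ext (V := RelProj.emb p chart i.U i.hU ⁻¹ᵁ W) fun y => ?_
    rw [val_tmap]
    exact locMap_eq_self _ _ (fun a => by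
      rw [RelProj.QCGrAlg.res_apply]
      have : (homOfLE (leOfHom (𝟙 i) : i ≤ i).1).op = 𝟙 (op i.U) := Subsingleton.elim _ _
      rw [this, 𝒮.presheaf.map_id]
      rfl) n y.1 s _ y.2
  map_comp {i j k} f g := by
    refine Scheme.Modules.hom_ext _ _ fun W => ?_
    ext s
    refine twist_sect_ext (V := RelProj.emb p chart k.U k.hU ⁻¹ᵁ W) fun y => ?_
    rw [val_tmap]
    change _ = GrTwist.val (V := RelProj.emb p chart k.U k.hU ⁻¹ᵁ W)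
      ((tmap 𝒮 p chart hP n (leOfHom g)).app W ((tmap 𝒮 p chart hP n (leOfHom f)).app W s)) y
    rw [val_tmap, val_tmap]
    refine (locMap_comp_eq _ _ _ _ _ _ (fun a => ?_) n y.1 s _ _).symm
    rw [RelProj.QCGrAlg.res_apply, RelProj.QCGrAlg.res_apply, RelProj.QCGrAlg.res_apply]
    have : (homOfLE (leOfHom (f ≫ g)).1).op = (homOfLE (leOfHom f).1).op ≫ (homOfLE (leOfHom g).1).op :=
      Subsingleton.elim _ _
    rw [this, 𝒮.presheaf.map_comp]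
    rfl

end rel

end Groth.Agent.Lib.Helper42.RelTwistDiag
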