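import Groth.Agent.Lib.Helper42.GrModLoc
import Groth.Agent.Lib.Helper42.RelTwistDiag
import Groth.Agent.Lib.Helper42.RelTildeTN

/-!
# The diagram of chartwise modules `(ℳ(U)(n))~` on a relative `Proj` (helper42; S8321)
-/

set_option autoImplicit false
set_option linter.unusedSectionVars false
universe u
open CategoryTheory CategoryTheory.Limits AlgebraicGeometry Opposite TopologicalSpace
open scoped HomogeneousIdeal
noncomputable section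

namespace Groth.Agent.Lib.Helper42.RelTildeDiag

open Groth.Agent.Lib.Helper42.RelTwistComap Groth.Agent.Lib.Helper42.RelTwistDiag
open Groth.Agent.Lib.Helper42.RelTilde

section ring
variable {A σA : Type u} [CommRing A] [SetLike σA A] [AddSubgroupClass σA A] {𝒜 : ℕ → σA} [GradedRing 𝒜]
variable {B σB : Type u} [CommRing B] [SetLike σB B] [AddSubgroupClass σB B] {ℬ : ℕ → σB} [GradedRing ℬ]
variable {D σD : Type u} [CommRing D] [SetLike σD D] [AddSubgroupClass σD D] {𝒟 : ℕ → σD} [GradedRing 𝒟]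
variable {M τM : Type u} [AddCommGroup M] [Module A M] [SetLike τM M] [AddSubgroupClass τM M] {ℳ : ℕ → τM}
  [SetLike.GradedSMul 𝒜 ℳ]
variable {N τN : Type u} [AddCommGroup N] [Module B N] [SetLike τN N] [AddSubgroupClass τN N] {𝒩 : ℕ → τN}
  [SetLike.GradedSMul ℬ 𝒩]
variable {K τK : Type u} [AddCommGroup K] [Module D K] [SetLike τK K] [AddSubgroupClass τK K] {𝒦 : ℕ → τK}
  [SetLike.GradedSMul 𝒟 𝒦]

theorem locModMap_eq_self (ψ : 𝒜 →+*ᵍ 𝒜) (hψ : 𝒜₊ ≤ (𝒜₊).map ψ) (v : M →ₛₗ[ψ.toRingHom] M)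
    (hid : ∀ a : A, ψ a = a) (hidM : ∀ m : M, v m = m) (n : ℤ)
    (y : ProjectiveSpectrum 𝒜) {U : (Proj 𝒜).Opens} (s : Γ(GrMod.tilde 𝒜 ℳ n, U))
    (hy₁ : ProjectiveSpectrum.comap ψ hψ y ∈ U) (hy₂ : y ∈ U) :
    GrMod.locModMap ψ hψ v y (GrMod.val s ⟨_, hy₁⟩) = GrMod.val s ⟨y, hy₂⟩ := by
  have hpt := comap_eq_self ψ hψ hid y
  obtain ⟨V', hV', hxV', i, j, m, f, hm, hf, hij, hfV, hval⟩ := exists_local_frac s ⟨y, hy₂⟩
  have hxV'₁ : ProjectiveSpectrum.comap ψ hψ y ∈ V' := hpt.symm ▸ hxV'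
  have e1 : GrMod.val s ⟨_, hy₁⟩ = LocalizedModule.mk m ⟨f, hfV ⟨_, hxV'₁⟩⟩ := hval ⟨_, hxV'₁⟩
  have e2 : GrMod.val s ⟨_, hy₂⟩ = LocalizedModule.mk m ⟨f, hfV ⟨_, hxV'⟩⟩ := hval ⟨_, hxV'⟩
  rw [e1, e2, GrMod.locModMap_mk]
  congr 1
  · exact hidM _
  · exact Subtype.ext (hid _)

theorem locModMap_comp_eq (ψ₁ : 𝒜 →+*ᵍ ℬ) (h₁ : ℬ₊ ≤ (𝒜₊).map ψ₁) (ψ₂ : ℬ →+*ᵍ 𝒟) (h₂ : 𝒟₊ ≤ (ℬ₊).map ψ₂)
    (ψ₃ : 𝒜 →+*ᵍ 𝒟) (h₃ : 𝒟₊ ≤ (𝒜₊).map ψ₃) (hcomm : ∀ a : A, ψ₂ (ψ₁ a) = ψ₃ a)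
    (v₁ : M →ₛₗ[ψ₁.toRingHom] N) (v₂ : N →ₛₗ[ψ₂.toRingHom] K) (v₃ : M →ₛₗ[ψ₃.toRingHom] K)
    (hcommM : ∀ m : M, v₂ (v₁ m) = v₃ m) (n : ℤ)
    (y : ProjectiveSpectrum 𝒟) {U : (Proj 𝒜).Opens} (s : Γ(GrMod.tilde 𝒜 ℳ n, U))
    (hy₁ : ProjectiveSpectrum.comap ψ₁ h₁ (ProjectiveSpectrum.comap ψ₂ h₂ y) ∈ U)
    (hy₂ : ProjectiveSpectrum.comap ψ₃ h₃ y ∈ U) :
    GrMod.locModMap ψ₂ h₂ v₂ y (GrMod.locModMap ψ₁ h₁ v₁ _ (GrMod.val s ⟨_, hy₁⟩)) =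
      GrMod.locModMap ψ₃ h₃ v₃ y (GrMod.val s ⟨_, hy₂⟩) := by
  have hpt := comap_comp_eq ψ₁ h₁ ψ₂ h₂ ψ₃ h₃ hcomm y
  obtain ⟨V', hV', hxV', i, j, m, f, hm, hf, hij, hfV, hval⟩ := exists_local_frac s ⟨_, hy₁⟩
  have hxV'₂ : ProjectiveSpectrum.comap ψ₃ h₃ y ∈ V' := hpt ▸ hxV'
  have e1 : GrMod.val s ⟨_, hy₁⟩ = LocalizedModule.mk m ⟨f, hfV ⟨_, hxV'⟩⟩ := hval ⟨_, hxV'⟩
  have e2 : GrMod.val s ⟨_, hy₂⟩ = LocalizedModule.mk m ⟨f, hfV ⟨_, hxV'₂⟩⟩ := hval ⟨_, hxV'₂⟩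
  rw [e1, e2, GrMod.locModMap_mk, GrMod.locModMap_mk, GrMod.locModMap_mk]
  congr 1
  · exact hcommM _
  · exact Subtype.ext (hcomm _)

end ring

section rel

variable {Y P : Scheme.{u}} (𝒮 : RelProj.QCGrAlg Y) (p : P ⟶ Y)
    (chart : ∀ (U : Y.Opens) (hU : IsAffineOpen U), (((p ⁻¹ᵁ U : P.Opens) : Scheme.{u}) ≅ Proj (𝒮.deg U hU)))
    (hP : RelProj.IsRelProj 𝒮 p chart) (ℳ : RelProj.GrModule 𝒮) (n : ℤ)

/-- the transition maps of the diagram of chartwise modules -/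
def tmapM {i j : BI Y} (h : i ≤ j) :
    (Scheme.Modules.pushforward (RelProj.emb p chart i.U i.hU)).obj
        (GrMod.tilde (𝒮.deg i.U i.hU) (ℳ.deg i.U i.hU) n) ⟶
      (Scheme.Modules.pushforward (RelProj.emb p chart j.U j.hU)).obj
        (GrMod.tilde (𝒮.deg j.U j.hU) (ℳ.deg j.U j.hU) n) :=
  (Scheme.Modules.pushforward (RelProj.emb p chart i.U i.hU)).map
      (GrMod.comap (𝒮.res i.hU j.hU h.1) (irr_of_le 𝒮 h) (ℳ.res i.hU j.hU h.1)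
        (fun d m hm => ℳ.res_mem i.hU j.hU h.1 d m hm) n) ≫
    (Scheme.Modules.pushforwardComp (Proj.map (𝒮.res i.hU j.hU h.1) (irr_of_le 𝒮 h))
      (RelProj.emb p chart i.U i.hU)).hom.app _ ≫
    (Scheme.Modules.pushforwardCongr (map_res_emb_of_le 𝒮 p chart hP h)).hom.app _

theorem val_tmapM {i j : BI Y} (h : i ≤ j) (W : P.Opens)
    (s : Γ((Scheme.Modules.pushforward (RelProj.emb p chart i.U i.hU)).obj
      (GrMod.tilde (𝒮.deg i.U i.hU) (ℳ.deg i.U i.hU) n), W))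
    (y : (RelProj.emb p chart j.U j.hU ⁻¹ᵁ W : (Proj (𝒮.deg j.U j.hU)).Opens)) :
    GrMod.val (V := RelProj.emb p chart j.U j.hU ⁻¹ᵁ W) ((tmapM 𝒮 p chart hP ℳ n h).app W s) y =
      GrMod.locModMap (𝒮.res i.hU j.hU h.1) (irr_of_le 𝒮 h) (ℳ.res i.hU j.hU h.1) y.1
        (GrMod.val (V := RelProj.emb p chart i.U i.hU ⁻¹ᵁ W) s
          ⟨ProjectiveSpectrum.comap (𝒮.res i.hU j.hU h.1) (irr_of_le 𝒮 h) y.1,
            (show (RelProj.emb p chart i.U i.hU).base _ ∈ W from (emb_comap_of_le 𝒮 p chart hP h y.1).symm ▸ y.2)⟩) :=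
  rfl

/-- the diagram of chartwise modules -/
def diagM : BI Y ⥤ P.Modules where
  obj i := (Scheme.Modules.pushforward (RelProj.emb p chart i.U i.hU)).obj
    (GrMod.tilde (𝒮.deg i.U i.hU) (ℳ.deg i.U i.hU) n)
  map f := tmapM 𝒮 p chart hP ℳ n (leOfHom f)
  map_id i := by
    refine Scheme.Modules.hom_ext _ _ fun W => ?_
    ext s
    refine sect_ext (V := RelProj.emb p chart i.U i.hU ⁻¹ᵁ W) fun y => ?_
    rw [val_tmapM]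
    have hop : (homOfLE (leOfHom (𝟙 i) : i ≤ i).1).op = 𝟙 (op i.U) := Subsingleton.elim _ _
    exact locModMap_eq_self _ _ _ (fun a => by
      rw [RelProj.QCGrAlg.res_apply, hop, 𝒮.presheaf.map_id]
      rfl) (fun m => by
      rw [RelProj.GrModule.res_apply, hop, ℳ.mod.val.map_id]
      rfl) n y.1 s _ y.2
  map_comp {i j k} f g := by
    refine Scheme.Modules.hom_ext _ _ fun W => ?_
    ext s
    refine sect_ext (V := RelProj.emb p chart k.U k.hU ⁻¹ᵁ W) fun y => ?_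
    rw [val_tmapM]
    change _ = GrMod.val (V := RelProj.emb p chart k.U k.hU ⁻¹ᵁ W)
      ((tmapM 𝒮 p chart hP ℳ n (leOfHom g)).app W ((tmapM 𝒮 p chart hP ℳ n (leOfHom f)).app W s)) y
    rw [val_tmapM, val_tmapM]
    have hop : (homOfLE (leOfHom (f ≫ g)).1).op = (homOfLE (leOfHom f).1).op ≫ (homOfLE (leOfHom g).1).op :=
      Subsingleton.elim _ _
    refine (locModMap_comp_eq _ _ _ _ _ _ (fun a => ?_) _ _ _ (fun m => ?_) n y.1 s _ _).symm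
    · rw [RelProj.QCGrAlg.res_apply, RelProj.QCGrAlg.res_apply, RelProj.QCGrAlg.res_apply, hop,
        𝒮.presheaf.map_comp]
      rfl
    · rw [RelProj.GrModule.res_apply, RelProj.GrModule.res_apply, RelProj.GrModule.res_apply, hop,
        ℳ.mod.val.map_comp]
      rfl

end rel

end Groth.Agent.Lib.Helper42.RelTildeDiag
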