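import Groth.Agent.Lib.Helper42.RelTwistDiag

/-!
# Existence of the twisting sheaves `O_P(n)` of a relative `Proj` (helper42; S8284)
-/

set_option autoImplicit false
set_option linter.unusedSectionVars false
universe u
open CategoryTheory CategoryTheory.Limits AlgebraicGeometry Opposite TopologicalSpace
open scoped HomogeneousIdeal
noncomputable section

namespace Groth.Agent.Lib.Helper42.RelTwistExists

open Groth.Agent.Lib.Helper42.RelTwistComap Groth.Agent.Lib.Helper42.RelTwistDiag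
open Groth.Agent.Lib.Helper42.ModLimit Groth.Agent.Lib.Helper49 Groth.Agent.Lib.Helper42.RelTilde

section gen
variable {X : Scheme.{u}}

theorem mres_bijective_of_le (F : X.Modules) {V W : X.Opens} (h : V ≤ W) (h' : W ≤ V) :
    Function.Bijective (mres F h) := by
  have hid : ∀ (O : X.Opens) (s : Γ(F, O)), mres F (le_refl O) s = s := by
    intro O s
    rw [mres_apply]
    have : (homOfLE (le_refl O)).op = 𝟙 (op O) := Subsingleton.elim _ _
    rw [this, F.presheaf.map_id]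
    rfl
  refine Function.bijective_iff_has_inverse.mpr ⟨mres F h', fun s => ?_, fun s => ?_⟩
  · rw [mres_mres]; exact hid _ s
  · rw [mres_mres]; exact hid _ s

end gen

variable {Y P : Scheme.{u}} (𝒮 : RelProj.QCGrAlg Y) (p : P ⟶ Y)
    (chart : ∀ (U : Y.Opens) (hU : IsAffineOpen U), (((p ⁻¹ᵁ U : P.Opens) : Scheme.{u}) ≅ Proj (𝒮.deg U hU)))
    (hP : RelProj.IsRelProj 𝒮 p chart) (n : ℤ)

/-- the charts `p⁻¹(U)` -/
def VV (i : BI Y) : P.Opens := p ⁻¹ᵁ i.U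

theorem hmono (i j : BI Y) (h : i ≤ j) : VV p j ≤ VV p i := p.preimage_mono h.1

theorem hcov (i j : BI Y) (x : P) (hxi : x ∈ VV p i) (hxj : x ∈ VV p j) :
    ∃ k, i ≤ k ∧ j ≤ k ∧ x ∈ VV p k := by
  obtain ⟨f, g, hfg, hx⟩ := exists_basicOpen_le_affine_inter i.hU j.hU (p.base x) ⟨hxi, hxj⟩
  exact ⟨⟨Y.basicOpen f, i.hU.basicOpen f⟩, ⟨Y.basicOpen_le f, f, rfl⟩, ⟨hfg.le.trans (Y.basicOpen_le g), g, hfg⟩, hx⟩

theorem emb_mem (i : BI Y) (y : Proj (𝒮.deg i.U i.hU)) : (RelProj.emb p chart i.U i.hU).base y ∈ VV p i := by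
  have : (RelProj.emb p chart i.U i.hU).base y ∈ (RelProj.emb p chart i.U i.hU).opensRange := ⟨y, rfl⟩
  rwa [opensRange_emb] at this

theorem hsupp (j : BI Y) (W : P.Opens) :
    Function.Bijective (mres ((diag 𝒮 p chart hP n).obj j) (inf_le_left : W ⊓ VV p j ≤ W)) := by
  have e : RelProj.emb p chart j.U j.hU ⁻¹ᵁ W ≤ RelProj.emb p chart j.U j.hU ⁻¹ᵁ (W ⊓ VV p j) :=
    fun y hy => ⟨hy, emb_mem 𝒮 p chart j y⟩
  exact mres_bijective_of_le (GrTwist.twist (𝒮.deg j.U j.hU) n)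
    ((RelProj.emb p chart j.U j.hU).preimage_mono inf_le_left) e

/-- the localization hypotheses for a restriction to a basic open -/
theorem res_loc {U V : Y.Opens} (hU : IsAffineOpen U) (hV : IsAffineOpen V) (hle : V ≤ U) (r : Γ(Y, U))
    (hVr : V = Y.basicOpen r) :
    IsUnit (𝒮.res hU hV hle ((𝒮.str.app (op U)).hom r)) ∧
    (∀ b : 𝒮.presheaf.obj (op V), ∃ (k : ℕ) (a : 𝒮.presheaf.obj (op U)),
      𝒮.res hU hV hle a = 𝒮.res hU hV hle ((𝒮.str.app (op U)).hom r) ^ k * b) ∧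
    (∀ a : 𝒮.presheaf.obj (op U), 𝒮.res hU hV hle a = 0 → ∃ k : ℕ, ((𝒮.str.app (op U)).hom r) ^ k * a = 0) := by
  subst hVr
  let _ := (𝒮.presheaf.map (homOfLE (Y.basicOpen_le r)).op).hom.toAlgebra
  have hloc : IsLocalization.Away ((𝒮.str.app (op U)).hom r) (𝒮.presheaf.obj (op (Y.basicOpen r))) :=
    𝒮.isQC U hU r
  refine ⟨?_, ?_, ?_⟩
  · exact IsLocalization.map_units (M := Submonoid.powers ((𝒮.str.app (op U)).hom r))
      (𝒮.presheaf.obj (op (Y.basicOpen r))) ⟨_, 1, pow_one _⟩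
  · intro b
    obtain ⟨⟨x, s, hs⟩, hxs⟩ := IsLocalization.surj (Submonoid.powers ((𝒮.str.app (op U)).hom r)) b
    obtain ⟨k, rfl⟩ := (Submonoid.mem_powers_iff _ _).mp hs
    refine ⟨k, x, ?_⟩
    change b * 𝒮.res hU hV hle (((𝒮.str.app (op U)).hom r) ^ k) = 𝒮.res hU hV hle x at hxs
    rw [← hxs, map_pow, mul_comm]
  · intro a ha
    have h0 : algebraMap (𝒮.presheaf.obj (op U)) (𝒮.presheaf.obj (op (Y.basicOpen r))) a = 0 := ha
    rw [IsLocalization.map_eq_zero_iff (Submonoid.powers ((𝒮.str.app (op U)).hom r))] at h0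
    obtain ⟨⟨m, hm⟩, hma⟩ := h0
    obtain ⟨k, rfl⟩ := (Submonoid.mem_powers_iff _ _).mp hm
    exact ⟨k, hma⟩

include hP in
theorem hbij (i j : BI Y) (h : i ≤ j) (W : P.Opens) (hW : W ≤ VV p j) :
    Function.Bijective (((diag 𝒮 p chart hP n).map (homOfLE h)).app W) := by
  obtain ⟨r, hr⟩ := h.2
  obtain ⟨hunit, hsurj, hker⟩ := res_loc 𝒮 i.hU j.hU h.1 r hr
  have hc0 := 𝒮.str_mem i.U i.hU r
  have hoi : IsOpenImmersion (Proj.map (𝒮.res i.hU j.hU h.1) (irr_of_le 𝒮 h)) := by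
    have e := map_res_emb_of_le 𝒮 p chart hP h
    have : IsOpenImmersion (Proj.map (𝒮.res i.hU j.hU h.1) (irr_of_le 𝒮 h) ≫ RelProj.emb p chart i.U i.hU) := by
      rw [e]; infer_instance
    exact IsOpenImmersion.of_comp _ (RelProj.emb p chart i.U i.hU)
  have hinj : Function.Injective (ProjectiveSpectrum.comap (𝒮.res i.hU j.hU h.1) (irr_of_le 𝒮 h)) :=
    fun a b hab => (Proj.map (𝒮.res i.hU j.hU h.1) (irr_of_le 𝒮 h)).isOpenEmbedding.injective hab
  have hopen : IsOpenMap (ProjectiveSpectrum.comap (𝒮.res i.hU j.hU h.1) (irr_of_le 𝒮 h)) :=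
    (Proj.map (𝒮.res i.hU j.hU h.1) (irr_of_le 𝒮 h)).isOpenEmbedding.isOpenMap
  have h1 : ∀ y ∈ (RelProj.emb p chart j.U j.hU ⁻¹ᵁ W : (Proj (𝒮.deg j.U j.hU)).Opens),
      ProjectiveSpectrum.comap (𝒮.res i.hU j.hU h.1) (irr_of_le 𝒮 h) y ∈
        (RelProj.emb p chart i.U i.hU ⁻¹ᵁ W : (Proj (𝒮.deg i.U i.hU)).Opens) := by
    intro y hy
    change (RelProj.emb p chart i.U i.hU).base _ ∈ W
    rw [emb_comap_of_le 𝒮 p chart hP h y]
    exact hy
  have h2 : ∀ x ∈ (RelProj.emb p chart i.U i.hU ⁻¹ᵁ W : (Proj (𝒮.deg i.U i.hU)).Opens),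
      ∃ y ∈ (RelProj.emb p chart j.U j.hU ⁻¹ᵁ W : (Proj (𝒮.deg j.U j.hU)).Opens),
        ProjectiveSpectrum.comap (𝒮.res i.hU j.hU h.1) (irr_of_le 𝒮 h) y = x := by
    intro x hx
    obtain ⟨y, hy⟩ := exists_emb_eq (p := p) (chart := chart) j.U j.hU (hW hx)
    refine ⟨y, ?_, ?_⟩
    · change (RelProj.emb p chart j.U j.hU).base y ∈ W
      rw [hy]; exact hx
    · apply (RelProj.emb p chart i.U i.hU).isOpenEmbedding.injective
      exact (emb_comap_of_le 𝒮 p chart hP h y).trans hy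
  constructor
  · intro s s' hss
    refine twist_sect_ext (V := RelProj.emb p chart i.U i.hU ⁻¹ᵁ W) fun x => ?_
    obtain ⟨x, hx⟩ := x
    obtain ⟨y, hy, rfl⟩ := h2 x hx
    apply GrTwistLoc.locMap_injective (𝒮.res i.hU j.hU h.1) (irr_of_le 𝒮 h) _ hunit hsurj hker y
    have e := congrArg (fun t => GrTwist.val (V := RelProj.emb p chart j.U j.hU ⁻¹ᵁ W) t ⟨y, hy⟩) hss
    exact e
  · intro t
    obtain ⟨s, hs⟩ := GrTwistLoc.exists_section_of_comap (𝒮.res i.hU j.hU h.1) (irr_of_le 𝒮 h) _ hc0 hunit hsurj hker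
      hinj hopen n (RelProj.emb p chart i.U i.hU ⁻¹ᵁ W) (RelProj.emb p chart j.U j.hU ⁻¹ᵁ W) h1 h2 t
    refine ⟨s, ?_⟩
    refine twist_sect_ext (V := RelProj.emb p chart j.U j.hU ⁻¹ᵁ W) fun y => ?_
    exact (hs y.1 y.2).symm

include hP in
/-- existence of the twisting sheaf `O_P(n)` of a relative `Proj` -/
theorem exists_isRelTwist :
    ∃ (L : P.Modules) (lam : ∀ (U : Y.Opens) (hU : IsAffineOpen U),
      L ⟶ (Scheme.Modules.pushforward (RelProj.emb p chart U hU)).obj (GrTwist.twist (𝒮.deg U hU) n)),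
      RelProj.IsRelTwist 𝒮 p chart n L lam := by
  refine ⟨limit (diag 𝒮 p chart hP n), fun U hU => limit.π (diag 𝒮 p chart hP n) ⟨U, hU⟩, ⟨?_, ?_⟩⟩
  · intro U hU W hW
    exact bijective_limit_π (T := diag 𝒮 p chart hP n) (V := VV p) (hbij 𝒮 p chart hP n) (hcov p)
      (hsupp 𝒮 p chart hP n) (hmono p) ⟨U, hU⟩ W hW
  · intro U hU r W s y hy hy'
    have hle : (⟨U, hU⟩ : BI Y) ≤ ⟨Y.basicOpen r, hU.basicOpen r⟩ := ⟨Y.basicOpen_le r, r, rfl⟩
    have hw := limit_section_w (diag 𝒮 p chart hP n) W s _ _ hle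
    have e := congrArg (fun t => GrTwist.val (V := RelProj.emb p chart (Y.basicOpen r) (hU.basicOpen r) ⁻¹ᵁ W)
      t ⟨y, hy⟩) hw.symm
    exact e

end Groth.Agent.Lib.Helper42.RelTwistExists
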