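import Groth.Agent.Lib.Helper42.RelTildeDiag
import Groth.Agent.Lib.Helper42.RelTwistExists

/-!
# Existence of the modules `(ℳ(n))~` on a relative `Proj` (helper42; S8321)
-/

set_option autoImplicit false
set_option linter.unusedSectionVars false
universe u
open CategoryTheory CategoryTheory.Limits AlgebraicGeometry Opposite TopologicalSpace
open scoped HomogeneousIdeal
noncomputable section

namespace Groth.Agent.Lib.Helper42.RelTildeExists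

open Groth.Agent.Lib.Helper42.RelTwistComap Groth.Agent.Lib.Helper42.RelTwistDiag
open Groth.Agent.Lib.Helper42.ModLimit Groth.Agent.Lib.Helper49 Groth.Agent.Lib.Helper42.RelTilde
open Groth.Agent.Lib.Helper42.RelTwistExists Groth.Agent.Lib.Helper42.RelTildeDiag
open Groth.Agent.Lib.Helper42.RelTildeTN

variable {Y P : Scheme.{u}} (𝒮 : RelProj.QCGrAlg Y) (p : P ⟶ Y)
    (chart : ∀ (U : Y.Opens) (hU : IsAffineOpen U), (((p ⁻¹ᵁ U : P.Opens) : Scheme.{u}) ≅ Proj (𝒮.deg U hU)))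
    (hP : RelProj.IsRelProj 𝒮 p chart) (ℳ : RelProj.GrModule 𝒮) (n : ℤ)

theorem hsuppM (j : BI Y) (W : P.Opens) :
    Function.Bijective (mres ((diagM 𝒮 p chart hP ℳ n).obj j) (inf_le_left : W ⊓ VV p j ≤ W)) := by
  have e : RelProj.emb p chart j.U j.hU ⁻¹ᵁ W ≤ RelProj.emb p chart j.U j.hU ⁻¹ᵁ (W ⊓ VV p j) :=
    fun y hy => ⟨hy, emb_mem 𝒮 p chart j y⟩
  exact mres_bijective_of_le (GrMod.tilde (𝒮.deg j.U j.hU) (ℳ.deg j.U j.hU) n)
    ((RelProj.emb p chart j.U j.hU).preimage_mono inf_le_left) e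

theorem str_res {U V : Y.Opens} (hU : IsAffineOpen U) (hV : IsAffineOpen V) (hle : V ≤ U) (r : Γ(Y, U)) :
    (𝒮.str.app (op V)).hom (Y.presheaf.map (homOfLE hle).op r) =
      𝒮.res hU hV hle ((𝒮.str.app (op U)).hom r) :=
  congrArg (fun φ => φ.hom r) (𝒮.str.naturality (homOfLE hle).op)

/-- the localization hypotheses for the restriction of a quasi-coherent graded module to a basic open -/
theorem res_locM (hℳ : Coh.IsQCoh (undMod ℳ)) {U V : Y.Opens} (hU : IsAffineOpen U) (hV : IsAffineOpen V)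
    (hle : V ≤ U) (r : Γ(Y, U)) (hVr : V = Y.basicOpen r) :
    (∀ t : ℳ.mod.val.obj (op V), ∃ (k : ℕ) (m : ℳ.mod.val.obj (op U)),
      ℳ.res hU hV hle m = 𝒮.res hU hV hle ((𝒮.str.app (op U)).hom r) ^ k • t) ∧
    (∀ m : ℳ.mod.val.obj (op U), ℳ.res hU hV hle m = 0 → ∃ k : ℕ, ((𝒮.str.app (op U)).hom r) ^ k • m = 0) := by
  subst hVr
  have : (undMod ℳ).IsQuasicoherent := hℳ
  refine ⟨fun t => ?_, fun m hm => ?_⟩
  · obtain ⟨j, t', ht'⟩ := Groth.Agent.Lib.Helper45.exists_restrict_eq_pow_smul hU (undMod ℳ) r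
      (show Γ(undMod ℳ, Y.basicOpen r) from t)
    have h1 : ℳ.res hU hV hle t' =
        ((𝒮.str.app (op (Y.basicOpen r))).hom ((Y.presheaf.map (homOfLE (Y.basicOpen_le r)).op r) ^ j) :
          𝒮.presheaf.obj (op (Y.basicOpen r))) • t := ht'
    refine ⟨j, t', ?_⟩
    rw [h1, map_pow, str_res 𝒮 hU hV hle r]
  · obtain ⟨k, hk⟩ := Groth.Agent.Lib.Helper45.exists_pow_smul_eq_zero_of_restrict_eq_zero hU (undMod ℳ) r
      (show Γ(undMod ℳ, U) from m) hm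
    have h1 : ((𝒮.str.app (op U)).hom (r ^ k) : 𝒮.presheaf.obj (op U)) • m = 0 := hk
    refine ⟨k, ?_⟩
    rw [← map_pow]
    exact h1

include hP in
theorem hbijM (hℳ : Coh.IsQCoh (undMod ℳ)) (i j : BI Y) (h : i ≤ j) (W : P.Opens) (hW : W ≤ VV p j) :
    Function.Bijective (((diagM 𝒮 p chart hP ℳ n).map (homOfLE h)).app W) := by
  obtain ⟨r, hr⟩ := h.2
  obtain ⟨hunit, hsurj, hker⟩ := res_loc 𝒮 i.hU j.hU h.1 r hr
  obtain ⟨hsurjM, hkerM⟩ := res_locM 𝒮 ℳ hℳ i.hU j.hU h.1 r hr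
  have hc0 := 𝒮.str_mem i.U i.hU r
  have hv : ∀ (d : ℕ) (m : ℳ.mod.val.obj (op i.U)), m ∈ ℳ.deg i.U i.hU d →
      ℳ.res i.hU j.hU h.1 m ∈ ℳ.deg j.U j.hU d := fun d m hm => ℳ.res_mem i.hU j.hU h.1 d m hm
  have hoi : IsOpenImmersion (Proj.map (𝒮.res i.hU j.hU h.1) (irr_of_le 𝒮 h)) := by
    have e := map_res_emb_of_le 𝒮 p chart hP h
    have : IsOpenImmersion (Proj.map (𝒮.res i.hU j.hU h.1) (irr_of_le 𝒮 h) ≫ RelProj.emb p chart i.U i.hU) := by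
      rw [e]; infer_instance
    exact IsOpenImmersion.of_comp _ (RelProj.emb p chart i.U i.hU)
  have hinj : Function.Injective (ProjectiveSpectrum.comap (𝒮.res i.hU j.hU h.1) (irr_of_le 𝒮 h)) :=
    fun a b hab => (Proj.map (𝒮.res i.hU j.hU h.1) (irr_of_le 𝒮 h)).isOpenEmbedding.injective hab
  have hopen : IsOpenMap (ProjectiveSpectrum.comap (𝒮.res i.hU j.hU h.1) (irr_of_le 𝒮 h)) :=
    (Proj.map (𝒮.res i.hU j.hU h.1) (irr_of_le 𝒮 h)).isOpenEmbedding.isOpenMap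
  have h1 : ∀ y ∈ (RelProj.emb p chart j.U j.hU ⁻¹ᵁ W : (Proj (𝒮.deg j.U j.hU)).Opens),
      ProjectiveSpectrum.comap (𝒮.res i.hU j.hU h.1) (irr_of_le 𝒮 h) y ∈
        (RelProj.emb p chart i.U i.hU ⁻¹ᵁ W : (Proj (𝒮.deg i.U i.hU)).Opens) := by
    intro y hy
    change (RelProj.emb p chart i.U i.hU).base _ ∈ W
    rw [emb_comap_of_le 𝒮 p chart hP h y]
    exact hy
  have h2 : ∀ x ∈ (RelProj.emb p chart i.U i.hU ⁻¹ᵁ W : (Proj (𝒮.deg i.U i.hU)).Opens),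
      ∃ y ∈ (RelProj.emb p chart j.U j.hU ⁻¹ᵁ W : (Proj (𝒮.deg j.U j.hU)).Opens),
        ProjectiveSpectrum.comap (𝒮.res i.hU j.hU h.1) (irr_of_le 𝒮 h) y = x := by
    intro x hx
    obtain ⟨y, hy⟩ := exists_emb_eq (p := p) (chart := chart) j.U j.hU (hW hx)
    refine ⟨y, ?_, ?_⟩
    · change (RelProj.emb p chart j.U j.hU).base y ∈ W
      rw [hy]; exact hx
    · apply (RelProj.emb p chart i.U i.hU).isOpenEmbedding.injective
      exact (emb_comap_of_le 𝒮 p chart hP h y).trans hy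
  constructor
  · intro s s' hss
    refine sect_ext (V := RelProj.emb p chart i.U i.hU ⁻¹ᵁ W) fun x => ?_
    obtain ⟨x, hx⟩ := x
    obtain ⟨y, hy, rfl⟩ := h2 x hx
    apply GrModLoc.locModMap_injective (𝒮.res i.hU j.hU h.1) (irr_of_le 𝒮 h) (ℳ.res i.hU j.hU h.1) _
      hunit hsurj hkerM y
    have e := congrArg (fun t => GrMod.val (V := RelProj.emb p chart j.U j.hU ⁻¹ᵁ W) t ⟨y, hy⟩) hss
    exact e
  · intro t
    obtain ⟨s, hs⟩ := GrModLoc.exists_section_of_comap (𝒮.res i.hU j.hU h.1) (irr_of_le 𝒮 h)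
      (ℳ.res i.hU j.hU h.1) hv _ hc0 hunit hsurj hsurjM hkerM
      hinj hopen n (RelProj.emb p chart i.U i.hU ⁻¹ᵁ W) (RelProj.emb p chart j.U j.hU ⁻¹ᵁ W) h1 h2 t
    refine ⟨s, ?_⟩
    refine sect_ext (V := RelProj.emb p chart j.U j.hU ⁻¹ᵁ W) fun y => ?_
    exact (hs y.1 y.2).symm

include hP in
/-- existence of the module `(ℳ(n))~` on a relative `Proj`, for `ℳ` quasi-coherent -/
theorem exists_isRelTilde (hℳ : Coh.IsQCoh ((AMod.toOS 𝒮.toQCAlg).obj ℳ.mod)) :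
    ∃ (F : P.Modules) (lam : ∀ (U : Y.Opens) (hU : IsAffineOpen U),
      F ⟶ (Scheme.Modules.pushforward (RelProj.emb p chart U hU)).obj
        (GrMod.tilde (𝒮.deg U hU) (ℳ.deg U hU) n)),
      RelProj.IsRelTilde 𝒮 p chart ℳ n F lam := by
  refine ⟨limit (diagM 𝒮 p chart hP ℳ n), fun U hU => limit.π (diagM 𝒮 p chart hP ℳ n) ⟨U, hU⟩, ⟨?_, ?_⟩⟩
  · intro U hU W hW
    exact bijective_limit_π (T := diagM 𝒮 p chart hP ℳ n) (V := VV p) (hbijM 𝒮 p chart hP ℳ n hℳ) (hcov p)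
      (hsuppM 𝒮 p chart hP ℳ n) (hmono p) ⟨U, hU⟩ W hW
  · intro U hU r W s y hy hy'
    have hle : (⟨U, hU⟩ : BI Y) ≤ ⟨Y.basicOpen r, hU.basicOpen r⟩ := ⟨Y.basicOpen_le r, r, rfl⟩
    have hw := limit_section_w (diagM 𝒮 p chart hP ℳ n) W s _ _ hle
    have e := congrArg (fun t => GrMod.val (V := RelProj.emb p chart (Y.basicOpen r) (hU.basicOpen r) ⁻¹ᵁ W)
      t ⟨y, hy⟩) hw.symm
    exact e

end Groth.Agent.Lib.Helper42.RelTildeExists
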