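import Groth.Agent.Lib.Helper42.RelTildeMap
import Groth.Agent.Lib.Helper42.GrQCohA
import Groth.Agent.Lib.Helper49.QCohLocal

/-!
# Quasi-coherence of the relative tilde module (`RelProj.IsRelTilde`); the chartwise isomorphisms
`F|_{Proj 𝒮(U)} ≅ (ℳ(U)(n))~`
-/

set_option autoImplicit false
universe u
open CategoryTheory CategoryTheory.Limits AlgebraicGeometry Opposite TopologicalSpace
open scoped HomogeneousIdeal
noncomputable section

namespace Groth.Agent.Lib.Helper42.RelTilde

section general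
variable {X Y : Scheme.{u}} (f : X ⟶ Y) [IsOpenImmersion f]

theorem isIso_restrict_map_of_bijective {F G : Y.Modules} (φ : F ⟶ G)
    (h : ∀ W : Y.Opens, W ≤ f.opensRange → Function.Bijective (φ.app W)) :
    IsIso ((Scheme.Modules.restrictFunctor f).map φ) := by
  rw [Scheme.Modules.Hom.isIso_iff_isIso_app]
  intro V
  have hle : f ''ᵁ V ≤ f.opensRange := by
    rintro _ ⟨x, -, rfl⟩
    exact ⟨x, rfl⟩
  have hb : Function.Bijective (φ.app (f ''ᵁ V)) := h _ hle
  change IsIso (φ.app (f ''ᵁ V))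
  exact (ConcreteCategory.isIso_iff_bijective _).mpr hb

/-- a morphism `F ⟶ f_* T` that is bijective on sections over opens inside the range of the open immersion `f`
identifies `F|_X` with `T` -/
def restrictIsoOfBijective {F : Y.Modules} {T : X.Modules} (lam : F ⟶ (Scheme.Modules.pushforward f).obj T)
    (h : ∀ W : Y.Opens, W ≤ f.opensRange → Function.Bijective (lam.app W)) : F.restrict f ≅ T :=
  haveI := isIso_restrict_map_of_bijective f lam h
  asIso ((Scheme.Modules.restrictFunctor f).map lam) ≪≫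
    asIso ((Scheme.Modules.restrictAdjunction f).counit.app T)

end general

section rel
variable {Y P : Scheme.{u}} {𝒮 : RelProj.QCGrAlg Y} {p : P ⟶ Y}
  {chart : ∀ (U : Y.Opens) (hU : IsAffineOpen U), (((p ⁻¹ᵁ U : P.Opens) : Scheme.{u}) ≅ Proj (𝒮.deg U hU))}
  {ℳ : RelProj.GrModule 𝒮} {n : ℤ} {F : P.Modules}
  {lam : ∀ (U : Y.Opens) (hU : IsAffineOpen U),
      F ⟶ (Scheme.Modules.pushforward (RelProj.emb p chart U hU)).obj (GrMod.tilde (𝒮.deg U hU) (ℳ.deg U hU) n)}

/-- the chartwise identification as an isomorphism `F|_{Proj 𝒮(U)} ≅ (ℳ(U)(n))~` -/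
def chartIso (hF : RelProj.IsRelTilde 𝒮 p chart ℳ n F lam) (U : Y.Opens) (hU : IsAffineOpen U) :
    F.restrict (RelProj.emb p chart U hU) ≅ GrMod.tilde (𝒮.deg U hU) (ℳ.deg U hU) n :=
  restrictIsoOfBijective (RelProj.emb p chart U hU) (lam U hU) fun W hW =>
    hF.bijective U hU W (by rw [← opensRange_emb (chart := chart) U hU]; exact hW)

theorem isQCoh_of_isRelTilde (hF : RelProj.IsRelTilde 𝒮 p chart ℳ n F lam) : F.IsQuasicoherent := by
  refine Groth.Agent.Lib.Helper49.isQuasicoherent_of_forall_restrict F (ι := Y.affineOpens)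
    (fun i => Proj (𝒮.deg i.1 i.2)) (fun i => RelProj.emb p chart i.1 i.2) ?_ ?_
  · intro x
    obtain ⟨U, hU, hx⟩ := exists_affine_mem p x
    obtain ⟨y, hy⟩ := exists_emb_eq (chart := chart) U hU hx
    exact ⟨⟨U, hU⟩, y, hy⟩
  · intro i
    exact Groth.Agent.Lib.Helper49.isQuasicoherent_of_iso (chartIso hF i.1 i.2).symm
      (GrQCohA.isQuasicoherent_tilde (𝒮.deg i.1 i.2) (ℳ.deg i.1 i.2) n)

end rel

end Groth.Agent.Lib.Helper42.RelTilde
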