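import Groth.Agent.Lib.Helper42.GrFiniteA
import Groth.Agent.Lib.Helper42.RelTildeQCoh
import Groth.Agent.Lib.Helper42.GenDegOneIrr
import Groth.Agent.Lib.Helper49.FiniteTypeLocal

/-!
# Finite type of `M~` (gradings by additive subgroups) under (TF), and of the relative tilde module
-/

set_option autoImplicit false
universe u
open CategoryTheory CategoryTheory.Limits AlgebraicGeometry Opposite TopologicalSpace
open scoped HomogeneousIdeal
noncomputable section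

namespace Groth.Agent.Lib.Helper42.RelTilde

section ring
variable {A σ : Type u} [CommRing A] [SetLike σ A] [AddSubgroupClass σ A] (𝒜 : ℕ → σ) [GradedRing 𝒜]
  {M τ : Type u} [AddCommGroup M] [Module A M] [SetLike τ M] [AddSubgroupClass τ M]
  (ℳ : ℕ → τ) [DirectSum.Decomposition ℳ] [SetLike.GradedSMul 𝒜 ℳ]

/-- `M~` is of finite type when `A₊` is finitely generated and `M` satisfies (TF) (port of S3561). -/
theorem isFT_tilde (hfg : (HomogeneousIdeal.irrelevant 𝒜).toIdeal.FG)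
    (hTF : ∃ n : ℕ, (Submodule.span A (⋃ k ∈ Set.Ici n, (ℳ k : Set M))).FG) :
    CohB1.IsFT (GrMod.tilde 𝒜 ℳ 0) := by
  classical
  obtain ⟨T, hT, hspan⟩ := GrFiniteA.exists_generators 𝒜 hfg
  choose! dg hdg hg using hT
  obtain ⟨n₀, hN⟩ := hTF
  obtain ⟨T', hT'sub, hT'span⟩ := (Submodule.fg_span_iff_fg_span_finset_subset _).mp hN
  have hdeg : ∀ m ∈ T', ∃ e : ℕ, m ∈ ℳ e := by
    intro m hm
    have := hT'sub hm
    simp only [Set.mem_iUnion, Set.mem_Ici, SetLike.mem_coe, exists_prop] at this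
    obtain ⟨e, -, he⟩ := this
    exact ⟨e, he⟩
  choose! ee hee using hdeg
  have : (GrMod.tilde 𝒜 ℳ 0).IsQuasicoherent := GrQCohA.isQuasicoherent_tilde 𝒜 ℳ 0
  refine Groth.Agent.Lib.Helper49.isFiniteType_of_finite_sections_cover (GrMod.tilde 𝒜 ℳ 0)
    (ι := Σ d : ℕ, {f : A // 0 < d ∧ f ∈ 𝒜 d})
    (fun i => Proj.basicOpen 𝒜 i.2.1)
    (fun i => Proj.isAffineOpen_basicOpen 𝒜 i.2.1 i.2.2.2 i.2.2.1) ?_ ?_
  · intro y
    obtain ⟨s, d, hd, hs, hy⟩ := Groth.Agent.Lib.Helper17.exists_homogeneous_pos_mem_basicOpen 𝒜 y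
    exact ⟨⟨d, s, hd, hs⟩, hy⟩
  · rintro ⟨d, f, hd, hf⟩
    refine GrFiniteA.finite_sections (𝒜 := 𝒜) (ℳ := ℳ)
      (g := fun j : T => (j : A)) (dg := fun j : T => dg j)
      (x := fun i : T' => (i : M)) (ee := fun i : T' => ee i) hf hd
      (fun j => hg j j.2) (fun j => hdg j j.2) ?_ (fun i => hee i i.2) n₀ ?_
    · rw [hspan]; congr 1; ext a; simp
    · intro k hk m hm
      have : m ∈ Submodule.span A (⋃ k ∈ Set.Ici n₀, (ℳ k : Set M)) := by
        apply Submodule.subset_span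
        simp only [Set.mem_iUnion, Set.mem_Ici, SetLike.mem_coe, exists_prop]
        exact ⟨k, hk, hm⟩
      rw [hT'span] at this
      convert this using 2
      ext a; simp

end ring

section rel
variable {Y P : Scheme.{u}} {𝒮 : RelProj.QCGrAlg Y} {p : P ⟶ Y}
  {chart : ∀ (U : Y.Opens) (hU : IsAffineOpen U), (((p ⁻¹ᵁ U : P.Opens) : Scheme.{u}) ≅ Proj (𝒮.deg U hU))}

theorem irrelevant_fg (hgen : 𝒮.IsGenDegOne) (hft : 𝒮.IsFTDeg 1) (U : Y.Opens) (hU : IsAffineOpen U) :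
    ((𝒮.deg U hU)₊).toIdeal.FG := by
  obtain ⟨T, hTsub, hT⟩ := hft U hU
  have h1 : ((𝒮.deg U hU)₊).toIdeal = Ideal.span (𝒮.deg U hU 1 : Set (𝒮.presheaf.obj (op U))) :=
    le_antisymm (irrelevant_le_span_degOne (hgen U hU))
      (Ideal.span_le.mpr fun f hf => HomogeneousIdeal.mem_irrelevant_of_mem _ one_pos hf)
  have h2 : Ideal.span (𝒮.deg U hU 1 : Set (𝒮.presheaf.obj (op U))) =
      Ideal.span (T : Set (𝒮.presheaf.obj (op U))) := by
    refine le_antisymm (Ideal.span_le.mpr fun x hx => ?_) (Ideal.span_mono hTsub)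
    obtain ⟨c, hc⟩ := hT x hx
    rw [SetLike.mem_coe, hc]
    exact Ideal.sum_mem _ fun t ht => Ideal.mul_mem_left _ _ (Ideal.subset_span ht)
  rw [h1, h2]
  exact ⟨T, rfl⟩

variable {ℳ : RelProj.GrModule 𝒮} {F : P.Modules}
  {lam : ∀ (U : Y.Opens) (hU : IsAffineOpen U),
      F ⟶ (Scheme.Modules.pushforward (RelProj.emb p chart U hU)).obj (GrMod.tilde (𝒮.deg U hU) (ℳ.deg U hU) 0)}

theorem isFT_of_isRelTilde (hgen : 𝒮.IsGenDegOne) (hft : 𝒮.IsFTDeg 1) (hTF : ℳ.IsTF)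
    (hF : RelProj.IsRelTilde 𝒮 p chart ℳ 0 F lam) : CohB1.IsFT F := by
  obtain ⟨n₀, hn₀⟩ := hTF
  refine Groth.Agent.Lib.Helper49.isFiniteType_of_forall_restrict F (ι := Y.affineOpens)
    (fun i => Proj (𝒮.deg i.1 i.2)) (fun i => RelProj.emb p chart i.1 i.2) ?_ ?_
  · intro x
    obtain ⟨U, hU, hx⟩ := exists_affine_mem p x
    obtain ⟨y, hy⟩ := exists_emb_eq (chart := chart) U hU hx
    exact ⟨⟨U, hU⟩, y, hy⟩
  · intro i
    exact Groth.Agent.Lib.Helper49.isFiniteType_of_iso (chartIso hF i.1 i.2).symm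
      (isFT_tilde (𝒮.deg i.1 i.2) (ℳ.deg i.1 i.2) (irrelevant_fg hgen hft i.1 i.2) ⟨n₀, hn₀ i.1 i.2⟩)

end rel

end Groth.Agent.Lib.Helper42.RelTilde
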