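import Groth.Agent.Lib.Helper42.BasisGlue
import Groth.Agent.Lib.Helper11.TensorBasis

/-!
# Glueing `F' ≅ F ⊗ L` from local "division by a basis of `L`" maps (helper42)
-/

set_option autoImplicit false
universe u
open CategoryTheory CategoryTheory.Limits AlgebraicGeometry Opposite TopologicalSpace
noncomputable section

namespace Groth.Agent.Lib.Helper42.TensorGlue

open Groth.Agent.Lib.Helper45 Groth.Agent.Lib.Helper49 Groth.Agent.Lib.Helper42.ModLocal
  Groth.Agent.Lib.Helper11.GenLocus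

variable {X : Scheme.{u}} {F' F L : X.Modules} {ι : Type u} (V : ι → X.Opens) (hV : ∀ x : X, ∃ i, x ∈ V i)
  (e : ∀ i, Γ(L, V i)) (he : ∀ i, IsBasisOn L (V i) (e i))
  (D : ∀ j : LIdx V, Γ(F', LB V j) →+ Γ(F, LB V j))
  (hDres : ∀ (i : ι) (W W' : X.Opens) (hW : W ≤ V i) (h : W' ≤ W) (s : Γ(F', W)),
     D ⟨i, W', h.trans hW⟩ (mres F' h s) = mres F h (D ⟨i, W, hW⟩ s))
  (hDsmul : ∀ (j : LIdx V) (r : Γ(X, LB V j)) (s : Γ(F', LB V j)), D j (r • s) = r • D j s)
  (hDbij : ∀ j, Function.Bijective (D j))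
  (hc : ∀ (i j : ι) (W : X.Opens) (hi : W ≤ V i) (hj : W ≤ V j) (c : Γ(X, W)),
      mres L hi (e i) = c • mres L hj (e j) → ∀ s : Γ(F', W), D ⟨j, W, hj⟩ s = c • D ⟨i, W, hi⟩ s)

/-- the local map `s ↦ D s ⊗ e` -/
def delta (j : LIdx V) : Γ(F', LB V j) →+ Γ(CohB1.tensorMod F L, LB V j) where
  toFun s := tm F L (LB V j) (D j s) (mres L j.2.2 (e j.1))
  map_zero' := by rw [map_zero, tm_zero_left]
  map_add' s t := by rw [map_add, tm_add_left]

theorem delta_apply (j : LIdx V) (s : Γ(F', LB V j)) :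
    delta V e D j s = tm F L (LB V j) (D j s) (mres L j.2.2 (e j.1)) := rfl

include he hDres hc in
theorem delta_res (j j' : LIdx V) (h : LB V j' ≤ LB V j) (s : Γ(F', LB V j)) :
    delta V e D j' (F'.presheaf.map (homOfLE h).op s) =
      (CohB1.tensorMod F L).presheaf.map (homOfLE h).op (delta V e D j s) := by
  change delta V e D j' (mres F' h s) = mres (CohB1.tensorMod F L) h (delta V e D j s)
  rw [delta_apply, delta_apply, tm_res, mres_mres]
  obtain ⟨i, W, hW⟩ := j
  obtain ⟨i', W', hW'⟩ := j'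
  change W' ≤ W at h
  change tm F L W' (D ⟨i', W', hW'⟩ (mres F' h s)) (mres L hW' (e i')) =
    tm F L W' (mres F h (D ⟨i, W, hW⟩ s)) (mres L (h.trans hW) (e i))
  obtain ⟨c, hc'⟩ := (he i' W' hW').2 (mres L (h.trans hW) (e i))
  have hc'' : mres L (h.trans hW) (e i) = c • mres L hW' (e i') := hc'.symm
  rw [hc i i' W' (h.trans hW) hW' c hc'', hDres i W W' hW h, hc'', tm_smul_left, tm_smul_right]

include hDsmul in
theorem delta_smul (j : LIdx V) (r : Γ(X, LB V j)) (s : Γ(F', LB V j)) :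
    delta V e D j (r • s) = r • delta V e D j s := by
  rw [delta_apply, delta_apply, hDsmul, tm_smul_left]

include he hDbij in
theorem delta_bijective (j : LIdx V) : Function.Bijective (delta V e D j) :=
  (tm_basis_bijective F L (V j.1) (e j.1) (he j.1) j.2.1 j.2.2).comp (hDbij j)

include hV he hDres hDsmul hDbij hc in
/-- `F' ≅ F ⊗ L` from local additive bijections `D : Γ(F', W) → Γ(F, W)` ("division by the local basis `e i` of `L`"),
compatible with restrictions, linear, and transforming by the transition functions of the `e i` -/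
theorem nonempty_iso_tensor_of_local : Nonempty (F' ≅ CohB1.tensorMod F L) := by
  have hB := isBasis_LB V hV
  let φ : F' ⟶ CohB1.tensorMod F L := homOfBasis (LB V) hB (delta V e D) (delta_res V e he D hDres hc)
    (delta_smul V e D hDsmul)
  have : IsIso φ := by
    refine isIso_of_bijective_basis φ fun x => ?_
    obtain ⟨i, hi⟩ := hV x
    refine ⟨V i, hi, fun W hW => ?_⟩
    have h1 : ∀ s, φ.app W s = delta V e D ⟨i, W, hW⟩ s := fun s =>
      homOfBasis_app (LB V) hB (delta V e D) (delta_res V e he D hDres hc) (delta_smul V e D hDsmul) ⟨i, W, hW⟩ s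
    have h2 : (φ.app W : Γ(F', W) → Γ(CohB1.tensorMod F L, W)) = delta V e D ⟨i, W, hW⟩ := funext h1
    rw [h2]
    exact delta_bijective V e he D hDbij ⟨i, W, hW⟩
  exact ⟨asIso φ⟩

end Groth.Agent.Lib.Helper42.TensorGlue
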