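import Groth.Agent.Lib.Helper42.RelTwistTensor
import Groth.Agent.Lib.Helper42.GrModFrac
import Groth.Agent.Lib.Helper42.TensorGlue

/-!
# Multiplication by a fraction `u / v` between the modules `(ℳ(n))~` on a relative Proj (helper42; S8337)
-/

set_option autoImplicit false
universe u
open CategoryTheory CategoryTheory.Limits AlgebraicGeometry Opposite TopologicalSpace
open scoped HomogeneousIdeal
noncomputable section

namespace Groth.Agent.Lib.Helper42.RelTildeFrac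

open Groth.Agent.Lib.Helper42.RelTilde Groth.Agent.Lib.Helper45 Groth.Agent.Lib.Helper49
  Groth.Agent.Lib.Helper42.RelTwistBasis Groth.Agent.Lib.Helper42.RelTwistComap
  Groth.Agent.Lib.Helper42.RelTwistFrac Groth.Agent.Lib.Helper11.GenLocus
  Groth.Agent.Lib.Helper42.RelTwistTensor

variable {Y P : Scheme.{u}} {𝒮 : RelProj.QCGrAlg Y} {p : P ⟶ Y}
  {chart : ∀ (U : Y.Opens) (hU : IsAffineOpen U), (((p ⁻¹ᵁ U : P.Opens) : Scheme.{u}) ≅ Proj (𝒮.deg U hU))}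
  {ℳ : RelProj.GrModule 𝒮}

section one
variable {n : ℤ} {F : P.Modules}
  {lam : ∀ (U : Y.Opens) (hU : IsAffineOpen U),
      F ⟶ (Scheme.Modules.pushforward (RelProj.emb p chart U hU)).obj (GrMod.tilde (𝒮.deg U hU) (ℳ.deg U hU) n)}

theorem val_lam_smul (U : Y.Opens) (hU : IsAffineOpen U) (W : P.Opens) (r : Γ(P, W)) (t : Γ(F, W))
    (y : (RelProj.emb p chart U hU ⁻¹ᵁ W : (Proj (𝒮.deg U hU)).Opens)) :
    GrMod.val (V := RelProj.emb p chart U hU ⁻¹ᵁ W) ((lam U hU).app W (r • t)) y =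
      ((toOc (chart := chart) U hU W r).1 y).val •
        GrMod.val (V := RelProj.emb p chart U hU ⁻¹ᵁ W) ((lam U hU).app W t) y := by
  rw [Scheme.Modules.Hom.app_smul]
  exact GrMod.coe_smul_val n y.1 ((toOc U hU W r).1 y) _

theorem val_lam_mres (U : Y.Opens) (hU : IsAffineOpen U) {W W' : P.Opens} (hW : W' ≤ W) (t : Γ(F, W))
    (y : ProjectiveSpectrum (𝒮.deg U hU)) (hy : (RelProj.emb p chart U hU).base y ∈ W') :
    GrMod.val (V := RelProj.emb p chart U hU ⁻¹ᵁ W') ((lam U hU).app W' (mres F hW t)) ⟨y, hy⟩ =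
      GrMod.val (V := RelProj.emb p chart U hU ⁻¹ᵁ W) ((lam U hU).app W t) ⟨y, hW hy⟩ := by
  have h1 : (lam U hU).app W' (mres F hW t) = _ := ModLocal.app_res (lam U hU) hW t
  rw [h1]
  rfl

theorem val_lam_add (U : Y.Opens) (hU : IsAffineOpen U) (W : P.Opens) (s t : Γ(F, W))
    (y : (RelProj.emb p chart U hU ⁻¹ᵁ W : (Proj (𝒮.deg U hU)).Opens)) :
    GrMod.val (V := RelProj.emb p chart U hU ⁻¹ᵁ W) ((lam U hU).app W (s + t)) y =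
      GrMod.val (V := RelProj.emb p chart U hU ⁻¹ᵁ W) ((lam U hU).app W s) y +
        GrMod.val (V := RelProj.emb p chart U hU ⁻¹ᵁ W) ((lam U hU).app W t) y := by
  rw [map_add]
  rfl

end one

section two
variable {n₁ n₂ : ℤ} {F₁ F₂ : P.Modules}
  {lam₁ : ∀ (U : Y.Opens) (hU : IsAffineOpen U),
      F₁ ⟶ (Scheme.Modules.pushforward (RelProj.emb p chart U hU)).obj (GrMod.tilde (𝒮.deg U hU) (ℳ.deg U hU) n₁)}
  {lam₂ : ∀ (U : Y.Opens) (hU : IsAffineOpen U),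
      F₂ ⟶ (Scheme.Modules.pushforward (RelProj.emb p chart U hU)).obj (GrMod.tilde (𝒮.deg U hU) (ℳ.deg U hU) n₂)}

/-- `s₂ = (u / v) • s₁`, read on the chart over `U` -/
def MulRel (lam₁ : ∀ (U : Y.Opens) (hU : IsAffineOpen U),
      F₁ ⟶ (Scheme.Modules.pushforward (RelProj.emb p chart U hU)).obj (GrMod.tilde (𝒮.deg U hU) (ℳ.deg U hU) n₁))
    (lam₂ : ∀ (U : Y.Opens) (hU : IsAffineOpen U),
      F₂ ⟶ (Scheme.Modules.pushforward (RelProj.emb p chart U hU)).obj (GrMod.tilde (𝒮.deg U hU) (ℳ.deg U hU) n₂))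
    (U : Y.Opens) (hU : IsAffineOpen U) (W : P.Opens) (s₁ : Γ(F₁, W)) (s₂ : Γ(F₂, W))
    (u v : 𝒮.presheaf.obj (op U)) : Prop :=
  ∀ (y : ProjectiveSpectrum (𝒮.deg U hU)) (hy : (RelProj.emb p chart U hU).base y ∈ W)
    (hvy : v ∉ y.asHomogeneousIdeal),
    GrMod.val (V := RelProj.emb p chart U hU ⁻¹ᵁ W) ((lam₂ U hU).app W s₂) ⟨y, hy⟩ =
      (Localization.mk u (⟨v, hvy⟩ : y.asHomogeneousIdeal.toIdeal.primeCompl) : GrTwist.Loc (𝒮.deg U hU) y) •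
        GrMod.val (V := RelProj.emb p chart U hU ⁻¹ᵁ W) ((lam₁ U hU).app W s₁) ⟨y, hy⟩

theorem MulRel.mres {U : Y.Opens} {hU : IsAffineOpen U} {W W' : P.Opens} {s₁ : Γ(F₁, W)} {s₂ : Γ(F₂, W)}
    {u v : 𝒮.presheaf.obj (op U)} (h : MulRel lam₁ lam₂ U hU W s₁ s₂ u v) (hW : W' ≤ W) :
    MulRel lam₁ lam₂ U hU W' (mres F₁ hW s₁) (mres F₂ hW s₂) u v := by
  intro y hy hvy
  rw [val_lam_mres, val_lam_mres]
  exact h y (hW hy) hvy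

theorem MulRel.congr_elems {U : Y.Opens} {hU : IsAffineOpen U} {W : P.Opens} {s₁ : Γ(F₁, W)} {s₂ : Γ(F₂, W)}
    {u v u' v' : 𝒮.presheaf.obj (op U)} (h : MulRel lam₁ lam₂ U hU W s₁ s₂ u v) (eu : u = u') (ev : v = v') :
    MulRel lam₁ lam₂ U hU W s₁ s₂ u' v' := by
  subst eu; subst ev; exact h

theorem MulRel.basic (hP : RelProj.IsRelProj 𝒮 p chart) (hF₁ : RelProj.IsRelTilde 𝒮 p chart ℳ n₁ F₁ lam₁)
    (hF₂ : RelProj.IsRelTilde 𝒮 p chart ℳ n₂ F₂ lam₂)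
    {U : Y.Opens} {hU : IsAffineOpen U} {W : P.Opens} {s₁ : Γ(F₁, W)} {s₂ : Γ(F₂, W)}
    {u v : 𝒮.presheaf.obj (op U)} (h : MulRel lam₁ lam₂ U hU W s₁ s₂ u v) (r : Γ(Y, U)) :
    MulRel lam₁ lam₂ (Y.basicOpen r) (hU.basicOpen r) W s₁ s₂
      (𝒮.res hU (hU.basicOpen r) (Y.basicOpen_le r) u) (𝒮.res hU (hU.basicOpen r) (Y.basicOpen_le r) v) := by
  intro y hy hvy
  have hy' : (RelProj.emb p chart U hU).base (ProjectiveSpectrum.comap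
      (𝒮.res hU (hU.basicOpen r) (Y.basicOpen_le r)) (𝒮.irrelevant_le_map U hU r) y) ∈ W := by
    rw [emb_basicOpen_apply hP]; exact hy
  rw [hF₂.compat U hU r W s₂ y hy hy', h _ hy' hvy, GrMod.locModMap_smul, GrTwist.locMap_mk,
    ← hF₁.compat U hU r W s₁ y hy hy']

theorem MulRel.restrict (hP : RelProj.IsRelProj 𝒮 p chart) (hF₁ : RelProj.IsRelTilde 𝒮 p chart ℳ n₁ F₁ lam₁)
    (hF₂ : RelProj.IsRelTilde 𝒮 p chart ℳ n₂ F₂ lam₂)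
    {U : Y.Opens} {hU : IsAffineOpen U} {W : P.Opens} {s₁ : Γ(F₁, W)} {s₂ : Γ(F₂, W)}
    {u v : 𝒮.presheaf.obj (op U)} (h : MulRel lam₁ lam₂ U hU W s₁ s₂ u v) (r : Γ(Y, U)) (V : Y.Opens)
    (hV : IsAffineOpen V) (e : V = Y.basicOpen r) (hle : V ≤ U) :
    MulRel lam₁ lam₂ V hV W s₁ s₂ (𝒮.res hU hV hle u) (𝒮.res hU hV hle v) := by
  subst e
  exact h.basic hP hF₁ hF₂ r

theorem MulRel.unique (hF₂ : RelProj.IsRelTilde 𝒮 p chart ℳ n₂ F₂ lam₂)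
    {U : Y.Opens} {hU : IsAffineOpen U} {W : P.Opens} (hW : W ≤ p ⁻¹ᵁ U) {s₁ : Γ(F₁, W)} {s₂ s₂' : Γ(F₂, W)}
    {u v : 𝒮.presheaf.obj (op U)}
    (hv : ∀ y : ProjectiveSpectrum (𝒮.deg U hU), (RelProj.emb p chart U hU).base y ∈ W → v ∉ y.asHomogeneousIdeal)
    (h : MulRel lam₁ lam₂ U hU W s₁ s₂ u v) (h' : MulRel lam₁ lam₂ U hU W s₁ s₂' u v) : s₂ = s₂' := by
  apply (hF₂.bijective U hU W hW).injective
  refine sect_ext (V := RelProj.emb p chart U hU ⁻¹ᵁ W) fun y => ?_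
  exact (h y.1 y.2 (hv y.1 y.2)).trans (h' y.1 y.2 (hv y.1 y.2)).symm

theorem MulRel.exists (hF₂ : RelProj.IsRelTilde 𝒮 p chart ℳ n₂ F₂ lam₂)
    {U : Y.Opens} {hU : IsAffineOpen U} {a b : ℕ} {u v : 𝒮.presheaf.obj (op U)}
    (hu : u ∈ 𝒮.deg U hU a) (hv : v ∈ 𝒮.deg U hU b) (hn : n₂ + b = n₁ + a)
    {W : P.Opens} (hW : W ≤ p ⁻¹ᵁ U)
    (hvW : ∀ y : ProjectiveSpectrum (𝒮.deg U hU), (RelProj.emb p chart U hU).base y ∈ W → v ∉ y.asHomogeneousIdeal)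
    (s₁ : Γ(F₁, W)) : ∃ s₂ : Γ(F₂, W), MulRel lam₁ lam₂ U hU W s₁ s₂ u v := by
  obtain ⟨s₂, hs₂⟩ := (hF₂.bijective U hU W hW).surjective
    (GrModFrac.mulFrac hu hv hn (RelProj.emb p chart U hU ⁻¹ᵁ W) (fun y => hvW y.1 y.2) ((lam₁ U hU).app W s₁))
  refine ⟨s₂, fun y hy hvy => ?_⟩
  rw [hs₂]
  rfl

theorem MulRel.add {U : Y.Opens} {hU : IsAffineOpen U} {W : P.Opens} {s₁ t₁ : Γ(F₁, W)} {s₂ t₂ : Γ(F₂, W)}
    {u v : 𝒮.presheaf.obj (op U)} (h : MulRel lam₁ lam₂ U hU W s₁ s₂ u v)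
    (h' : MulRel lam₁ lam₂ U hU W t₁ t₂ u v) : MulRel lam₁ lam₂ U hU W (s₁ + t₁) (s₂ + t₂) u v := by
  intro y hy hvy
  rw [val_lam_add, val_lam_add, h y hy hvy, h' y hy hvy, smul_add]

theorem MulRel.smul {U : Y.Opens} {hU : IsAffineOpen U} {W : P.Opens} {s₁ : Γ(F₁, W)} {s₂ : Γ(F₂, W)}
    {u v : 𝒮.presheaf.obj (op U)} (h : MulRel lam₁ lam₂ U hU W s₁ s₂ u v) (c : Γ(P, W)) :
    MulRel lam₁ lam₂ U hU W (c • s₁) (c • s₂) u v := by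
  intro y hy hvy
  rw [val_lam_smul, val_lam_smul, h y hy hvy, smul_comm]

theorem MulRel.symm {U : Y.Opens} {hU : IsAffineOpen U} {W : P.Opens} {s₁ : Γ(F₁, W)} {s₂ : Γ(F₂, W)}
    {u v : 𝒮.presheaf.obj (op U)} (h : MulRel lam₁ lam₂ U hU W s₁ s₂ u v)
    (hv : ∀ y : ProjectiveSpectrum (𝒮.deg U hU), (RelProj.emb p chart U hU).base y ∈ W → v ∉ y.asHomogeneousIdeal) :
    MulRel lam₂ lam₁ U hU W s₂ s₁ v u := by
  intro y hy huy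
  rw [h y hy (hv y hy), smul_smul, Localization.mk_mul]
  have : (Localization.mk (v * u) ((⟨u, huy⟩ : y.asHomogeneousIdeal.toIdeal.primeCompl) * ⟨v, hv y hy⟩) :
      GrTwist.Loc (𝒮.deg U hU) y) = 1 := by
    have e : ((⟨u, huy⟩ : y.asHomogeneousIdeal.toIdeal.primeCompl) * ⟨v, hv y hy⟩) =
        ⟨v * u, by rw [mul_comm]; exact ((⟨u, huy⟩ : y.asHomogeneousIdeal.toIdeal.primeCompl) * ⟨v, hv y hy⟩).2⟩ :=
      Subtype.ext (mul_comm u v)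
    rw [e]
    exact Localization.mk_self (⟨v * u, _⟩ : y.asHomogeneousIdeal.toIdeal.primeCompl)
  rw [this, one_smul]

end two

section three
variable {n₁ n₂ N : ℤ} {F₁ F₂ L : P.Modules}
  {lam₁ : ∀ (U : Y.Opens) (hU : IsAffineOpen U),
      F₁ ⟶ (Scheme.Modules.pushforward (RelProj.emb p chart U hU)).obj (GrMod.tilde (𝒮.deg U hU) (ℳ.deg U hU) n₁)}
  {lam₂ : ∀ (U : Y.Opens) (hU : IsAffineOpen U),
      F₂ ⟶ (Scheme.Modules.pushforward (RelProj.emb p chart U hU)).obj (GrMod.tilde (𝒮.deg U hU) (ℳ.deg U hU) n₂)}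
  {lamL : ∀ (U : Y.Opens) (hU : IsAffineOpen U),
      L ⟶ (Scheme.Modules.pushforward (RelProj.emb p chart U hU)).obj (GrTwist.twist (𝒮.deg U hU) N)}

/-- transition of "multiplication by the inverse of a basis of `O_P(N)`" (one chart) -/
theorem eq_smul_of_mulRel (hF₂ : RelProj.IsRelTilde 𝒮 p chart ℳ n₂ F₂ lam₂)
    {U : Y.Opens} {hU : IsAffineOpen U} {W : P.Opens} (hW : W ≤ p ⁻¹ᵁ U)
    {e e' : Γ(L, W)} {u v u' v' : 𝒮.presheaf.obj (op U)}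
    (he : ReadsFrac lamL U hU W e v u) (he' : ReadsFrac lamL U hU W e' v' u')
    (hnot : ∀ y : ProjectiveSpectrum (𝒮.deg U hU), (RelProj.emb p chart U hU).base y ∈ W →
      u ∉ y.asHomogeneousIdeal ∧ v ∉ y.asHomogeneousIdeal ∧ u' ∉ y.asHomogeneousIdeal ∧
        v' ∉ y.asHomogeneousIdeal)
    {s₁ : Γ(F₁, W)} {s₂ t₂ : Γ(F₂, W)} (hs : MulRel lam₁ lam₂ U hU W s₁ s₂ u v)
    (ht : MulRel lam₁ lam₂ U hU W s₁ t₂ u' v') (c : Γ(P, W)) (hc : e = c • e') : t₂ = c • s₂ := by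
  apply (hF₂.bijective U hU W hW).injective
  refine sect_ext (V := RelProj.emb p chart U hU ⁻¹ᵁ W) fun y => ?_
  obtain ⟨hu, hv, hu', hv'⟩ := hnot y.1 y.2
  rw [val_lam_smul, ht y.1 y.2 hv', hs y.1 y.2 hv, smul_smul]
  have key := he.coef_eq he' c hc y.1 y.2 hu hu'
  rw [GrModFrac.mk_swap_eq y.1.asHomogeneousIdeal.toIdeal.primeCompl ⟨u, hu⟩ ⟨v, hv⟩ ⟨u', hu'⟩ ⟨v', hv'⟩ _ key]
  rfl

/-- transition of "multiplication by the inverse of a basis of `O_P(N)`" (two charts) -/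
theorem eq_smul_of_mulRel_two_charts (hP : RelProj.IsRelProj 𝒮 p chart)
    (hF₁ : RelProj.IsRelTilde 𝒮 p chart ℳ n₁ F₁ lam₁) (hF₂ : RelProj.IsRelTilde 𝒮 p chart ℳ n₂ F₂ lam₂)
    (hL : RelProj.IsRelTwist 𝒮 p chart N L lamL)
    {U U' : Y.Opens} {hU : IsAffineOpen U} {hU' : IsAffineOpen U'} {W : P.Opens}
    (hW : W ≤ p ⁻¹ᵁ U) (hW' : W ≤ p ⁻¹ᵁ U')
    {e e' : Γ(L, W)} {u v : 𝒮.presheaf.obj (op U)} {u' v' : 𝒮.presheaf.obj (op U')}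
    (he : ReadsFrac lamL U hU W e v u) (he' : ReadsFrac lamL U' hU' W e' v' u')
    (hu : ∀ y : ProjectiveSpectrum (𝒮.deg U hU), (RelProj.emb p chart U hU).base y ∈ W → u ∉ y.asHomogeneousIdeal)
    (hv : ∀ y : ProjectiveSpectrum (𝒮.deg U hU), (RelProj.emb p chart U hU).base y ∈ W → v ∉ y.asHomogeneousIdeal)
    (hu' : ∀ y : ProjectiveSpectrum (𝒮.deg U' hU'), (RelProj.emb p chart U' hU').base y ∈ W →
      u' ∉ y.asHomogeneousIdeal)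
    (hv' : ∀ y : ProjectiveSpectrum (𝒮.deg U' hU'), (RelProj.emb p chart U' hU').base y ∈ W →
      v' ∉ y.asHomogeneousIdeal)
    {s₁ : Γ(F₁, W)} {s₂ t₂ : Γ(F₂, W)} (hs : MulRel lam₁ lam₂ U hU W s₁ s₂ u v)
    (ht : MulRel lam₁ lam₂ U' hU' W s₁ t₂ u' v') (c : Γ(P, W)) (hc : e = c • e') : t₂ = c • s₂ := by
  refine ModLocal.section_ext F₂ fun x hx => ?_
  obtain ⟨r, r', hrr', hxr⟩ := exists_basicOpen_le_affine_inter hU hU' (p.base x) ⟨hW hx, hW' hx⟩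
  have hle' : Y.basicOpen r ≤ U' := hrr' ▸ Y.basicOpen_le r'
  have hleW : W ⊓ p ⁻¹ᵁ (Y.basicOpen r) ≤ W := inf_le_left
  refine ⟨W ⊓ p ⁻¹ᵁ (Y.basicOpen r), hleW, ⟨hx, hxr⟩, ?_⟩
  change mres F₂ hleW t₂ = mres F₂ hleW (c • s₂)
  rw [mres_smul]
  have hD := hU.basicOpen r
  refine eq_smul_of_mulRel hF₂ (U := Y.basicOpen r) (hU := hD) inf_le_right
    ((he.basic hP hL r).mres hleW) ((he'.restrict hP hL r' _ hD hrr' hle').mres hleW) ?_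
    ((hs.basic hP hF₁ hF₂ r).mres hleW) ((ht.restrict hP hF₁ hF₂ r' _ hD hrr' hle').mres hleW) (fres hleW c) ?_
  · intro y hy
    exact ⟨notMem_res_of hP r _ hD rfl _ hu y (hleW hy), notMem_res_of hP r _ hD rfl _ hv y (hleW hy),
      notMem_res_of hP r' _ hD hrr' hle' hu' y (hleW hy), notMem_res_of hP r' _ hD hrr' hle' hv' y (hleW hy)⟩
  · rw [hc, mres_smul]

end three

section mulMap
variable {n₁ n₂ : ℤ} {F₁ F₂ : P.Modules}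
  {lam₁ : ∀ (U : Y.Opens) (hU : IsAffineOpen U),
      F₁ ⟶ (Scheme.Modules.pushforward (RelProj.emb p chart U hU)).obj (GrMod.tilde (𝒮.deg U hU) (ℳ.deg U hU) n₁)}
  {lam₂ : ∀ (U : Y.Opens) (hU : IsAffineOpen U),
      F₂ ⟶ (Scheme.Modules.pushforward (RelProj.emb p chart U hU)).obj (GrMod.tilde (𝒮.deg U hU) (ℳ.deg U hU) n₂)}
  (lam₁) (hF₁ : RelProj.IsRelTilde 𝒮 p chart ℳ n₁ F₁ lam₁) (hF₂ : RelProj.IsRelTilde 𝒮 p chart ℳ n₂ F₂ lam₂)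
  {U : Y.Opens} {hU : IsAffineOpen U} {a b : ℕ} {u v : 𝒮.presheaf.obj (op U)}
  (hu : u ∈ 𝒮.deg U hU a) (hv : v ∈ 𝒮.deg U hU b) (hn : n₂ + b = n₁ + a)
  {W : P.Opens} (hW : W ≤ p ⁻¹ᵁ U)
  (huW : ∀ y : ProjectiveSpectrum (𝒮.deg U hU), (RelProj.emb p chart U hU).base y ∈ W → u ∉ y.asHomogeneousIdeal)
  (hvW : ∀ y : ProjectiveSpectrum (𝒮.deg U hU), (RelProj.emb p chart U hU).base y ∈ W → v ∉ y.asHomogeneousIdeal)

/-- multiplication by `u / v`, `Γ(F₁, W) → Γ(F₂, W)` -/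
def mulFun (s₁ : Γ(F₁, W)) : Γ(F₂, W) :=
  (MulRel.exists (lam₁ := lam₁) hF₂ hu hv hn hW hvW s₁).choose

theorem mulFun_spec (s₁ : Γ(F₁, W)) :
    MulRel lam₁ lam₂ U hU W s₁ (mulFun lam₁ hF₂ hu hv hn hW hvW s₁) u v :=
  (MulRel.exists (lam₁ := lam₁) hF₂ hu hv hn hW hvW s₁).choose_spec

theorem mulFun_eq {s₁ : Γ(F₁, W)} {s₂ : Γ(F₂, W)} (h : MulRel lam₁ lam₂ U hU W s₁ s₂ u v) :
    mulFun lam₁ hF₂ hu hv hn hW hvW s₁ = s₂ :=
  MulRel.unique hF₂ hW hvW (mulFun_spec lam₁ hF₂ hu hv hn hW hvW s₁) h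

/-- multiplication by `u / v`, as an additive map -/
def mulMap : Γ(F₁, W) →+ Γ(F₂, W) :=
  AddMonoidHom.mk' (mulFun lam₁ hF₂ hu hv hn hW hvW) fun s t =>
    mulFun_eq lam₁ hF₂ hu hv hn hW hvW
      ((mulFun_spec lam₁ hF₂ hu hv hn hW hvW s).add (mulFun_spec lam₁ hF₂ hu hv hn hW hvW t))

theorem mulMap_spec (s₁ : Γ(F₁, W)) :
    MulRel lam₁ lam₂ U hU W s₁ (mulMap lam₁ hF₂ hu hv hn hW hvW s₁) u v :=
  mulFun_spec lam₁ hF₂ hu hv hn hW hvW s₁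

theorem mulMap_eq {s₁ : Γ(F₁, W)} {s₂ : Γ(F₂, W)} (h : MulRel lam₁ lam₂ U hU W s₁ s₂ u v) :
    mulMap lam₁ hF₂ hu hv hn hW hvW s₁ = s₂ :=
  mulFun_eq lam₁ hF₂ hu hv hn hW hvW h

theorem mulMap_smul (c : Γ(P, W)) (s₁ : Γ(F₁, W)) :
    mulMap lam₁ hF₂ hu hv hn hW hvW (c • s₁) = c • mulMap lam₁ hF₂ hu hv hn hW hvW s₁ :=
  mulMap_eq lam₁ hF₂ hu hv hn hW hvW ((mulMap_spec lam₁ hF₂ hu hv hn hW hvW s₁).smul c)

theorem mulMap_mres {W' : P.Opens} (h : W' ≤ W) (s₁ : Γ(F₁, W)) :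
    mulMap lam₁ hF₂ hu hv hn (h.trans hW) (fun y hy => hvW y (h hy)) (mres F₁ h s₁) =
      mres F₂ h (mulMap lam₁ hF₂ hu hv hn hW hvW s₁) :=
  mulMap_eq lam₁ hF₂ hu hv hn (h.trans hW) (fun y hy => hvW y (h hy))
    ((mulMap_spec lam₁ hF₂ hu hv hn hW hvW s₁).mres h)

include hF₁ huW in
theorem mulMap_bijective : Function.Bijective (mulMap lam₁ hF₂ hu hv hn hW hvW) := by
  constructor
  · intro s t hst
    have h1 := (mulMap_spec lam₁ hF₂ hu hv hn hW hvW s).symm hvW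
    have h2 := (mulMap_spec lam₁ hF₂ hu hv hn hW hvW t).symm hvW
    rw [hst] at h1
    exact MulRel.unique hF₁ hW huW h1 h2
  · intro s₂
    obtain ⟨s₁, hs₁⟩ := MulRel.exists (lam₁ := lam₂) hF₁ hv hu hn.symm hW huW s₂
    exact ⟨s₁, mulMap_eq lam₁ hF₂ hu hv hn hW hvW (hs₁.symm huW)⟩

end mulMap

end Groth.Agent.Lib.Helper42.RelTildeFrac
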