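import Groth.Agent.Lib.Helper42.GrModSect
import Groth.Agent.Lib.Helper42.ModLocal

/-!
# Maps between relative tilde modules (`RelProj.IsRelTilde`): mono / epi / exactness from the graded side
-/

set_option autoImplicit false
universe u
open CategoryTheory CategoryTheory.Limits AlgebraicGeometry Opposite TopologicalSpace
open scoped HomogeneousIdeal
noncomputable section

namespace Groth.Agent.Lib.Helper42.RelTilde

section rel
variable {Y P : Scheme.{u}} {𝒮 : RelProj.QCGrAlg Y} {p : P ⟶ Y}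
  {chart : ∀ (U : Y.Opens) (hU : IsAffineOpen U), (((p ⁻¹ᵁ U : P.Opens) : Scheme.{u}) ≅ Proj (𝒮.deg U hU))}

theorem opensRange_emb (U : Y.Opens) (hU : IsAffineOpen U) :
    (RelProj.emb p chart U hU).opensRange = p ⁻¹ᵁ U := by
  unfold RelProj.emb
  rw [Scheme.Hom.opensRange_comp_of_isIso, Scheme.Opens.opensRange_ι]

theorem exists_emb_eq (U : Y.Opens) (hU : IsAffineOpen U) {x : P} (hx : x ∈ p ⁻¹ᵁ U) :
    ∃ y : Proj (𝒮.deg U hU), (RelProj.emb p chart U hU).base y = x := by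
  have : x ∈ (RelProj.emb p chart U hU).opensRange := by rw [opensRange_emb]; exact hx
  exact this

/-- the linear map over an affine open underlying a morphism of modules over the algebra -/
abbrev linU {ℳ 𝒩 : RelProj.GrModule 𝒮} (u : ℳ.mod ⟶ 𝒩.mod) (U : Y.Opens) :
    ℳ.mod.val.obj (op U) →ₗ[𝒮.presheaf.obj (op U)] 𝒩.mod.val.obj (op U) :=
  (u.val.app (op U)).hom

variable {ℳ 𝒩 : RelProj.GrModule 𝒮} {u : ℳ.mod ⟶ 𝒩.mod} (hu : RelProj.IsGrModHom u) {n : ℤ}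
  {F G : P.Modules}
  {lam : ∀ (U : Y.Opens) (hU : IsAffineOpen U),
      F ⟶ (Scheme.Modules.pushforward (RelProj.emb p chart U hU)).obj (GrMod.tilde (𝒮.deg U hU) (ℳ.deg U hU) n)}
  {lam' : ∀ (U : Y.Opens) (hU : IsAffineOpen U),
      G ⟶ (Scheme.Modules.pushforward (RelProj.emb p chart U hU)).obj (GrMod.tilde (𝒮.deg U hU) (𝒩.deg U hU) n)}
  {ut : F ⟶ G}
  (hut : ∀ (U : Y.Opens) (hU : IsAffineOpen U),
      ut ≫ lam' U hU =
        lam U hU ≫ (Scheme.Modules.pushforward (RelProj.emb p chart U hU)).map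
          (GrMod.map (𝒮.deg U hU) (linU u U) (hu U hU) n))

include hut in
theorem hut_app (U : Y.Opens) (hU : IsAffineOpen U) (W : P.Opens) (s : Γ(F, W)) :
    (lam' U hU).app W (ut.app W s) =
      (GrMod.map (𝒮.deg U hU) (linU u U) (hu U hU) n).app (RelProj.emb p chart U hU ⁻¹ᵁ W)
        ((lam U hU).app W s) :=
  congrArg (fun φ => (Scheme.Modules.Hom.app φ W) s) (hut U hU)

/-- restriction commutes with `lam`, spelled on the `Proj` side -/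
theorem lam_res (U : Y.Opens) (hU : IsAffineOpen U) {W W' : P.Opens} (h : W' ≤ W) (s : Γ(F, W)) :
    (lam U hU).app W' (F.presheaf.map (homOfLE h).op s) =
      (GrMod.tilde (𝒮.deg U hU) (ℳ.deg U hU) n).presheaf.map
        (homOfLE ((RelProj.emb p chart U hU).preimage_mono h)).op ((lam U hU).app W s) :=
  ModLocal.app_res (lam U hU) h s

omit hu in
/-- transfer of a neighbourhood from a chart to `P` -/
theorem exists_open_of_preimage (U : Y.Opens) (hU : IsAffineOpen U) (W : P.Opens)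
    (V' : (Proj (𝒮.deg U hU)).Opens) (hV' : V' ≤ RelProj.emb p chart U hU ⁻¹ᵁ W)
    (y : Proj (𝒮.deg U hU)) (hy : y ∈ V') :
    ∃ V : P.Opens, ∃ (_ : V ≤ W), V ≤ p ⁻¹ᵁ U ∧ (RelProj.emb p chart U hU).base y ∈ V ∧
      RelProj.emb p chart U hU ⁻¹ᵁ V ≤ V' := by
  refine ⟨RelProj.emb p chart U hU ''ᵁ V', ?_, ?_, ⟨y, hy, rfl⟩, ?_⟩
  · rintro _ ⟨y', hy', rfl⟩
    exact hV' hy'
  · rintro _ ⟨y', hy', rfl⟩
    have : (RelProj.emb p chart U hU).base y' ∈ (RelProj.emb p chart U hU).opensRange := ⟨y', rfl⟩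
    rw [opensRange_emb] at this
    exact this
  · rw [Scheme.Hom.preimage_image_eq]

include hut in
theorem epi_of_TN_surjective (hF : RelProj.IsRelTilde 𝒮 p chart ℳ n F lam)
    (hG : RelProj.IsRelTilde 𝒮 p chart 𝒩 n G lam')
    (hsurj : ∃ n₀ : ℕ, ∀ (U : Y.Opens) (hU : IsAffineOpen U) (k : ℕ), n₀ ≤ k →
      ∀ m' ∈ 𝒩.deg U hU k, ∃ m ∈ ℳ.deg U hU k, (u.val.app (op U)).hom m = m') : Epi ut := by
  obtain ⟨n₀, hn₀⟩ := hsurj
  apply ModLocal.epi_of_locally_surjective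
  intro W t x hx
  obtain ⟨U, hU, hxU⟩ := exists_affine_mem p x
  obtain ⟨y, rfl⟩ := exists_emb_eq (chart := chart) U hU hxU
  obtain ⟨V', hV', hyV', s', hs'⟩ := map_locally_surjective (linU u U) (hu U hU) n₀ (hn₀ U hU) n
    (RelProj.emb p chart U hU ⁻¹ᵁ W) ((lam' U hU).app W t) ⟨y, hx⟩
  obtain ⟨V, hVW, hVU, hyV, hVV'⟩ := exists_open_of_preimage U hU W V' hV' y hyV'
  refine ⟨V, hVW, hyV, ?_⟩
  obtain ⟨s, hs⟩ := (hF.bijective U hU V hVU).surjective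
    ((GrMod.tilde (𝒮.deg U hU) (ℳ.deg U hU) n).presheaf.map (homOfLE hVV').op s')
  refine ⟨s, ?_⟩
  apply (hG.bijective U hU V hVU).injective
  rw [hut_app hu hut, hs, lam_res (lam := lam'), ModLocal.app_res, hs']
  rfl

include hut in
theorem mono_of_TN_injective (hF : RelProj.IsRelTilde 𝒮 p chart ℳ n F lam)
    (hinj : ∃ n₀ : ℕ, ∀ (U : Y.Opens) (hU : IsAffineOpen U) (k : ℕ), n₀ ≤ k →
      ∀ m ∈ ℳ.deg U hU k, (u.val.app (op U)).hom m = 0 → m = 0) : Mono ut := by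
  obtain ⟨n₀, hn₀⟩ := hinj
  apply ModLocal.mono_of_basis
  intro x
  obtain ⟨U, hU, hxU⟩ := exists_affine_mem p x
  refine ⟨p ⁻¹ᵁ U, hxU, fun W hW => ?_⟩
  intro s t hst
  apply (hF.bijective U hU W hW).injective
  apply map_app_injective (linU u U) (hu U hU) n₀ (hn₀ U hU) n (RelProj.emb p chart U hU ⁻¹ᵁ W)
  rw [← hut_app hu hut, ← hut_app hu hut, hst]

end rel

section exact
variable {Y P : Scheme.{u}} {𝒮 : RelProj.QCGrAlg Y} {p : P ⟶ Y}
  {chart : ∀ (U : Y.Opens) (hU : IsAffineOpen U), (((p ⁻¹ᵁ U : P.Opens) : Scheme.{u}) ≅ Proj (𝒮.deg U hU))}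
  {ℳ₁ ℳ₂ ℳ₃ : RelProj.GrModule 𝒮} {u : ℳ₁.mod ⟶ ℳ₂.mod} (hu : RelProj.IsGrModHom u)
  {v : ℳ₂.mod ⟶ ℳ₃.mod} (hv : RelProj.IsGrModHom v) {n : ℤ}
  {F₁ F₂ F₃ : P.Modules}
  {lam₁ : ∀ (U : Y.Opens) (hU : IsAffineOpen U),
      F₁ ⟶ (Scheme.Modules.pushforward (RelProj.emb p chart U hU)).obj (GrMod.tilde (𝒮.deg U hU) (ℳ₁.deg U hU) n)}
  {lam₂ : ∀ (U : Y.Opens) (hU : IsAffineOpen U),
      F₂ ⟶ (Scheme.Modules.pushforward (RelProj.emb p chart U hU)).obj (GrMod.tilde (𝒮.deg U hU) (ℳ₂.deg U hU) n)}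
  {lam₃ : ∀ (U : Y.Opens) (hU : IsAffineOpen U),
      F₃ ⟶ (Scheme.Modules.pushforward (RelProj.emb p chart U hU)).obj (GrMod.tilde (𝒮.deg U hU) (ℳ₃.deg U hU) n)}
  {ut : F₁ ⟶ F₂} {vt : F₂ ⟶ F₃}
  (hut : ∀ (U : Y.Opens) (hU : IsAffineOpen U),
      ut ≫ lam₂ U hU =
        lam₁ U hU ≫ (Scheme.Modules.pushforward (RelProj.emb p chart U hU)).map
          (GrMod.map (𝒮.deg U hU) (linU u U) (hu U hU) n))
  (hvt : ∀ (U : Y.Opens) (hU : IsAffineOpen U),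
      vt ≫ lam₃ U hU =
        lam₂ U hU ≫ (Scheme.Modules.pushforward (RelProj.emb p chart U hU)).map
          (GrMod.map (𝒮.deg U hU) (linU v U) (hv U hU) n))

include hut hvt in
theorem exact_of_exact (hF₁ : RelProj.IsRelTilde 𝒮 p chart ℳ₁ n F₁ lam₁)
    (hF₂ : RelProj.IsRelTilde 𝒮 p chart ℳ₂ n F₂ lam₂)
    (hex : ∀ (U : Y.Opens) (hU : IsAffineOpen U), Function.Exact (u.val.app (op U)).hom (v.val.app (op U)).hom)
    (w : ut ≫ vt = 0) : (ShortComplex.mk ut vt w).Exact := by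
  apply ModLocal.exact_of_locally
  intro W s hs x hx
  obtain ⟨U, hU, hxU⟩ := exists_affine_mem p x
  obtain ⟨y, rfl⟩ := exists_emb_eq (chart := chart) U hU hxU
  have h0 : (GrMod.map (𝒮.deg U hU) (linU v U) (hv U hU) n).app (RelProj.emb p chart U hU ⁻¹ᵁ W)
      ((lam₂ U hU).app W s) = 0 := by
    rw [← hut_app hv hvt, hs, map_zero]
    rfl
  obtain ⟨V', hV', hyV', t', ht'⟩ := map_locally_exact (linU u U) (hu U hU) (linU v U) (hv U hU) (hex U hU) n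
    (RelProj.emb p chart U hU ⁻¹ᵁ W) ((lam₂ U hU).app W s) h0 ⟨y, hx⟩
  obtain ⟨V, hVW, hVU, hyV, hVV'⟩ := exists_open_of_preimage U hU W V' hV' y hyV'
  refine ⟨V, hVW, hyV, ?_⟩
  obtain ⟨t, ht⟩ := (hF₁.bijective U hU V hVU).surjective
    ((GrMod.tilde (𝒮.deg U hU) (ℳ₁.deg U hU) n).presheaf.map (homOfLE hVV').op t')
  refine ⟨t, ?_⟩
  apply (hF₂.bijective U hU V hVU).injective
  rw [hut_app hu hut, ht, lam_res (lam := lam₂), ModLocal.app_res, ht']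
  rfl

end exact

end Groth.Agent.Lib.Helper42.RelTilde
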