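import Groth.Agent.Lib.Helper42.RelTildeGlue

/-!
# Uniqueness up to unique isomorphism of the relative tilde module (`RelProj.IsRelTilde`)
-/

set_option autoImplicit false
universe u
open CategoryTheory CategoryTheory.Limits AlgebraicGeometry Opposite TopologicalSpace
open scoped HomogeneousIdeal
noncomputable section

namespace Groth.Agent.Lib.Helper42.RelTilde

section rel
variable {Y P : Scheme.{u}} {𝒮 : RelProj.QCGrAlg Y} {p : P ⟶ Y}
  {chart : ∀ (U : Y.Opens) (hU : IsAffineOpen U), (((p ⁻¹ᵁ U : P.Opens) : Scheme.{u}) ≅ Proj (𝒮.deg U hU))}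

theorem isGrModHom_id (ℳ : RelProj.GrModule 𝒮) : RelProj.IsGrModHom (𝟙 ℳ.mod) :=
  fun _ _ _ _ hm => hm

variable {ℳ : RelProj.GrModule 𝒮} {n : ℤ} {F F' : P.Modules}
  {lam : ∀ (U : Y.Opens) (hU : IsAffineOpen U),
      F ⟶ (Scheme.Modules.pushforward (RelProj.emb p chart U hU)).obj (GrMod.tilde (𝒮.deg U hU) (ℳ.deg U hU) n)}
  {lam' : ∀ (U : Y.Opens) (hU : IsAffineOpen U),
      F' ⟶ (Scheme.Modules.pushforward (RelProj.emb p chart U hU)).obj (GrMod.tilde (𝒮.deg U hU) (ℳ.deg U hU) n)}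

theorem kap_id (U : Y.Opens) (hU : IsAffineOpen U) :
    kap (isGrModHom_id ℳ) lam U hU = lam U hU := by
  refine Scheme.Modules.hom_ext _ _ fun W => ?_
  ext s
  refine sect_ext (V := RelProj.emb p chart U hU ⁻¹ᵁ W) fun y => ?_
  rw [val_kap]
  induction (GrMod.val (V := RelProj.emb p chart U hU ⁻¹ᵁ W) ((lam U hU).app W s) y)
    using LocalizedModule.induction_on with
  | h m t => rw [GrMod.locMap_mk]; rfl

theorem existsUnique_iso (hP : RelProj.IsRelProj 𝒮 p chart) (hF : RelProj.IsRelTilde 𝒮 p chart ℳ n F lam)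
    (hF' : RelProj.IsRelTilde 𝒮 p chart ℳ n F' lam') :
    (∃! φ : F ⟶ F', ∀ (U : Y.Opens) (hU : IsAffineOpen U), φ ≫ lam' U hU = lam U hU) ∧
      ∀ φ : F ⟶ F', (∀ (U : Y.Opens) (hU : IsAffineOpen U), φ ≫ lam' U hU = lam U hU) → IsIso φ := by
  constructor
  · have := existsUnique_map (isGrModHom_id ℳ) hP hF hF'
    simpa only [kap_id] using this
  · intro φ hφ
    apply ModLocal.isIso_of_bijective_basis
    intro x
    obtain ⟨U, hU, hxU⟩ := exists_affine_mem p x
    refine ⟨p ⁻¹ᵁ U, hxU, fun W hW => ?_⟩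
    have h1 : (lam' U hU).app W ∘ φ.app W = (lam U hU).app W := by
      funext s
      exact congrArg (fun ψ => (Scheme.Modules.Hom.app ψ W) s) (hφ U hU)
    have h2 := hF.bijective U hU W hW
    rw [← h1] at h2
    exact (Function.Bijective.of_comp_iff' (hF'.bijective U hU W hW) _).mp h2

end rel

end Groth.Agent.Lib.Helper42.RelTilde
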