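import Groth.Agent.Lib.Helper42.RelTwistPull
import Groth.Agent.Lib.Helper42.BasisGlue
import Groth.Agent.Lib.Helper11.TensorBasis

/-!
# Sections of relative twisting sheaves reading a fraction `u / v` on a chart; multiplicativity of
transition coefficients (helper42)
-/

set_option autoImplicit false
universe u
open CategoryTheory CategoryTheory.Limits AlgebraicGeometry Opposite TopologicalSpace
open scoped HomogeneousIdeal
noncomputable section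

namespace Groth.Agent.Lib.Helper42.RelTwistFrac

open Groth.Agent.Lib.Helper42.RelTilde Groth.Agent.Lib.Helper45 Groth.Agent.Lib.Helper49
  Groth.Agent.Lib.Helper42.RelTwistBasis Groth.Agent.Lib.Helper42.RelTwistComap

variable {Y P : Scheme.{u}} {𝒮 : RelProj.QCGrAlg Y} {p : P ⟶ Y}
  {chart : ∀ (U : Y.Opens) (hU : IsAffineOpen U), (((p ⁻¹ᵁ U : P.Opens) : Scheme.{u}) ≅ Proj (𝒮.deg U hU))}

section one
variable {N : ℤ} {L : P.Modules}
  {lam : ∀ (U : Y.Opens) (hU : IsAffineOpen U),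
      L ⟶ (Scheme.Modules.pushforward (RelProj.emb p chart U hU)).obj (GrTwist.twist (𝒮.deg U hU) N)}

/-- the section `t` of `L` over `W` reads `u / v` on the chart over `U` -/
def ReadsFrac (lam : ∀ (U : Y.Opens) (hU : IsAffineOpen U),
      L ⟶ (Scheme.Modules.pushforward (RelProj.emb p chart U hU)).obj (GrTwist.twist (𝒮.deg U hU) N))
    (U : Y.Opens) (hU : IsAffineOpen U) (W : P.Opens) (t : Γ(L, W)) (u v : 𝒮.presheaf.obj (op U)) : Prop :=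
  ∀ (y : ProjectiveSpectrum (𝒮.deg U hU)) (hy : (RelProj.emb p chart U hU).base y ∈ W)
    (hvy : v ∉ y.asHomogeneousIdeal),
    GrTwist.val (V := RelProj.emb p chart U hU ⁻¹ᵁ W) ((lam U hU).app W t) ⟨y, hy⟩ =
      Localization.mk u ⟨v, hvy⟩

theorem ReadsFrac.mres {U : Y.Opens} {hU : IsAffineOpen U} {W W' : P.Opens} {t : Γ(L, W)}
    {u v : 𝒮.presheaf.obj (op U)}
    (h : ReadsFrac lam U hU W t u v) (hW : W' ≤ W) : ReadsFrac lam U hU W' (mres L hW t) u v := by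
  intro y hy hvy
  rw [val_lam_mres]
  exact h y (hW hy) hvy

theorem ReadsFrac.congr_elems {U : Y.Opens} {hU : IsAffineOpen U} {W : P.Opens} {t : Γ(L, W)}
    {u v u' v' : 𝒮.presheaf.obj (op U)} (h : ReadsFrac lam U hU W t u v) (eu : u = u') (ev : v = v') :
    ReadsFrac lam U hU W t u' v' := by
  subst eu; subst ev; exact h

theorem ReadsFrac.basic (hP : RelProj.IsRelProj 𝒮 p chart) (hL : RelProj.IsRelTwist 𝒮 p chart N L lam)
    {U : Y.Opens} {hU : IsAffineOpen U} {W : P.Opens} {t : Γ(L, W)} {u v : 𝒮.presheaf.obj (op U)}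
    (h : ReadsFrac lam U hU W t u v) (r : Γ(Y, U)) :
    ReadsFrac lam (Y.basicOpen r) (hU.basicOpen r) W t
      (𝒮.res hU (hU.basicOpen r) (Y.basicOpen_le r) u) (𝒮.res hU (hU.basicOpen r) (Y.basicOpen_le r) v) := by
  intro y hy hvy
  have hy' : (RelProj.emb p chart U hU).base (ProjectiveSpectrum.comap
      (𝒮.res hU (hU.basicOpen r) (Y.basicOpen_le r)) (𝒮.irrelevant_le_map U hU r) y) ∈ W := by
    rw [emb_basicOpen_apply hP]; exact hy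
  rw [hL.compat U hU r W t y hy hy', h _ hy' hvy, GrTwist.locMap_mk]

theorem ReadsFrac.restrict (hP : RelProj.IsRelProj 𝒮 p chart) (hL : RelProj.IsRelTwist 𝒮 p chart N L lam)
    {U : Y.Opens} {hU : IsAffineOpen U} {W : P.Opens} {t : Γ(L, W)} {u v : 𝒮.presheaf.obj (op U)}
    (h : ReadsFrac lam U hU W t u v) (r : Γ(Y, U)) (V : Y.Opens) (hV : IsAffineOpen V)
    (e : V = Y.basicOpen r) (hle : V ≤ U) :
    ReadsFrac lam V hV W t (𝒮.res hU hV hle u) (𝒮.res hU hV hle v) := by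
  subst e
  exact h.basic hP hL r

theorem ReadsFrac.unique (hL : RelProj.IsRelTwist 𝒮 p chart N L lam)
    {U : Y.Opens} {hU : IsAffineOpen U} {W : P.Opens} (hW : W ≤ p ⁻¹ᵁ U) {t t' : Γ(L, W)}
    {u v : 𝒮.presheaf.obj (op U)}
    (hv : ∀ y : ProjectiveSpectrum (𝒮.deg U hU), (RelProj.emb p chart U hU).base y ∈ W → v ∉ y.asHomogeneousIdeal)
    (h : ReadsFrac lam U hU W t u v) (h' : ReadsFrac lam U hU W t' u v) : t = t' := by
  apply (hL.bijective U hU W hW).injective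
  refine twist_sect_ext (V := RelProj.emb p chart U hU ⁻¹ᵁ W) fun y => ?_
  exact (h y.1 y.2 (hv y.1 y.2)).trans (h' y.1 y.2 (hv y.1 y.2)).symm

end one

section coef
variable {N₁ N₂ : ℤ} {L₁ L₂ : P.Modules}
  {lam₁ : ∀ (U : Y.Opens) (hU : IsAffineOpen U),
      L₁ ⟶ (Scheme.Modules.pushforward (RelProj.emb p chart U hU)).obj (GrTwist.twist (𝒮.deg U hU) N₁)}
  {lam₂ : ∀ (U : Y.Opens) (hU : IsAffineOpen U),
      L₂ ⟶ (Scheme.Modules.pushforward (RelProj.emb p chart U hU)).obj (GrTwist.twist (𝒮.deg U hU) N₂)}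

theorem toOc_mul (U : Y.Opens) (hU : IsAffineOpen U) (W : P.Opens) (c c' : Γ(P, W))
    (y : (RelProj.emb p chart U hU ⁻¹ᵁ W : (Proj (𝒮.deg U hU)).Opens)) :
    ((toOc (chart := chart) U hU W (c * c')).1 y).val =
      ((toOc (chart := chart) U hU W c).1 y).val * ((toOc (chart := chart) U hU W c').1 y).val := by
  have h1 : toOc (chart := chart) U hU W (c * c') = toOc (chart := chart) U hU W c * toOc (chart := chart) U hU W c' :=
    map_mul ((RelProj.emb p chart U hU).app W).hom c c'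
  rw [h1]
  exact HomogeneousLocalization.val_mul _ _

/-- the readings of `e = c • e'` are related by the value of `c` -/
theorem ReadsFrac.coef_eq {N : ℤ} {L : P.Modules}
    {lam : ∀ (U : Y.Opens) (hU : IsAffineOpen U),
      L ⟶ (Scheme.Modules.pushforward (RelProj.emb p chart U hU)).obj (GrTwist.twist (𝒮.deg U hU) N)}
    {U : Y.Opens} {hU : IsAffineOpen U} {W : P.Opens} {e e' : Γ(L, W)} {u v u' v' : 𝒮.presheaf.obj (op U)}
    (h : ReadsFrac lam U hU W e u v) (h' : ReadsFrac lam U hU W e' u' v') (c : Γ(P, W)) (hc : e = c • e')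
    (y : ProjectiveSpectrum (𝒮.deg U hU)) (hy : (RelProj.emb p chart U hU).base y ∈ W)
    (hvy : v ∉ y.asHomogeneousIdeal) (hvy' : v' ∉ y.asHomogeneousIdeal) :
    Localization.mk u ⟨v, hvy⟩ =
      ((toOc (chart := chart) U hU W c).1 ⟨y, hy⟩).val * Localization.mk u' ⟨v', hvy'⟩ := by
  rw [← h y hy hvy, ← h' y hy hvy', hc, val_lam_smul]
  rfl

/-- multiplicativity of transition coefficients of sections reading fractions on one chart -/
theorem ReadsFrac.mk_mul_eq {U : Y.Opens} {hU : IsAffineOpen U} {W : P.Opens}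
    {e₁ e₁' : Γ(L₁, W)} {e₂ e₂' : Γ(L₂, W)} {u₁ v₁ u₁' v₁' u₂ v₂ u₂' v₂' : 𝒮.presheaf.obj (op U)}
    (h₁ : ReadsFrac lam₁ U hU W e₁ u₁ v₁) (h₁' : ReadsFrac lam₁ U hU W e₁' u₁' v₁')
    (h₂ : ReadsFrac lam₂ U hU W e₂ u₂ v₂) (h₂' : ReadsFrac lam₂ U hU W e₂' u₂' v₂')
    (c₁ c₂ : Γ(P, W)) (hc₁ : e₁ = c₁ • e₁') (hc₂ : e₂ = c₂ • e₂')
    (y : ProjectiveSpectrum (𝒮.deg U hU)) (hy : (RelProj.emb p chart U hU).base y ∈ W)
    (hv₁ : v₁ ∉ y.asHomogeneousIdeal) (hv₁' : v₁' ∉ y.asHomogeneousIdeal)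
    (hv₂ : v₂ ∉ y.asHomogeneousIdeal) (hv₂' : v₂' ∉ y.asHomogeneousIdeal)
    (hv : v₁ * v₂ ∉ y.asHomogeneousIdeal) (hv' : v₁' * v₂' ∉ y.asHomogeneousIdeal) :
    Localization.mk (u₁ * u₂) ⟨v₁ * v₂, hv⟩ =
      ((toOc (chart := chart) U hU W (c₁ * c₂)).1 ⟨y, hy⟩).val * Localization.mk (u₁' * u₂') ⟨v₁' * v₂', hv'⟩ := by
  have e1 := h₁.coef_eq h₁' c₁ hc₁ y hy hv₁ hv₁'
  have e2 := h₂.coef_eq h₂' c₂ hc₂ y hy hv₂ hv₂'
  have m1 : Localization.mk (u₁ * u₂) ⟨v₁ * v₂, hv⟩ =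
      Localization.mk u₁ (⟨v₁, hv₁⟩ : y.asHomogeneousIdeal.toIdeal.primeCompl) *
        Localization.mk u₂ (⟨v₂, hv₂⟩ : y.asHomogeneousIdeal.toIdeal.primeCompl) := by
    rw [Localization.mk_mul]; rfl
  have m2 : Localization.mk (u₁' * u₂') ⟨v₁' * v₂', hv'⟩ =
      Localization.mk u₁' (⟨v₁', hv₁'⟩ : y.asHomogeneousIdeal.toIdeal.primeCompl) *
        Localization.mk u₂' (⟨v₂', hv₂'⟩ : y.asHomogeneousIdeal.toIdeal.primeCompl) := by
    rw [Localization.mk_mul]; rfl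
  rw [m1, m2, e1, e2, toOc_mul]
  ring

end coef

section three
variable {N₁ N₂ : ℤ} {L₁ L₂ L₃ : P.Modules}
  {lam₁ : ∀ (U : Y.Opens) (hU : IsAffineOpen U),
      L₁ ⟶ (Scheme.Modules.pushforward (RelProj.emb p chart U hU)).obj (GrTwist.twist (𝒮.deg U hU) N₁)}
  {lam₂ : ∀ (U : Y.Opens) (hU : IsAffineOpen U),
      L₂ ⟶ (Scheme.Modules.pushforward (RelProj.emb p chart U hU)).obj (GrTwist.twist (𝒮.deg U hU) N₂)}
  {lam₃ : ∀ (U : Y.Opens) (hU : IsAffineOpen U),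
      L₃ ⟶ (Scheme.Modules.pushforward (RelProj.emb p chart U hU)).obj (GrTwist.twist (𝒮.deg U hU) (N₁ + N₂))}

theorem eq_smul_of_reads (hL₃ : RelProj.IsRelTwist 𝒮 p chart (N₁ + N₂) L₃ lam₃)
    {U : Y.Opens} {hU : IsAffineOpen U} {W : P.Opens} (hW : W ≤ p ⁻¹ᵁ U)
    {e₁ e₁' : Γ(L₁, W)} {e₂ e₂' : Γ(L₂, W)} {e₃ e₃' : Γ(L₃, W)}
    {u₁ v₁ u₁' v₁' u₂ v₂ u₂' v₂' : 𝒮.presheaf.obj (op U)}
    (h₁ : ReadsFrac lam₁ U hU W e₁ u₁ v₁) (h₁' : ReadsFrac lam₁ U hU W e₁' u₁' v₁')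
    (h₂ : ReadsFrac lam₂ U hU W e₂ u₂ v₂) (h₂' : ReadsFrac lam₂ U hU W e₂' u₂' v₂')
    (h₃ : ReadsFrac lam₃ U hU W e₃ (u₁ * u₂) (v₁ * v₂))
    (h₃' : ReadsFrac lam₃ U hU W e₃' (u₁' * u₂') (v₁' * v₂'))
    (hv : ∀ y : ProjectiveSpectrum (𝒮.deg U hU), (RelProj.emb p chart U hU).base y ∈ W →
      v₁ ∉ y.asHomogeneousIdeal ∧ v₁' ∉ y.asHomogeneousIdeal ∧ v₂ ∉ y.asHomogeneousIdeal ∧
        v₂' ∉ y.asHomogeneousIdeal)
    (c₁ c₂ : Γ(P, W)) (hc₁ : e₁ = c₁ • e₁') (hc₂ : e₂ = c₂ • e₂') :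
    e₃ = (c₁ * c₂) • e₃' := by
  apply (hL₃.bijective U hU W hW).injective
  refine twist_sect_ext (V := RelProj.emb p chart U hU ⁻¹ᵁ W) fun y => ?_
  obtain ⟨hv₁, hv₁', hv₂, hv₂'⟩ := hv y.1 y.2
  have hvv : v₁ * v₂ ∉ y.1.asHomogeneousIdeal := fun hmem =>
    (y.1.isPrime.mem_or_mem hmem).elim hv₁ hv₂
  have hvv' : v₁' * v₂' ∉ y.1.asHomogeneousIdeal := fun hmem =>
    (y.1.isPrime.mem_or_mem hmem).elim hv₁' hv₂'
  rw [val_lam_smul, h₃ y.1 y.2 hvv, h₃' y.1 y.2 hvv']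
  exact ReadsFrac.mk_mul_eq h₁ h₁' h₂ h₂' c₁ c₂ hc₁ hc₂ y.1 y.2 hv₁ hv₁' hv₂ hv₂' hvv hvv'

end three

section basis
variable {N : ℤ} {L : P.Modules}
  {lam : ∀ (U : Y.Opens) (hU : IsAffineOpen U),
      L ⟶ (Scheme.Modules.pushforward (RelProj.emb p chart U hU)).obj (GrTwist.twist (𝒮.deg U hU) N)}

theorem exists_basis_readsFrac (hL : RelProj.IsRelTwist 𝒮 p chart N L lam) (U : Y.Opens) (hU : IsAffineOpen U)
    {a b : ℕ} {u v : 𝒮.presheaf.obj (op U)} (hu : u ∈ 𝒮.deg U hU a) (hv : v ∈ 𝒮.deg U hU b)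
    (hab : (a : ℤ) = b + N) (V : P.Opens) (hV : V ≤ p ⁻¹ᵁ U)
    (hVu : ∀ y : ProjectiveSpectrum (𝒮.deg U hU), (RelProj.emb p chart U hU).base y ∈ V → u ∉ y.asHomogeneousIdeal)
    (hVv : ∀ y : ProjectiveSpectrum (𝒮.deg U hU), (RelProj.emb p chart U hU).base y ∈ V → v ∉ y.asHomogeneousIdeal) :
    ∃ e : Γ(L, V), IsBasisOn L V e ∧ ReadsFrac lam U hU V e u v := by
  obtain ⟨e, he⟩ := RelTwistPull.exists_section_val hL U hU hu hv hab V hV hVv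
  exact ⟨e, isBasisOn_of_val hL U hU hu hv hab V hV hVu hVv e he, fun y hy hvy => he y hy⟩

end basis

end Groth.Agent.Lib.Helper42.RelTwistFrac
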