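import Groth.Prelude.Def_GrTwist
import Groth.Prelude.Def_Pic

/-!
# Triviality of `O(N)` (`GrGrTwist.twist`, gradings by additive subgroups) on opens where a degree-`N` fraction
`u / v` is invertible (port by helper42 of helper17's `TwistTriv`)
-/

set_option autoImplicit false
set_option linter.unusedSectionVars false
universe u
open CategoryTheory AlgebraicGeometry TopologicalSpace Opposite HomogeneousLocalization

namespace Groth.Agent.Lib.Helper42.TwistTrivA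

variable {A σ : Type u} [CommRing A] [SetLike σ A] [AddSubgroupClass σ A] (𝒜 : ℕ → σ)
  [GradedRing 𝒜] (N : ℤ) {p q : ℕ} {u v : A} (hu : u ∈ 𝒜 p) (hv : v ∈ 𝒜 q)
  (hpq : (p : ℤ) = q + N)

/-- The section `u / v` of `O(N)` over an open where `v` vanishes nowhere. -/
def fracN (W : Opens (ProjectiveSpectrum.top 𝒜)) (hW : ∀ y : W, v ∉ y.1.asHomogeneousIdeal) :
    GrTwist.sectN (𝒜 := 𝒜) N (op W) :=
  ⟨fun y => ⟨Localization.mk u ⟨v, hW y⟩,
      Submodule.subset_span ⟨p, q, ⟨u, hu⟩, ⟨v, hv⟩, hW y, hpq, rfl⟩⟩,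
    fun y => ⟨W, y.2, 𝟙 _, p, q, ⟨u, hu⟩, ⟨v, hv⟩, hW, Or.inl hpq, fun _ => rfl⟩⟩

theorem fracN_val (W : Opens (ProjectiveSpectrum.top 𝒜))
    (hW : ∀ y : W, v ∉ y.1.asHomogeneousIdeal) (y : W) :
    (((fracN 𝒜 N hu hv hpq W hW).1 y : GrTwist.twistAt 𝒜 N y.1) : GrTwist.Loc 𝒜 y.1) =
      Localization.mk u ⟨v, hW y⟩ := rfl

theorem mk_mul_mk_eq_one (y : ProjectiveSpectrum 𝒜) (hv' : v ∉ y.asHomogeneousIdeal)
    (hu' : u ∉ y.asHomogeneousIdeal) :
    Localization.mk u (⟨v, hv'⟩ : y.asHomogeneousIdeal.toIdeal.primeCompl) *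
      Localization.mk v (⟨u, hu'⟩ : y.asHomogeneousIdeal.toIdeal.primeCompl) = 1 := by
  rw [Localization.mk_mul]
  have : (⟨v, hv'⟩ : y.asHomogeneousIdeal.toIdeal.primeCompl) * ⟨u, hu'⟩ =
      ⟨u * v, fun hmem => (y.isPrime.mem_or_mem hmem).elim hu' hv'⟩ :=
    Subtype.ext (mul_comm v u)
  rw [this]
  exact Localization.mk_self (⟨u * v, fun hmem => (y.isPrime.mem_or_mem hmem).elim hu' hv'⟩ :
    y.asHomogeneousIdeal.toIdeal.primeCompl)

/-- Multiplication by `u / v` is injective on the degree-zero localization. -/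
theorem eq_zero_of_val_mul_eq_zero (y : ProjectiveSpectrum 𝒜) (hv' : v ∉ y.asHomogeneousIdeal)
    (hu' : u ∉ y.asHomogeneousIdeal) (c : GrTwist.A0 𝒜 y)
    (h : c.val * Localization.mk u (⟨v, hv'⟩ : y.asHomogeneousIdeal.toIdeal.primeCompl) = 0) :
    c = 0 := by
  have h3 : c.val = 0 := by
    calc c.val = c.val * (Localization.mk u ⟨v, hv'⟩ * Localization.mk v ⟨u, hu'⟩) := by
          rw [mk_mul_mk_eq_one 𝒜 y hv' hu', mul_one]
      _ = 0 := by rw [← mul_assoc, h, zero_mul]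
  exact HomogeneousLocalization.val_injective _ (by rw [h3, HomogeneousLocalization.val_zero])

set_option backward.isDefEq.respectTransparency.types false in
/-- The fraction `(a v) / (t u)` of degree zero, for `a / t` of degree `N`. -/
theorem val_mk_mul (y : ProjectiveSpectrum 𝒜)
    (hu' : u ∉ y.asHomogeneousIdeal) {j : ℕ} (a t : A) (ha : a * v ∈ 𝒜 (j + p))
    (ht : t ∈ 𝒜 j) (hty : t ∉ y.asHomogeneousIdeal) :
    (HomogeneousLocalization.mk (𝒜 := 𝒜) (x := y.asHomogeneousIdeal.toIdeal.primeCompl)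
      ⟨j + p, ⟨a * v, ha⟩, ⟨t * u, SetLike.mul_mem_graded ht hu⟩,
        fun hmem => (y.isPrime.mem_or_mem hmem).elim hty hu'⟩).val =
      Localization.mk a (⟨t, hty⟩ : y.asHomogeneousIdeal.toIdeal.primeCompl) *
        Localization.mk v (⟨u, hu'⟩ : y.asHomogeneousIdeal.toIdeal.primeCompl) := by
  rw [HomogeneousLocalization.val_mk, Localization.mk_mul]
  rfl

include hv hpq in
theorem num_mem {i j : ℕ} (a : 𝒜 i) (h : (i : ℤ) = j + N ∨ a.1 = 0) : a.1 * v ∈ 𝒜 (j + p) := by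
  rcases h with h | h
  · have e : i + q = j + p := by omega
    exact e ▸ SetLike.mul_mem_graded a.2 hv
  · rw [h, zero_mul]; exact zero_mem _

include hu hv hpq in
/-- Division by `u / v`: every section of `O(N)` over `W` is `r • (u / v)`. -/
theorem exists_eq_val_mul (W : Opens (ProjectiveSpectrum.top 𝒜))
    (hW : ∀ y : W, v ∉ y.1.asHomogeneousIdeal) (hW' : ∀ y : W, u ∉ y.1.asHomogeneousIdeal)
    (s : GrTwist.sectN (𝒜 := 𝒜) N (op W)) :
    ∃ r : GrTwist.O (𝒜 := 𝒜) (op W), ∀ y : W,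
      ((s.1 y : GrTwist.twistAt 𝒜 N y.1) : GrTwist.Loc 𝒜 y.1) =
        (r.1 y).val * Localization.mk u ⟨v, hW y⟩ := by
  classical
  have hex : ∀ y : W, ∃ c : GrTwist.A0 𝒜 y.1,
      c.val = ((s.1 y : GrTwist.twistAt 𝒜 N y.1) : GrTwist.Loc 𝒜 y.1) *
        Localization.mk v ⟨u, hW' y⟩ := by
    intro y
    obtain ⟨V, hyV, iV, i, j, a, t, nin, hdeg, w⟩ := s.2 y
    refine ⟨HomogeneousLocalization.mk ⟨j + p, ⟨a.1 * v, num_mem 𝒜 N hv hpq a hdeg⟩,
      ⟨t.1 * u, SetLike.mul_mem_graded t.2 hu⟩,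
        fun hmem => (y.1.isPrime.mem_or_mem hmem).elim (nin ⟨y.1, hyV⟩) (hW' y)⟩, ?_⟩
    rw [val_mk_mul 𝒜 hu y.1 (hW' y) a.1 t.1 _ t.2 (nin ⟨y.1, hyV⟩)]
    congr 1
    exact (w ⟨y.1, hyV⟩).symm
  choose ρ hρ using hex
  refine ⟨⟨ρ, fun y => ?_⟩, fun y => ?_⟩
  · obtain ⟨V, hyV, iV, i, j, a, t, nin, hdeg, w⟩ := s.2 y
    refine ⟨V, hyV, iV, j + p, ⟨a.1 * v, num_mem 𝒜 N hv hpq a hdeg⟩,
      ⟨t.1 * u, SetLike.mul_mem_graded t.2 hu⟩,
      fun x hmem => (x.1.isPrime.mem_or_mem hmem).elim (nin x) (hW' (iV x)), fun x => ?_⟩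
    apply HomogeneousLocalization.val_injective
    rw [val_mk_mul 𝒜 hu x.1 (hW' (iV x)) a.1 t.1 _ t.2 (nin x)]
    refine (hρ (iV x)).trans ?_
    congr 1
    exact w x
  · rw [hρ y, mul_assoc, mul_comm (Localization.mk v _), mk_mul_mk_eq_one 𝒜 y.1 (hW y) (hW' y),
      mul_one]

section sheaf
variable {Y : Scheme.{u}} (j : Y ⟶ Proj 𝒜) [IsOpenImmersion j]
  (hjv : ∀ y : Y, v ∉ (j.base y).asHomogeneousIdeal)
  (hju : ∀ y : Y, u ∉ (j.base y).asHomogeneousIdeal)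

theorem not_mem_of_mem_image {w : A} (hjw : ∀ y : Y, w ∉ (j.base y).asHomogeneousIdeal)
    (V : Y.Opens) (y : ↥(j ''ᵁ V)) : w ∉ y.1.asHomogeneousIdeal := by
  obtain ⟨z, -, hz⟩ := y.2
  rw [← hz]
  exact hjw z

/-- The generating section `u / v` of `O(N)` restricted along `j`. -/
noncomputable def genSection : ((GrTwist.twist 𝒜 N).restrict j).val.sections :=
  PresheafOfModules.sectionsMk
    (fun V => (fracN 𝒜 N hu hv hpq (j ''ᵁ V.unop) (not_mem_of_mem_image 𝒜 j hjv V.unop) :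
      GrTwist.sectN (𝒜 := 𝒜) N (op (j ''ᵁ V.unop))))
    (fun _ _ _ => rfl)

/-- The morphism `O_Y ⟶ O(N)|_Y` given by the section `u / v`. -/
noncomputable def genHom : SheafOfModules.unit Y.ringCatSheaf ⟶ (GrTwist.twist 𝒜 N).restrict j :=
  (SheafOfModules.unitHomEquiv _).symm (genSection 𝒜 N hu hv hpq j hjv)

/-- Sections of the restriction as dependent functions. -/
def toSectN {V : Y.Opens} (s : Γ((GrTwist.twist 𝒜 N).restrict j, V)) :
    GrTwist.sectN (𝒜 := 𝒜) N (op (j ''ᵁ V)) := s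

/-- Functions on `V ⊆ Y` as sections of the structure sheaf of `Proj` over the image. -/
noncomputable def toON {V : Y.Opens} (x : Γ(Y, V)) : GrTwist.O (𝒜 := 𝒜) (op (j ''ᵁ V)) :=
  (j.appIso V).inv.hom x

theorem genHom_app_val (V : Y.Opens) (x : Γ(Y, V)) (y : ↥(j ''ᵁ V)) :
    (((toSectN 𝒜 N j ((Scheme.Modules.Hom.app (genHom 𝒜 N hu hv hpq j hjv) V).hom x)).1 y :
      GrTwist.twistAt 𝒜 N y.1) : GrTwist.Loc 𝒜 y.1) =
    ((toON 𝒜 j x).1 y).val * Localization.mk u ⟨v, not_mem_of_mem_image 𝒜 j hjv V y⟩ := by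
  refine Eq.trans ?_ (GrTwist.coe_smul_val N y.1 ((toON 𝒜 j x).1 y)
    ((fracN 𝒜 N hu hv hpq (j ''ᵁ V) (not_mem_of_mem_image 𝒜 j hjv V)).1 y))
  rfl

include hju in
theorem isIso_genHom : IsIso (genHom 𝒜 N hu hv hpq j hjv) := by
  have h : ∀ V : Y.Opens, IsIso (Scheme.Modules.Hom.app (genHom 𝒜 N hu hv hpq j hjv) V) := by
    intro V
    have hrt1 : ∀ x : Γ(Y, V), (j.appIso V).hom.hom ((j.appIso V).inv.hom x) = x := fun x =>
      Iso.inv_hom_id_apply (j.appIso V) x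
    have hrt2 : ∀ r : Γ(Proj 𝒜, j ''ᵁ V), (j.appIso V).inv.hom ((j.appIso V).hom.hom r) = r :=
      fun r => Iso.hom_inv_id_apply (j.appIso V) r
    have hinj : ∀ x : Γ(Y, V),
        (Scheme.Modules.Hom.app (genHom 𝒜 N hu hv hpq j hjv) V).hom x = 0 → x = 0 := by
      intro x hx
      have h0 : toON 𝒜 j x = 0 := by
        apply Subtype.ext
        funext y
        refine eq_zero_of_val_mul_eq_zero 𝒜 y.1 (not_mem_of_mem_image 𝒜 j hjv V y)
          (not_mem_of_mem_image 𝒜 j hju V y) _ ?_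
        rw [← genHom_app_val 𝒜 N hu hv hpq j hjv V x y, hx]
        rfl
      have h2 : (j.appIso V).inv.hom x = 0 := h0
      rw [← hrt1 x, h2, map_zero]
    have hsurj : ∀ s : Γ((GrTwist.twist 𝒜 N).restrict j, V), ∃ x : Γ(Y, V),
        (Scheme.Modules.Hom.app (genHom 𝒜 N hu hv hpq j hjv) V).hom x = s := by
      intro s
      obtain ⟨r, hr⟩ := exists_eq_val_mul 𝒜 N hu hv hpq (j ''ᵁ V)
        (not_mem_of_mem_image 𝒜 j hjv V) (not_mem_of_mem_image 𝒜 j hju V) (toSectN 𝒜 N j s)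
      refine ⟨(j.appIso V).hom.hom r, ?_⟩
      have h1 : toON 𝒜 j ((j.appIso V).hom.hom r) = r := hrt2 r
      apply Subtype.ext
      funext y
      apply Subtype.ext
      refine (genHom_app_val 𝒜 N hu hv hpq j hjv V _ y).trans ?_
      rw [h1]
      exact (hr y).symm
    rw [ConcreteCategory.isIso_iff_bijective]
    constructor
    · refine (injective_iff_map_eq_zero
        (Scheme.Modules.Hom.app (genHom 𝒜 N hu hv hpq j hjv) V).hom).mpr (fun x hx => ?_)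
      exact hinj x hx
    · intro s
      exact hsurj s
  exact Scheme.Modules.Hom.isIso_iff_isIso_app.mpr h

include hu hv hpq hjv hju in
/-- **`O(N)` is trivial on any open where a fraction `u / v` of degree `N` is invertible.** -/
theorem nonempty_restrict_iso :
    Nonempty ((GrTwist.twist 𝒜 N).restrict j ≅ Coh.structureModule Y) := by
  have := isIso_genHom 𝒜 N hu hv hpq j hjv hju
  exact ⟨(asIso (genHom 𝒜 N hu hv hpq j hjv)).symm⟩

end sheaf

end Groth.Agent.Lib.Helper42.TwistTrivA
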