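import Groth.Agent.Lib.Helper42.RelTwistQCoh
import Groth.Agent.Lib.Helper42.TwistTrivA
import Groth.Agent.Lib.Helper42.GenDegOneIrr

/-!
# Invertibility of the relative twisting sheaves (`RelProj.IsRelTwist`) for algebras generated in degree one
-/

set_option autoImplicit false
universe u
open CategoryTheory CategoryTheory.Limits AlgebraicGeometry Opposite TopologicalSpace
open scoped HomogeneousIdeal
noncomputable section

namespace Groth.Agent.Lib.Helper42.RelTilde

section general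

theorem nonempty_iso_structureModule_of_restrict_iso {Z' Z : Scheme.{u}} (e : Z' ≅ Z) (M : Z.Modules)
    (i : M.restrict e.hom ≅ Coh.structureModule Z') : Nonempty (M ≅ Coh.structureModule Z) := by
  have he : e.inv ≫ e.hom = 𝟙 Z := e.inv_hom_id
  exact ⟨(Scheme.Modules.restrictFunctorId.app M).symm ≪≫
    ((Scheme.Modules.restrictFunctorCongr he).app M).symm ≪≫
    (Scheme.Modules.restrictFunctorComp e.inv e.hom).app M ≪≫
    (Scheme.Modules.restrictFunctor e.inv).mapIso i ≪≫ Scheme.Modules.restrictUnitIso e.inv⟩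

/-- if `L` restricted along an open immersion `j` is trivial, then `L` restricted to the range of `j` is trivial -/
theorem nonempty_restrict_opensRange_iso {X Y : Scheme.{u}} (j : Y ⟶ X) [IsOpenImmersion j] (L : X.Modules)
    (i : L.restrict j ≅ Coh.structureModule Y) :
    Nonempty (L.restrict j.opensRange.ι ≅ Coh.structureModule (j.opensRange : Scheme.{u})) := by
  let e : Y ≅ (j.opensRange : Scheme.{u}) := IsOpenImmersion.isoOfRangeEq j j.opensRange.ι (by simp)
  have he : e.hom ≫ j.opensRange.ι = j := by simp [e]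
  exact nonempty_iso_structureModule_of_restrict_iso e _
    (((Scheme.Modules.restrictFunctorComp e.hom j.opensRange.ι).app L).symm ≪≫
      (Scheme.Modules.restrictFunctorCongr he).app L ≪≫ i)

end general

section ring
variable {A σ : Type u} [CommRing A] [SetLike σ A] [AddSubgroupClass σ A] (𝒜 : ℕ → σ) [GradedRing 𝒜]

theorem exists_degOne_notMem (hgen : Subring.closure ((𝒜 0 : Set A) ∪ (𝒜 1 : Set A)) = ⊤)
    (y : ProjectiveSpectrum 𝒜) : ∃ f ∈ 𝒜 1, f ∉ y.asHomogeneousIdeal := by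
  by_contra hcon
  push Not at hcon
  apply y.not_irrelevant_le
  intro a ha
  have h1 := irrelevant_le_span_degOne hgen ha
  have h2 : Ideal.span (𝒜 1 : Set A) ≤ y.asHomogeneousIdeal.toIdeal :=
    Ideal.span_le.mpr fun f hf => hcon f hf
  exact h2 h1

/-- `O(n)` is trivial on `D₊(f)` for `f` of degree one -/
theorem nonempty_twist_restrict_basicOpen_iso (n : ℤ) {f : A} (hf : f ∈ 𝒜 1) :
    Nonempty ((GrTwist.twist 𝒜 n).restrict (Proj.basicOpen 𝒜 f).ι ≅
      Coh.structureModule ((Proj.basicOpen 𝒜 f : (Proj 𝒜).Opens) : Scheme.{u})) := by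
  have hnot : ∀ (k : ℕ) (z : ↑(Proj.basicOpen 𝒜 f)),
      f ^ k ∉ ((Proj.basicOpen 𝒜 f).ι.base z).asHomogeneousIdeal := by
    intro k z hmem
    have hz : f ∉ (z.1 : ProjectiveSpectrum 𝒜).asHomogeneousIdeal :=
      (Proj.mem_basicOpen 𝒜 f z.1).mp z.2
    exact hz ((z.1 : ProjectiveSpectrum 𝒜).isPrime.mem_of_pow_mem k hmem)
  exact TwistTrivA.nonempty_restrict_iso 𝒜 n
    (SetLike.pow_mem_graded n.toNat hf) (SetLike.pow_mem_graded (-n).toNat hf)
    (by simp only [smul_eq_mul, mul_one]; omega)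
    (Proj.basicOpen 𝒜 f).ι (hnot _) (hnot _)

end ring

section rel
variable {Y P : Scheme.{u}} {𝒮 : RelProj.QCGrAlg Y} {p : P ⟶ Y}
  {chart : ∀ (U : Y.Opens) (hU : IsAffineOpen U), (((p ⁻¹ᵁ U : P.Opens) : Scheme.{u}) ≅ Proj (𝒮.deg U hU))}
  {n : ℤ} {L : P.Modules}
  {lam : ∀ (U : Y.Opens) (hU : IsAffineOpen U),
      L ⟶ (Scheme.Modules.pushforward (RelProj.emb p chart U hU)).obj (GrTwist.twist (𝒮.deg U hU) n)}

theorem isInvertible_of_isRelTwist (hgen : 𝒮.IsGenDegOne) (hL : RelProj.IsRelTwist 𝒮 p chart n L lam) :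
    PicF.IsInvertible L := by
  intro x
  obtain ⟨U, hU, hxU⟩ := exists_affine_mem p x
  obtain ⟨y, rfl⟩ := exists_emb_eq (chart := chart) U hU hxU
  obtain ⟨f, hf1, hfy⟩ := exists_degOne_notMem (𝒮.deg U hU) (hgen U hU) y
  obtain ⟨e1⟩ := nonempty_twist_restrict_basicOpen_iso (𝒮.deg U hU) n hf1
  let D : (Proj (𝒮.deg U hU)).Opens := Proj.basicOpen (𝒮.deg U hU) f
  let j : (D : Scheme.{u}) ⟶ P := D.ι ≫ RelProj.emb p chart U hU
  have e2 : L.restrict j ≅ Coh.structureModule (D : Scheme.{u}) :=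
    (Scheme.Modules.restrictFunctorComp D.ι (RelProj.emb p chart U hU)).app L ≪≫
      (Scheme.Modules.restrictFunctor D.ι).mapIso (chartIsoTwist hL U hU) ≪≫ e1
  refine ⟨j.opensRange, ⟨⟨y, hfy⟩, rfl⟩, ?_⟩
  exact nonempty_restrict_opensRange_iso j L e2

end rel

end Groth.Agent.Lib.Helper42.RelTilde
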