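import Groth.Agent.Lib.Helper42.RelTwistInv

/-!
# Periodic invertibility of relative twisting sheaves on quasi-compact opens (helper42; S8290)
-/

set_option autoImplicit false
universe u
open CategoryTheory CategoryTheory.Limits AlgebraicGeometry Opposite TopologicalSpace
open scoped HomogeneousIdeal
noncomputable section

namespace Groth.Agent.Lib.Helper42.RelTilde

section general

/-- triviality along an open immersion passes to any open immersion with smaller range -/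
theorem nonempty_restrict_iso_of_range_subset {X Z D : Scheme.{u}} (j : D ⟶ X) [IsOpenImmersion j]
    (k : Z ⟶ X) [IsOpenImmersion k] (h : Set.range k.base ⊆ Set.range j.base) (L : X.Modules)
    (i : L.restrict j ≅ Coh.structureModule D) : Nonempty (L.restrict k ≅ Coh.structureModule Z) := by
  let l : Z ⟶ D := IsOpenImmersion.lift j k h
  have hl : l ≫ j = k := IsOpenImmersion.lift_fac j k h
  have : IsOpenImmersion (l ≫ j) := by rw [hl]; infer_instance
  have : IsOpenImmersion l := IsOpenImmersion.of_comp l j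
  exact ⟨((Scheme.Modules.restrictFunctorCongr hl).app L).symm ≪≫
    (Scheme.Modules.restrictFunctorComp l j).app L ≪≫
    (Scheme.Modules.restrictFunctor l).mapIso i ≪≫ Scheme.Modules.restrictUnitIso l⟩

theorem isInvertible_restrict_of_forall {X : Scheme.{u}} (L : X.Modules) (U : X.Opens)
    (h : ∀ x ∈ U, ∃ (D : Scheme.{u}) (j : D ⟶ X) (_ : IsOpenImmersion j), x ∈ Set.range j.base ∧
      Nonempty (L.restrict j ≅ Coh.structureModule D)) :
    PicF.IsInvertible (L.restrict U.ι) := by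
  intro y
  obtain ⟨D, j, hj, hxj, ⟨i⟩⟩ := h y.1 y.2
  refine ⟨U.ι ⁻¹ᵁ j.opensRange, hxj, ?_⟩
  have hr : Set.range ((U.ι ⁻¹ᵁ j.opensRange).ι ≫ U.ι).base ⊆ Set.range j.base := by
    rintro _ ⟨z, rfl⟩
    exact z.2
  obtain ⟨e⟩ := nonempty_restrict_iso_of_range_subset j ((U.ι ⁻¹ᵁ j.opensRange).ι ≫ U.ι) hr L i
  exact ⟨((Scheme.Modules.restrictFunctorComp (U.ι ⁻¹ᵁ j.opensRange).ι U.ι).app L).symm ≪≫ e⟩

end general

section ring
variable {A σ : Type u} [CommRing A] [SetLike σ A] [AddSubgroupClass σ A] (𝒜 : ℕ → σ) [GradedRing 𝒜]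

/-- `O(m e)` is trivial on `D₊(f)` for `f` of degree `e` -/
theorem nonempty_twist_restrict_basicOpen_iso_of_dvd (n : ℤ) {e : ℕ} {f : A} (hf : f ∈ 𝒜 e)
    (hdvd : (e : ℤ) ∣ n) :
    Nonempty ((GrTwist.twist 𝒜 n).restrict (Proj.basicOpen 𝒜 f).ι ≅
      Coh.structureModule ((Proj.basicOpen 𝒜 f : (Proj 𝒜).Opens) : Scheme.{u})) := by
  obtain ⟨m, rfl⟩ := hdvd
  have hnot : ∀ (k : ℕ) (z : ↑(Proj.basicOpen 𝒜 f)),
      f ^ k ∉ ((Proj.basicOpen 𝒜 f).ι.base z).asHomogeneousIdeal := by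
    intro k z hmem
    have hz : f ∉ (z.1 : ProjectiveSpectrum 𝒜).asHomogeneousIdeal :=
      (Proj.mem_basicOpen 𝒜 f z.1).mp z.2
    exact hz ((z.1 : ProjectiveSpectrum 𝒜).isPrime.mem_of_pow_mem k hmem)
  refine TwistTrivA.nonempty_restrict_iso 𝒜 (e * m)
    (SetLike.pow_mem_graded m.toNat hf) (SetLike.pow_mem_graded (-m).toNat hf)
    ?_ (Proj.basicOpen 𝒜 f).ι (hnot _) (hnot _)
  have h1 : ((m.toNat : ℤ)) - (((-m).toNat : ℕ) : ℤ) = m := Int.toNat_sub_toNat_neg m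
  simp only [smul_eq_mul]
  push_cast
  linear_combination (e : ℤ) * h1

end ring

section rel
variable {Y P : Scheme.{u}} {𝒮 : RelProj.QCGrAlg Y} {p : P ⟶ Y}
  {chart : ∀ (U : Y.Opens) (hU : IsAffineOpen U), (((p ⁻¹ᵁ U : P.Opens) : Scheme.{u}) ≅ Proj (𝒮.deg U hU))}

theorem exists_period_isInvertible (U : P.Opens) (hU : IsCompact (U : Set P)) :
    ∃ d : ℕ, 0 < d ∧ ∀ (n : ℤ), (d : ℤ) ∣ n →
      ∀ (L : P.Modules)
        (lam : ∀ (V : Y.Opens) (hV : IsAffineOpen V),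
          L ⟶ (Scheme.Modules.pushforward (RelProj.emb p chart V hV)).obj (GrTwist.twist (𝒮.deg V hV) n)),
        RelProj.IsRelTwist 𝒮 p chart n L lam → PicF.IsInvertible (L.restrict U.ι) := by
  classical
  have hdata : ∀ x : P, ∃ (V : Y.Opens) (hV : IsAffineOpen V) (d : ℕ) (_ : 0 < d) (f : 𝒮.presheaf.obj (op V))
      (_ : f ∈ 𝒮.deg V hV d),
      x ∈ ((Proj.basicOpen (𝒮.deg V hV) f).ι ≫ RelProj.emb p chart V hV).opensRange := by
    intro x
    obtain ⟨V, hV, hxV⟩ := exists_affine_mem p x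
    obtain ⟨y, rfl⟩ := exists_emb_eq (chart := chart) V hV hxV
    obtain ⟨d, hd, f, hf, hfy⟩ := exists_pos_notMem (𝒜 := 𝒮.deg V hV) y
    exact ⟨V, hV, d, hd, f, hf, ⟨⟨y, hfy⟩, rfl⟩⟩
  choose V hV d hd f hf hx using hdata
  obtain ⟨t, ht⟩ := hU.elim_finite_subcover
    (fun x : P => ((((Proj.basicOpen (𝒮.deg (V x) (hV x)) (f x)).ι ≫
      RelProj.emb p chart (V x) (hV x)).opensRange : P.Opens) : Set P))
    (fun x => (Opens.isOpen _)) (fun x _ => Set.mem_iUnion.mpr ⟨x, hx x⟩)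
  refine ⟨∏ x ∈ t, d x, Finset.prod_pos fun x _ => hd x, fun n hn L lam hL => ?_⟩
  refine isInvertible_restrict_of_forall L U fun x hxU => ?_
  obtain ⟨z, hz⟩ := Set.mem_iUnion.mp (ht hxU)
  obtain ⟨hzt, hxz⟩ := Set.mem_iUnion.mp hz
  have hdvd : (d z : ℤ) ∣ n := (Int.natCast_dvd_natCast.mpr (Finset.dvd_prod_of_mem d hzt)).trans hn
  obtain ⟨e1⟩ := nonempty_twist_restrict_basicOpen_iso_of_dvd (𝒮.deg (V z) (hV z)) n (hf z) hdvd
  let D : (Proj (𝒮.deg (V z) (hV z))).Opens := Proj.basicOpen (𝒮.deg (V z) (hV z)) (f z)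
  let j : (D : Scheme.{u}) ⟶ P := D.ι ≫ RelProj.emb p chart (V z) (hV z)
  have e2 : L.restrict j ≅ Coh.structureModule (D : Scheme.{u}) :=
    (Scheme.Modules.restrictFunctorComp D.ι (RelProj.emb p chart (V z) (hV z))).app L ≪≫
      (Scheme.Modules.restrictFunctor D.ι).mapIso (chartIsoTwist hL (V z) (hV z)) ≪≫ e1
  exact ⟨D, j, inferInstance, hxz, ⟨e2⟩⟩

end rel

end Groth.Agent.Lib.Helper42.RelTilde
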