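import Groth.Agent.Lib.Helper42.RelTwistTensor
import Groth.Agent.Lib.Helper42.RelTwistPeriod
import Groth.Agent.Lib.Helper11.RestrictTensor

/-!
# `O_X(n)|U ⊗ O_X(-n)|U ≅ O_U` on a quasi-compact open of a relative Proj, for `n` divisible by a period
(helper42; S8340)
-/

set_option autoImplicit false
universe u
open CategoryTheory CategoryTheory.Limits AlgebraicGeometry Opposite TopologicalSpace
open scoped HomogeneousIdeal
noncomputable section

namespace Groth.Agent.Lib.Helper42.RelTwistInverse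

open Groth.Agent.Lib.Helper42.RelTilde Groth.Agent.Lib.Helper45 Groth.Agent.Lib.Helper49
  Groth.Agent.Lib.Helper42.RelTwistBasis Groth.Agent.Lib.Helper42.RelTwistComap
  Groth.Agent.Lib.Helper42.RelTwistFrac Groth.Agent.Lib.Helper11.GenLocus
  Groth.Agent.Lib.Helper42.RelTwistTensor

variable {Y P : Scheme.{u}} {𝒮 : RelProj.QCGrAlg Y} {p : P ⟶ Y}
  {chart : ∀ (U : Y.Opens) (hU : IsAffineOpen U), (((p ⁻¹ᵁ U : P.Opens) : Scheme.{u}) ≅ Proj (𝒮.deg U hU))}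
  {N₁ N₂ : ℤ} {L₁ L₂ : P.Modules}
  {lam₁ : ∀ (U : Y.Opens) (hU : IsAffineOpen U),
      L₁ ⟶ (Scheme.Modules.pushforward (RelProj.emb p chart U hU)).obj (GrTwist.twist (𝒮.deg U hU) N₁)}
  {lam₂ : ∀ (U : Y.Opens) (hU : IsAffineOpen U),
      L₂ ⟶ (Scheme.Modules.pushforward (RelProj.emb p chart U hU)).obj (GrTwist.twist (𝒮.deg U hU) N₂)}

theorem mk_mul_comm_eq_one {A : Type u} [CommRing A] (S : Submonoid A) (a b : A) (_ha : a ∈ S) (_hb : b ∈ S)
    (hab : a * b ∈ S) (hba : b * a ∈ S) :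
    (Localization.mk (a * b) ⟨b * a, hba⟩ : Localization S) = 1 := by
  have : (⟨b * a, hba⟩ : S) = ⟨a * b, hab⟩ := Subtype.ext (mul_comm b a)
  rw [this]
  exact Localization.mk_self (⟨a * b, hab⟩ : S)

/-- inverse readings have inverse transition coefficients (one chart) -/
theorem coef_mul_eq_one_chart {U : Y.Opens} {hU : IsAffineOpen U} {W : P.Opens} (hW : W ≤ p ⁻¹ᵁ U)
    {e₁ e₁' : Γ(L₁, W)} {e₂ e₂' : Γ(L₂, W)} {u v u' v' : 𝒮.presheaf.obj (op U)}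
    (h₁ : ReadsFrac lam₁ U hU W e₁ u v) (h₁' : ReadsFrac lam₁ U hU W e₁' u' v')
    (h₂ : ReadsFrac lam₂ U hU W e₂ v u) (h₂' : ReadsFrac lam₂ U hU W e₂' v' u')
    (hv : ∀ y : ProjectiveSpectrum (𝒮.deg U hU), (RelProj.emb p chart U hU).base y ∈ W →
      u ∉ y.asHomogeneousIdeal ∧ v ∉ y.asHomogeneousIdeal ∧ u' ∉ y.asHomogeneousIdeal ∧
        v' ∉ y.asHomogeneousIdeal)
    (c₁ c₂ : Γ(P, W)) (hc₁ : e₁ = c₁ • e₁') (hc₂ : e₂ = c₂ • e₂') :
    c₁ * c₂ = 1 := by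
  apply (toOc_bijective (chart := chart) U hU W hW).injective
  have h1 : toOc (chart := chart) U hU W 1 = 1 := map_one ((RelProj.emb p chart U hU).app W).hom
  rw [h1]
  apply Subtype.ext
  funext y
  apply HomogeneousLocalization.val_injective
  obtain ⟨hu, hv0, hu', hv0'⟩ := hv y.1 y.2
  have hvu : v * u ∉ y.1.asHomogeneousIdeal := fun hmem => (y.1.isPrime.mem_or_mem hmem).elim hv0 hu
  have hvu' : v' * u' ∉ y.1.asHomogeneousIdeal := fun hmem => (y.1.isPrime.mem_or_mem hmem).elim hv0' hu'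
  have huv : u * v ∉ y.1.asHomogeneousIdeal := fun hmem => (y.1.isPrime.mem_or_mem hmem).elim hu hv0
  have huv' : u' * v' ∉ y.1.asHomogeneousIdeal := fun hmem => (y.1.isPrime.mem_or_mem hmem).elim hu' hv0'
  have key := ReadsFrac.mk_mul_eq h₁ h₁' h₂ h₂' c₁ c₂ hc₁ hc₂ y.1 y.2 hv0 hv0' hu hu' hvu hvu'
  rw [mk_mul_comm_eq_one _ u v hu hv0 huv hvu, mk_mul_comm_eq_one _ u' v' hu' hv0' huv' hvu', mul_one] at key
  refine key.symm.trans ?_
  exact (HomogeneousLocalization.val_one (𝒜 := 𝒮.deg U hU)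
    (x := y.1.asHomogeneousIdeal.toIdeal.primeCompl)).symm

theorem fun_ext_of_locally {X : Scheme.{u}} {W : X.Opens} {a b : Γ(X, W)}
    (h : ∀ x ∈ W, ∃ V : X.Opens, ∃ hV : V ≤ W, x ∈ V ∧ fres hV a = fres hV b) : a = b := by
  have := ModLocal.section_ext (Coh.structureModule X) (W := W) (s := toO W a) (t := toO W b) (by
    intro x hx
    obtain ⟨V, hV, hxV, e⟩ := h x hx
    exact ⟨V, hV, hxV, e⟩)
  exact this

/-- inverse readings have inverse transition coefficients (two charts) -/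
theorem coef_mul_eq_one (hP : RelProj.IsRelProj 𝒮 p chart)
    (hL₁ : RelProj.IsRelTwist 𝒮 p chart N₁ L₁ lam₁) (hL₂ : RelProj.IsRelTwist 𝒮 p chart N₂ L₂ lam₂)
    {U U' : Y.Opens} {hU : IsAffineOpen U} {hU' : IsAffineOpen U'} {W : P.Opens}
    (hW : W ≤ p ⁻¹ᵁ U) (hW' : W ≤ p ⁻¹ᵁ U')
    {e₁ e₁' : Γ(L₁, W)} {e₂ e₂' : Γ(L₂, W)}
    {u v : 𝒮.presheaf.obj (op U)} {u' v' : 𝒮.presheaf.obj (op U')}
    (h₁ : ReadsFrac lam₁ U hU W e₁ u v) (h₁' : ReadsFrac lam₁ U' hU' W e₁' u' v')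
    (h₂ : ReadsFrac lam₂ U hU W e₂ v u) (h₂' : ReadsFrac lam₂ U' hU' W e₂' v' u')
    (hu : ∀ y : ProjectiveSpectrum (𝒮.deg U hU), (RelProj.emb p chart U hU).base y ∈ W → u ∉ y.asHomogeneousIdeal)
    (hv : ∀ y : ProjectiveSpectrum (𝒮.deg U hU), (RelProj.emb p chart U hU).base y ∈ W → v ∉ y.asHomogeneousIdeal)
    (hu' : ∀ y : ProjectiveSpectrum (𝒮.deg U' hU'), (RelProj.emb p chart U' hU').base y ∈ W →
      u' ∉ y.asHomogeneousIdeal)
    (hv' : ∀ y : ProjectiveSpectrum (𝒮.deg U' hU'), (RelProj.emb p chart U' hU').base y ∈ W →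
      v' ∉ y.asHomogeneousIdeal)
    (c₁ c₂ : Γ(P, W)) (hc₁ : e₁ = c₁ • e₁') (hc₂ : e₂ = c₂ • e₂') :
    c₁ * c₂ = 1 := by
  refine fun_ext_of_locally fun x hx => ?_
  obtain ⟨r, r', hrr', hxr⟩ := exists_basicOpen_le_affine_inter hU hU' (p.base x) ⟨hW hx, hW' hx⟩
  have hle' : Y.basicOpen r ≤ U' := hrr' ▸ Y.basicOpen_le r'
  have hleW : W ⊓ p ⁻¹ᵁ (Y.basicOpen r) ≤ W := inf_le_left
  refine ⟨W ⊓ p ⁻¹ᵁ (Y.basicOpen r), hleW, ⟨hx, hxr⟩, ?_⟩
  rw [map_mul, map_one]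
  have hD := hU.basicOpen r
  refine coef_mul_eq_one_chart (U := Y.basicOpen r) (hU := hD) inf_le_right
    ((h₁.basic hP hL₁ r).mres hleW) ((h₁'.restrict hP hL₁ r' _ hD hrr' hle').mres hleW)
    ((h₂.basic hP hL₂ r).mres hleW) ((h₂'.restrict hP hL₂ r' _ hD hrr' hle').mres hleW)
    ?_ (fres hleW c₁) (fres hleW c₂) ?_ ?_
  · intro y hy
    exact ⟨notMem_res_of hP r _ hD rfl _ hu y (hleW hy), notMem_res_of hP r _ hD rfl _ hv y (hleW hy),
      notMem_res_of hP r' _ hD hrr' hle' hu' y (hleW hy), notMem_res_of hP r' _ hD hrr' hle' hv' y (hleW hy)⟩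
  · rw [hc₁, mres_smul]
  · rw [hc₂, mres_smul]

/-- gluing a global basis over `U` from local bases agreeing on overlaps -/
theorem exists_isBasisOn_of_cover {X : Scheme.{u}} (M : X.Modules) {ι : Type u} (V : ι → X.Opens) (U : X.Opens)
    (hcov : U ≤ ⨆ i, V i) (τ : ∀ i, Γ(M, V i)) (hτ : ∀ i, IsBasisOn M (V i) (τ i))
    (hcompat : ∀ i j, mres M (inf_le_left : V i ⊓ V j ≤ V i) (τ i) = mres M (inf_le_right : V i ⊓ V j ≤ V j) (τ j)) :
    ∃ t : Γ(M, U), IsBasisOn M U t := by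
  have hcov' : U ≤ ⨆ i, V i ⊓ U := by
    intro x hx
    obtain ⟨i, hi⟩ := Opens.mem_iSup.mp (hcov hx)
    exact Opens.mem_iSup.mpr ⟨i, ⟨hi, hx⟩⟩
  obtain ⟨t, ht, -⟩ := TopCat.Sheaf.existsUnique_gluing' ⟨M.presheaf, M.isSheaf⟩
    (fun i => V i ⊓ U) U (fun i => homOfLE inf_le_right) hcov'
    (fun i => mres M (inf_le_left : V i ⊓ U ≤ V i) (τ i)) (by
      intro i j
      change mres M inf_le_left (mres M inf_le_left (τ i)) = mres M inf_le_right (mres M inf_le_left (τ j))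
      rw [mres_mres, mres_mres]
      have hle : (V i ⊓ U) ⊓ (V j ⊓ U) ≤ V i ⊓ V j := fun x hx => ⟨hx.1.1, hx.2.1⟩
      have := congrArg (mres M hle) (hcompat i j)
      rw [mres_mres, mres_mres] at this
      exact this)
  refine ⟨t, IsBasisOn.of_cover (fun i => V i ⊓ U) U (fun i => inf_le_right) hcov' t fun i => ?_⟩
  have h1 : mres M (inf_le_right : V i ⊓ U ≤ U) t = mres M (inf_le_left : V i ⊓ U ≤ V i) (τ i) := ht i
  rw [h1]
  exact (hτ i).mono inf_le_left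

/-- a module with a basis over `U` is trivial on `U` -/
theorem nonempty_restrict_iso_of_isBasisOn {X : Scheme.{u}} (M : X.Modules) (U : X.Opens) (t : Γ(M, U))
    (ht : IsBasisOn M U t) : Nonempty (M.restrict U.ι ≅ Coh.structureModule (U : Scheme.{u})) := by
  have hle : U.ι ''ᵁ ⊤ ≤ U := le_of_eq U.ι_image_top
  have hb' : IsBasisOn (M.restrict U.ι) ⊤ (show Γ(M.restrict U.ι, ⊤) from mres M hle t) :=
    isBasisOn_restrict U ⊤ (mres M hle t) (ht.mono hle)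
  have := Groth.Agent.Lib.Helper11.PullbackBasis.isIso_homOfSection_of_isBasisOn _ hb'
  exact ⟨(asIso (homOfSection (M.restrict U.ι) (show Γ(M.restrict U.ι, ⊤) from mres M hle t))).symm⟩

theorem exists_period_tensor_iso (hP : RelProj.IsRelProj 𝒮 p chart) (U : P.Opens) (hU : IsCompact (U : Set P)) :
    ∃ d : ℕ, 0 < d ∧ ∀ (n : ℤ), (d : ℤ) ∣ n →
      ∀ (L : P.Modules)
        (lam : ∀ (V : Y.Opens) (hV : IsAffineOpen V),
          L ⟶ (Scheme.Modules.pushforward (RelProj.emb p chart V hV)).obj (GrTwist.twist (𝒮.deg V hV) n)),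
        RelProj.IsRelTwist 𝒮 p chart n L lam →
      ∀ (L' : P.Modules)
        (lam' : ∀ (V : Y.Opens) (hV : IsAffineOpen V),
          L' ⟶ (Scheme.Modules.pushforward (RelProj.emb p chart V hV)).obj (GrTwist.twist (𝒮.deg V hV) (-n))),
        RelProj.IsRelTwist 𝒮 p chart (-n) L' lam' →
          Nonempty (CohB1.tensorMod (L.restrict U.ι) (L'.restrict U.ι) ≅ Coh.structureModule (U : Scheme.{u})) := by
  classical
  have hdata : ∀ x : P, ∃ (V : Y.Opens) (hV : IsAffineOpen V) (d : ℕ) (_ : 0 < d) (f : 𝒮.presheaf.obj (op V))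
      (_ : f ∈ 𝒮.deg V hV d),
      x ∈ (RelProj.emb p chart V hV) ''ᵁ (Proj.basicOpen (𝒮.deg V hV) f) := by
    intro x
    obtain ⟨V, hV, hxV⟩ := exists_affine_mem p x
    obtain ⟨y, rfl⟩ := exists_emb_eq (chart := chart) V hV hxV
    obtain ⟨d, hd, f, hf, hfy⟩ := exists_pos_notMem (𝒜 := 𝒮.deg V hV) y
    exact ⟨V, hV, d, hd, f, hf, ⟨y, (ProjectiveSpectrum.mem_basicOpen _ _ _).mpr hfy, rfl⟩⟩
  choose V hV d hd f hf hx using hdata
  obtain ⟨t, ht⟩ := hU.elim_finite_subcover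
    (fun x : P => (((RelProj.emb p chart (V x) (hV x)) ''ᵁ
      (Proj.basicOpen (𝒮.deg (V x) (hV x)) (f x)) : P.Opens) : Set P))
    (fun x => (Opens.isOpen _)) (fun x _ => Set.mem_iUnion.mpr ⟨x, hx x⟩)
  refine ⟨∏ x ∈ t, d x, Finset.prod_pos fun x _ => hd x, fun n hn L lam hL L' lam' hL' => ?_⟩
  -- the opens of the cover
  let VV : (↥t) → P.Opens := fun z => (RelProj.emb p chart (V z.1) (hV z.1)) ''ᵁ
      (Proj.basicOpen (𝒮.deg (V z.1) (hV z.1)) (f z.1))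
  have hVV_le : ∀ z : ↥t, VV z ≤ p ⁻¹ᵁ (V z.1) := by
    intro z
    rw [← RelTilde.opensRange_emb (chart := chart) (V z.1) (hV z.1)]
    rintro _ ⟨y, -, rfl⟩
    exact ⟨y, rfl⟩
  have hnot : ∀ (z : ↥t) (k : ℕ) (y : ProjectiveSpectrum (𝒮.deg (V z.1) (hV z.1))),
      (RelProj.emb p chart (V z.1) (hV z.1)).base y ∈ VV z → f z.1 ^ k ∉ y.asHomogeneousIdeal := by
    rintro z k y ⟨y', hy', e⟩ hmem
    have : y' = y := (RelProj.emb p chart (V z.1) (hV z.1)).isOpenEmbedding.injective e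
    subst this
    exact (ProjectiveSpectrum.mem_basicOpen _ _ _).mp hy' (y'.isPrime.mem_of_pow_mem k hmem)
  have hdvd : ∀ z : ↥t, ∃ k : ℤ, n = (d z.1 : ℤ) * k := fun z =>
    (Int.natCast_dvd_natCast.mpr (Finset.dvd_prod_of_mem d z.2)).trans hn
  choose k hk using hdvd
  have hpow : ∀ (z : ↥t) (j : ℕ), f z.1 ^ j ∈ 𝒮.deg (V z.1) (hV z.1) (j * d z.1) := fun z j => by
    have := SetLike.pow_mem_graded j (hf z.1)
    rwa [smul_eq_mul] at this
  have hab₁ : ∀ z : ↥t, (((k z).toNat * d z.1 : ℕ) : ℤ) = ((-(k z)).toNat * d z.1 : ℕ) + n := by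
    intro z
    have h1 := toNat_eq (k z)
    rw [hk z]
    push_cast
    linear_combination (d z.1 : ℤ) * h1
  have hab₂ : ∀ z : ↥t, (((-(k z)).toNat * d z.1 : ℕ) : ℤ) = ((k z).toNat * d z.1 : ℕ) + (-n) := by
    intro z
    have := hab₁ z
    linarith
  choose e₁ hb₁ hr₁ using fun z : ↥t => exists_basis_readsFrac hL (V z.1) (hV z.1)
    (hpow z _) (hpow z _) (hab₁ z) (VV z) (hVV_le z) (hnot z _) (hnot z _)
  choose e₂ hb₂ hr₂ using fun z : ↥t => exists_basis_readsFrac hL' (V z.1) (hV z.1)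
    (hpow z _) (hpow z _) (hab₂ z) (VV z) (hVV_le z) (hnot z _) (hnot z _)
  have hcov : U ≤ ⨆ z : ↥t, VV z := by
    intro x hxU
    obtain ⟨z, hz⟩ := Set.mem_iUnion.mp (ht hxU)
    obtain ⟨hzt, hxz⟩ := Set.mem_iUnion.mp hz
    exact Opens.mem_iSup.mpr ⟨⟨z, hzt⟩, hxz⟩
  obtain ⟨τ, hτ⟩ := exists_isBasisOn_of_cover (CohB1.tensorMod L L') VV U hcov
    (fun z => tm L L' (VV z) (e₁ z) (e₂ z)) (fun z => isBasisOn_tm (hb₁ z) (hb₂ z)) (by
      intro z z'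
      obtain ⟨c₁, hc₁⟩ := ((hb₁ z').mono (inf_le_right : VV z ⊓ VV z' ≤ VV z')).exists_eq_smul
        (mres L (inf_le_left : VV z ⊓ VV z' ≤ VV z) (e₁ z))
      obtain ⟨c₂, hc₂⟩ := ((hb₂ z').mono (inf_le_right : VV z ⊓ VV z' ≤ VV z')).exists_eq_smul
        (mres L' (inf_le_left : VV z ⊓ VV z' ≤ VV z) (e₂ z))
      have h1 := coef_mul_eq_one hP hL hL' (inf_le_left.trans (hVV_le z)) (inf_le_right.trans (hVV_le z'))
        ((hr₁ z).mres inf_le_left) ((hr₁ z').mres inf_le_right)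
        ((hr₂ z).mres inf_le_left) ((hr₂ z').mres inf_le_right)
        (fun y hy => hnot z _ y hy.1) (fun y hy => hnot z _ y hy.1)
        (fun y hy => hnot z' _ y hy.2) (fun y hy => hnot z' _ y hy.2) c₁ c₂ hc₁.symm hc₂.symm
      rw [tm_res, tm_res, ← hc₁, ← hc₂, tm_smul_left, tm_smul_right, smul_smul, h1, one_smul])
  obtain ⟨i1⟩ := nonempty_restrict_iso_of_isBasisOn (CohB1.tensorMod L L') U τ hτ
  exact ⟨Groth.Agent.Lib.Helper11.GenLocus.restrictTensorIso U.ι L L' ≪≫ i1⟩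

end Groth.Agent.Lib.Helper42.RelTwistInverse
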