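import Groth.Agent.Lib.Helper42.RelTwistXf

/-!
# Pullback of the relative twisting sheaf along the morphism of relative Proj's induced by a graded homomorphism
(helper42; S8287): the adjoint of the comparison map is an isomorphism when the source algebra is generated in degree one
-/

set_option autoImplicit false
universe u
open CategoryTheory CategoryTheory.Limits AlgebraicGeometry Opposite TopologicalSpace
open scoped HomogeneousIdeal
noncomputable section

namespace Groth.Agent.Lib.Helper42.RelTwistPull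

open Groth.Agent.Lib.Helper42.RelTilde Groth.Agent.Lib.Helper45 Groth.Agent.Lib.Helper49
  Groth.Agent.Lib.Helper42.RelTwistBasis Groth.Agent.Lib.Helper42 Groth.Agent.Lib.Helper42.RelTwistComap
  Groth.Agent.Lib.Helper11.PullbackBasis

section general
variable {X : Scheme.{u}}

/-- a morphism of modules carrying a local basis to a local basis is bijective on sections over smaller opens -/
theorem bijective_app_of_isBasisOn {F G : X.Modules} (φ : F ⟶ G) {V : X.Opens} {e : Γ(F, V)}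
    (he : IsBasisOn F V e) (he' : IsBasisOn G V (φ.app V e)) (W : X.Opens) (hW : W ≤ V) :
    Function.Bijective (φ.app W) := by
  have h1 := he W hW
  have h2 := he' W hW
  have hcomp : (fun r : Γ(X, W) => r • mres G hW (φ.app V e)) =
      (φ.app W) ∘ (fun r : Γ(X, W) => r • mres F hW e) := by
    funext r
    change _ = φ.app W (r • mres F hW e)
    rw [Scheme.Modules.Hom.app_smul]
    congr 1
    exact (ModLocal.app_res φ hW e).symm
  rw [hcomp] at h2
  exact (Function.Bijective.of_comp_iff _ h1).mp h2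

end general

section sect
variable {Y P : Scheme.{u}} {𝒮 : RelProj.QCGrAlg Y} {p : P ⟶ Y}
  {chart : ∀ (U : Y.Opens) (hU : IsAffineOpen U), (((p ⁻¹ᵁ U : P.Opens) : Scheme.{u}) ≅ Proj (𝒮.deg U hU))}
  {n : ℤ} {L : P.Modules}
  {lam : ∀ (U : Y.Opens) (hU : IsAffineOpen U),
      L ⟶ (Scheme.Modules.pushforward (RelProj.emb p chart U hU)).obj (GrTwist.twist (𝒮.deg U hU) n)}

theorem exists_section_val (hL : RelProj.IsRelTwist 𝒮 p chart n L lam) (U : Y.Opens) (hU : IsAffineOpen U)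
    {a b : ℕ} {u v : 𝒮.presheaf.obj (op U)} (hu : u ∈ 𝒮.deg U hU a) (hv : v ∈ 𝒮.deg U hU b)
    (hab : (a : ℤ) = b + n) (V : P.Opens) (hV : V ≤ p ⁻¹ᵁ U)
    (hVv : ∀ y : ProjectiveSpectrum (𝒮.deg U hU), (RelProj.emb p chart U hU).base y ∈ V → v ∉ y.asHomogeneousIdeal) :
    ∃ e : Γ(L, V), ∀ (y : ProjectiveSpectrum (𝒮.deg U hU)) (hy : (RelProj.emb p chart U hU).base y ∈ V),
      GrTwist.val (V := RelProj.emb p chart U hU ⁻¹ᵁ V) ((lam U hU).app V e) ⟨y, hy⟩ =
        Localization.mk u ⟨v, hVv y hy⟩ := by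
  have hnot : ∀ z : (RelProj.emb p chart U hU ⁻¹ᵁ V : (Proj (𝒮.deg U hU)).Opens),
      v ∉ z.1.asHomogeneousIdeal := fun z => hVv z.1 z.2
  let τ : Γ(GrTwist.twist (𝒮.deg U hU) n, RelProj.emb p chart U hU ⁻¹ᵁ V) :=
    TwistTrivA.fracN (𝒮.deg U hU) n hu hv hab _ hnot
  obtain ⟨t, ht⟩ := (hL.bijective U hU V hV).surjective τ
  refine ⟨t, fun y hy => ?_⟩
  have h5 := congrArg (fun σ => GrTwist.val (V := RelProj.emb p chart U hU ⁻¹ᵁ V) σ ⟨y, hy⟩) ht
  refine h5.trans ?_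
  exact TwistTrivA.fracN_val (𝒮.deg U hU) n hu hv hab _ hnot ⟨y, hy⟩

end sect

section rel
variable {Y PA PB : Scheme.{u}} {𝒜 ℬ : RelProj.QCGrAlg Y}
    {φ : 𝒜.toQCAlg ⟶ ℬ.toQCAlg} {hφ : RelProj.IsGradedHom φ}
    {hirr : ∀ (U : Y.Opens) (hU : IsAffineOpen U),
      (ℬ.deg U hU)₊ ≤ ((𝒜.deg U hU)₊).map (RelProj.gradedHomAt φ hφ U hU)}
    {pA : PA ⟶ Y} {pB : PB ⟶ Y}
    {chartA : ∀ (U : Y.Opens) (hU : IsAffineOpen U), (((pA ⁻¹ᵁ U : PA.Opens) : Scheme.{u}) ≅ Proj (𝒜.deg U hU))}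
    {chartB : ∀ (U : Y.Opens) (hU : IsAffineOpen U), (((pB ⁻¹ᵁ U : PB.Opens) : Scheme.{u}) ≅ Proj (ℬ.deg U hU))}
    {h : PB ⟶ PA} (hh : RelProj.IsRelProjMap φ hφ hirr chartA chartB h) {n : ℤ}
    {LA : PA.Modules}
    {lamA : ∀ (U : Y.Opens) (hU : IsAffineOpen U),
      LA ⟶ (Scheme.Modules.pushforward (RelProj.emb pA chartA U hU)).obj (GrTwist.twist (𝒜.deg U hU) n)}
    {LB : PB.Modules}
    {lamB : ∀ (U : Y.Opens) (hU : IsAffineOpen U),
      LB ⟶ (Scheme.Modules.pushforward (RelProj.emb pB chartB U hU)).obj (GrTwist.twist (ℬ.deg U hU) n)}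

include hh in
theorem isIso_adjoint (hA : RelProj.IsRelProj 𝒜 pA chartA) (hB : RelProj.IsRelProj ℬ pB chartB)
    (hgen : 𝒜.IsGenDegOne)
    (hLA : RelProj.IsRelTwist 𝒜 pA chartA n LA lamA) (hLB : RelProj.IsRelTwist ℬ pB chartB n LB lamB)
    (θ : LA ⟶ (Scheme.Modules.pushforward h).obj LB)
    (hθ : ∀ (U : Y.Opens) (hU : IsAffineOpen U), θ ≫ lamT lamB h U hU = kapT hh lamA U hU) :
    IsIso (((Scheme.Modules.pullbackPushforwardAdjunction h).homEquiv _ _).symm θ) := by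
  set θ' := ((Scheme.Modules.pullbackPushforwardAdjunction h).homEquiv _ _).symm θ with hθ'
  have hadj : (Scheme.Modules.pullbackPushforwardAdjunction h).unit.app LA ≫
      (Scheme.Modules.pushforward h).map θ' = θ := by
    have := (Scheme.Modules.pullbackPushforwardAdjunction h).homEquiv_unit (f := θ')
    rw [← this, hθ', Equiv.apply_symm_apply]
  refine ModLocal.isIso_of_bijective_basis θ' fun x => ?_
  obtain ⟨U, hU, hxU⟩ := exists_affine_mem pB x
  obtain ⟨y, rfl⟩ := exists_emb_eq (chart := chartB) U hU hxU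
  obtain ⟨g, hg1, hgy⟩ := exists_degOne_notMem (𝒜.deg U hU) (hgen U hU)
    (ProjectiveSpectrum.comap (RelProj.gradedHomAt φ hφ U hU) (hirr U hU) y)
  set ψ := RelProj.gradedHomAt φ hφ U hU with hψ
  have hpow : ∀ k : ℕ, g ^ k ∈ 𝒜.deg U hU k := fun k => by
    have := SetLike.pow_mem_graded k hg1
    rwa [smul_eq_mul, mul_one] at this
  have hab : ((n.toNat : ℕ) : ℤ) = ((-n).toNat : ℕ) + n := by
    have h1 : ((n.toNat : ℤ)) - (((-n).toNat : ℕ) : ℤ) = n := Int.toNat_sub_toNat_neg n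
    linarith
  let VA : PA.Opens := (RelProj.emb pA chartA U hU) ''ᵁ (Proj.basicOpen (𝒜.deg U hU) g)
  have hVA_le : VA ≤ pA ⁻¹ᵁ U := by
    rw [← RelTilde.opensRange_emb (chart := chartA) U hU]
    rintro _ ⟨z, -, rfl⟩
    exact ⟨z, rfl⟩
  have hVAg : ∀ (k : ℕ) (z : ProjectiveSpectrum (𝒜.deg U hU)),
      (RelProj.emb pA chartA U hU).base z ∈ VA → g ^ k ∉ z.asHomogeneousIdeal := by
    rintro k z ⟨z', hz', e⟩ hmem
    have : z' = z := (RelProj.emb pA chartA U hU).isOpenEmbedding.injective e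
    subst this
    exact (ProjectiveSpectrum.mem_basicOpen _ _ _).mp hz' (z'.isPrime.mem_of_pow_mem k hmem)
  obtain ⟨eA, heA⟩ := exists_section_val hLA U hU (hpow n.toNat) (hpow (-n).toNat) hab VA hVA_le
    (hVAg (-n).toNat)
  have hbA : IsBasisOn LA VA eA :=
    isBasisOn_of_val hLA U hU (hpow n.toNat) (hpow (-n).toNat) hab VA hVA_le (hVAg _) (hVAg _) eA heA
  have hb₁ := isBasisOn_pullS h VA LA eA hbA
  have hmemA : ∀ z : ProjectiveSpectrum (ℬ.deg U hU), (RelProj.emb pB chartB U hU).base z ∈ h ⁻¹ᵁ VA →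
      (RelProj.emb pA chartA U hU).base (ProjectiveSpectrum.comap ψ (hirr U hU) z) ∈ VA := by
    intro z hz
    rw [emb_comap_apply hh U hU z]
    exact hz
  have hVBg : ∀ (k : ℕ) (z : ProjectiveSpectrum (ℬ.deg U hU)),
      (RelProj.emb pB chartB U hU).base z ∈ h ⁻¹ᵁ VA → ψ (g ^ k) ∉ z.asHomogeneousIdeal :=
    fun k z hz => hVAg k _ (hmemA z hz)
  have hval : (θ'.app (h ⁻¹ᵁ VA)) (pullS h LA VA eA) = θ.app VA eA :=
    congrArg (fun ψ' => (Scheme.Modules.Hom.app ψ' VA) eA) hadj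
  refine ⟨h ⁻¹ᵁ VA, ?_, fun W hW => bijective_app_of_isBasisOn θ' hb₁ ?_ W hW⟩
  · change h.base ((RelProj.emb pB chartB U hU).base y) ∈ VA
    rw [← emb_comap_apply hh U hU y]
    exact ⟨_, (ProjectiveSpectrum.mem_basicOpen _ _ _).mpr hgy, rfl⟩
  · rw [hval]
    refine isBasisOn_of_val hLB U hU (ψ.map_mem (hpow n.toNat)) (ψ.map_mem (hpow (-n).toNat)) hab
      (h ⁻¹ᵁ VA) (preimage_le hh hA hB U hVA_le) (hVBg _) (hVBg _) _ ?_
    intro z hz
    rw [(cond_iff hh θ).mp hθ U hU VA eA z hz (hmemA z hz), heA _ (hmemA z hz), GrTwist.locMap_mk]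
    rfl

include hh in
theorem nonempty_pullback_iso (hA : RelProj.IsRelProj 𝒜 pA chartA) (hB : RelProj.IsRelProj ℬ pB chartB)
    (hgen : 𝒜.IsGenDegOne)
    (hLA : RelProj.IsRelTwist 𝒜 pA chartA n LA lamA) (hLB : RelProj.IsRelTwist ℬ pB chartB n LB lamB) :
    Nonempty ((Scheme.Modules.pullback h).obj LA ≅ LB) := by
  obtain ⟨θ, hθ, -⟩ := existsUnique_theta hh hA hB hLA hLB
  have := isIso_adjoint hh hA hB hgen hLA hLB θ hθ
  exact ⟨asIso (((Scheme.Modules.pullbackPushforwardAdjunction h).homEquiv _ _).symm θ)⟩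

end rel

end Groth.Agent.Lib.Helper42.RelTwistPull
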