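import Groth.Agent.Lib.Helper42.RelTildeQCoh

/-!
# The twisting sheaves `GrTwist.twist` (gradings by additive subgroups) are the modules `GrMod.tilde 𝒜 𝒜 n`;
quasi-coherence of `GrTwist.twist` and of the relative twisting sheaf (`RelProj.IsRelTwist`)
-/

set_option autoImplicit false
universe u
open CategoryTheory CategoryTheory.Limits AlgebraicGeometry Opposite TopologicalSpace
open scoped HomogeneousIdeal
noncomputable section

namespace Groth.Agent.Lib.Helper42.RelTilde

section ring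
variable {A σ : Type u} [CommRing A] [SetLike σ A] [AddSubgroupClass σ A] (𝒜 : ℕ → σ) [GradedRing 𝒜]

theorem twist_eq_tilde (n : ℤ) : GrTwist.twist 𝒜 n = GrMod.tilde 𝒜 𝒜 n := rfl

theorem isQuasicoherent_twist (n : ℤ) : (GrTwist.twist 𝒜 n).IsQuasicoherent := by
  rw [twist_eq_tilde]
  exact GrQCohA.isQuasicoherent_tilde 𝒜 𝒜 n

end ring

section rel
variable {Y P : Scheme.{u}} {𝒮 : RelProj.QCGrAlg Y} {p : P ⟶ Y}
  {chart : ∀ (U : Y.Opens) (hU : IsAffineOpen U), (((p ⁻¹ᵁ U : P.Opens) : Scheme.{u}) ≅ Proj (𝒮.deg U hU))}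
  {n : ℤ} {L : P.Modules}
  {lam : ∀ (U : Y.Opens) (hU : IsAffineOpen U),
      L ⟶ (Scheme.Modules.pushforward (RelProj.emb p chart U hU)).obj (GrTwist.twist (𝒮.deg U hU) n)}

/-- the chartwise identification as an isomorphism `L|_{Proj 𝒮(U)} ≅ O(n)` -/
def chartIsoTwist (hL : RelProj.IsRelTwist 𝒮 p chart n L lam) (U : Y.Opens) (hU : IsAffineOpen U) :
    L.restrict (RelProj.emb p chart U hU) ≅ GrTwist.twist (𝒮.deg U hU) n :=
  restrictIsoOfBijective (RelProj.emb p chart U hU) (lam U hU) fun W hW =>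
    hL.bijective U hU W (by rw [← opensRange_emb (chart := chart) U hU]; exact hW)

theorem isQCoh_of_isRelTwist (hL : RelProj.IsRelTwist 𝒮 p chart n L lam) : L.IsQuasicoherent := by
  refine Groth.Agent.Lib.Helper49.isQuasicoherent_of_forall_restrict L (ι := Y.affineOpens)
    (fun i => Proj (𝒮.deg i.1 i.2)) (fun i => RelProj.emb p chart i.1 i.2) ?_ ?_
  · intro x
    obtain ⟨U, hU, hx⟩ := exists_affine_mem p x
    obtain ⟨y, hy⟩ := exists_emb_eq (chart := chart) U hU hx
    exact ⟨⟨U, hU⟩, y, hy⟩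
  · intro i
    exact Groth.Agent.Lib.Helper49.isQuasicoherent_of_iso (chartIsoTwist hL i.1 i.2).symm
      (isQuasicoherent_twist (𝒮.deg i.1 i.2) n)

end rel

end Groth.Agent.Lib.Helper42.RelTilde
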