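import Groth.Agent.Lib.Helper42.RelTwistFrac

/-!
# `O_P(m) ⊗ O_P(n) ≅ O_P(m + n)` on a relative Proj of an algebra generated in degree one (helper42; S8336)
-/

set_option autoImplicit false
universe u
open CategoryTheory CategoryTheory.Limits AlgebraicGeometry Opposite TopologicalSpace
open scoped HomogeneousIdeal
noncomputable section

namespace Groth.Agent.Lib.Helper42.RelTwistTensor

open Groth.Agent.Lib.Helper42.RelTilde Groth.Agent.Lib.Helper45 Groth.Agent.Lib.Helper49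
  Groth.Agent.Lib.Helper42.RelTwistBasis Groth.Agent.Lib.Helper42.RelTwistComap
  Groth.Agent.Lib.Helper42.RelTwistFrac Groth.Agent.Lib.Helper11.GenLocus

variable {Y P : Scheme.{u}} {𝒮 : RelProj.QCGrAlg Y} {p : P ⟶ Y}
  {chart : ∀ (U : Y.Opens) (hU : IsAffineOpen U), (((p ⁻¹ᵁ U : P.Opens) : Scheme.{u}) ≅ Proj (𝒮.deg U hU))}

/-- index of the standard cover of `Proj(𝒮)` by the `D₊(g)`, `g` of degree one over an affine open -/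
abbrev Idx (𝒮 : RelProj.QCGrAlg Y) : Type u :=
  Σ U : Y.affineOpens, {g : 𝒮.presheaf.obj (op U.1) // g ∈ 𝒮.deg U.1 U.2 1}

/-- the open `D₊(g)` of the chart over `U`, inside `P` -/
def VI (p : P ⟶ Y) (chart : ∀ (U : Y.Opens) (hU : IsAffineOpen U),
    (((p ⁻¹ᵁ U : P.Opens) : Scheme.{u}) ≅ Proj (𝒮.deg U hU))) (i : Idx 𝒮) : P.Opens :=
  (RelProj.emb p chart i.1.1 i.1.2) ''ᵁ (Proj.basicOpen (𝒮.deg i.1.1 i.1.2) i.2.1)

theorem VI_le (i : Idx 𝒮) : VI p chart i ≤ p ⁻¹ᵁ i.1.1 := by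
  rw [← RelTilde.opensRange_emb (chart := chart) i.1.1 i.1.2]
  rintro _ ⟨z, -, rfl⟩
  exact ⟨z, rfl⟩

theorem pow_notMem_of_mem_VI (i : Idx 𝒮) (k : ℕ) (z : ProjectiveSpectrum (𝒮.deg i.1.1 i.1.2))
    (hz : (RelProj.emb p chart i.1.1 i.1.2).base z ∈ VI p chart i) : i.2.1 ^ k ∉ z.asHomogeneousIdeal := by
  obtain ⟨z', hz', e⟩ := hz
  have : z' = z := (RelProj.emb p chart i.1.1 i.1.2).isOpenEmbedding.injective e
  subst this
  exact fun hmem => (ProjectiveSpectrum.mem_basicOpen _ _ _).mp hz' (z'.isPrime.mem_of_pow_mem k hmem)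

theorem exists_mem_VI (hgen : 𝒮.IsGenDegOne) (x : P) : ∃ i : Idx 𝒮, x ∈ VI p chart i := by
  obtain ⟨U, hU, hxU⟩ := exists_affine_mem p x
  obtain ⟨y, rfl⟩ := exists_emb_eq (chart := chart) U hU hxU
  obtain ⟨g, hg1, hgy⟩ := exists_degOne_notMem (𝒮.deg U hU) (hgen U hU) y
  exact ⟨⟨⟨U, hU⟩, ⟨g, hg1⟩⟩, ⟨y, (ProjectiveSpectrum.mem_basicOpen _ _ _).mpr hgy, rfl⟩⟩

theorem pow_mem_deg (i : Idx 𝒮) (k : ℕ) : i.2.1 ^ k ∈ 𝒮.deg i.1.1 i.1.2 k := by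
  have := SetLike.pow_mem_graded k i.2.2
  rwa [smul_eq_mul, mul_one] at this

theorem toNat_eq (n : ℤ) : ((n.toNat : ℕ) : ℤ) = ((-n).toNat : ℕ) + n := by
  have h1 : ((n.toNat : ℤ)) - (((-n).toNat : ℕ) : ℤ) = n := Int.toNat_sub_toNat_neg n
  linarith

section one
variable {N : ℤ} {L : P.Modules}
  {lam : ∀ (U : Y.Opens) (hU : IsAffineOpen U),
      L ⟶ (Scheme.Modules.pushforward (RelProj.emb p chart U hU)).obj (GrTwist.twist (𝒮.deg U hU) N)}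

/-- the standard local basis `g^N` of `O_P(N)` on `D₊(g)` -/
theorem exists_std_basis (hL : RelProj.IsRelTwist 𝒮 p chart N L lam) (i : Idx 𝒮) :
    ∃ e : Γ(L, VI p chart i), IsBasisOn L (VI p chart i) e ∧
      ReadsFrac lam i.1.1 i.1.2 (VI p chart i) e (i.2.1 ^ N.toNat) (i.2.1 ^ (-N).toNat) :=
  exists_basis_readsFrac hL i.1.1 i.1.2 (pow_mem_deg i _) (pow_mem_deg i _) (toNat_eq N) _ (VI_le i)
    (pow_notMem_of_mem_VI i _) (pow_notMem_of_mem_VI i _)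

end one

section transfer

theorem notMem_res_of (hP : RelProj.IsRelProj 𝒮 p chart) {U : Y.Opens} {hU : IsAffineOpen U} (r : Γ(Y, U))
    (V : Y.Opens) (hV : IsAffineOpen V) (e : V = Y.basicOpen r) (hle : V ≤ U) {W : P.Opens}
    {v : 𝒮.presheaf.obj (op U)}
    (hv : ∀ z : ProjectiveSpectrum (𝒮.deg U hU), (RelProj.emb p chart U hU).base z ∈ W → v ∉ z.asHomogeneousIdeal)
    (y : ProjectiveSpectrum (𝒮.deg V hV)) (hy : (RelProj.emb p chart V hV).base y ∈ W) :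
    𝒮.res hU hV hle v ∉ y.asHomogeneousIdeal := by
  subst e
  intro hmem
  refine hv (ProjectiveSpectrum.comap (𝒮.res hU (hU.basicOpen r) (Y.basicOpen_le r))
    (𝒮.irrelevant_le_map U hU r) y) ?_ hmem
  rw [emb_basicOpen_apply hP]; exact hy

variable {N₁ N₂ : ℤ} {L₁ L₂ L₃ : P.Modules}
  {lam₁ : ∀ (U : Y.Opens) (hU : IsAffineOpen U),
      L₁ ⟶ (Scheme.Modules.pushforward (RelProj.emb p chart U hU)).obj (GrTwist.twist (𝒮.deg U hU) N₁)}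
  {lam₂ : ∀ (U : Y.Opens) (hU : IsAffineOpen U),
      L₂ ⟶ (Scheme.Modules.pushforward (RelProj.emb p chart U hU)).obj (GrTwist.twist (𝒮.deg U hU) N₂)}
  {lam₃ : ∀ (U : Y.Opens) (hU : IsAffineOpen U),
      L₃ ⟶ (Scheme.Modules.pushforward (RelProj.emb p chart U hU)).obj (GrTwist.twist (𝒮.deg U hU) (N₁ + N₂))}

theorem eq_smul_of_reads_two_charts (hP : RelProj.IsRelProj 𝒮 p chart)
    (hL₁ : RelProj.IsRelTwist 𝒮 p chart N₁ L₁ lam₁) (hL₂ : RelProj.IsRelTwist 𝒮 p chart N₂ L₂ lam₂)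
    (hL₃ : RelProj.IsRelTwist 𝒮 p chart (N₁ + N₂) L₃ lam₃)
    {U U' : Y.Opens} {hU : IsAffineOpen U} {hU' : IsAffineOpen U'} {W : P.Opens}
    (hW : W ≤ p ⁻¹ᵁ U) (hW' : W ≤ p ⁻¹ᵁ U')
    {e₁ e₁' : Γ(L₁, W)} {e₂ e₂' : Γ(L₂, W)} {e₃ e₃' : Γ(L₃, W)}
    {u₁ v₁ u₂ v₂ : 𝒮.presheaf.obj (op U)} {u₁' v₁' u₂' v₂' : 𝒮.presheaf.obj (op U')}
    (h₁ : ReadsFrac lam₁ U hU W e₁ u₁ v₁) (h₁' : ReadsFrac lam₁ U' hU' W e₁' u₁' v₁')
    (h₂ : ReadsFrac lam₂ U hU W e₂ u₂ v₂) (h₂' : ReadsFrac lam₂ U' hU' W e₂' u₂' v₂')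
    (h₃ : ReadsFrac lam₃ U hU W e₃ (u₁ * u₂) (v₁ * v₂))
    (h₃' : ReadsFrac lam₃ U' hU' W e₃' (u₁' * u₂') (v₁' * v₂'))
    (hv₁ : ∀ y : ProjectiveSpectrum (𝒮.deg U hU), (RelProj.emb p chart U hU).base y ∈ W → v₁ ∉ y.asHomogeneousIdeal)
    (hv₂ : ∀ y : ProjectiveSpectrum (𝒮.deg U hU), (RelProj.emb p chart U hU).base y ∈ W → v₂ ∉ y.asHomogeneousIdeal)
    (hv₁' : ∀ y : ProjectiveSpectrum (𝒮.deg U' hU'), (RelProj.emb p chart U' hU').base y ∈ W →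
      v₁' ∉ y.asHomogeneousIdeal)
    (hv₂' : ∀ y : ProjectiveSpectrum (𝒮.deg U' hU'), (RelProj.emb p chart U' hU').base y ∈ W →
      v₂' ∉ y.asHomogeneousIdeal)
    (c₁ c₂ : Γ(P, W)) (hc₁ : e₁ = c₁ • e₁') (hc₂ : e₂ = c₂ • e₂') :
    e₃ = (c₁ * c₂) • e₃' := by
  refine ModLocal.section_ext L₃ fun x hx => ?_
  obtain ⟨r, r', hrr', hxr⟩ := exists_basicOpen_le_affine_inter hU hU' (p.base x) ⟨hW hx, hW' hx⟩
  have hle' : Y.basicOpen r ≤ U' := hrr' ▸ Y.basicOpen_le r'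
  have hleW : W ⊓ p ⁻¹ᵁ (Y.basicOpen r) ≤ W := inf_le_left
  refine ⟨W ⊓ p ⁻¹ᵁ (Y.basicOpen r), hleW, ⟨hx, hxr⟩, ?_⟩
  change mres L₃ hleW e₃ = mres L₃ hleW ((c₁ * c₂) • e₃')
  rw [mres_smul, map_mul]
  have hD := hU.basicOpen r
  refine eq_smul_of_reads hL₃ (U := Y.basicOpen r) (hU := hD) inf_le_right
    ((h₁.basic hP hL₁ r).mres hleW) ((h₁'.restrict hP hL₁ r' _ hD hrr' hle').mres hleW)
    ((h₂.basic hP hL₂ r).mres hleW) ((h₂'.restrict hP hL₂ r' _ hD hrr' hle').mres hleW)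
    (((h₃.basic hP hL₃ r).mres hleW).congr_elems (map_mul _ _ _) (map_mul _ _ _))
    (((h₃'.restrict hP hL₃ r' _ hD hrr' hle').mres hleW).congr_elems (map_mul _ _ _) (map_mul _ _ _))
    ?_ (fres hleW c₁) (fres hleW c₂) ?_ ?_
  · intro y hy
    exact ⟨notMem_res_of hP r _ hD rfl _ hv₁ y (hleW hy), notMem_res_of hP r' _ hD hrr' hle' hv₁' y (hleW hy),
      notMem_res_of hP r _ hD rfl _ hv₂ y (hleW hy), notMem_res_of hP r' _ hD hrr' hle' hv₂' y (hleW hy)⟩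
  · rw [hc₁, mres_smul]
  · rw [hc₂, mres_smul]

theorem nonempty_tensor_iso (hP : RelProj.IsRelProj 𝒮 p chart) (hgen : 𝒮.IsGenDegOne)
    (hL₁ : RelProj.IsRelTwist 𝒮 p chart N₁ L₁ lam₁) (hL₂ : RelProj.IsRelTwist 𝒮 p chart N₂ L₂ lam₂)
    (hL₃ : RelProj.IsRelTwist 𝒮 p chart (N₁ + N₂) L₃ lam₃) :
    Nonempty (CohB1.tensorMod L₁ L₂ ≅ L₃) := by
  choose e₁ hb₁ hr₁ using fun i : Idx 𝒮 => exists_std_basis hL₁ i
  choose e₂ hb₂ hr₂ using fun i : Idx 𝒮 => exists_std_basis hL₂ i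
  have hab : ∀ i : Idx 𝒮, ((N₁.toNat + N₂.toNat : ℕ) : ℤ) = ((-N₁).toNat + (-N₂).toNat : ℕ) + (N₁ + N₂) := by
    intro i
    have h1 := toNat_eq N₁
    have h2 := toNat_eq N₂
    push_cast
    linarith
  have hmul : ∀ (i : Idx 𝒮) (a b : ℕ), i.2.1 ^ a * i.2.1 ^ b ∈ 𝒮.deg i.1.1 i.1.2 (a + b) := fun i a b =>
    SetLike.mul_mem_graded (pow_mem_deg i a) (pow_mem_deg i b)
  have hnot : ∀ (i : Idx 𝒮) (a b : ℕ) (z : ProjectiveSpectrum (𝒮.deg i.1.1 i.1.2)),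
      (RelProj.emb p chart i.1.1 i.1.2).base z ∈ VI p chart i → i.2.1 ^ a * i.2.1 ^ b ∉ z.asHomogeneousIdeal :=
    fun i a b z hz hmem => (z.isPrime.mem_or_mem hmem).elim (pow_notMem_of_mem_VI i a z hz)
      (pow_notMem_of_mem_VI i b z hz)
  choose e₃ hb₃ hr₃ using fun i : Idx 𝒮 => exists_basis_readsFrac hL₃ i.1.1 i.1.2
    (hmul i N₁.toNat N₂.toNat) (hmul i (-N₁).toNat (-N₂).toNat) (hab i) (VI p chart i) (VI_le i)
    (hnot i _ _) (hnot i _ _)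
  refine BasisGlue.nonempty_iso_of_local_bases (VI p chart) (exists_mem_VI hgen)
    (fun i => tm L₁ L₂ (VI p chart i) (e₁ i) (e₂ i)) e₃ (fun i => isBasisOn_tm (hb₁ i) (hb₂ i)) hb₃ ?_
  intro i j W hi hj c hc
  obtain ⟨c₁, hc₁⟩ := ((hb₁ j).mono hj).exists_eq_smul (mres L₁ hi (e₁ i))
  obtain ⟨c₂, hc₂⟩ := ((hb₂ j).mono hj).exists_eq_smul (mres L₂ hi (e₂ i))
  have hcc : c = c₁ * c₂ := by
    apply ((isBasisOn_tm (hb₁ j) (hb₂ j)).mono hj).eq_of_smul_eq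
    rw [← hc, tm_res, tm_res, ← hc₁, ← hc₂, tm_smul_left, tm_smul_right, smul_smul]
  rw [hcc]
  exact eq_smul_of_reads_two_charts hP hL₁ hL₂ hL₃ (hi.trans (VI_le i)) (hj.trans (VI_le j))
    ((hr₁ i).mres hi) ((hr₁ j).mres hj) ((hr₂ i).mres hi) ((hr₂ j).mres hj)
    ((hr₃ i).mres hi) ((hr₃ j).mres hj)
    (fun y hy => pow_notMem_of_mem_VI i _ y (hi hy)) (fun y hy => pow_notMem_of_mem_VI i _ y (hi hy))
    (fun y hy => pow_notMem_of_mem_VI j _ y (hj hy)) (fun y hy => pow_notMem_of_mem_VI j _ y (hj hy))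
    c₁ c₂ hc₁.symm hc₂.symm

end transfer

end Groth.Agent.Lib.Helper42.RelTwistTensor
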