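import Groth.Agent.Lib.Helper42.RelTwistBasis
import Groth.Agent.Lib.Helper11.PullbackBasis

/-!
# The twisting sheaf `O_P(nd)` is trivial on `X_f`, `f` a global section of degree `d` (helper42; S8288):
glueing the section `f^n` from its chartwise readings
-/

set_option autoImplicit false
universe u
open CategoryTheory CategoryTheory.Limits AlgebraicGeometry Opposite TopologicalSpace
open scoped HomogeneousIdeal
noncomputable section

namespace Groth.Agent.Lib.Helper42.RelTwistXf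

open Groth.Agent.Lib.Helper42.RelTilde Groth.Agent.Lib.Helper45 Groth.Agent.Lib.Helper49
  Groth.Agent.Lib.Helper42.RelTwistBasis Groth.Agent.Lib.Helper42

variable {Y P : Scheme.{u}} {𝒮 : RelProj.QCGrAlg Y} {p : P ⟶ Y}
  {chart : ∀ (U : Y.Opens) (hU : IsAffineOpen U), (((p ⁻¹ᵁ U : P.Opens) : Scheme.{u}) ≅ Proj (𝒮.deg U hU))}
  {N : ℤ} {L : P.Modules}
  {lam : ∀ (U : Y.Opens) (hU : IsAffineOpen U),
      L ⟶ (Scheme.Modules.pushforward (RelProj.emb p chart U hU)).obj (GrTwist.twist (𝒮.deg U hU) N)}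
  (f : 𝒮.presheaf.obj (op ⊤)) (a b : ℕ)

/-- the section `t` of `L` over `W` reads `f^a / f^b` on the chart over `U` -/
def Reads (lam : ∀ (U : Y.Opens) (hU : IsAffineOpen U),
      L ⟶ (Scheme.Modules.pushforward (RelProj.emb p chart U hU)).obj (GrTwist.twist (𝒮.deg U hU) N))
    (U : Y.Opens) (hU : IsAffineOpen U) (W : P.Opens) (t : Γ(L, W)) : Prop :=
  ∀ (y : ProjectiveSpectrum (𝒮.deg U hU)) (hy : (RelProj.emb p chart U hU).base y ∈ W)
    (hfy : resTop 𝒮 f U ^ b ∉ y.asHomogeneousIdeal),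
    GrTwist.val (V := RelProj.emb p chart U hU ⁻¹ᵁ W) ((lam U hU).app W t) ⟨y, hy⟩ =
      Localization.mk (resTop 𝒮 f U ^ a) ⟨resTop 𝒮 f U ^ b, hfy⟩

variable {f a b}

theorem Reads.mres {U : Y.Opens} {hU : IsAffineOpen U} {W W' : P.Opens} {t : Γ(L, W)}
    (h : Reads f a b lam U hU W t) (hW : W' ≤ W) : Reads f a b lam U hU W' (mres L hW t) := by
  intro y hy hfy
  rw [val_lam_mres]
  exact h y (hW hy) hfy

theorem Reads.congr {U U' : Y.Opens} (e : U = U') {hU : IsAffineOpen U} {hU' : IsAffineOpen U'}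
    {W : P.Opens} {t : Γ(L, W)} (h : Reads f a b lam U hU W t) : Reads f a b lam U' hU' W t := by
  subst e; exact h

theorem Reads.basic (hP : RelProj.IsRelProj 𝒮 p chart) (hL : RelProj.IsRelTwist 𝒮 p chart N L lam)
    {U : Y.Opens} {hU : IsAffineOpen U} {W : P.Opens} {t : Γ(L, W)}
    (h : Reads f a b lam U hU W t) (r : Γ(Y, U)) :
    Reads f a b lam (Y.basicOpen r) (hU.basicOpen r) W t := by
  intro y hy hfy
  have hy' : (RelProj.emb p chart U hU).base (ProjectiveSpectrum.comap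
      (𝒮.res hU (hU.basicOpen r) (Y.basicOpen_le r)) (𝒮.irrelevant_le_map U hU r) y) ∈ W := by
    rw [emb_basicOpen_apply hP]; exact hy
  have hres : ∀ k : ℕ, (𝒮.res hU (hU.basicOpen r) (Y.basicOpen_le r)) (resTop 𝒮 f U ^ k) =
      resTop 𝒮 f (Y.basicOpen r) ^ k := by
    intro k
    rw [map_pow]
    congr 1
    exact res_resTop 𝒮 f (Y.basicOpen_le r)
  have hfy' : resTop 𝒮 f U ^ b ∉ (ProjectiveSpectrum.comap
      (𝒮.res hU (hU.basicOpen r) (Y.basicOpen_le r)) (𝒮.irrelevant_le_map U hU r) y).asHomogeneousIdeal := by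
    intro hmem
    apply hfy
    rw [← hres b]
    exact hmem
  rw [hL.compat U hU r W t y hy hy', h _ hy' hfy', GrTwist.locMap_mk]
  congr 1
  · exact hres a
  · exact Subtype.ext (hres b)

theorem pow_notMem_of_emb_mem_piece (U : Y.Opens) (hU : IsAffineOpen U)
    (y : ProjectiveSpectrum (𝒮.deg U hU))
    (hy : (RelProj.emb p chart U hU).base y ∈ piece 𝒮 p chart f U hU) (k : ℕ) :
    resTop 𝒮 f U ^ k ∉ y.asHomogeneousIdeal := fun hmem =>
  mem_basicOpen_of_emb_mem_piece f U hU y hy (y.isPrime.mem_of_pow_mem k hmem)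

theorem Reads.unique (hL : RelProj.IsRelTwist 𝒮 p chart N L lam)
    {U : Y.Opens} {hU : IsAffineOpen U} {W : P.Opens} (hW : W ≤ piece 𝒮 p chart f U hU) {t t' : Γ(L, W)}
    (h : Reads f a b lam U hU W t) (h' : Reads f a b lam U hU W t') : t = t' := by
  apply (hL.bijective U hU W (hW.trans (piece_le 𝒮 p chart f U hU))).injective
  refine RelTwistComap.twist_sect_ext (V := RelProj.emb p chart U hU ⁻¹ᵁ W) fun y => ?_
  have hfy := pow_notMem_of_emb_mem_piece (f := f) U hU y.1 (hW y.2) b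
  exact (h y.1 y.2 hfy).trans (h' y.1 y.2 hfy).symm

theorem Reads.unique_general (hP : RelProj.IsRelProj 𝒮 p chart) (hL : RelProj.IsRelTwist 𝒮 p chart N L lam)
    {U U' : Y.Opens} {hU : IsAffineOpen U} {hU' : IsAffineOpen U'} {W : P.Opens}
    (hW : W ≤ piece 𝒮 p chart f U hU) (hW' : W ≤ piece 𝒮 p chart f U' hU') {t t' : Γ(L, W)}
    (h : Reads f a b lam U hU W t) (h' : Reads f a b lam U' hU' W t') : t = t' := by
  refine ModLocal.section_ext L fun x hx => ?_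
  obtain ⟨r, r', hrr', hxr⟩ := exists_basicOpen_le_affine_inter hU hU' (p.base x)
    ⟨piece_le 𝒮 p chart f U hU (hW hx), piece_le 𝒮 p chart f U' hU' (hW' hx)⟩
  refine ⟨W ⊓ p ⁻¹ᵁ (Y.basicOpen r), inf_le_left, ⟨hx, hxr⟩, ?_⟩
  have h1 := ((h.basic hP hL r).mres (inf_le_left : W ⊓ p ⁻¹ᵁ (Y.basicOpen r) ≤ W))
  have h2 := ((h'.basic hP hL r').congr hrr'.symm (hU' := hU.basicOpen r)).mres
    (inf_le_left : W ⊓ p ⁻¹ᵁ (Y.basicOpen r) ≤ W)
  refine Reads.unique hL (U := Y.basicOpen r) (hU := hU.basicOpen r) ?_ h1 h2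
  rw [piece_basicOpen hP f U hU r]
  exact inf_le_inf_right _ hW

section exist
variable {d : ℕ} (hf : ∀ (U : Y.Opens) (hU : IsAffineOpen U), resTop 𝒮 f U ∈ 𝒮.deg U hU d)
  (hab : ((a * d : ℕ) : ℤ) = (b * d : ℕ) + N)

include hf hab in
theorem exists_reads_piece (hL : RelProj.IsRelTwist 𝒮 p chart N L lam) (U : Y.Opens) (hU : IsAffineOpen U) :
    ∃ t : Γ(L, piece 𝒮 p chart f U hU), Reads f a b lam U hU (piece 𝒮 p chart f U hU) t := by
  have hua : resTop 𝒮 f U ^ a ∈ 𝒮.deg U hU (a * d) := by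
    have := SetLike.pow_mem_graded a (hf U hU)
    rwa [smul_eq_mul] at this
  have hvb : resTop 𝒮 f U ^ b ∈ 𝒮.deg U hU (b * d) := by
    have := SetLike.pow_mem_graded b (hf U hU)
    rwa [smul_eq_mul] at this
  have hnot : ∀ z : (RelProj.emb p chart U hU ⁻¹ᵁ (piece 𝒮 p chart f U hU) : (Proj (𝒮.deg U hU)).Opens),
      resTop 𝒮 f U ^ b ∉ z.1.asHomogeneousIdeal := by
    intro z hmem
    have hz : (RelProj.emb p chart U hU).base z.1 ∈ piece 𝒮 p chart f U hU := z.2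
    exact mem_basicOpen_of_emb_mem_piece f U hU z.1 hz (z.1.isPrime.mem_of_pow_mem b hmem)
  let τ : Γ(GrTwist.twist (𝒮.deg U hU) N, RelProj.emb p chart U hU ⁻¹ᵁ (piece 𝒮 p chart f U hU)) :=
    TwistTrivA.fracN (𝒮.deg U hU) N hua hvb hab _ hnot
  obtain ⟨t, ht⟩ := (hL.bijective U hU _ (piece_le 𝒮 p chart f U hU)).surjective τ
  refine ⟨t, fun y hy hfy => ?_⟩
  have h5 := congrArg (fun σ => GrTwist.val (V := RelProj.emb p chart U hU ⁻¹ᵁ (piece 𝒮 p chart f U hU)) σ ⟨y, hy⟩) ht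
  refine h5.trans ?_
  exact TwistTrivA.fracN_val (𝒮.deg U hU) N hua hvb hab _ hnot ⟨y, hy⟩

include hf hab in
theorem exists_reads_xf (hP : RelProj.IsRelProj 𝒮 p chart) (hL : RelProj.IsRelTwist 𝒮 p chart N L lam)
    (Xf : P.Opens) (hXf : ∀ (U : Y.Opens) (hU : IsAffineOpen U), Xf ⊓ p ⁻¹ᵁ U = piece 𝒮 p chart f U hU) :
    ∃ e : Γ(L, Xf), ∀ (U : Y.Opens) (hU : IsAffineOpen U),
      Reads f a b lam U hU (Xf ⊓ p ⁻¹ᵁ U) (mres L inf_le_left e) := by
  choose t ht using fun i : Y.affineOpens => exists_reads_piece hf hab hL i.1 i.2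
  have hle : ∀ i : Y.affineOpens, piece 𝒮 p chart f i.1 i.2 ≤ Xf := fun i => by
    rw [← hXf i.1 i.2]; exact inf_le_left
  have hcov : Xf ≤ ⨆ i : Y.affineOpens, piece 𝒮 p chart f i.1 i.2 := by
    intro x hx
    obtain ⟨U, hU, hxU⟩ := exists_affine_mem p x
    refine Opens.mem_iSup.mpr ⟨⟨U, hU⟩, ?_⟩
    rw [← hXf U hU]
    exact ⟨hx, hxU⟩
  obtain ⟨e, he, -⟩ := TopCat.Sheaf.existsUnique_gluing' ⟨L.presheaf, L.isSheaf⟩
    (fun i : Y.affineOpens => piece 𝒮 p chart f i.1 i.2) Xf (fun i => homOfLE (hle i)) hcov t (by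
      intro i j
      change mres L inf_le_left (t i) = mres L inf_le_right (t j)
      exact Reads.unique_general hP hL inf_le_left inf_le_right ((ht i).mres _) ((ht j).mres _))
  refine ⟨e, fun U hU => ?_⟩
  have h1 : mres L (hle ⟨U, hU⟩) e = t ⟨U, hU⟩ := he ⟨U, hU⟩
  have h2 := ht ⟨U, hU⟩
  rw [← h1] at h2
  have hle2 : Xf ⊓ p ⁻¹ᵁ U ≤ piece 𝒮 p chart f U hU := (hXf U hU).le
  have h3 := h2.mres hle2
  rw [mres_mres] at h3
  exact h3

include hf hab in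
theorem isBasisOn_of_reads (hL : RelProj.IsRelTwist 𝒮 p chart N L lam)
    (Xf : P.Opens) (hXf : ∀ (U : Y.Opens) (hU : IsAffineOpen U), Xf ⊓ p ⁻¹ᵁ U = piece 𝒮 p chart f U hU)
    (e : Γ(L, Xf)) (he : ∀ (U : Y.Opens) (hU : IsAffineOpen U),
      Reads f a b lam U hU (Xf ⊓ p ⁻¹ᵁ U) (mres L inf_le_left e)) :
    IsBasisOn L Xf e := by
  refine IsBasisOn.of_cover (fun i : Y.affineOpens => Xf ⊓ p ⁻¹ᵁ i.1) Xf (fun i => inf_le_left) ?_ e ?_
  · intro x hx
    obtain ⟨U, hU, hxU⟩ := exists_affine_mem p x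
    exact Opens.mem_iSup.mpr ⟨⟨U, hU⟩, ⟨hx, hxU⟩⟩
  · intro i
    have hua : resTop 𝒮 f i.1 ^ a ∈ 𝒮.deg i.1 i.2 (a * d) := by
      have := SetLike.pow_mem_graded a (hf i.1 i.2)
      rwa [smul_eq_mul] at this
    have hvb : resTop 𝒮 f i.1 ^ b ∈ 𝒮.deg i.1 i.2 (b * d) := by
      have := SetLike.pow_mem_graded b (hf i.1 i.2)
      rwa [smul_eq_mul] at this
    have hk : ∀ (k : ℕ) (y : ProjectiveSpectrum (𝒮.deg i.1 i.2)),
        (RelProj.emb p chart i.1 i.2).base y ∈ Xf ⊓ p ⁻¹ᵁ i.1 → resTop 𝒮 f i.1 ^ k ∉ y.asHomogeneousIdeal := by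
      intro k y hy hmem
      rw [hXf i.1 i.2] at hy
      exact mem_basicOpen_of_emb_mem_piece f i.1 i.2 y hy (y.isPrime.mem_of_pow_mem k hmem)
    exact isBasisOn_of_val hL i.1 i.2 hua hvb hab _ inf_le_right (hk a) (hk b) _
      (fun y hy => he i.1 i.2 y hy (hk b y hy))

include hf hab in
theorem nonempty_restrict_xf_iso (hP : RelProj.IsRelProj 𝒮 p chart) (hL : RelProj.IsRelTwist 𝒮 p chart N L lam)
    (Xf : P.Opens) (hXf : ∀ (U : Y.Opens) (hU : IsAffineOpen U), Xf ⊓ p ⁻¹ᵁ U = piece 𝒮 p chart f U hU) :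
    Nonempty (L.restrict Xf.ι ≅ Coh.structureModule (Xf : Scheme.{u})) := by
  obtain ⟨e, he⟩ := exists_reads_xf hf hab hP hL Xf hXf
  have hb := isBasisOn_of_reads hf hab hL Xf hXf e he
  have hle : Xf.ι ''ᵁ ⊤ ≤ Xf := le_of_eq Xf.ι_image_top
  have hb' : IsBasisOn (L.restrict Xf.ι) ⊤ (show Γ(L.restrict Xf.ι, ⊤) from mres L hle e) :=
    Groth.Agent.Lib.Helper11.GenLocus.isBasisOn_restrict Xf ⊤ (mres L hle e) (hb.mono hle)
  have := Groth.Agent.Lib.Helper11.PullbackBasis.isIso_homOfSection_of_isBasisOn _ hb'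
  exact ⟨(asIso (Groth.Agent.Lib.Helper11.GenLocus.homOfSection (L.restrict Xf.ι)
    (show Γ(L.restrict Xf.ι, ⊤) from mres L hle e))).symm⟩

end exist

end Groth.Agent.Lib.Helper42.RelTwistXf
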