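import Mathlib

/-!
# The graded ring `S♮` (`S♮_n = S_{≥ n}`), presented inside `S[X]`
-/

set_option autoImplicit false
universe u

open Polynomial DirectSum

namespace Groth.Agent.Lib.Helper42

namespace SNat

variable {R A : Type u} [CommRing R] [CommRing A] [Algebra R A]
  (𝒜 : ℕ → Submodule R A) [GradedAlgebra 𝒜]

/-- `S_{≥ n}`. -/
def G (n : ℕ) : Submodule R A := ⨆ m : {m : ℕ // n ≤ m}, 𝒜 m.1

theorem G_eq (n : ℕ) : G 𝒜 n = ⨆ (m : ℕ) (_ : n ≤ m), 𝒜 m := by
  unfold G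
  rw [iSup_subtype]

theorem le_G {n m : ℕ} (h : n ≤ m) : 𝒜 m ≤ G 𝒜 n :=
  le_iSup (fun m : {m : ℕ // n ≤ m} => 𝒜 m.1) ⟨m, h⟩

theorem G_mul_le (a b : ℕ) : G 𝒜 a * G 𝒜 b ≤ G 𝒜 (a + b) := by
  unfold G
  rw [Submodule.iSup_mul]
  refine iSup_le fun i => ?_
  rw [Submodule.mul_iSup]
  refine iSup_le fun j => ?_
  refine le_trans ?_ (le_G 𝒜 (add_le_add i.2 j.2))
  rw [Submodule.mul_le]
  intro x hx y hy
  exact SetLike.mul_mem_graded hx hy

theorem one_le_G_zero : (1 : Submodule R A) ≤ G 𝒜 0 := by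
  rw [Submodule.one_eq_span, Submodule.span_le, Set.singleton_subset_iff]
  exact le_G 𝒜 le_rfl SetLike.GradedOne.one_mem

theorem G_pow_le (n : ℕ) : G 𝒜 1 ^ n ≤ G 𝒜 n := by
  induction n with
  | zero =>
    rw [pow_zero]
    exact one_le_G_zero 𝒜
  | succ n ih =>
    rw [pow_succ]
    exact (mul_le_mul' ih le_rfl).trans (G_mul_le 𝒜 n 1)

/-- The degree-`(n+m)` component of a product of elements of degrees `≥ n` and `≥ m`. -/
theorem proj_mul {n m : ℕ} {u a : A} (hu : u ∈ G 𝒜 n) (ha : a ∈ G 𝒜 m) :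
    (decompose 𝒜 (u * a) (n + m) : A) = (decompose 𝒜 u n : A) * (decompose 𝒜 a m : A) := by
  classical
  unfold G at hu ha
  refine Submodule.iSup_induction (fun j : {j : ℕ // n ≤ j} => 𝒜 j.1)
    (motive := fun u => (decompose 𝒜 (u * a) (n + m) : A) =
      (decompose 𝒜 u n : A) * (decompose 𝒜 a m : A)) hu ?_ ?_ ?_
  · intro j u hu
    refine Submodule.iSup_induction (fun k : {k : ℕ // m ≤ k} => 𝒜 k.1)
      (motive := fun a => (decompose 𝒜 (u * a) (n + m) : A) =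
        (decompose 𝒜 u n : A) * (decompose 𝒜 a m : A)) ha ?_ ?_ ?_
    · intro k a ha
      have hua : u * a ∈ 𝒜 (j.1 + k.1) := SetLike.mul_mem_graded hu ha
      by_cases hj : j.1 = n
      · by_cases hk : k.1 = m
        · rw [← hj, ← hk, decompose_of_mem_same 𝒜 hua, decompose_of_mem_same 𝒜 hu,
            decompose_of_mem_same 𝒜 ha]
        · have hne : j.1 + k.1 ≠ n + m := by
            have := k.2
            omega
          rw [decompose_of_mem_ne 𝒜 hua hne, decompose_of_mem_ne 𝒜 ha hk, mul_zero]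
      · have hne : j.1 + k.1 ≠ n + m := by
          have := j.2
          have := k.2
          omega
        rw [decompose_of_mem_ne 𝒜 hua hne, decompose_of_mem_ne 𝒜 hu hj, zero_mul]
    · simp
    · intro a b ha hb
      rw [mul_add, decompose_add, DirectSum.add_apply, AddMemClass.coe_add, ha, hb, decompose_add,
        DirectSum.add_apply, AddMemClass.coe_add, mul_add]
  · simp
  · intro u v hu hv
    rw [add_mul, decompose_add, DirectSum.add_apply, AddMemClass.coe_add, hu, hv, decompose_add,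
      DirectSum.add_apply, AddMemClass.coe_add, add_mul]

theorem degOne_mul_le (n : ℕ) : 𝒜 1 * 𝒜 n ≤ 𝒜 (n + 1) := by
  rw [Submodule.mul_le]
  intro x hx y hy
  rw [add_comm]
  exact SetLike.mul_mem_graded hx hy

theorem degOne_pow_le (n : ℕ) : 𝒜 1 ^ n ≤ 𝒜 n := by
  induction n with
  | zero =>
    rw [pow_zero, Submodule.one_eq_span, Submodule.span_le, Set.singleton_subset_iff]
    exact SetLike.GradedOne.one_mem
  | succ n ih =>
    rw [pow_succ']
    exact (mul_le_mul' le_rfl ih).trans (degOne_mul_le 𝒜 n)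

/-- EGA II (2.1.6)-type: `S_{≥n+1} = S_{≥1} S_{≥n}` for `n ≥ n₀` iff `S_{n+1} = S_1 S_n` for `n ≥ n₀`. -/
theorem succ_eq_mul_iff (n₀ : ℕ) :
    (∀ n : ℕ, n₀ ≤ n → G 𝒜 (n + 1) = G 𝒜 1 * G 𝒜 n) ↔ (∀ n : ℕ, n₀ ≤ n → 𝒜 (n + 1) = 𝒜 1 * 𝒜 n) := by
  classical
  constructor
  · intro H n hn
    refine le_antisymm ?_ (degOne_mul_le 𝒜 n)
    intro x hx
    have hx' : x ∈ G 𝒜 1 * G 𝒜 n := by
      rw [← H n hn]
      exact le_G 𝒜 le_rfl hx
    have key : ∀ y ∈ G 𝒜 1 * G 𝒜 n, (decompose 𝒜 y (1 + n) : A) ∈ 𝒜 1 * 𝒜 n := by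
      intro y hy
      refine Submodule.mul_induction_on (C := fun y => (decompose 𝒜 y (1 + n) : A) ∈ 𝒜 1 * 𝒜 n) hy ?_ ?_
      · intro a ha b hb
        rw [proj_mul 𝒜 ha hb]
        exact Submodule.mul_mem_mul (SetLike.coe_mem _) (SetLike.coe_mem _)
      · intro a b ha hb
        rw [decompose_add, DirectSum.add_apply, AddMemClass.coe_add]
        exact add_mem ha hb
    have := key x hx'
    rwa [add_comm 1 n, decompose_of_mem_same 𝒜 hx] at this
  · intro H n hn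
    refine le_antisymm ?_ ?_
    · unfold G
      refine iSup_le fun m => ?_
      obtain ⟨m, hm⟩ := m
      obtain ⟨m', rfl⟩ : ∃ m', m = m' + 1 := ⟨m - 1, by omega⟩
      change 𝒜 (m' + 1) ≤ _
      rw [H m' (by omega)]
      exact mul_le_mul' (le_G 𝒜 le_rfl) (le_G 𝒜 (by omega))
    · rw [add_comm]
      exact G_mul_le 𝒜 1 n

/-- The degree-`n` component of an element of `(S_{≥1})ⁿ` lies in `(S_1)ⁿ`. -/
theorem proj_pow_mem (n : ℕ) : ∀ y ∈ G 𝒜 1 ^ n, (decompose 𝒜 y n : A) ∈ 𝒜 1 ^ n := by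
  classical
  induction n with
  | zero =>
    intro y hy
    rw [pow_zero] at hy ⊢
    have hy0 : y ∈ 𝒜 0 := by
      rw [Submodule.one_eq_span] at hy
      obtain ⟨r, rfl⟩ := Submodule.mem_span_singleton.mp hy
      exact Submodule.smul_mem _ _ SetLike.GradedOne.one_mem
    rwa [decompose_of_mem_same 𝒜 hy0]
  | succ n ih =>
    intro y hy
    rw [pow_succ] at hy ⊢
    refine Submodule.mul_induction_on
      (C := fun y => (decompose 𝒜 y (n + 1) : A) ∈ 𝒜 1 ^ n * 𝒜 1) hy ?_ ?_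
    · intro u hu a ha
      rw [proj_mul 𝒜 (G_pow_le 𝒜 n hu) ha]
      exact Submodule.mul_mem_mul (ih u hu) (SetLike.coe_mem _)
    · intro a b ha hb
      rw [decompose_add, DirectSum.add_apply, AddMemClass.coe_add]
      exact add_mem ha hb

/-- `S_{≥n} = (S_{≥1})ⁿ` for `n ≥ n₀` iff `S_n = (S_1)ⁿ` for `n ≥ n₀` (`n₀ ≥ 1`). -/
theorem eq_pow_iff (n₀ : ℕ) (hn₀ : 1 ≤ n₀) :
    (∀ n : ℕ, n₀ ≤ n → G 𝒜 n = G 𝒜 1 ^ n) ↔ (∀ n : ℕ, n₀ ≤ n → 𝒜 n = 𝒜 1 ^ n) := by
  classical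
  constructor
  · intro H n hn
    refine le_antisymm ?_ (degOne_pow_le 𝒜 n)
    intro x hx
    have hx' : x ∈ G 𝒜 1 ^ n := by
      rw [← H n hn]
      exact le_G 𝒜 le_rfl hx
    have := proj_pow_mem 𝒜 n x hx'
    rwa [decompose_of_mem_same 𝒜 hx] at this
  · intro H n hn
    refine le_antisymm ?_ (G_pow_le 𝒜 n)
    unfold G
    refine iSup_le fun m => ?_
    obtain ⟨m, hm⟩ := m
    change 𝒜 m ≤ _
    obtain ⟨n', rfl⟩ : ∃ n', n = n' + 1 := ⟨n - 1, by omega⟩
    rw [H m (by omega)]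
    have hm' : m = n' + (m - n') := by omega
    rw [hm', pow_add, pow_succ]
    refine mul_le_mul' ?_ ?_
    · exact pow_le_pow_left' (le_G 𝒜 le_rfl) n'
    · exact (degOne_pow_le 𝒜 (m - n')).trans (le_G 𝒜 (by omega))

end SNat

namespace SNat

variable {R A B : Type u} [CommRing R] [CommRing A] [Algebra R A]
  (𝒜 : ℕ → Submodule R A) [GradedAlgebra 𝒜] [CommRing B] [Algebra R B] (ℬ : ℕ → Submodule R B)

/-- `a ↦ a Xⁿ`, `R`-linear. -/
noncomputable abbrev mon (n : ℕ) : A →ₗ[R] Polynomial A :=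
  (Polynomial.monomial n : A →ₗ[A] Polynomial A).restrictScalars R

theorem mon_injective (n : ℕ) : Function.Injective (mon (R := R) (A := A) n) :=
  Polynomial.monomial_injective n

theorem map_mon_mul (i j : ℕ) (M N : Submodule R A) :
    M.map (mon i) * N.map (mon j) = (M * N).map (mon (i + j)) := by
  refine le_antisymm ?_ ?_
  · rw [Submodule.mul_le]
    rintro _ ⟨a, ha, rfl⟩ _ ⟨b, hb, rfl⟩
    refine ⟨a * b, Submodule.mul_mem_mul ha hb, ?_⟩
    change Polynomial.monomial (i + j) (a * b) = Polynomial.monomial i a * Polynomial.monomial j b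
    rw [Polynomial.monomial_mul_monomial]
  · rw [Submodule.map_le_iff_le_comap, Submodule.mul_le]
    intro a ha b hb
    change Polynomial.monomial (i + j) (a * b) ∈ M.map (mon i) * N.map (mon j)
    rw [← Polynomial.monomial_mul_monomial]
    exact Submodule.mul_mem_mul ⟨a, ha, rfl⟩ ⟨b, hb, rfl⟩

theorem map_mon_pow (n : ℕ) (M : Submodule R A) :
    M.map (mon 1) ^ n = (M ^ n).map (mon n) := by
  induction n with
  | zero =>
    rw [pow_zero, pow_zero, Submodule.one_eq_span, Submodule.one_eq_span, Submodule.map_span,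
      Set.image_singleton]
    rfl
  | succ n ih =>
    rw [pow_succ, ih, map_mon_mul, pow_succ]

variable {𝒜 ℬ} (φ : B →ₐ[R] Polynomial A) (hφ : Function.Injective φ)
  (hdeg : ∀ n : ℕ, Submodule.map φ.toLinearMap (ℬ n) =
    Submodule.map ((Polynomial.monomial n : A →ₗ[A] Polynomial A).restrictScalars R)
      (⨆ (m : ℕ) (_ : n ≤ m), 𝒜 m))

include hdeg in
theorem hdeg' (n : ℕ) : Submodule.map φ.toLinearMap (ℬ n) = (G 𝒜 n).map (mon n) := by
  rw [hdeg n, G_eq]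

include hφ hdeg in
theorem succ_eq_mul_iff_G (n : ℕ) : ℬ (n + 1) = ℬ 1 * ℬ n ↔ G 𝒜 (n + 1) = G 𝒜 1 * G 𝒜 n := by
  rw [← (Submodule.map_injective_of_injective (f := φ.toLinearMap) hφ).eq_iff, Submodule.map_mul,
    hdeg' φ hdeg, hdeg' φ hdeg, hdeg' φ hdeg, map_mon_mul, add_comm 1 n,
    (Submodule.map_injective_of_injective (mon_injective (n + 1))).eq_iff]

include hφ hdeg in
theorem eq_pow_iff_G (n : ℕ) : ℬ n = ℬ 1 ^ n ↔ G 𝒜 n = G 𝒜 1 ^ n := by
  rw [← (Submodule.map_injective_of_injective (f := φ.toLinearMap) hφ).eq_iff, Submodule.map_pow,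
    hdeg' φ hdeg, hdeg' φ hdeg, map_mon_pow,
    (Submodule.map_injective_of_injective (mon_injective n)).eq_iff]

end SNat

end Groth.Agent.Lib.Helper42
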