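import Mathlib

/-!
# A local criterion for discrete valuation rings, and the local ring of a fibre at a Cartier section

* `isDVR_of_maximalIdeal_eq_span_regular`: a Noetherian local ring whose maximal ideal is generated
  by one nonzerodivisor is a discrete valuation ring (in particular a domain).
* `isDVR_fibre_of_section`: the pure-algebra core of EGA II 8.x: `ψ : A' → B` local,
  `σ : B → A` surjective with kernel generated by a nonzerodivisor and `σ ∘ ψ` bijective; then
  `B / 𝔪_{A'} B` (if Noetherian) is a discrete valuation ring.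
-/

set_option autoImplicit false
universe u

namespace Groth.Agent.Lib.Helper42

open IsLocalRing

section DVR

variable {F : Type u} [CommRing F] [IsNoetherianRing F] [IsLocalRing F]

theorem exists_unit_mul_pow_of_maximalIdeal_eq_span (τ : F)
    (hmax : maximalIdeal F = Ideal.span {τ}) (x : F) (hx : x ≠ 0) :
    ∃ (n : ℕ) (u : F), IsUnit u ∧ x = u * τ ^ n := by
  have hbot : ⨅ i, maximalIdeal F ^ i = ⊥ :=
    Ideal.iInf_pow_eq_bot_of_isLocalRing (maximalIdeal F) Ideal.IsPrime.ne_top'
  have hex : ∃ n, x ∉ maximalIdeal F ^ n := by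
    by_contra hcon
    push_neg at hcon
    have : x ∈ ⨅ i, maximalIdeal F ^ i := by
      rw [Ideal.mem_iInf]; exact hcon
    rw [hbot] at this
    exact hx this
  classical
  have hfind := Nat.find_spec hex
  have hmin := fun m => Nat.find_min hex (m := m)
  set n := Nat.find hex with hn
  have hn0 : n ≠ 0 := by
    intro h0
    rw [h0, pow_zero, Ideal.one_eq_top] at hfind
    exact hfind trivial
  obtain ⟨k, hk⟩ := Nat.exists_eq_succ_of_ne_zero hn0
  have hmem : x ∈ maximalIdeal F ^ k := by
    by_contra hc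
    exact hmin k (by omega) hc
  rw [hmax, Ideal.span_singleton_pow, Ideal.mem_span_singleton'] at hmem
  obtain ⟨u, hu⟩ := hmem
  refine ⟨k, u, ?_, hu.symm⟩
  by_contra hnu
  have hum : u ∈ maximalIdeal F := (mem_maximalIdeal u).mpr hnu
  rw [hmax, Ideal.mem_span_singleton'] at hum
  obtain ⟨w, hw⟩ := hum
  apply hfind
  rw [hk, hmax, Ideal.span_singleton_pow, Ideal.mem_span_singleton']
  exact ⟨w, by rw [← hu, ← hw, pow_succ]; ring⟩

theorem isDomain_of_maximalIdeal_eq_span_regular (τ : F) (hτ : τ ∈ nonZeroDivisors F)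
    (hmax : maximalIdeal F = Ideal.span {τ}) : IsDomain F := by
  haveI : NoZeroDivisors F := by
    refine ⟨fun {x y} hxy => ?_⟩
    by_contra hcon
    push_neg at hcon
    obtain ⟨n, u, hu, rfl⟩ := exists_unit_mul_pow_of_maximalIdeal_eq_span τ hmax x hcon.1
    obtain ⟨m, w, hw, rfl⟩ := exists_unit_mul_pow_of_maximalIdeal_eq_span τ hmax y hcon.2
    have h1 : (u * w) * τ ^ (n + m) = 0 := by
      rw [← hxy, pow_add]; ring
    have h2 : τ ^ (n + m) ∈ nonZeroDivisors F := pow_mem hτ _
    have h3 : u * w = 0 := (mem_nonZeroDivisors_iff_right.mp h2) _ h1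
    have h4 : IsUnit (u * w) := hu.mul hw
    rw [h3] at h4
    exact not_isUnit_zero h4
  exact NoZeroDivisors.to_isDomain F

theorem isDVR_of_maximalIdeal_eq_span_regular (τ : F) (hτ : τ ∈ nonZeroDivisors F)
    (hmax : maximalIdeal F = Ideal.span {τ}) :
    ∃ _ : IsDomain F, IsDiscreteValuationRing F := by
  haveI hdom : IsDomain F := isDomain_of_maximalIdeal_eq_span_regular τ hτ hmax
  refine ⟨hdom, ?_⟩
  have hnf : ¬ IsField F := by
    rw [IsLocalRing.isField_iff_maximalIdeal_eq, hmax]
    intro h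
    rw [Ideal.span_singleton_eq_bot] at h
    exact nonZeroDivisors.ne_zero hτ h
  refine ((IsDiscreteValuationRing.TFAE F hnf).out 0 4).mpr ?_
  rw [hmax]
  exact ⟨⟨τ, rfl⟩⟩

end DVR

section Fibre

variable {A' B A F : Type u} [CommRing A'] [CommRing B] [CommRing A] [CommRing F]
  [IsLocalRing A'] [IsLocalRing B]

/-- Decomposition `B = ψ(A') + t B` coming from a retraction `σ` with kernel `(t)`. -/
theorem exists_decomp (ψ : A' →+* B) (σ : B →+* A)
    (hσψ : Function.Bijective (σ.comp ψ)) (t : B) (hker : RingHom.ker σ = Ideal.span {t}) (b : B) :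
    ∃ (a : A') (b' : B), b = ψ a + t * b' := by
  obtain ⟨a, ha⟩ := hσψ.2 (σ b)
  have h1 : b - ψ a ∈ RingHom.ker σ := by
    rw [RingHom.mem_ker, map_sub, sub_eq_zero]
    exact ha.symm
  rw [hker, Ideal.mem_span_singleton'] at h1
  obtain ⟨b', hb'⟩ := h1
  exact ⟨a, b', by rw [mul_comm, hb']; ring⟩

theorem exists_decomp_of_mem_map (ψ : A' →+* B) (σ : B →+* A)
    (hσψ : Function.Bijective (σ.comp ψ)) (t : B) (hker : RingHom.ker σ = Ideal.span {t})
    (I : Ideal A') (y : B) (hy : y ∈ I.map ψ) :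
    ∃ (m : A') (y' : B), m ∈ I ∧ y' ∈ I.map ψ ∧ y = ψ m + t * y' := by
  unfold Ideal.map at hy
  refine Submodule.span_induction (p := fun y _ => ∃ (m : A') (y' : B), m ∈ I ∧ y' ∈ I.map ψ ∧
    y = ψ m + t * y') ?_ ?_ ?_ ?_ hy
  · rintro _ ⟨m, hm, rfl⟩
    exact ⟨m, 0, hm, zero_mem _, by simp⟩
  · exact ⟨0, 0, zero_mem _, zero_mem _, by simp⟩
  · rintro y₁ y₂ _ _ ⟨m₁, y₁', hm₁, hy₁', rfl⟩ ⟨m₂, y₂', hm₂, hy₂', rfl⟩
    exact ⟨m₁ + m₂, y₁' + y₂', add_mem hm₁ hm₂, add_mem hy₁' hy₂', by rw [map_add]; ring⟩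
  · rintro b y _ ⟨m, y', hm, hy', rfl⟩
    obtain ⟨a, b', rfl⟩ := exists_decomp ψ σ hσψ t hker b
    refine ⟨a * m, b' * ψ m + (ψ a + t * b') * y', I.mul_mem_left _ hm, ?_, ?_⟩
    · exact add_mem (Ideal.mul_mem_left _ _ (Ideal.mem_map_of_mem _ hm)) (Ideal.mul_mem_left _ _ hy')
    · rw [smul_eq_mul, map_mul]; ring

/-- The algebraic core: the local ring of the fibre at a point of a section which is an effective
Cartier divisor is a discrete valuation ring. -/
theorem isDVR_fibre_of_section (ψ : A' →+* B) [IsLocalHom ψ] (σ : B →+* A) (ρ : B →+* F)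
    (hσψ : Function.Bijective (σ.comp ψ))
    (t : B) (ht : t ∈ nonZeroDivisors B) (hker : RingHom.ker σ = Ideal.span {t})
    (hρ : Function.Surjective ρ) (hkerρ : RingHom.ker ρ = (maximalIdeal A').map ψ)
    [IsNoetherianRing F] :
    ∃ _ : IsDomain F, IsDiscreteValuationRing F := by
  -- `A` is nontrivial
  haveI : Nontrivial A := by
    refine ⟨⟨(σ.comp ψ) 0, (σ.comp ψ) 1, fun h => zero_ne_one (hσψ.1 h)⟩⟩
  -- `F` is a local ring
  haveI : Nontrivial F := by
    have hne : RingHom.ker ρ ≠ ⊤ := by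
      rw [hkerρ]; exact (map_maximalIdeal_lt_top ψ).ne
    refine ⟨⟨0, 1, fun h => hne ?_⟩⟩
    rw [Ideal.eq_top_iff_one, RingHom.mem_ker, map_one]
    exact h.symm
  haveI : IsLocalRing F := IsLocalRing.of_surjective' ρ hρ
  haveI : IsLocalHom ρ := IsLocalHom.of_surjective ρ hρ
  -- `t` is not a unit
  have htnu : ¬ IsUnit t := by
    intro hu
    have h0 : σ t = 0 := by
      rw [← RingHom.mem_ker, hker]; exact Ideal.mem_span_singleton_self t
    have := hu.map σ
    rw [h0] at this
    exact not_isUnit_zero this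
  -- the maximal ideal of `F` is generated by `ρ t`
  have hmax : maximalIdeal F = Ideal.span {ρ t} := by
    apply le_antisymm
    · intro c hc
      rw [mem_maximalIdeal] at hc
      obtain ⟨b, rfl⟩ := hρ c
      obtain ⟨a, b', rfl⟩ := exists_decomp ψ σ hσψ t hker b
      by_cases ha : a ∈ maximalIdeal A'
      · have h0 : ρ (ψ a) = 0 := by
          rw [← RingHom.mem_ker, hkerρ]; exact Ideal.mem_map_of_mem _ ha
        rw [map_add, h0, zero_add, map_mul]
        exact Ideal.mul_mem_right _ _ (Ideal.mem_span_singleton_self _)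
      · exfalso
        apply hc
        have hau : IsUnit a := by
          by_contra h; exact ha ((mem_maximalIdeal a).mpr h)
        have h1 : IsUnit (ψ a) := hau.map ψ
        have h2 : t * b' ∈ maximalIdeal B :=
          Ideal.mul_mem_right _ _ ((mem_maximalIdeal t).mpr htnu)
        have h3 : IsUnit (ψ a + t * b') := by
          by_contra h
          have h4 : ψ a + t * b' ∈ maximalIdeal B := (mem_maximalIdeal _).mpr h
          have h5 : ψ a ∈ maximalIdeal B := by
            have := sub_mem h4 h2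
            rwa [add_sub_cancel_right] at this
          exact (mem_maximalIdeal _).mp h5 h1
        exact h3.map ρ
    · rw [Ideal.span_le, Set.singleton_subset_iff, SetLike.mem_coe, mem_maximalIdeal]
      intro hu
      exact htnu ((isUnit_map_iff ρ t).mp hu)
  -- `ρ t` is a nonzerodivisor
  have hreg : ρ t ∈ nonZeroDivisors F := by
    rw [mem_nonZeroDivisors_iff_right]
    intro c hc
    obtain ⟨b, rfl⟩ := hρ c
    have h1 : b * t ∈ (maximalIdeal A').map ψ := by
      rw [← hkerρ, RingHom.mem_ker, map_mul]; exact hc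
    obtain ⟨m, y', hm, hy', hy⟩ := exists_decomp_of_mem_map ψ σ hσψ t hker _ _ h1
    have h2 : σ (ψ m) = 0 := by
      have h3 := congrArg σ hy
      have h0 : σ t = 0 := by
        rw [← RingHom.mem_ker, hker]; exact Ideal.mem_span_singleton_self t
      rw [map_mul, map_add, map_mul, h0, mul_zero, zero_mul, add_zero] at h3
      exact h3.symm
    have hm0 : m = 0 := hσψ.1 (by rw [RingHom.comp_apply, h2, map_zero])
    rw [hm0, map_zero, zero_add, mul_comm] at hy
    have h4 : (b - y') * t = 0 := by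
      rw [sub_mul, mul_comm y' t, mul_comm b t, hy, sub_self]
    have h5 : b - y' = 0 := (mem_nonZeroDivisors_iff_right.mp ht) _ h4
    have h6 : b = y' := sub_eq_zero.mp h5
    rw [h6, ← RingHom.mem_ker, hkerρ]
    exact hy'
  exact isDVR_of_maximalIdeal_eq_span_regular (ρ t) hreg hmax

end Fibre

end Groth.Agent.Lib.Helper42
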