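import Groth.Agent.Lib.Helper42.SectionDVR
import Groth.Agent.Lib.Helper49.FiberStalk

/-!
# Stalk maps of closed immersions and of fibre inclusions
-/

set_option autoImplicit false
universe u

open CategoryTheory AlgebraicGeometry

namespace Groth.Agent.Lib.Helper42

variable {X V : Scheme.{u}}

/-- The kernel of the stalk map of a closed immersion `j` at `x` is generated by the germs of
`j.ker (U)` for any affine open `U ∋ j x` (adapted from helper8's `SubschemeStalk.ker_stalkMap`). -/
theorem ker_stalkMap_of_isClosedImmersion (j : X ⟶ V) [IsClosedImmersion j] (x : X)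
    (U : V.affineOpens) (hx : j x ∈ U.1) :
    RingHom.ker (j.stalkMap x).hom =
      (j.ker.ideal U).map (V.presheaf.germ U.1 (j x) hx).hom := by
  set v := j x with hvdef
  have hV : IsAffineOpen (j ⁻¹ᵁ U.1) := U.2.preimage j
  have hker : RingHom.ker (j.app U.1).hom = j.ker.ideal U := (Scheme.Hom.ker_apply j U).symm
  have hsurj : Function.Surjective (j.app U.1).hom := j.app_surjective U.1 U.2
  apply le_antisymm
  · intro b' hb'
    rw [RingHom.mem_ker] at hb'
    letI : Algebra Γ(V, U.1) (V.presheaf.stalk v) :=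
      TopCat.Presheaf.algebra_section_stalk V.presheaf ⟨v, hx⟩
    have hloc : IsLocalization.AtPrime (V.presheaf.stalk v)
        (U.2.primeIdealOf ⟨v, hx⟩).asIdeal := U.2.isLocalization_stalk ⟨v, hx⟩
    letI : Algebra Γ(X, j ⁻¹ᵁ U.1) (X.presheaf.stalk x) :=
      TopCat.Presheaf.algebra_section_stalk X.presheaf ⟨x, hx⟩
    have hlocD : IsLocalization.AtPrime (X.presheaf.stalk x)
        (hV.primeIdealOf ⟨x, hx⟩).asIdeal := hV.isLocalization_stalk ⟨x, hx⟩
    obtain ⟨⟨b, s⟩, hbs⟩ := IsLocalization.surj (U.2.primeIdealOf ⟨v, hx⟩).asIdeal.primeCompl b'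
    have hbs' : b' * (V.presheaf.germ U.1 v hx).hom s.1 = (V.presheaf.germ U.1 v hx).hom b := hbs
    have hsunit : IsUnit ((V.presheaf.germ U.1 v hx).hom s.1) :=
      IsLocalization.map_units (V.presheaf.stalk v) s
    have h1 : (X.presheaf.germ (j ⁻¹ᵁ U.1) x hx).hom ((j.app U.1).hom b) = 0 := by
      have := Scheme.Hom.germ_stalkMap_apply j U.1 x hx b
      change (j.stalkMap x).hom ((V.presheaf.germ U.1 v hx).hom b) = _ at this
      rw [← this, ← hbs', map_mul, hb', zero_mul]
    obtain ⟨m, hm⟩ := (IsLocalization.map_eq_zero_iff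
      (hV.primeIdealOf ⟨x, hx⟩).asIdeal.primeCompl (X.presheaf.stalk x) _).mp h1
    obtain ⟨s', hs'⟩ := hsurj m.1
    have hmunit : IsUnit ((X.presheaf.germ (j ⁻¹ᵁ U.1) x hx).hom m.1) :=
      IsLocalization.map_units (X.presheaf.stalk x) m
    have hs'unit : IsUnit ((V.presheaf.germ U.1 v hx).hom s') := by
      have h2 := Scheme.Hom.germ_stalkMap_apply j U.1 x hx s'
      change (j.stalkMap x).hom ((V.presheaf.germ U.1 v hx).hom s') = _ at h2
      rw [hs'] at h2
      rw [← h2] at hmunit
      exact (isUnit_map_iff (j.stalkMap x).hom _).mp hmunit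
    have h3 : s' * b ∈ j.ker.ideal U := by
      rw [← hker, RingHom.mem_ker, map_mul, hs']
      exact hm
    have h4 : (V.presheaf.germ U.1 v hx).hom (s' * b) ∈
        (j.ker.ideal U).map (V.presheaf.germ U.1 v hx).hom := Ideal.mem_map_of_mem _ h3
    rw [map_mul, ← hbs'] at h4
    have h5 : b' * ((V.presheaf.germ U.1 v hx).hom s' * (V.presheaf.germ U.1 v hx).hom s.1) ∈
        (j.ker.ideal U).map (V.presheaf.germ U.1 v hx).hom := by
      have : b' * ((V.presheaf.germ U.1 v hx).hom s' * (V.presheaf.germ U.1 v hx).hom s.1) =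
          (V.presheaf.germ U.1 v hx).hom s' * (b' * (V.presheaf.germ U.1 v hx).hom s.1) := by ring
      rw [this]
      exact h4
    exact (Ideal.mul_unit_mem_iff_mem _ (hs'unit.mul hsunit)).mp h5
  · rw [Ideal.map_le_iff_le_comap]
    intro a ha
    rw [Ideal.mem_comap, RingHom.mem_ker]
    have := Scheme.Hom.germ_stalkMap_apply j U.1 x hx a
    change (j.stalkMap x).hom ((V.presheaf.germ U.1 v hx).hom a) = _ at this
    rw [this]
    have h0 : (j.app U.1).hom a = 0 := by
      rw [← RingHom.mem_ker, hker]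
      exact ha
    change (X.presheaf.germ (j ⁻¹ᵁ U.1) x hx).hom ((j.app U.1).hom a) = 0
    rw [h0, map_zero]

/-- On an affine open, the germ of a nonzerodivisor is a nonzerodivisor. -/
theorem germ_mem_nonZeroDivisors_of_isAffineOpen {U : V.Opens} (hU : IsAffineOpen U) (f : Γ(V, U))
    (hf : f ∈ nonZeroDivisors Γ(V, U)) (x : V) (hx : x ∈ U) :
    V.presheaf.germ U x hx f ∈ nonZeroDivisors (V.presheaf.stalk x) := by
  letI : Algebra Γ(V, U) (V.presheaf.stalk x) :=
    TopCat.Presheaf.algebra_section_stalk V.presheaf ⟨x, hx⟩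
  have hloc : IsLocalization.AtPrime (V.presheaf.stalk x) (hU.primeIdealOf ⟨x, hx⟩).asIdeal :=
    hU.isLocalization_stalk ⟨x, hx⟩
  have := IsLocalization.map_nonZeroDivisors_le
    (hU.primeIdealOf ⟨x, hx⟩).asIdeal.primeCompl (V.presheaf.stalk x)
  exact this (Submonoid.mem_map_of_mem _ hf)

/-- The local ring of a fibre, as a quotient of the local ring of the total space. -/
theorem exists_surjective_stalk_fiber (π : V ⟶ X) (t : X) (z : ↥(π.fiber t)) (v : V)
    (hv : π.fiberι t z = v) :
    ∃ ρ : V.presheaf.stalk v →+* (π.fiber t).presheaf.stalk z, Function.Surjective ρ ∧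
      RingHom.ker ρ = Ideal.map (π.stalkMap v).hom
        (IsLocalRing.maximalIdeal (X.presheaf.stalk (π v))) := by
  subst hv
  exact ⟨((π.fiberι t).stalkMap z).hom, (π.fiberι t).stalkMap_surjective z,
    le_antisymm (Helper49.ker_le_map π t z) (Helper49.map_le_ker π t z)⟩

theorem isNoetherianRing_stalk_fiber_of_locallyOfFiniteType (π : V ⟶ X) [LocallyOfFiniteType π]
    (t : X) (z : ↥(π.fiber t)) : IsNoetherianRing ((π.fiber t).presheaf.stalk z) := by
  have hlft : LocallyOfFiniteType (π.fiberToSpecResidueField t) :=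
    MorphismProperty.pullback_snd (P := @LocallyOfFiniteType) _ _ ‹_›
  have : IsLocallyNoetherian (π.fiber t) :=
    LocallyOfFiniteType.isLocallyNoetherian (π.fiberToSpecResidueField t)
  infer_instance

/-- EGA II: if the section `j` of `π` is a closed immersion whose ideal is effective Cartier, the
local ring of the fibre of `π` at `j x` is a discrete valuation ring. -/
theorem isDVR_stalk_fiber_of_section (π : V ⟶ X) [LocallyOfFiniteType π]
    (j : X ⟶ V) [IsClosedImmersion j] (hj : j ≫ π = 𝟙 X)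
    (U : V.affineOpens) (x : X) (hxU : j x ∈ U.1) (f : Γ(V, U.1))
    (hf : f ∈ nonZeroDivisors Γ(V, U.1)) (hU : j.ker.ideal U = Ideal.span {f}) :
    ∃ _ : IsDomain ((π.fiber (π (j x))).presheaf.stalk (π.asFiber (j x))),
      IsDiscreteValuationRing ((π.fiber (π (j x))).presheaf.stalk (π.asFiber (j x))) := by
  obtain ⟨ρ, hρ, hkerρ⟩ := exists_surjective_stalk_fiber π (π (j x)) (π.asFiber (j x)) (j x)
    (π.fiberι_asFiber (j x))
  haveI := isNoetherianRing_stalk_fiber_of_locallyOfFiniteType π (π (j x)) (π.asFiber (j x))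
  have hiso : IsIso (j ≫ π) := by rw [hj]; infer_instance
  have hiso' : IsIso ((j ≫ π).stalkMap x) := inferInstance
  have hcomp : (j ≫ π).stalkMap x = π.stalkMap (j x) ≫ j.stalkMap x :=
    Scheme.Hom.stalkMap_comp j π x
  have hbij : Function.Bijective ((j.stalkMap x).hom.comp (π.stalkMap (j x)).hom) := by
    have h1 : Function.Bijective ((j ≫ π).stalkMap x).hom :=
      ConcreteCategory.bijective_of_isIso ((j ≫ π).stalkMap x)
    rw [hcomp] at h1
    exact h1
  refine isDVR_fibre_of_section (π.stalkMap (j x)).hom (j.stalkMap x).hom ρ hbij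
    ((V.presheaf.germ U.1 (j x) hxU).hom f)
    (germ_mem_nonZeroDivisors_of_isAffineOpen U.2 f hf (j x) hxU) ?_ hρ hkerρ
  rw [ker_stalkMap_of_isClosedImmersion j x U hxU, hU, Ideal.map_span, Set.image_singleton]

end Groth.Agent.Lib.Helper42
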