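import Groth.Agent.Lib.Helper42.StalkFree
import Groth.Agent.Lib.Helper42.StalkColim
import Groth.Agent.Lib.Helper42.FPLocal
import Groth.Agent.S6833

/-!
# Stalks at the point of the site of opens: comparison with the topological stalk, bases

* `toTopStalk x P`, `toTopStalk_bijective`, `stalkRingEquiv x O : stalkRing (pt x) O ≃+* O.presheaf.stalk x`:
  the fibre of a presheaf of commutative rings at the point `Opens.pointGrothendieckTopology x` of the
  site of opens is the topological stalk.
* `exists_common_germRing`: finitely many elements of the stalk of the structure sheaf are germs over a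
  common neighbourhood.
* `germ_span`, `germ_indep`, `germBasis`: the germs of a local basis (`IsLocGen` + `IsLocIndep`) form a
  basis of the stalk.
* `isFinitePresentation_of_locally_finite_free`.
* `isFinitePresentation_of_retract`: a retract of a finitely presented module is finitely presented.
* `stalkMap_id_apply`, `stalkMap_comp_apply`.
-/

set_option autoImplicit false
universe u
open CategoryTheory CategoryTheory.Limits TopologicalSpace Opposite

namespace Groth.Agent.Lib.Helper42
namespace StalkBasis

open Groth.Agent.Lib.Helper42.FTLocal Groth.Agent.Lib.Helper42.FPLocal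
  Groth.Agent.Lib.Helper42.StalkColim Groth.Agent.Lib.Helper42.StalkFree ModSite

noncomputable section

section Compare

variable {X : TopCat.{u}} (x : X)

/-- comparison of the fibre at the point of the site with the topological stalk -/
def toTopStalk (P : (Opens X)ᵒᵖ ⥤ CommRingCat.{u}) :
    (Opens.pointGrothendieckTopology x).presheafFiber.obj P ⟶ TopCat.Presheaf.stalk P x :=
  (Opens.pointGrothendieckTopology x).presheafFiberDesc
    (fun U hx => TopCat.Presheaf.germ P U x hx.down.down)
    (by
      intro U V f hx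
      exact TopCat.Presheaf.germ_res P f x _)

lemma toTopStalk_germ (P : (Opens X)ᵒᵖ ⥤ CommRingCat.{u}) (U : Opens X) (hx : x ∈ U)
    (s : P.obj (op U)) :
    (toTopStalk x P).hom (((Opens.pointGrothendieckTopology x).toPresheafFiber U ⟨⟨hx⟩⟩ P).hom s) =
      (TopCat.Presheaf.germ P U x hx).hom s := by
  have := (Opens.pointGrothendieckTopology x).toPresheafFiber_presheafFiberDesc
    (P := P) (fun U hx => TopCat.Presheaf.germ P U x hx.down.down)
    (by
      intro U V f hx
      exact TopCat.Presheaf.germ_res P f x _) U ⟨⟨hx⟩⟩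
  exact congrArg (fun f => f.hom s) this

lemma toTopStalk_bijective (P : (Opens X)ᵒᵖ ⥤ CommRingCat.{u}) :
    Function.Bijective (toTopStalk x P).hom := by
  constructor
  · intro q₁ q₂ h
    obtain ⟨U, hU, z₁, z₂, rfl, rfl⟩ :=
      (Opens.pointGrothendieckTopology x).toPresheafFiber_jointly_surjective₂ q₁ q₂
    have hxU : x ∈ U := hU.down.down
    have h' : (TopCat.Presheaf.germ P U x hxU).hom z₁ =
        (TopCat.Presheaf.germ P U x hxU).hom z₂ := by
      rw [← toTopStalk_germ, ← toTopStalk_germ]
      exact h
    obtain ⟨W, hxW, iU, iV, e⟩ := TopCat.Presheaf.germ_eq P x hxU hxU z₁ z₂ h'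
    rw [(Opens.pointGrothendieckTopology x).toPresheafFiber_eq_iff']
    refine ⟨W, iU, ⟨⟨hxW⟩⟩, rfl, ?_⟩
    have hiv : iV = iU := Subsingleton.elim _ _
    rw [hiv] at e
    exact e
  · intro t
    obtain ⟨U, hxU, s, rfl⟩ := TopCat.Presheaf.exists_germ_eq P t
    exact ⟨_, toTopStalk_germ x P U hxU s⟩

/-- the stalk of the structure sheaf at the point of the site is the topological stalk -/
def stalkRingEquiv (O : TopCat.Sheaf CommRingCat.{u} X) :
    ModSite.stalkRing (Opens.pointGrothendieckTopology x) O ≃+* O.presheaf.stalk x :=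
  RingEquiv.ofBijective (toTopStalk x O.obj).hom (toTopStalk_bijective x O.obj)

lemma isLocalRing_stalkRing (O : TopCat.Sheaf CommRingCat.{u} X)
    [IsLocalRing (O.presheaf.stalk x)] :
    IsLocalRing (ModSite.stalkRing (Opens.pointGrothendieckTopology x) O) :=
  (stalkRingEquiv x O).symm.isLocalRing

lemma nontrivial_stalkRing (O : TopCat.Sheaf CommRingCat.{u} X)
    [Nontrivial (O.presheaf.stalk x)] :
    Nontrivial (ModSite.stalkRing (Opens.pointGrothendieckTopology x) O) :=
  (stalkRingEquiv x O).toEquiv.nontrivial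

end Compare

section GermBasis

variable {X : TopCat.{u}} {O : TopCat.Sheaf CommRingCat.{u} X} (x : X)

/-- finitely many elements of the stalk of the structure sheaf are germs over a common
neighbourhood -/
lemma exists_common_germRing {K : Type u} [Finite K]
    (q : K → ModSite.stalkRing (Opens.pointGrothendieckTopology x) O) (U₀ : Opens X)
    (hx₀ : x ∈ U₀) :
    ∃ (Y : Opens X) (_ : Y ≤ U₀) (hxY : x ∈ Y) (c : K → (ModSite.ringSh O).obj.obj (op Y)),
      ∀ k, germRingHom x Y hxY (c k) = q k := by
  have h := fun k => germRing_surjective x (q k)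
  choose Y hxY c hc using h
  have hmem : x ∈ U₀ ⊓ ⨅ k, Y k := by
    refine ⟨hx₀, ?_⟩
    rw [SetLike.mem_coe, ← SetLike.mem_coe, Opens.coe_iInf]
    exact Set.mem_iInter.mpr hxY
  have hle : ∀ k, U₀ ⊓ ⨅ k, Y k ≤ Y k := fun k => inf_le_right.trans (iInf_le Y k)
  refine ⟨U₀ ⊓ ⨅ k, Y k, inf_le_left, hmem,
    fun k => rr (ModSite.ringSh O) (homOfLE (hle k)) (c k), fun k => ?_⟩
  exact (germRing_res x (hle k) hmem (c k)).trans (hc k)

variable (F : ModSite.Mod O) {U : Opens X} (hxU : x ∈ U) {I : Type u} [Fintype I]
  (e : I → F.val.obj (op U))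

include hxU in
/-- the germs of local generators span the stalk -/
lemma germ_span (hgen : IsLocGen F U e)
    (m : ModSite.stalkAb (Opens.pointGrothendieckTopology x) F) :
    ∃ q : I → ModSite.stalkRing (Opens.pointGrothendieckTopology x) O,
      m = ∑ k, q k • germHom x F U hxU (e k) := by
  obtain ⟨Y, hxY, t, rfl⟩ := germ_surjective x F m
  obtain ⟨W, hW, hxW, c, hc⟩ := hgen (Y ⊓ U) inf_le_right (rs F (homOfLE inf_le_left) t) x
    ⟨hxY, hxU⟩
  rw [rs_le_le] at hc
  refine ⟨fun k => germRingHom x W hxW (c k), ?_⟩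
  have e1 := germ_res x F (hW.trans inf_le_left) hxW t
  rw [hc] at e1
  refine e1.symm.trans ?_
  change germHom x F W hxW _ = _
  rw [germHom_sum_smul]
  refine Finset.sum_congr rfl (fun k _ => ?_)
  congr 1
  exact germ_res x F (hW.trans inf_le_right) hxW (e k)

/-- the germs of locally independent sections are linearly independent -/
lemma germ_indep (hind : IsLocIndep F U e)
    (q : I → ModSite.stalkRing (Opens.pointGrothendieckTopology x) O)
    (h : ∑ k, q k • germHom x F U hxU (e k) = 0) : ∀ k, q k = 0 := by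
  obtain ⟨Y, hY, hxY, c, hc⟩ := exists_common_germRing x q U hxU
  have h1 : germHom x F Y hxY (∑ k, c k • rs F (homOfLE hY) (e k)) = 0 := by
    rw [germHom_sum_smul]
    refine Eq.trans (Finset.sum_congr rfl (fun k _ => ?_)) h
    rw [hc k]
    congr 1
    exact germ_res x F hY hxY (e k)
  obtain ⟨W, hW, hxW, e0⟩ := exists_res_eq_of_germ_eq x F hxY _ 0
    (h1.trans (map_zero (germHom x F Y hxY)).symm)
  rw [map_zero, rs_sum_smul] at e0
  simp only [rs_le_le] at e0
  have h2 := hind W (hW.trans hY) (fun k => rr (ModSite.ringSh O) (homOfLE hW) (c k)) e0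
  intro k
  rw [← hc k]
  refine (germRing_res x hW hxW (c k)).symm.trans ?_
  have h3 : rr (ModSite.ringSh O) (homOfLE hW) (c k) = 0 := h2 k
  rw [h3]
  exact map_zero (germRingHom x W hxW)

/-- the germs of a local basis form a basis of the stalk -/
def germBasis (hgen : IsLocGen F U e) (hind : IsLocIndep F U e) :
    Module.Basis I (ModSite.stalkRing (Opens.pointGrothendieckTopology x) O)
      (ModSite.stalkAb (Opens.pointGrothendieckTopology x) F) :=
  Module.Basis.mk (v := fun k => germHom x F U hxU (e k))
    (Fintype.linearIndependent_iff.mpr (germ_indep x F hxU e hind))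
    (by
      intro m _
      obtain ⟨q, rfl⟩ := germ_span x F hxU e hgen m
      exact Submodule.sum_mem _ (fun k _ => Submodule.smul_mem _ _
        (Submodule.subset_span ⟨k, rfl⟩)))

end GermBasis

section FP

variable {X : TopCat.{u}} {O : TopCat.Sheaf CommRingCat.{u} X}

lemma isFinitePresentation_of_locally_finite_free (H : ModSite.Mod O)
    (hH : ∀ x : X, ∃ (U : Opens X) (n : ℕ), x ∈ U ∧
      Nonempty ((ModSite.restr O U).obj H ≅ SheafOfModules.free (ULift.{u} (Fin n)))) :
    SheafOfModules.IsFinitePresentation.{u} (R := ModSite.ringSh O) H := by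
  rw [isFinitePresentation_iff]
  intro y
  obtain ⟨U, n, hyU, hiso⟩ := hH y
  obtain ⟨e, hgen, hind⟩ := exists_basis_of_iso_free (R := ModSite.ringSh O) H U hiso
  refine ⟨U, hyU, ULift.{u} (Fin n), inferInstance, e, PEmpty.{u + 1}, inferInstance,
    fun l => l.elim, hgen, fun l => l.elim, fun V hV a ha z hz => ?_⟩
  refine ⟨V, le_rfl, hz, fun l => l.elim, fun i => ?_⟩
  rw [hind V hV a ha i, map_zero]
  simp

lemma isFinitePresentation_of_retract {F H : ModSite.Mod O}
    [SheafOfModules.IsFinitePresentation.{u} (R := ModSite.ringSh O) H]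
    (i : F ⟶ H) (p : H ⟶ F) (hip : i ≫ p = 𝟙 F) :
    SheafOfModules.IsFinitePresentation.{u} (R := ModSite.ringSh O) F := by
  obtain ⟨q, hqdef⟩ : ∃ q : H ⟶ H, q = 𝟙 H - p ≫ i := ⟨_, rfl⟩
  have hpi : p ≫ i = 𝟙 H - q := by rw [hqdef]; abel
  have hq : q ≫ p = 0 := by
    rw [hqdef, Preadditive.sub_comp, Category.id_comp, Category.assoc, hip, Category.comp_id,
      sub_self]
  have h1 : SheafOfModules.IsFinitePresentation.{u} (R := ModSite.ringSh O) (cokernel q) :=
    Groth.Agent.S6833.result O q
  let e : cokernel q ≅ F :=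
    { hom := cokernel.desc q p hq
      inv := i ≫ cokernel.π q
      hom_inv_id := by
        apply coequalizer.hom_ext
        rw [cokernel.π_desc_assoc, Category.comp_id, ← Category.assoc, hpi, Preadditive.sub_comp,
          Category.id_comp, cokernel.condition, sub_zero]
      inv_hom_id := by
        rw [Category.assoc, cokernel.π_desc, hip] }
  exact (SheafOfModules.isFinitePresentation (ModSite.ringSh O)).prop_of_iso e h1

end FP

section StalkMap

variable {C : Type u} [SmallCategory C] {J : GrothendieckTopology C}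
  (pt : GrothendieckTopology.Point.{u} J) {O' : Sheaf J CommRingCat.{u}}

lemma stalkMap_comp_apply {F G K : ModSite.Mod O'} (φ : F ⟶ G) (ψ : G ⟶ K)
    (m : ModSite.stalkAb pt F) :
    (ModSite.stalkMap pt ψ).hom ((ModSite.stalkMap pt φ).hom m) =
      (ModSite.stalkMap pt (φ ≫ ψ)).hom m := by
  change (pt.sheafFiber.map ((SheafOfModules.toSheaf _).map ψ)).hom
    ((pt.sheafFiber.map ((SheafOfModules.toSheaf _).map φ)).hom m) =
      (pt.sheafFiber.map ((SheafOfModules.toSheaf _).map (φ ≫ ψ))).hom m
  rw [CategoryTheory.Functor.map_comp, CategoryTheory.Functor.map_comp]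
  rfl

lemma stalkMap_id_apply (F : ModSite.Mod O') (m : ModSite.stalkAb pt F) :
    (ModSite.stalkMap pt (𝟙 F)).hom m = m := by
  change (pt.sheafFiber.map ((SheafOfModules.toSheaf _).map (𝟙 F))).hom m = m
  rw [CategoryTheory.Functor.map_id, CategoryTheory.Functor.map_id]
  rfl

end StalkMap


end

end StalkBasis
end Groth.Agent.Lib.Helper42
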