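import Groth.Agent.Lib.Helper42.FPLocal
import Groth.Agent.Lib.Helper42.StalkColim

/-!
# Free restrictions of sheaves of modules on a ringed space

`IsLocIndep`, `nonempty_iso_free_of_isLocGen_of_isLocIndep` (sections generating `F|_U` locally
and without local relations give `F|_U ≅ O_U^I`), germs of sections of the structure sheaf.
-/

set_option autoImplicit false
universe u
open CategoryTheory Limits Opposite TopologicalSpace

namespace Groth.Agent.Lib.Helper42
namespace StalkFree

open Groth.Agent.Lib.Helper30 Groth.Agent.Lib.Helper30.FreeTerminal SheafOfModules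
  Groth.Agent.Lib.Helper42.FTLocal Groth.Agent.Lib.Helper42.FPLocal
  Groth.Agent.Lib.Helper42.StalkColim

noncomputable section

section Site

variable {C : Type u} [SmallCategory C] {J : GrothendieckTopology C} {R : Sheaf J RingCat.{u}}

/-- a morphism of sheaves of modules injective on sections is a monomorphism -/
lemma mono_of_injective {M N : SheafOfModules.{u} R} (f : M ⟶ N)
    (h : ∀ W : C, Function.Injective (f.val.app (op W))) : Mono f := by
  refine Preadditive.mono_of_cancel_zero _ (fun {Z} g hg => ?_)
  ext W z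
  apply h W.unop
  have := congrArg (fun φ => φ.val.app W z) hg
  refine this.trans ?_
  exact (map_zero (f.val.app W).hom).symm

end Site

section Top

variable {X : TopCat.{u}} {R : Sheaf (Opens.grothendieckTopology X) RingCat.{u}}

/-- the sections `e k` over `U` have no relations over any smaller open -/
def IsLocIndep (M : SheafOfModules.{u} R) (U : Opens X) {I : Type u} [Fintype I]
    (e : I → M.val.obj (op U)) : Prop :=
  ∀ (V : Opens X) (hV : V ≤ U) (a : I → R.obj.obj (op V)),
    ∑ k, a k • rs M (homOfLE hV) (e k) = 0 → ∀ k, a k = 0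

/-- sections generating `M|_U` locally and without relations give an isomorphism with a free
module -/
theorem nonempty_iso_free_of_isLocGen_of_isLocIndep (M : SheafOfModules.{u} R) (U : Opens X)
    {I : Type u} [Fintype I] (e : I → M.val.obj (op U)) (hgen : IsLocGen M U e)
    (hind : IsLocIndep M U e) :
    Nonempty (M.over U ≅ SheafOfModules.free (R := R.over U) I) := by
  classical
  let hT := Over.mkIdTerminal (X := U)
  have hepi : Epi (freeDesc (R := R.over U) hT (M.over U) e) :=
    epi_freeDesc_of_genBy hT (M.over U) e (genBy_of_isLocGen M U e hgen)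
  have hmono : Mono (freeDesc (R := R.over U) hT (M.over U) e) := by
    apply mono_of_injective
    intro W
    rw [injective_iff_map_eq_zero]
    intro τ hτ
    have h1 := freeDesc_comb (R := R.over U) hT (M.over U) e W (coord W τ)
    rw [← eq_sum_coord, hτ] at h1
    have h2 := hind W.left (leOfHom W.hom) (coord W τ) h1.symm
    rw [eq_sum_coord W τ]
    refine Finset.sum_eq_zero (fun k _ => ?_)
    have h3 : coord W τ k = (0 : (R.over U).obj.obj (op W)) := h2 k
    rw [h3, zero_smul]
  have := isIso_of_mono_of_epi (freeDesc (R := R.over U) hT (M.over U) e)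
  exact ⟨(asIso (freeDesc (R := R.over U) hT (M.over U) e)).symm⟩

end Top

section Germs

variable {X : TopCat.{u}} {O : TopCat.Sheaf CommRingCat.{u} X} (x : X)

/-- every element of the stalk of the structure sheaf is a germ -/
lemma germRing_surjective (q : ModSite.stalkRing (Opens.pointGrothendieckTopology x) O) :
    ∃ (Y : Opens X) (hx : x ∈ Y) (c : O.obj.obj (op Y)),
      ModSite.germRing (Opens.pointGrothendieckTopology x) Y ⟨⟨hx⟩⟩ c = q := by
  obtain ⟨Y, y, c, rfl⟩ := (Opens.pointGrothendieckTopology x).toPresheafFiber_jointly_surjective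
    (P := O.obj) q
  exact ⟨Y, y.down.down, c, rfl⟩

lemma germRing_res {U W : Opens X} (h : W ≤ U) (hx : x ∈ W) (c : O.obj.obj (op U)) :
    ModSite.germRing (Opens.pointGrothendieckTopology x) W ⟨⟨hx⟩⟩
        (rr (ModSite.ringSh O) (homOfLE h) c) =
      ModSite.germRing (Opens.pointGrothendieckTopology x) U ⟨⟨h hx⟩⟩ c :=
  (Opens.pointGrothendieckTopology x).toPresheafFiber_w_apply (homOfLE h) ⟨⟨hx⟩⟩ O.obj c

/-- sections of the structure sheaf with the same germ agree on a neighbourhood -/
lemma exists_rr_eq_of_germRing_eq {U : Opens X} (hx : x ∈ U) (c c' : O.obj.obj (op U))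
    (h : ModSite.germRing (Opens.pointGrothendieckTopology x) U ⟨⟨hx⟩⟩ c =
      ModSite.germRing (Opens.pointGrothendieckTopology x) U ⟨⟨hx⟩⟩ c') :
    ∃ (W : Opens X) (hW : W ≤ U), x ∈ W ∧
      rr (ModSite.ringSh O) (homOfLE hW) c = rr (ModSite.ringSh O) (homOfLE hW) c' := by
  obtain ⟨W, f, w, -, hW⟩ := ((Opens.pointGrothendieckTopology x).toPresheafFiber_eq_iff'
    (P := O.obj) U ⟨⟨hx⟩⟩ _ _).mp h
  exact ⟨W, leOfHom f, w.down.down, hW⟩

/-- two sections of the structure sheaf agreeing locally are equal -/
lemma eq_of_locally_ring {U : Opens X} (c c' : O.obj.obj (op U))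
    (h : ∀ z ∈ U, ∃ (W : Opens X) (hW : W ≤ U), z ∈ W ∧
      rr (ModSite.ringSh O) (homOfLE hW) c = rr (ModSite.ringSh O) (homOfLE hW) c') : c = c' := by
  choose W hW hzW hcc using h
  refine TopCat.Sheaf.eq_of_locally_eq' O
    (fun z : U => W z.1 z.2) U (fun z => homOfLE (hW z.1 z.2)) ?_ c c' (fun z => hcc z.1 z.2)
  intro y hy
  exact Opens.mem_iSup.mpr ⟨⟨y, hy⟩, hzW y hy⟩

/-- the germ map of a module, as an additive map -/
def germHom (F : ModSite.Mod O) (U : Opens X) (hx : x ∈ U) :
    F.val.obj (op U) →+ ModSite.stalkAb (Opens.pointGrothendieckTopology x) F :=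
  ((Opens.pointGrothendieckTopology x).toPresheafFiber U ⟨⟨hx⟩⟩ (ModSite.toAb F).obj).hom

/-- the germ map of the structure sheaf, as a ring homomorphism -/
def germRingHom (U : Opens X) (hx : x ∈ U) :
    (ModSite.ringSh O).obj.obj (op U) →+* ModSite.stalkRing (Opens.pointGrothendieckTopology x) O :=
  ((Opens.pointGrothendieckTopology x).toPresheafFiber U ⟨⟨hx⟩⟩ O.obj).hom

lemma germHom_apply (F : ModSite.Mod O) (U : Opens X) (hx : x ∈ U) (m : F.val.obj (op U)) :
    germHom x F U hx m = ModSite.germ (Opens.pointGrothendieckTopology x) F U ⟨⟨hx⟩⟩ m := rfl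

lemma germRingHom_apply (U : Opens X) (hx : x ∈ U) (c : (ModSite.ringSh O).obj.obj (op U)) :
    germRingHom x U hx c = ModSite.germRing (Opens.pointGrothendieckTopology x) U ⟨⟨hx⟩⟩ c := rfl

lemma germHom_smul (F : ModSite.Mod O) (U : Opens X) (hx : x ∈ U)
    (c : (ModSite.ringSh O).obj.obj (op U)) (m : F.val.obj (op U)) :
    germHom x F U hx (c • m) = germRingHom x U hx c • germHom x F U hx m :=
  ModSite.germ_smul (Opens.pointGrothendieckTopology x) F U ⟨⟨hx⟩⟩ c m

lemma germHom_sum_smul (F : ModSite.Mod O) (U : Opens X) (hx : x ∈ U) {Jt : Type u} [Fintype Jt]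
    (c : Jt → (ModSite.ringSh O).obj.obj (op U)) (m : Jt → F.val.obj (op U)) :
    germHom x F U hx (∑ j, c j • m j) = ∑ j, germRingHom x U hx (c j) • germHom x F U hx (m j) := by
  rw [map_sum]
  exact Finset.sum_congr rfl (fun j _ => germHom_smul x F U hx (c j) (m j))

end Germs

end

end StalkFree
end Groth.Agent.Lib.Helper42

namespace Groth.Agent.Lib.Helper42
namespace StalkFree

open Groth.Agent.Lib.Helper30 Groth.Agent.Lib.Helper30.FreeTerminal SheafOfModules
  Groth.Agent.Lib.Helper42.FTLocal Groth.Agent.Lib.Helper42.FPLocal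
  Groth.Agent.Lib.Helper42.StalkColim

noncomputable section

section Basis

variable {X : TopCat.{u}} {R : Sheaf (Opens.grothendieckTopology X) RingCat.{u}}

/-- an isomorphism of `M|_U` with a finite free module gives sections generating freely -/
theorem exists_basis_of_iso_free (M : SheafOfModules.{u} R) (U : Opens X) {I : Type u}
    [Fintype I] (h : Nonempty (M.over U ≅ SheafOfModules.free (R := R.over U) I)) :
    ∃ e : I → M.val.obj (op U), IsLocGen M U e ∧ IsLocIndep M U e := by
  classical
  obtain ⟨φ⟩ := h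
  let hT := Over.mkIdTerminal (X := U)
  let e : I → M.val.obj (op U) := fun k => φ.inv.val.app (op (Over.mk (𝟙 U))) (eF k (Over.mk (𝟙 U)))
  have hinv : φ.inv = freeDesc (R := R.over U) hT (M.over U) e :=
    free_hom_ext hT _ _ (fun k => (freeDesc_eF hT (M.over U) e k).symm)
  have hiso : IsIso (freeDesc (R := R.over U) hT (M.over U) e) := hinv ▸ inferInstance
  refine ⟨e, ?_, ?_⟩
  · have : Epi (freeDesc (R := R.over U) hT (M.over U) e) := inferInstance
    exact isLocGen_of_genBy M U e (genBy_of_epi_freeDesc hT (M.over U) e)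
  · intro V hV a ha k
    let a' : I → (R.over U).obj.obj (op (Over.mk (homOfLE hV))) := a
    have h1 := freeDesc_comb (R := R.over U) hT (M.over U) e (Over.mk (homOfLE hV)) a'
    have h2 : (freeDesc (R := R.over U) hT (M.over U) e).val.app (op (Over.mk (homOfLE hV)))
        (∑ i, a' i • eF i (Over.mk (homOfLE hV))) = 0 := h1.trans ha
    have h3 : (∑ i, a' i • eF (R := R.over U) i (Over.mk (homOfLE hV))) = 0 := by
      apply injective_of_mono (freeDesc (R := R.over U) hT (M.over U) e) (Over.mk (homOfLE hV))
      rw [h2, map_zero]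
    have h4 := coord_comb (R := R.over U) (Over.mk (homOfLE hV)) a' k
    rw [h3] at h4
    refine h4.symm.trans ?_
    exact map_zero ((pr k).val.app (op (Over.mk (homOfLE hV)))).hom

lemma IsLocIndep.mono {M : SheafOfModules.{u} R} {U U' : Opens X} (h : U' ≤ U) {I : Type u}
    [Fintype I] {e : I → M.val.obj (op U)} (he : IsLocIndep M U e) :
    IsLocIndep M U' (fun i => rs M (homOfLE h) (e i)) := by
  intro V hV a ha
  refine he V (hV.trans h) a (Eq.trans (Finset.sum_congr rfl (fun i _ => ?_)) ha)
  rw [rs_le_le]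

end Basis

end

end StalkFree
end Groth.Agent.Lib.Helper42
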