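import Groth.Agent.Lib.Helper42.SymGrading
import Groth.Agent.Lib.Helper18.SymQC5
import Groth.Agent.Lib.Helper18.GrTransport
import Groth.Prelude.Def_RelProj2

/-!
# The graded symmetric algebra of a quasi-coherent module as a quasi-coherent graded algebra (helper42; S12485)
-/

set_option autoImplicit false
set_option linter.unusedSectionVars false
universe u
open CategoryTheory CategoryTheory.Limits AlgebraicGeometry Opposite TopologicalSpace
open scoped HomogeneousIdeal
noncomputable section

namespace Groth.Agent.Lib.Helper42.SymGrAlg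

open Groth.Agent.Lib.Helper18.SymQC Groth.Agent.Lib.Helper18.SymLoc Groth.Agent.Lib.Helper18.GrTransport RelSpec
open Groth.Agent.Lib.Helper42.SymGrading

section ring
variable {R R' : Type*} [CommRing R] [CommRing R'] (σ : R →+* R')
  {M M' : Type*} [AddCommGroup M] [Module R M] [AddCommGroup M'] [Module R' M']
  (f : M →+ M') (hf : ∀ (r : R) (m : M), f (r • m) = σ r • f m)

theorem symMap_mem_deg {n : ℕ} {z : SymmetricAlgebra R M} (hz : z ∈ deg R M n) :
    symMap σ f hf z ∈ deg R' M' n := by
  induction hz using Submodule.pow_induction_on_left' with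
  | algebraMap r =>
    rw [symMap_algebraMap]
    exact algebraMap_mem_deg_zero R' M' _
  | add x y i hx hy ihx ihy =>
    rw [map_add]
    exact add_mem ihx ihy
  | mem_mul m hm i x hx ih =>
    obtain ⟨m, rfl⟩ := hm
    rw [map_mul, symMap_ι]
    change _ ∈ LinearMap.range (SymmetricAlgebra.ι R' M') ^ (i + 1)
    rw [pow_succ']
    exact Submodule.mul_mem_mul (LinearMap.mem_range_self _ _) ih

end ring

variable {Y : Scheme.{u}} (E : Y.Modules) [E.IsQuasicoherent]

/-- the sections of `symAlg E` over an affine open are the symmetric algebra of the sections of `E` -/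
def secE (U : Y.Opens) (hU : IsAffineOpen U) :
    (symAlg E).presheaf.obj (op U) ≃+* SymmetricAlgebra Γ(Y, U) Γ(E, U) :=
  (RingEquiv.ofBijective (liftU E (symAlg E) (jHom E) U)
    (bijective_liftU E (symAlg E) (jHom E) (isSymAlg E) U hU)).symm

theorem liftU_secE (U : Y.Opens) (hU : IsAffineOpen U) (x : (symAlg E).presheaf.obj (op U)) :
    liftU E (symAlg E) (jHom E) U (secE E U hU x) = x :=
  (RingEquiv.ofBijective (liftU E (symAlg E) (jHom E) U)
    (bijective_liftU E (symAlg E) (jHom E) (isSymAlg E) U hU)).apply_symm_apply x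

theorem secE_liftU (U : Y.Opens) (hU : IsAffineOpen U) (z : SymmetricAlgebra Γ(Y, U) Γ(E, U)) :
    secE E U hU (liftU E (symAlg E) (jHom E) U z) = z :=
  (RingEquiv.ofBijective (liftU E (symAlg E) (jHom E) U)
    (bijective_liftU E (symAlg E) (jHom E) (isSymAlg E) U hU)).symm_apply_apply z

/-- the degree pieces -/
def degU (U : Y.Opens) (hU : IsAffineOpen U) (n : ℕ) : AddSubgroup ((symAlg E).presheaf.obj (op U)) :=
  comapDeg (secE E U hU) (deg Γ(Y, U) Γ(E, U)) n

theorem mem_degU {U : Y.Opens} {hU : IsAffineOpen U} {n : ℕ} {x : (symAlg E).presheaf.obj (op U)} :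
    x ∈ degU E U hU n ↔ secE E U hU x ∈ deg Γ(Y, U) Γ(E, U) n := Iff.rfl

theorem liftU_mem_degU {U : Y.Opens} (hU : IsAffineOpen U) {n : ℕ} {z : SymmetricAlgebra Γ(Y, U) Γ(E, U)}
    (hz : z ∈ deg Γ(Y, U) Γ(E, U) n) : liftU E (symAlg E) (jHom E) U z ∈ degU E U hU n := by
  rw [mem_degU, secE_liftU]
  exact hz

instance gradedRing_degU (U : Y.Opens) (hU : IsAffineOpen U) : GradedRing (degU E U hU) :=
  gradedRing_comapDeg (secE E U hU) (deg Γ(Y, U) Γ(E, U))

/-- the graded symmetric algebra of a quasi-coherent module -/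
def symGrAlg : RelProj.QCGrAlg Y where
  toQCAlg := symAlg E
  deg := degU E
  graded := gradedRing_degU E
  map_mem := by
    intro U V hU hV i d x hx
    have h1 : x = liftU E (symAlg E) (jHom E) U (secE E U hU x) := (liftU_secE E U hU x).symm
    rw [h1]
    have h2 := congrArg (fun k => k (secE E U hU x)) (liftU_res E (symAlg E) (jHom E) i)
    rw [RingHom.comp_apply, RingHom.comp_apply] at h2
    rw [h2]
    exact liftU_mem_degU E hV (symMap_mem_deg _ _ _ hx)
  str_mem := by
    intro U hU r
    rw [← liftU_algebraMap E (symAlg E) (jHom E) U r]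
    exact liftU_mem_degU E hU (algebraMap_mem_deg_zero _ _ r)

theorem isGrSymAlg : RelProj.IsGrSymAlg E (symGrAlg E) (jHom E) := by
  refine ⟨isSymAlg E, fun U hU x => ?_⟩
  have h1 := liftU_ι E (symAlg E) (jHom E) U x
  change toSec (symAlg E) U ((jHom E).app U x) ∈ degU E U hU 1
  rw [← h1]
  exact liftU_mem_degU E hU (ι_mem_deg_one _ _ x)

/-- existence of the graded symmetric algebra of a quasi-coherent module -/
theorem exists_isGrSymAlg (E : Y.Modules) (hE : Coh.IsQCoh E) :
    ∃ (𝒯 : RelProj.QCGrAlg Y) (j : E ⟶ 𝒯.toModule), RelProj.IsGrSymAlg E 𝒯 j := by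
  have : E.IsQuasicoherent := hE
  exact ⟨symGrAlg E, jHom E, isGrSymAlg E⟩

end Groth.Agent.Lib.Helper42.SymGrAlg
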