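import Mathlib

/-!
# The grading of the symmetric algebra by the powers of `range ι` (helper42)
-/

set_option autoImplicit false
open DirectSum
noncomputable section

namespace Groth.Agent.Lib.Helper42.SymGrading

variable (R M : Type*) [CommRing R] [AddCommGroup M] [Module R M]

/-- the degree pieces of the symmetric algebra -/
abbrev deg (n : ℕ) : Submodule R (SymmetricAlgebra R M) :=
  LinearMap.range (SymmetricAlgebra.ι R M) ^ n

/-- a version of `ι` into the graded structure -/
def gι : M →ₗ[R] ⨁ i : ℕ, ↥(deg R M i) :=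
  DirectSum.lof R ℕ (fun i => ↥(deg R M i)) 1 ∘ₗ
    (SymmetricAlgebra.ι R M).codRestrict _ fun m => by
      simpa only [pow_one] using LinearMap.mem_range_self _ m

theorem gι_apply (m : M) :
    gι R M m = DirectSum.of (fun i : ℕ => ↥(deg R M i)) 1
      ⟨SymmetricAlgebra.ι R M m, by simpa only [pow_one] using LinearMap.mem_range_self _ m⟩ :=
  rfl

instance gradedAlgebra : GradedAlgebra (deg R M) :=
  GradedAlgebra.ofAlgHom _ (SymmetricAlgebra.lift (gι R M))
    (by
      ext m
      change (coeAlgHom (deg R M)) (SymmetricAlgebra.lift (gι R M) (SymmetricAlgebra.ι R M m)) =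
        SymmetricAlgebra.ι R M m
      rw [SymmetricAlgebra.lift_ι_apply, gι_apply R M, DirectSum.coeAlgHom_of])
    fun i x => by
    obtain ⟨x, hx⟩ := x
    dsimp only [Subtype.coe_mk, DirectSum.lof_eq_of]
    induction hx using Submodule.pow_induction_on_left' with
    | algebraMap r =>
      rw [AlgHom.commutes, DirectSum.algebraMap_apply]; rfl
    | add x y i hx hy ihx ihy =>
      rw [map_add, ihx, ihy, ← map_add]
      rfl
    | mem_mul m hm i x hx ih =>
      obtain ⟨_, rfl⟩ := hm
      rw [map_mul, ih, SymmetricAlgebra.lift_ι_apply, gι_apply R M, DirectSum.of_mul_of]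
      exact DirectSum.of_eq_of_gradedMonoid_eq (Sigma.subtype_ext (add_comm _ _) rfl)

theorem ι_mem_deg_one (m : M) : SymmetricAlgebra.ι R M m ∈ deg R M 1 := by
  simpa only [pow_one] using LinearMap.mem_range_self _ m

theorem algebraMap_mem_deg_zero (r : R) : algebraMap R (SymmetricAlgebra R M) r ∈ deg R M 0 := by
  rw [deg, pow_zero]
  exact Submodule.algebraMap_mem r

end Groth.Agent.Lib.Helper42.SymGrading
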