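import Mathlib
import Groth.Prelude.Def_ModSite
import Groth.Agent.Lib.Helper30.ExtZeroFlat

/-!
# Tensor products of sheaves of modules: generators and presentations

* `gensOver`, `presOver`: restricting generating sections / presentations of `M.over U` along `V ⟶ U`
  (via Mathlib's `SheafOfModules.overMap`).
* `freeTensorIso : free I ⊗ N ≅ ∐_I N`, `freeTensorFreeIso : free I ⊗ free I' ≅ free (I × I')`.
* `tensGens`, `tensPres`: generating sections / presentation of `F' ⊗ G'` from those of `F'`, `G'`
  (via Mathlib's `CokernelCofork.isColimitMapBifunctor`).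
-/

set_option autoImplicit false
universe u
open CategoryTheory CategoryTheory.Limits Opposite

namespace Groth.Agent.Lib.Helper42
namespace TensorPerm

noncomputable section

open SheafOfModules Groth.Agent.Lib.Helper30.ModTensorAdj Groth.Agent.Lib.Helper30.ExtZero

section Over

variable {C : Type u} [SmallCategory C] [HasPullbacks C] {J : GrothendieckTopology C} {R : Sheaf J RingCat.{u}}

/-- restricting generating sections of `M.over U` along `V ⟶ U` -/
def gensOver (M : SheafOfModules.{u} R) {U V : C} (f : V ⟶ U)
    (G : (M.over U).GeneratingSections) : (M.over V).GeneratingSections :=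
  (G.map (overMap R f) (overMapUnitIso f).symm).ofEpi ((overFunctorMap R f).app M).hom

instance (M : SheafOfModules.{u} R) {U V : C} (f : V ⟶ U)
    (G : (M.over U).GeneratingSections) [G.IsFiniteType] : (gensOver M f G).IsFiniteType := by
  unfold gensOver
  infer_instance

lemma isIso_gensOver_π (M : SheafOfModules.{u} R) {U V : C} (f : V ⟶ U)
    (G : (M.over U).GeneratingSections) [IsIso G.π] : IsIso (gensOver M f G).π := by
  unfold gensOver
  rw [GeneratingSections.ofEpi_π, GeneratingSections.map_π_eq]
  have h1 : IsIso ((overMap R f).map G.π) := inferInstance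
  have h2 : IsIso (mapFreeIso (overMap R f) G.I (overMapUnitIso f).symm).hom := inferInstance
  have h3 : IsIso ((overFunctorMap R f).app M).hom := inferInstance
  have h4 : IsIso ((mapFreeIso (overMap R f) G.I (overMapUnitIso f).symm).hom ≫
      (overMap R f).map G.π) := IsIso.comp_isIso' h2 h1
  exact IsIso.comp_isIso' h4 h3

/-- restricting a presentation of `M.over U` along `V ⟶ U` -/
def presOver (M : SheafOfModules.{u} R) {U V : C} (f : V ⟶ U)
    (P : (M.over U).Presentation) : (M.over V).Presentation :=
  (P.map (overMap R f) (overMapUnitIso f).symm).ofIsIso ((overFunctorMap R f).app M).hom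


instance (M : SheafOfModules.{u} R) {U V : C} (f : V ⟶ U)
    (P : (M.over U).Presentation) [P.IsFinite] : (presOver M f P).IsFinite := by
  unfold presOver
  have : (P.map (overMap R f) (overMapUnitIso f).symm).IsFinite :=
    { isFiniteType_generators := ⟨inferInstanceAs (Finite P.generators.I)⟩
      isFiniteType_relations := ⟨inferInstanceAs (Finite P.relations.I)⟩ }
  infer_instance

end Over

section Tensor

variable {C : Type u} [SmallCategory C] {J : GrothendieckTopology C} (O : Sheaf J CommRingCat.{u})

/-- `M ⊗ N` -/
abbrev tens (M N : ModSite.Mod O) : ModSite.Mod O := ((ModSite.tensorBi O).obj M).obj N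

/-- `O ⊗ N ≅ N` -/
def unitTensorIso : (ModSite.tensorBi O).obj (ModSite.unit O) ≅ 𝟭 (ModSite.Mod O) :=
  tensorBiSymm O (ModSite.unit O) ≪≫ tensorUnitIso O

instance (M : ModSite.Mod O) : PreservesColimitsOfSize.{u, u} ((ModSite.tensorBi O).obj M) :=
  inferInstance

instance (M : ModSite.Mod O) : PreservesColimitsOfSize.{u, u} ((ModSite.tensorBi O).flip.obj M) :=
  inferInstance

/-- `free I ⊗ N ≅ ∐_I N` -/
def freeTensorIso (I : Type u) (N : ModSite.Mod O) :
    tens O (free (R := ModSite.ringSh O) I) N ≅ ∐ (fun _ : I => N) :=
  PreservesCoproduct.iso ((ModSite.tensorBi O).flip.obj N) (fun _ : I => ModSite.unit O) ≪≫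
    Sigma.mapIso (fun _ => (unitTensorIso O).app N)


/-- `free I ⊗ free I' ≅ free (I × I')` -/
def freeTensorFreeIso (I I' : Type u) :
    tens O (free (R := ModSite.ringSh O) I) (free (R := ModSite.ringSh O) I') ≅
      free (R := ModSite.ringSh O) (I × I') :=
  freeTensorIso O I (free I') ≪≫
    @sigmaSigmaIso _ _ _ (fun _ : I => I') (fun (_ : I) (_ : I') => ModSite.unit O)
      (fun _ => inferInstance) inferInstance ≪≫
    (Sigma.whiskerEquiv (f := fun _ : (_ : I) × I' => ModSite.unit O)
      (g := fun _ : I × I' => ModSite.unit O) (Equiv.sigmaEquivProd I I') (fun _ => Iso.refl _) :)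


instance : (ModSite.tensorBi O).PreservesZeroMorphisms where
  map_zero X Y := by
    ext Z : 2
    exact ((ModSite.tensorBi O).flip.obj Z).map_zero X Y

section Presentation

variable {O}
variable {F' G' : ModSite.Mod O} {I I' K K' : Type u}
  (a : free (R := ModSite.ringSh O) K ⟶ free I) (p : free I ⟶ F') (wa : a ≫ p = 0)
  (hp : IsColimit (CokernelCofork.ofπ p wa))
  (b : free (R := ModSite.ringSh O) K' ⟶ free I') (q : free I' ⟶ G') (wb : b ≫ q = 0)
  (hq : IsColimit (CokernelCofork.ofπ q wb))

/-- the relations of the tensor product of two presentations -/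
def tensRel : free (R := ModSite.ringSh O) ((K × I') ⊕ (I × K')) ⟶ free (I × I') :=
  (freeSumIso (K × I') (I × K')).inv ≫
    coprod.map (freeTensorFreeIso O K I').inv (freeTensorFreeIso O I K').inv ≫
    coprod.desc (((ModSite.tensorBi O).map a).app (free I'))
      (((ModSite.tensorBi O).obj (free I)).map b) ≫ (freeTensorFreeIso O I I').hom

/-- the generators of the tensor product of two presentations -/
def tensGen : free (R := ModSite.ringSh O) (I × I') ⟶ tens O F' G' :=
  (freeTensorFreeIso O I I').inv ≫ ((ModSite.tensorBi O).map p).app (free I') ≫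
    ((ModSite.tensorBi O).obj F').map q

include wa wb in
lemma tensRel_tensGen : tensRel a b ≫ tensGen p q = 0 := by
  have h := (CokernelCofork.mapBifunctor (CokernelCofork.ofπ p wa) (CokernelCofork.ofπ q wb)
    (ModSite.tensorBi O)).condition
  unfold tensRel tensGen
  simp only [Category.assoc, Iso.hom_inv_id_assoc]
  have h' : coprod.desc (((ModSite.tensorBi O).map a).app (free I'))
      (((ModSite.tensorBi O).obj (free I)).map b) ≫
      ((ModSite.tensorBi O).map p).app (free I') ≫ ((ModSite.tensorBi O).obj F').map q = 0 := h
  rw [h', comp_zero, comp_zero]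

include hp hq in
lemma epi_tensGen : Epi (tensGen p q) := by
  have hc := CokernelCofork.isColimitMapBifunctor hp hq (ModSite.tensorBi O)
  have h1 : Epi (((ModSite.tensorBi O).map p).app (free I') ≫
      ((ModSite.tensorBi O).obj F').map q) := epi_of_isColimit_cofork hc
  unfold tensGen
  infer_instance

/-- the tensor product of two presentations is a presentation -/
def isColimitTens :
    IsColimit (CokernelCofork.ofπ (tensGen p q) (tensRel_tensGen a p wa b q wb)) := by
  have hc := CokernelCofork.isColimitMapBifunctor hp hq (ModSite.tensorBi O)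
  haveI : Epi (tensGen p q) := epi_tensGen a p wa hp b q wb hq
  refine CokernelCofork.IsColimit.ofπ' _ _ (fun {A} k hk => ?_)
  have hk' : coprod.desc (((ModSite.tensorBi O).map a).app (free I'))
      (((ModSite.tensorBi O).obj (free I)).map b) ≫ (freeTensorFreeIso O I I').hom ≫ k = 0 := by
    unfold tensRel at hk
    simp only [Category.assoc] at hk
    rw [← cancel_epi (coprod.map (freeTensorFreeIso O K I').inv (freeTensorFreeIso O I K').inv),
      ← cancel_epi (freeSumIso (R := ModSite.ringSh O) (K × I') (I × K')).inv, hk, comp_zero,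
      comp_zero]
  let s : CokernelCofork (coprod.desc (((ModSite.tensorBi O).map a).app (free I'))
      (((ModSite.tensorBi O).obj (free I)).map b)) :=
    CokernelCofork.ofπ ((freeTensorFreeIso O I I').hom ≫ k) hk'
  refine ⟨hc.desc s, ?_⟩
  have h3 : (((ModSite.tensorBi O).map p).app (free I') ≫
      ((ModSite.tensorBi O).obj F').map q) ≫ hc.desc s = (freeTensorFreeIso O I I').hom ≫ k :=
    hc.fac s WalkingParallelPair.one
  unfold tensGen
  rw [Category.assoc, Category.assoc, ← Category.assoc (((ModSite.tensorBi O).map p).app (free I')),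
    h3, Iso.inv_hom_id_assoc]

omit a b in
lemma epi_tensGen' [Epi p] [Epi q] : Epi (tensGen p q) := by
  have h1 : Epi (((ModSite.tensorBi O).flip.obj (free I')).map p) := inferInstance
  have h1' : Epi (((ModSite.tensorBi O).map p).app (free I')) := h1
  have h2 : Epi (((ModSite.tensorBi O).obj F').map q) := inferInstance
  unfold tensGen
  infer_instance

omit a b in
lemma isIso_tensGen [IsIso p] [IsIso q] : IsIso (tensGen p q) := by
  have h1 : IsIso (((ModSite.tensorBi O).flip.obj (free I')).map p) := inferInstance
  have h1' : IsIso (((ModSite.tensorBi O).map p).app (free I')) := h1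
  have h2 : IsIso (((ModSite.tensorBi O).obj F').map q) := inferInstance
  unfold tensGen
  infer_instance

/-- generating sections of a tensor product -/
def tensGens (GF : F'.GeneratingSections) (GG : G'.GeneratingSections) :
    (tens O F' G').GeneratingSections where
  I := GF.I × GG.I
  s := (tens O F' G').freeHomEquiv (tensGen GF.π GG.π)
  epi := by
    rw [Equiv.symm_apply_apply]
    exact epi_tensGen' GF.π GG.π

lemma tensGens_π (GF : F'.GeneratingSections) (GG : G'.GeneratingSections) :
    (tensGens GF GG).π = tensGen GF.π GG.π :=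
  (tens O F' G').freeHomEquiv.symm_apply_apply _

instance (GF : F'.GeneratingSections) (GG : G'.GeneratingSections) [GF.IsFiniteType]
    [GG.IsFiniteType] : (tensGens GF GG).IsFiniteType where
  finite := inferInstanceAs (Finite (GF.I × GG.I))

lemma isIso_tensGens_π (GF : F'.GeneratingSections) (GG : G'.GeneratingSections) [IsIso GF.π]
    [IsIso GG.π] : IsIso (tensGens GF GG).π := by
  rw [tensGens_π]
  exact isIso_tensGen GF.π GG.π

/-- a presentation of a tensor product -/
def tensPres (PF : F'.Presentation) (PG : G'.Presentation) : (tens O F' G').Presentation :=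
  presentationOfIsCokernelFree
    (tensRel ((freeHomEquiv _).symm PF.relations.s ≫ kernel.ι _)
      ((freeHomEquiv _).symm PG.relations.s ≫ kernel.ι _))
    (tensGen PF.generators.π PG.generators.π)
    (tensRel_tensGen _ _ (by simp) _ _ (by simp))
    (isColimitTens _ _ _ PF.isColimit _ _ _ PG.isColimit)

instance (PF : F'.Presentation) (PG : G'.Presentation) [PF.IsFinite] [PG.IsFinite] :
    (tensPres PF PG).IsFinite where
  isFiniteType_generators := ⟨inferInstanceAs (Finite (PF.generators.I × PG.generators.I))⟩
  isFiniteType_relations := ⟨inferInstanceAs (Finite ((PF.relations.I × PG.generators.I) ⊕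
    (PF.generators.I × PG.relations.I)))⟩

end Presentation


end Tensor

end
end TensorPerm
end Groth.Agent.Lib.Helper42
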