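import Groth.Agent.Lib.Helper42.TensorPerm
import Groth.Agent.S6154

/-!
# Tensor products of sheaves of modules on a ringed space: permanence of local properties

`tensLGD` (local generators of `F ⊗ G` from those of `F` and `G`, preserving finiteness and local
freeness), `tensQCD` (quasi-coherent data of `F ⊗ G`, preserving finite presentation).
-/

set_option autoImplicit false
universe u
open CategoryTheory CategoryTheory.Limits Opposite TopologicalSpace

namespace Groth.Agent.Lib.Helper42
namespace TensorPerm

noncomputable section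

open SheafOfModules

variable {X : TopCat.{u}} (O : TopCat.Sheaf CommRingCat.{u} X) (F G : ModSite.Mod O)

/-- restriction commutes with tensor products (a chosen isomorphism) -/
def restrTensIso (U : Opens X) :
    (ModSite.restr O U).obj (tens O F G) ≅
      tens (O.over U) ((ModSite.restr O U).obj F) ((ModSite.restr O U).obj G) :=
  (Groth.Agent.S6154.result O U F G).some

lemma coversTop_inf {I I' : Type u} (A : I → Opens X) (B : I' → Opens X)
    (hA : (Opens.grothendieckTopology X).CoversTop A)
    (hB : (Opens.grothendieckTopology X).CoversTop B) :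
    (Opens.grothendieckTopology X).CoversTop (fun ij : I × I' => A ij.1 ⊓ B ij.2) := by
  intro W x hx
  obtain ⟨V₁, f₁, ⟨i, ⟨g₁⟩⟩, hx₁⟩ := hA W x hx
  obtain ⟨V₂, f₂, ⟨j, ⟨g₂⟩⟩, hx₂⟩ := hB W x hx
  refine ⟨V₁ ⊓ V₂, homOfLE (inf_le_left.trans f₁.le), ⟨(i, j), ⟨homOfLE ?_⟩⟩, ⟨hx₁, hx₂⟩⟩
  exact inf_le_inf g₁.le g₂.le

/-- local generators of a tensor product -/
def tensLGD (qF : LocalGeneratorsData.{u} F) (qG : LocalGeneratorsData.{u} G) :
    LocalGeneratorsData.{u} (tens O F G) where
  I := qF.I × qG.I
  X ij := qF.X ij.1 ⊓ qG.X ij.2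
  coversTop := coversTop_inf qF.X qG.X qF.coversTop qG.coversTop
  generators ij :=
    (tensGens (O := O.over (qF.X ij.1 ⊓ qG.X ij.2))
      (gensOver F (homOfLE inf_le_left) (qF.generators ij.1))
      (gensOver G (homOfLE inf_le_right) (qG.generators ij.2))).ofEpi
      (restrTensIso O F G (qF.X ij.1 ⊓ qG.X ij.2)).inv

lemma tensLGD_isFiniteType (qF : LocalGeneratorsData.{u} F) (qG : LocalGeneratorsData.{u} G)
    [qF.IsFiniteType] [qG.IsFiniteType] : (tensLGD O F G qF qG).IsFiniteType where
  isFiniteType ij := by
    have h1 : Finite (qF.generators ij.1).I :=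
      (LocalGeneratorsData.IsFiniteType.isFiniteType (p := qF) ij.1).finite
    have h2 : Finite (qG.generators ij.2).I :=
      (LocalGeneratorsData.IsFiniteType.isFiniteType (p := qG) ij.2).finite
    exact ⟨inferInstanceAs (Finite ((qF.generators ij.1).I × (qG.generators ij.2).I))⟩

lemma tensLGD_isLocallyFreeData (qF : LocalGeneratorsData.{u} F) (qG : LocalGeneratorsData.{u} G)
    [qF.IsLocallyFreeData] [qG.IsLocallyFreeData] : (tensLGD O F G qF qG).IsLocallyFreeData where
  isIso ij := by
    dsimp only [tensLGD]
    have : IsIso (qF.generators ij.1).π := LocalGeneratorsData.IsLocallyFreeData.isIso ij.1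
    have : IsIso (qG.generators ij.2).π := LocalGeneratorsData.IsLocallyFreeData.isIso ij.2
    have h1 := isIso_gensOver_π F (homOfLE (inf_le_left : qF.X ij.1 ⊓ qG.X ij.2 ≤ qF.X ij.1))
      (qF.generators ij.1)
    have h2 := isIso_gensOver_π G (homOfLE (inf_le_right : qF.X ij.1 ⊓ qG.X ij.2 ≤ qG.X ij.2))
      (qG.generators ij.2)
    have h3 := @isIso_tensGens_π _ _ _ (O.over (qF.X ij.1 ⊓ qG.X ij.2)) _ _
      (gensOver F (homOfLE inf_le_left) (qF.generators ij.1))
      (gensOver G (homOfLE inf_le_right) (qG.generators ij.2)) h1 h2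
    have h4 := GeneratingSections.ofEpi_π (tensGens (O := O.over (qF.X ij.1 ⊓ qG.X ij.2))
      (gensOver F (homOfLE inf_le_left) (qF.generators ij.1))
      (gensOver G (homOfLE inf_le_right) (qG.generators ij.2)))
      (restrTensIso O F G (qF.X ij.1 ⊓ qG.X ij.2)).inv
    exact h4 ▸ IsIso.comp_isIso' h3 inferInstance

/-- quasi-coherent data of a tensor product -/
def tensQCD (qF : QuasicoherentData.{u} (R := ModSite.ringSh O) F) (qG : QuasicoherentData.{u} (R := ModSite.ringSh O) G) :
    QuasicoherentData.{u} (R := ModSite.ringSh O) (tens O F G) where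
  I := qF.I × qG.I
  X ij := qF.X ij.1 ⊓ qG.X ij.2
  coversTop := coversTop_inf qF.X qG.X qF.coversTop qG.coversTop
  presentation ij :=
    (tensPres (O := O.over (qF.X ij.1 ⊓ qG.X ij.2))
      (presOver F (homOfLE inf_le_left) (qF.presentation ij.1))
      (presOver G (homOfLE inf_le_right) (qG.presentation ij.2))).ofIsIso
      (restrTensIso O F G (qF.X ij.1 ⊓ qG.X ij.2)).inv

lemma tensQCD_isFinitePresentation (qF : QuasicoherentData.{u} (R := ModSite.ringSh O) F)
    (qG : QuasicoherentData.{u} (R := ModSite.ringSh O) G)
    [qF.IsFinitePresentation] [qG.IsFinitePresentation] :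
    (tensQCD O F G qF qG).IsFinitePresentation where
  isFinite_presentation ij := by
    have hF : (qF.presentation ij.1).IsFinite :=
      QuasicoherentData.IsFinitePresentation.isFinite_presentation ij.1
    have hG : (qG.presentation ij.2).IsFinite :=
      QuasicoherentData.IsFinitePresentation.isFinite_presentation ij.2
    have h1 : Finite (qF.presentation ij.1).generators.I := hF.isFiniteType_generators.finite
    have h2 : Finite (qF.presentation ij.1).relations.I := hF.isFiniteType_relations.finite
    have h3 : Finite (qG.presentation ij.2).generators.I := hG.isFiniteType_generators.finite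
    have h4 : Finite (qG.presentation ij.2).relations.I := hG.isFiniteType_relations.finite
    exact
      { isFiniteType_generators := ⟨inferInstanceAs (Finite ((qF.presentation ij.1).generators.I ×
          (qG.presentation ij.2).generators.I))⟩
        isFiniteType_relations := ⟨inferInstanceAs
          (Finite (((qF.presentation ij.1).relations.I × (qG.presentation ij.2).generators.I) ⊕
            ((qF.presentation ij.1).generators.I × (qG.presentation ij.2).relations.I)))⟩ }

end
end TensorPerm
end Groth.Agent.Lib.Helper42
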