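import Mathlib.RingTheory.GradedAlgebra.Basic

/-!
# The trivial grading of a ring (everything in degree `0`)
-/

set_option autoImplicit false
universe u

namespace Groth.Agent.Lib.Helper42

namespace TrivGr

variable {A : Type u} [CommRing A]

/-- The trivial grading: everything in degree `0`. -/
def triv (A : Type u) [CommRing A] : ℕ → AddSubgroup A := fun n => if n = 0 then ⊤ else ⊥

theorem mem_triv_zero (a : A) : a ∈ triv A 0 := by
  simp [triv]

theorem eq_zero_of_mem_triv {n : ℕ} (hn : n ≠ 0) {a : A} (ha : a ∈ triv A n) : a = 0 := by
  simpa [triv, hn] using ha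

theorem mem_triv_iff {n : ℕ} {a : A} : a ∈ triv A n ↔ (n = 0 ∨ a = 0) := by
  by_cases hn : n = 0
  · subst hn
    simp [mem_triv_zero]
  · simp [triv, hn]

instance : SetLike.GradedMonoid (triv A) where
  one_mem := mem_triv_zero 1
  mul_mem i j a b ha hb := by
    by_cases hi : i = 0
    · by_cases hj : j = 0
      · subst hi hj
        exact mem_triv_zero _
      · rw [eq_zero_of_mem_triv hj hb, mul_zero]
        exact zero_mem _
    · rw [eq_zero_of_mem_triv hi ha, zero_mul]
      exact zero_mem _

noncomputable instance : GradedRing (triv A) where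
  decompose' a := DirectSum.of (fun i => triv A i) 0 ⟨a, mem_triv_zero a⟩
  left_inv a := by
    simp [DirectSum.coeAddMonoidHom_of]
  right_inv x := by
    classical
    induction x using DirectSum.induction_on with
    | zero =>
      have : (⟨0, mem_triv_zero 0⟩ : triv A 0) = 0 := rfl
      simp [this]
    | of i y =>
      by_cases hi : i = 0
      · subst hi
        simp [DirectSum.coeAddMonoidHom_of]
      · have hy : y = 0 := Subtype.ext (eq_zero_of_mem_triv hi y.2)
        subst hy
        have : (⟨0, mem_triv_zero 0⟩ : triv A 0) = 0 := rfl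
        simp [this]
    | add x y hx hy =>
      have hadd : ∀ a b : A, DirectSum.of (fun i => triv A i) 0 ⟨a + b, mem_triv_zero (a + b)⟩ =
          DirectSum.of (fun i => triv A i) 0 ⟨a, mem_triv_zero a⟩ +
            DirectSum.of (fun i => triv A i) 0 ⟨b, mem_triv_zero b⟩ := by
        intro a b
        rw [← map_add]
        rfl
      rw [map_add]
      change DirectSum.of (fun i => triv A i) 0 ⟨_ + _, _⟩ = _
      rw [hadd]
      exact congrArg₂ (· + ·) hx hy

end TrivGr

end Groth.Agent.Lib.Helper42
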