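import Groth.Prelude.Def_RelSpec2
import Groth.Agent.Lib.Helper42.BasicGlue
import Groth.Agent.Lib.Helper42.LocalCharts
import Groth.Agent.Lib.Helper42.RelSpecMap

/-!
# The section of a relative spectrum defined by an augmentation
-/

set_option autoImplicit false
universe u

open CategoryTheory CategoryTheory.Limits AlgebraicGeometry TopologicalSpace Opposite

namespace Groth.Agent.Lib.Helper42

variable {Y : Scheme.{u}}

/-- Gluing morphisms out of `Y` along the affine opens, with compatibility along basic opens. -/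
theorem existsUnique_glue_of_basic_id {Z : Scheme.{u}}
    (g : ∀ (U : Y.Opens) (_ : IsAffineOpen U), (U : Scheme.{u}) ⟶ Z)
    (hg : ∀ (U : Y.Opens) (hU : IsAffineOpen U) (r : Γ(Y, U)),
      Y.homOfLE (Y.basicOpen_le r) ≫ g U hU = g (Y.basicOpen r) (hU.basicOpen r)) :
    ∃! h : Y ⟶ Z, ∀ (U : Y.Opens) (hU : IsAffineOpen U), U.ι ≫ h = g U hU :=
  existsUnique_glue_of_basic (𝟙 Y) g hg

theorem hom_ext_of_affine_id {Z : Scheme.{u}} (h h' : Y ⟶ Z)
    (H : ∀ (U : Y.Opens) (_ : IsAffineOpen U), U.ι ≫ h = U.ι ≫ h') : h = h' :=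
  hom_ext_of_affine (𝟙 Y) h h' H

variable (A : RelSpec.QCAlg Y) (aug : A ⟶ RelSpec.QCAlg.unit Y)

/-- The augmentation over `U`, with target typed as `Γ(Y, U)`. -/
def augAt (U : Y.Opens) : A.presheaf.obj (op U) ⟶ Γ(Y, U) := aug.hom.app (op U)

theorem str_comp_augAt (U : Y.Opens) : A.str.app (op U) ≫ augAt A aug U = 𝟙 _ := by
  have := NatTrans.congr_app aug.comm (op U)
  exact this

theorem augAt_surjective (U : Y.Opens) : Function.Surjective (augAt A aug U).hom := by
  intro y
  refine ⟨(A.str.app (op U)).hom y, ?_⟩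
  have := congrArg (fun ψ => ψ.hom y) (str_comp_augAt A aug U)
  exact this

theorem augAt_naturality {U V : Y.Opens} (i : V ≤ U) :
    A.presheaf.map (homOfLE i).op ≫ augAt A aug V = augAt A aug U ≫ Y.presheaf.map (homOfLE i).op :=
  aug.hom.naturality (homOfLE i).op

theorem fromSpec_basicOpen_eq (U : Y.Opens) (hU : IsAffineOpen U) (r : Γ(Y, U)) :
    (hU.basicOpen r).isoSpec.inv ≫ Y.homOfLE (Y.basicOpen_le r) ≫ hU.isoSpec.hom =
      Spec.map (Y.presheaf.map (homOfLE (Y.basicOpen_le r)).op) := by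
  rw [← cancel_mono hU.isoSpec.inv, ← cancel_mono U.ι]
  simp only [Category.assoc, Iso.hom_inv_id_assoc, Scheme.homOfLE_ι]
  rw [IsAffineOpen.isoSpec_inv_ι, IsAffineOpen.isoSpec_inv_ι, hU.map_fromSpec]

/-- The section of `Spec(A) ⟶ Y` defined by an augmentation `A ⟶ O_Y`. -/
theorem existsUnique_section :
    ∃! ε : Y ⟶ A.spec, ∀ (U : Y.Opens) (hU : IsAffineOpen U),
      hU.fromSpec ≫ ε = Spec.map (augAt A aug U) ≫ A.ι U hU := by
  have key := existsUnique_glue_of_basic_id (Y := Y) (Z := A.spec)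
    (fun U hU => hU.isoSpec.hom ≫ Spec.map (augAt A aug U) ≫ A.ι U hU) (by
      intro U hU r
      rw [← cancel_epi (hU.basicOpen r).isoSpec.inv, Iso.inv_hom_id_assoc]
      have h1 := fromSpec_basicOpen_eq U hU r
      have h2 : (hU.basicOpen r).isoSpec.inv ≫ Y.homOfLE (Y.basicOpen_le r) ≫ hU.isoSpec.hom ≫
          Spec.map (augAt A aug U) ≫ A.ι U hU =
          Spec.map (Y.presheaf.map (homOfLE (Y.basicOpen_le r)).op) ≫
            Spec.map (augAt A aug U) ≫ A.ι U hU := by
        rw [← h1]; simp only [Category.assoc]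
      refine h2.trans ?_
      rw [← ι_res_basicOpen A U hU r, ← Spec.map_comp_assoc, ← Spec.map_comp_assoc,
        augAt_naturality])
  obtain ⟨ε, hε, huniq⟩ := key
  refine ⟨ε, fun U hU => ?_, fun ε' hε' => huniq ε' fun U hU => ?_⟩
  · rw [← hU.isoSpec_inv_ι, Category.assoc, hε U hU, Iso.inv_hom_id_assoc]
  · rw [← cancel_epi hU.isoSpec.inv, Iso.inv_hom_id_assoc, ← hε' U hU, ← Category.assoc,
      hU.isoSpec_inv_ι]

section

variable {A aug}
variable {ε : Y ⟶ A.spec} (hε : ∀ (U : Y.Opens) (hU : IsAffineOpen U),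
      hU.fromSpec ≫ ε = Spec.map (augAt A aug U) ≫ A.ι U hU)

include hε in
theorem section_comp_π : ε ≫ A.π = 𝟙 Y := by
  apply hom_ext_of_affine_id
  intro U hU
  rw [← cancel_epi hU.isoSpec.inv]
  have h1 : hU.isoSpec.inv ≫ U.ι = hU.fromSpec := hU.isoSpec_inv_ι
  rw [reassoc_of% h1, reassoc_of% h1, reassoc_of% (hε U hU), A.ι_π, ← Spec.map_comp_assoc,
    str_comp_augAt, Spec.map_id, Category.id_comp, Category.comp_id]

include hε in
theorem section_isClosedImmersion : IsClosedImmersion ε := by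
  have hsec := section_comp_π hε
  rw [iff_of_charts @IsClosedImmersion ε (fun U : Y.affineOpens => A.π ⁻¹ᵁ U.1) ?_
    (fun U => U.2.fromSpec) (fun U => A.ι U.1 U.2) ?_ ?_
    (fun U => Spec.map (augAt A aug U.1)) (fun U => hε U.1 U.2)]
  · intro U
    exact IsClosedImmersion.spec_of_surjective _ (augAt_surjective A aug U.1)
  · rw [← Scheme.Hom.preimage_iSup, iSup_affineOpens_eq_top]
    rfl
  · intro U
    rw [U.2.opensRange_fromSpec, ← Scheme.Hom.comp_preimage, hsec]
    rfl
  · intro U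
    exact (A.π_preimage U.1 U.2).symm

end

end Groth.Agent.Lib.Helper42
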