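import Groth.Agent.Lib.Helper42.SymProjHom
import Groth.Agent.Lib.Helper42.ProjBundleEpi
import Groth.Agent.Lib.Helper42.RelTwistExists
import Groth.Agent.Lib.Helper42.RelTwistPull
import Groth.Agent.Lib.Helper42.RelProjGlue
import Groth.Agent.S8292

/-!
# An immersion into `Proj(𝒮)`, `𝒮` generated in degree one, makes the pullback of `O(1)` relatively very ample
(helper42; S12485)
-/

set_option autoImplicit false
set_option linter.unusedSectionVars false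
universe u
open CategoryTheory CategoryTheory.Limits AlgebraicGeometry Opposite TopologicalSpace
open scoped HomogeneousIdeal
noncomputable section

namespace Groth.Agent.Lib.Helper42.VeryAmpleOfProj

open Groth.Agent.Lib.Helper18.SymQC Groth.Agent.Lib.Helper18.SymLoc RelSpec
open Groth.Agent.Lib.Helper42.SymGrading Groth.Agent.Lib.Helper42.SymGrAlg Groth.Agent.Lib.Helper42.SymProjHom

variable {Y : Scheme.{u}}

theorem isGenDegOne_of_isGrSymAlg (E : Y.Modules) (hE : Coh.IsQCoh E) (𝒯 : RelProj.QCGrAlg Y)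
    (j : E ⟶ 𝒯.toModule) (hj : RelProj.IsGrSymAlg E 𝒯 j) : 𝒯.IsGenDegOne := by
  intro U hU
  rw [eq_top_iff, ← ProjBundleEpi.closure_eq_top E hE 𝒯 j hj U hU]
  apply Subring.closure_mono
  rintro x (hx | ⟨e, rfl⟩)
  · exact Or.inl hx
  · exact Or.inr (hj.2 U hU e)

variable (𝒮 : RelProj.QCGrAlg Y)

/-- the module underlying `𝒮` -/
abbrev EE : Y.Modules := 𝒮.toModule

/-- the degree-one projection `𝒮 → 𝒮` -/
abbrev uu : EE 𝒮 ⟶ 𝒮.toModule := projHom 𝒮 1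

theorem huu (U : Y.Opens) (hU : IsAffineOpen U) (x : Γ(EE 𝒮, U)) :
    toSec 𝒮.toQCAlg U ((uu 𝒮).app U x) ∈ 𝒮.deg U hU 1 := projHom_mem 𝒮 1 U hU x

/-- the graded algebra map `Sym(𝒮) → 𝒮` extending the degree-one projection -/
abbrev ubar : (symGrAlg (EE 𝒮)).toQCAlg ⟶ 𝒮.toQCAlg := psiHom (EE 𝒮) 𝒮.toQCAlg (uu 𝒮)

theorem hubar : RelProj.IsGradedHom (𝒜 := symGrAlg (EE 𝒮)) (ℬ := 𝒮) (ubar 𝒮) :=
  isGradedHom_psiHom 𝒮 (EE 𝒮) (uu 𝒮) (huu 𝒮)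

theorem hju : jHom (EE 𝒮) ≫ QCAlg.Hom.toModuleMap (ubar 𝒮) = uu 𝒮 := jHom_psiHom (EE 𝒮) 𝒮.toQCAlg (uu 𝒮)

theorem ubar_j (U : Y.Opens) (hU : IsAffineOpen U) (g : 𝒮.presheaf.obj (op U)) (hg : g ∈ 𝒮.deg U hU 1) :
    ((ubar 𝒮).hom.app (op U)).hom (toSec (symAlg (EE 𝒮)) U ((jHom (EE 𝒮)).app U (ofSec 𝒮.toQCAlg U g))) = g := by
  have h1 := congrArg (fun k => toSec 𝒮.toQCAlg U (k.app U (ofSec 𝒮.toQCAlg U g))) (hju 𝒮)
  exact h1.trans (projHom_of_mem 𝒮 1 U hU g hg)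

theorem hirr (hgen : 𝒮.IsGenDegOne) (U : Y.Opens) (hU : IsAffineOpen U) :
    (𝒮.deg U hU)₊ ≤ (((symGrAlg (EE 𝒮)).deg U hU)₊).map
      (RelProj.gradedHomAt (𝒜 := symGrAlg (EE 𝒮)) (ℬ := 𝒮) (ubar 𝒮) (hubar 𝒮) U hU) := by
  rw [HomogeneousIdeal.irrelevant_le]
  intro i hi b hb
  change b ∈ Ideal.map (RelProj.gradedHomAt (𝒜 := symGrAlg (EE 𝒮)) (ℬ := 𝒮) (ubar 𝒮) (hubar 𝒮) U hU)
    (((symGrAlg (EE 𝒮)).deg U hU)₊.toIdeal)
  have h1 : b ∈ Ideal.span (𝒮.deg U hU 1 : Set (𝒮.presheaf.obj (op U))) :=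
    irrelevant_le_span_degOne (hgen U hU) (HomogeneousIdeal.mem_irrelevant_of_mem _ hi hb)
  refine (Ideal.span_le.mpr ?_) h1
  intro g hg
  rw [← ubar_j 𝒮 U hU g hg]
  refine Ideal.mem_map_of_mem _ (HomogeneousIdeal.mem_irrelevant_of_mem _ (by norm_num : 0 < 1) ?_)
  exact (isGrSymAlg (EE 𝒮)).2 U hU _

/-- an immersion into `Proj(𝒮)`, `𝒮` generated in degree one, exhibits the pullback of `O(1)` as relatively very ample -/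
theorem isRelVeryAmple_of_immersion {X P : Scheme.{u}} (q : X ⟶ Y) (L : X.Modules)
    (h𝒮 : 𝒮.IsGenDegOne) (p : P ⟶ Y)
    (chart : ∀ (U : Y.Opens) (hU : IsAffineOpen U), ((p ⁻¹ᵁ U : P.Opens) : Scheme.{u}) ≅ Proj (𝒮.deg U hU))
    (hP : RelProj.IsRelProj 𝒮 p chart) (O1 : P.Modules)
    (lam : ∀ (U : Y.Opens) (hU : IsAffineOpen U),
      O1 ⟶ (Scheme.Modules.pushforward (RelProj.emb p chart U hU)).obj (GrTwist.twist (𝒮.deg U hU) 1))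
    (hO1 : RelProj.IsRelTwist 𝒮 p chart 1 O1 lam) (i : X ⟶ P) [IsImmersion i] (hi : i ≫ p = q)
    (e : L ≅ (Scheme.Modules.pullback i).obj O1) : RelProj.IsRelVeryAmple q L := by
  have hE : Coh.IsQCoh (EE 𝒮) := (inferInstance : (𝒮.toModule).IsQuasicoherent)
  have hT : RelProj.IsGrSymAlg (EE 𝒮) (symGrAlg (EE 𝒮)) (jHom (EE 𝒮)) := isGrSymAlg (EE 𝒮)
  have hgenT : (symGrAlg (EE 𝒮)).IsGenDegOne := isGenDegOne_of_isGrSymAlg _ hE _ _ hT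
  have hPT := RelProjGlue.isRelProj (symGrAlg (EE 𝒮))
  obtain ⟨O1T, lamT, hO1T⟩ := RelTwistExists.exists_isRelTwist (symGrAlg (EE 𝒮)) _ _ hPT 1
  obtain ⟨h, hh, -⟩ := existsUnique_isRelProjMap (ubar 𝒮) (hubar 𝒮) (hirr 𝒮 h𝒮) hPT hP
  have hcl : IsClosedImmersion h := Groth.Agent.S8292.result 𝒮 (symGrAlg (EE 𝒮)) h𝒮 (EE 𝒮) hE (uu 𝒮) (huu 𝒮)
    (fun U hU s hs => ⟨ofSec 𝒮.toQCAlg U s, projHom_of_mem 𝒮 1 U hU s hs⟩)
    (jHom (EE 𝒮)) hT (ubar 𝒮) (hubar 𝒮) (hju 𝒮) (hirr 𝒮 h𝒮) _ p _ chart hPT hP h hh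
  obtain ⟨ε⟩ := RelTwistPull.nonempty_pullback_iso hh hPT hP hgenT hO1T hO1
  refine ⟨EE 𝒮, hE, symGrAlg (EE 𝒮), jHom (EE 𝒮), hT, _, _, _, hPT, O1T, lamT, hO1T, i ≫ h,
    inferInstance, ?_, ⟨?_⟩⟩
  · rw [Category.assoc, isRelProjMap_comp_base _ _ _ hPT hP h hh, hi]
  · exact e ≪≫ (Scheme.Modules.pullback i).mapIso ε.symm ≪≫ (Scheme.Modules.pullbackComp i h).app O1T

end Groth.Agent.Lib.Helper42.VeryAmpleOfProj
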